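import Mathlib.RingTheory.Unramified.Field
import Mathlib.RingTheory.Flat.Basic
import Mathlib.RingTheory.Nilpotent.GeometricallyReduced
import Mathlib.FieldTheory.Perfect
import Mathlib.FieldTheory.IsAlgClosed.AlgebraicClosure
import Mathlib.LinearAlgebra.TensorProduct.Basis
import Mathlib.RingTheory.TensorProduct.Free
import Mathlib.RingTheory.TensorProduct.Finite
import Mathlib.RingTheory.Unramified.Basic

/-! A reduced algebra over a field stays reduced under separable algebraic extensions. -/

open TensorProduct

namespace Groth.Agent.GrpSchLib

universe u v w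

variable (k : Type u) [Field k] (K : Type v) [Field K] [Algebra k K]

theorem isReduced_field_tensor [Algebra.IsSeparable k K] (L : Type w) [Field L] [Algebra k L] :
    IsReduced (L ⊗[k] K) := by
  refine IsReduced.tensorProduct_of_flat_of_forall_fg fun B hB => ?_
  let : Field B :=
    (Subalgebra.isField_of_algebraic B).toField
  have : Algebra.FiniteType k B := B.fg_iff_finiteType.mp hB
  have : Algebra.IsIntegral k B := Algebra.IsIntegral.of_injective B.val Subtype.val_injective
  have : Module.Finite k B := Algebra.IsIntegral.finite
  have : Algebra.IsSeparable k B := Algebra.IsSeparable.of_algHom k K B.val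
  have : Algebra.FormallyUnramified k B :=
    (Algebra.FormallyUnramified.iff_isSeparable k B).mpr ‹_›
  exact Algebra.FormallyUnramified.isReduced_of_field L (L ⊗[k] B)

theorem isReduced_tensor_of_isSeparable [Algebra.IsSeparable k K] (A : Type w) [CommRing A]
    [Algebra k A] [IsReduced A] : IsReduced (A ⊗[k] K) := by
  refine ⟨fun x hx => ?_⟩
  let b := Module.Free.chooseBasis k K
  apply (Algebra.TensorProduct.basis A b).repr.injective
  ext i
  simp only [map_zero, Finsupp.zero_apply]
  suffices h : ∀ p : Ideal A, p.IsPrime → (Algebra.TensorProduct.basis A b).repr x i ∈ p by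
    have hn : (Algebra.TensorProduct.basis A b).repr x i ∈ nilradical A := by
      rw [nilradical_eq_sInf, Ideal.mem_sInf]
      exact fun {p} hp => h p hp
    exact IsReduced.eq_zero _ hn
  intro p hp
  let L := FractionRing (A ⧸ p)
  have := isReduced_field_tensor k K L
  let f : A →ₐ[k] L := (IsScalarTower.toAlgHom k (A ⧸ p) L).comp (Ideal.Quotient.mkₐ k p)
  have h0 : Algebra.TensorProduct.map f (AlgHom.id k K) x = 0 := (hx.map _).eq_zero
  have h1 : ∀ y : A ⊗[k] K, (Algebra.TensorProduct.basis L b).repr
      (Algebra.TensorProduct.map f (AlgHom.id k K) y) i =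
      f ((Algebra.TensorProduct.basis A b).repr y i) := by
    intro y
    induction y using TensorProduct.induction_on with
    | zero => simp
    | tmul a c => simp [Algebra.smul_def, Finsupp.smul_apply, map_mul]
    | add y z hy hz => simp [hy, hz]
  have h2 := h1 x
  rw [h0, map_zero, Finsupp.zero_apply] at h2
  have : algebraMap (A ⧸ p) L (Ideal.Quotient.mk p ((Algebra.TensorProduct.basis A b).repr x i)) = 0 :=
    h2.symm
  exact Ideal.Quotient.eq_zero_iff_mem.mp
    ((map_eq_zero_iff _ (IsFractionRing.injective (A ⧸ p) L)).mp this)

theorem isGeometricallyReduced_of_isReduced [PerfectField k] (A : Type w) [CommRing A]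
    [Algebra k A] [IsReduced A] : Algebra.IsGeometricallyReduced k A := by
  rw [Algebra.isGeometricallyReduced_field_iff]
  have := isReduced_tensor_of_isSeparable k (AlgebraicClosure k) A
  exact isReduced_of_injective (Algebra.TensorProduct.comm k (AlgebraicClosure k) A)
    (Algebra.TensorProduct.comm k (AlgebraicClosure k) A).injective

end Groth.Agent.GrpSchLib
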