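import Groth.Agent.GrpSchLib.FieldTop

/-! Locally closed images of homomorphisms of group schemes over a field are closed. -/

open CategoryTheory AlgebraicGeometry MonoidalCategory CartesianMonoidalCategory MonObj GrpObj
open Limits TopologicalSpace
open scoped CategoryTheory.Obj

namespace Groth.Agent.GrpSchLib

universe u

variable {K : Type u} [Field K] {G : Over (Spec (CommRingCat.of K))}

theorem prodSet_closure_left_subset {T : Over (Spec (CommRingCat.of K))} (j : T ⟶ G) (A : Set G.left) :
    prodSet (closure A) (Set.range j.left) ⊆ closure (prodSet A (Set.range j.left)) := by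
  have hr : Set.range (G ◁ j).left = (snd G G).left ⁻¹' Set.range j.left := by
    have := range_tensorHom (𝟙 G) j
    rw [MonoidalCategory.id_tensorHom] at this
    rw [this, prodSet]
    simp
  rintro q ⟨hq1, hq2⟩
  obtain ⟨q', rfl⟩ : q ∈ Set.range (G ◁ j).left := hr ▸ hq2
  have : UniversallyOpen (fst G T).left :=
    inferInstanceAs (UniversallyOpen (pullback.fst G.hom T.hom))
  have hq' : q' ∈ closure ((fst G T).left ⁻¹' A) := by
    rw [← (fst G T).left.isOpenMap.preimage_closure_eq_closure_preimage (fst G T).left.continuous,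
      Set.mem_preimage, show fst G T = G ◁ j ≫ fst G G by simp, left_comp_apply]
    exact hq1
  refine map_mem_closure (G ◁ j).left.continuous hq' fun r hr' => ⟨?_, hr.subset ⟨r, rfl⟩⟩
  rw [Set.mem_preimage, show fst G T = G ◁ j ≫ fst G G by simp, left_comp_apply] at hr'
  exact hr'

theorem prodSet_closure_right_subset {T : Over (Spec (CommRingCat.of K))} (j : T ⟶ G) (B : Set G.left) :
    prodSet (Set.range j.left) (closure B) ⊆ closure (prodSet (Set.range j.left) B) := by
  have hr : Set.range (j ▷ G).left = (fst G G).left ⁻¹' Set.range j.left := by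
    have := range_tensorHom j (𝟙 G)
    rw [MonoidalCategory.tensorHom_id] at this
    rw [this, prodSet]
    simp
  rintro q ⟨hq1, hq2⟩
  obtain ⟨q', rfl⟩ : q ∈ Set.range (j ▷ G).left := hr ▸ hq1
  have : UniversallyOpen (snd T G).left :=
    inferInstanceAs (UniversallyOpen (pullback.snd T.hom G.hom))
  have hq' : q' ∈ closure ((snd T G).left ⁻¹' B) := by
    rw [← (snd T G).left.isOpenMap.preimage_closure_eq_closure_preimage (snd T G).left.continuous,
      Set.mem_preimage, show snd T G = j ▷ G ≫ snd G G by simp, left_comp_apply]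
    exact hq2
  refine map_mem_closure (j ▷ G).left.continuous hq' fun r hr' => ⟨hr.subset ⟨r, rfl⟩, ?_⟩
  rw [Set.mem_preimage, show snd T G = j ▷ G ≫ snd G G by simp, left_comp_apply] at hr'
  exact hr'

theorem prodSet_closure_range_subset {T : Over (Spec (CommRingCat.of K))} (j : T ⟶ G) :
    prodSet (closure (Set.range j.left)) (closure (Set.range j.left)) ⊆
      closure (prodSet (Set.range j.left) (Set.range j.left)) := by
  obtain ⟨C, i, -, hi⟩ := exists_over_range_eq (closure (Set.range j.left)) isClosed_closure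
  refine (hi ▸ prodSet_closure_right_subset i (Set.range j.left)).trans ?_
  exact closure_minimal (prodSet_closure_left_subset j _) isClosed_closure

variable [GrpObj G] {H : Over (Spec (CommRingCat.of K))} [GrpObj H]

theorem mem_of_rational_aux {K : Type u} [Field K] {G H : Over (Spec (CommRingCat.of K))} [GrpObj G]
    [GrpObj H] (ψ : H ⟶ G) [IsMonHom ψ] {O : Set G.left} (hO : IsOpen O)
    (hR : Set.range ψ.left = closure (Set.range ψ.left) ∩ O) (x : 𝟙_ _ ⟶ G)
    (hx : x.left (IsLocalRing.closedPoint K) ∈ closure (Set.range ψ.left)) :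
    x.left (IsLocalRing.closedPoint K) ∈ Set.range ψ.left := by
  set R := Set.range ψ.left with hRdef
  let C := closure R
  have hinvC : ∀ z ∈ C, (GrpObj.inv : G ⟶ G).left z ∈ C := fun z hz =>
    map_mem_closure (GrpObj.inv : G ⟶ G).left.continuous hz fun r ⟨h, hh⟩ =>
      ⟨(GrpObj.inv : H ⟶ H).left h, by
        rw [← hh, ← left_comp_apply, ← left_comp_apply, GrpObj.inv_hom]⟩
  have hmulR : ∀ q ∈ prodSet R R, μ[G].left q ∈ R := by
    intro q hq
    rw [← range_tensorHom] at hq
    obtain ⟨q', rfl⟩ := hq
    exact ⟨μ[H].left q', by rw [← left_comp_apply, ← left_comp_apply, IsMonHom.mul_hom]⟩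
  have hmulC : ∀ q ∈ prodSet C C, μ[G].left q ∈ C := fun q hq =>
    map_mem_closure μ[G].left.continuous (prodSet_closure_range_subset ψ hq) hmulR
  have hpair : ∀ (a b : G ⟶ G) (y : G.left), a.left y ∈ C → b.left y ∈ C → (a * b).left y ∈ C := by
    intro a b y ha hb
    rw [Hom.mul_def, left_comp_apply]
    refine hmulC _ ⟨?_, ?_⟩
    · rw [Set.mem_preimage, ← left_comp_apply, lift_fst]; exact ha
    · rw [Set.mem_preimage, ← left_comp_apply, lift_snd]; exact hb
  let f := (divIso x).hom
  have heR : η[G].left (IsLocalRing.closedPoint K) ∈ R :=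
    ⟨η[H].left (IsLocalRing.closedPoint K),
      (left_comp_apply η[H] ψ _).symm.trans
        (congrArg (fun a : 𝟙_ _ ⟶ G => a.left (IsLocalRing.closedPoint K)) (IsMonHom.one_hom ψ))⟩
  -- `f O` is an open neighbourhood of `x`
  have hfO : IsOpen (f.left '' O) := f.left.isOpenEmbedding.isOpenMap _ hO
  have hxfO : x.left (IsLocalRing.closedPoint K) ∈ f.left '' O :=
    ⟨_, (hR.subset heR).2, divIso_hom_apply_one x⟩
  obtain ⟨z, ⟨y, hyO, rfl⟩, hzR⟩ := mem_closure_iff.mp hx _ hfO hxfO
  have hyC : y ∈ C := by
    have : y = (divIso x).inv.left (f.left y) := by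
      rw [← left_comp_apply, (divIso x).hom_inv_id]; rfl
    rw [this]
    refine hpair _ _ _ (by rw [Hom.inv_def, Category.id_comp]; exact hinvC _ (subset_closure hzR)) ?_
    rw [apply_pointSection]
    exact hx
  have hyR : y ∈ R := hR ▸ ⟨hyC, hyO⟩
  -- the point `(f y, y)` lies in `R × R`
  have hq : (lift f (𝟙 G)).left y ∈ prodSet R R := by
    refine ⟨?_, ?_⟩
    · rw [Set.mem_preimage, ← left_comp_apply, lift_fst]; exact hzR
    · rw [Set.mem_preimage, ← left_comp_apply, lift_snd]; exact hyR
  have := hmulR _ hq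
  rwa [← left_comp_apply, show lift f (𝟙 G) ≫ μ[G] = toUnit G ≫ x by simp [f, divIso, ← Hom.mul_def],
    apply_pointSection] at this

theorem isClosed_range_of_isLocallyClosed (ψ : H ⟶ G) [IsMonHom ψ]
    (h : IsLocallyClosed (Set.range ψ.left)) : IsClosed (Set.range ψ.left) := by
  refine isClosed_of_closure_subset fun x hx => ?_
  obtain ⟨L, _, _, φ, x', hx'⟩ := exists_bc_point x
  let ψ' : bc H φ ⟶ bc G φ := (Over.pullback (Spec.map (CommRingCat.ofHom φ))).map ψ
  have hr : Set.range ψ'.left = bcProj G φ ⁻¹' Set.range ψ.left := by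
    have : ψ'.left = pullback.map _ _ _ _ ψ.left (𝟙 _) (𝟙 _) (by simp) (by simp) := by
      apply pullback.hom_ext <;> simp [ψ', pullback.map, pullback.lift_fst, pullback.lift_snd]
    rw [this, Scheme.Pullback.range_map]
    simp
  have hcl : bcProj G φ ⁻¹' closure (Set.range ψ.left) = closure (Set.range ψ'.left) := by
    rw [hr, (bcProj G φ).isOpenMap.preimage_closure_eq_closure_preimage (bcProj G φ).continuous]
  have hR : Set.range ψ'.left =
      closure (Set.range ψ'.left) ∩ bcProj G φ ⁻¹' coborder (Set.range ψ.left) := by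
    rw [← hcl, ← Set.preimage_inter, closure_inter_coborder, hr]
  have := mem_of_rational_aux ψ' (h.isOpen_coborder.preimage (bcProj G φ).continuous) hR x'
    (hcl.subset (show bcProj G φ _ ∈ _ from hx'.symm ▸ hx))
  rw [hr, Set.mem_preimage, hx'] at this
  exact this

end Groth.Agent.GrpSchLib
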