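import Groth.Agent.GrpSchLib.Homogeneous
import Groth.Agent.GrpSchLib.FieldSubgroup

/-! Quasi-compact homomorphisms of locally algebraic groups over a field have closed range. -/

universe u

open CategoryTheory AlgebraicGeometry MonoidalCategory CartesianMonoidalCategory MonObj GrpObj

namespace Groth.Agent.GrpSchLib.HomClosedRange

theorem isClosed_range {k : Type u} [Field k] {H G : Over (Spec (CommRingCat.of k))} [GrpObj H] [GrpObj G]
    [LocallyOfFiniteType H.hom] [LocallyOfFiniteType G.hom] (f : H ⟶ G) [IsMonHom f] [QuasiCompact f.left] :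
    IsClosed (Set.range f.left) := by
  let a : AlgGrp.Action H G :=
    { act := (f ▷ G) ≫ μ[G]
      one_act := by
        rw [← Category.assoc, ← MonoidalCategory.comp_whiskerRight, IsMonHom.one_hom]
        exact MonObj.one_mul G
      mul_act := by
        apply (cancel_epi (α_ H H G).inv).mp
        simp only [Iso.inv_hom_id_assoc]
        have h : ∀ {T : Over (Spec (CommRingCat.of k))} (x : T ⟶ H) (y : T ⟶ G), lift x y ≫ (f ▷ G) ≫ μ[G] = (x ≫ f) * y := by
          intro T x y
          rw [← Category.assoc, lift_whiskerRight, Hom.mul_def]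
        have hw : (α_ H H G).inv = lift (lift (fst H (H ⊗ G)) (snd H (H ⊗ G) ≫ fst H G)) (snd H (H ⊗ G) ≫ snd H G) := by
          apply CartesianMonoidalCategory.hom_ext
          · apply CartesianMonoidalCategory.hom_ext <;> simp
          · simp
        rw [hw, ← Category.assoc, lift_whiskerRight, ← Hom.mul_def]
        rw [show (H ◁ ((f ▷ G) ≫ μ[G])) = lift (fst H (H ⊗ G)) (snd H (H ⊗ G) ≫ (f ▷ G) ≫ μ[G]) by
          apply CartesianMonoidalCategory.hom_ext <;> simp, h, h]
        rw [show snd H (H ⊗ G) ≫ (f ▷ G) ≫ μ[G] = (snd H (H ⊗ G) ≫ fst H G ≫ f) * (snd H (H ⊗ G) ≫ snd H G) by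
          rw [Hom.mul_def, ← Category.assoc (snd H (H ⊗ G)) (fst H G), ← lift_whiskerRight_assoc, ← comp_lift, lift_fst_snd, Category.comp_id]]
        rw [MonObj.mul_comp]
        simp [_root_.mul_assoc] }
  have ha : a.orbitMap η[G] = f := by
    show lift (𝟙 H) (toUnit H ≫ η[G]) ≫ (f ▷ G) ≫ μ[G] = f
    rw [← Category.assoc, lift_whiskerRight, Category.id_comp, ← Hom.mul_def]
    exact _root_.mul_one _
  haveI : Nonempty H.left := ⟨(η[H] : 𝟙_ _ ⟶ H).left (IsLocalRing.closedPoint k)⟩
  refine GrpSchLib.isClosed_range_of_isLocallyClosed f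
    (GrpSchLib.isLocallyClosed_range_of_homogeneous (k := k) (K := AlgebraicClosure k) f fun w w' => ?_)
  obtain ⟨S, T, h1, -, h3⟩ := GrpSchLib.orbitMap_homogeneous a η[G] w w'
  rw [ha] at h1
  exact ⟨S, T, h1, h3⟩


end Groth.Agent.GrpSchLib.HomClosedRange
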