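import Groth.Agent.GrpSchLib.HomFlat
import Groth.Agent.S1386

/-! A surjective homomorphism with geometrically reduced target is flat (no quasi-compactness). -/

open CategoryTheory AlgebraicGeometry Limits MonoidalCategory CartesianMonoidalCategory MonObj TopologicalSpace

namespace Groth.Agent.GrpSchLib.HomFlatLft

universe u

/-- A generic point of some component of a reduced locally noetherian scheme has a field as local ring. -/
theorem exists_isField_stalk (Y : Scheme.{u}) [IsReduced Y] [IsLocallyNoetherian Y] [Nonempty Y] :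
    ∃ y : Y, IsField (Y.presheaf.stalk y) := by
  obtain ⟨U, -, hU⟩ := exists_integral_affineOpen Y
  haveI := hU
  refine ⟨U.ι (genericPoint U.toScheme), ?_⟩
  exact (asIso (U.ι.stalkMap (genericPoint U.toScheme))).commRingCatIsoToRingEquiv.toMulEquiv.isField
    (Field.toIsField U.toScheme.functionField)

/-- Right translation by a rational point. -/
noncomputable def rTrans {C : Type*} [Category C] [CartesianMonoidalCategory C] {X : C} [GrpObj X]
    (a : 𝟙_ C ⟶ X) : X ≅ X where
  hom := 𝟙 X * (toUnit X ≫ a)
  inv := 𝟙 X * (toUnit X ≫ a⁻¹)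
  hom_inv_id := by
    rw [MonObj.comp_mul, Category.comp_id, ← Category.assoc, comp_toUnit, _root_.mul_assoc,
      ← MonObj.comp_mul, mul_inv_cancel, MonObj.comp_one, _root_.mul_one]
  inv_hom_id := by
    rw [MonObj.comp_mul, Category.comp_id, ← Category.assoc, comp_toUnit, _root_.mul_assoc,
      ← MonObj.comp_mul, inv_mul_cancel, MonObj.comp_one, _root_.mul_one]

theorem rTrans_comm {C : Type*} [Category C] [CartesianMonoidalCategory C] {X Y : C} [GrpObj X] [GrpObj Y]
    (f : X ⟶ Y) [IsMonHom f] (a : 𝟙_ C ⟶ X) : (rTrans a).hom ≫ f = f ≫ (rTrans (a ≫ f)).hom := by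
  simp only [rTrans, MonObj.mul_comp, MonObj.comp_mul, Category.id_comp, Category.comp_id, Category.assoc,
    ← Category.assoc f (toUnit Y), comp_toUnit]

theorem flat_algClosed {K : Type u} [Field K] [IsAlgClosed K]
    {G H : Over (Spec (CommRingCat.of K))} [GrpObj G] [GrpObj H] [LocallyOfFiniteType G.hom]
    [LocallyOfFiniteType H.hom] [IsReduced H.left] (f : G ⟶ H) [IsMonHom f] [Surjective f.left] :
    Flat f.left := by
  haveI : IsLocallyNoetherian (Spec (CommRingCat.of K)) := inferInstance
  haveI : IsLocallyNoetherian H.left := LocallyOfFiniteType.isLocallyNoetherian H.hom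
  haveI : LocallyOfFiniteType (f.left ≫ H.hom) := by rw [Over.w f]; infer_instance
  haveI : LocallyOfFinitePresentation (f.left ≫ H.hom) := inferInstance
  haveI : Nonempty H.left := ⟨(η[H] : 𝟙_ _ ⟶ H).left (IsLocalRing.closedPoint K)⟩
  haveI : Flat H.hom := inferInstance
  obtain ⟨ξ, hξ⟩ := exists_isField_stalk H.left
  obtain ⟨η₀, hη⟩ := f.left.surjective ξ
  let O := {x : G.left | (H.hom.stalkMap (f.left x)).hom.Flat ∧ (f.left.stalkMap x).hom.Flat}
  have hO : IsOpen O := (S1386.result f.left H.hom).2
  have hηO : η₀ ∈ O := by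
    refine ⟨Flat.stalkMap H.hom _, ?_⟩
    subst hη
    exact RingHom.Flat.of_isField hξ _
  haveI : JacobsonSpace G.left := LocallyOfFiniteType.jacobsonSpace G.hom
  obtain ⟨x₀, hx₀, hx₀c⟩ := nonempty_inter_closedPoints (Z := O) ⟨_, hηO⟩ hO.isLocallyClosed
  have hpt : ∀ x : G.left, IsClosed {x} → ∃ a : 𝟙_ (Over (Spec (CommRingCat.of K))) ⟶ G,
      a.left (IsLocalRing.closedPoint K) = x := fun x hx => by
    let s := (pointEquivClosedPoint G.hom).symm ⟨x, hx⟩
    exact ⟨Over.homMk s.1 s.2, congrArg Subtype.val ((pointEquivClosedPoint G.hom).apply_symm_apply ⟨x, hx⟩)⟩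
  have hall : closedPoints G.left ⊆ O := fun x hx => by
    refine ⟨Flat.stalkMap H.hom _, ?_⟩
    obtain ⟨a₀, ha₀⟩ := hpt x₀ hx₀c
    obtain ⟨a, ha⟩ := hpt x hx
    let S := rTrans (a₀⁻¹ * a)
    let T := rTrans ((a₀⁻¹ * a) ≫ f)
    have haS : a₀ ≫ S.hom = a := by
      simp only [S, rTrans, MonObj.comp_mul, Category.comp_id, ← Category.assoc, comp_toUnit,
        toUnit_unique (toUnit (𝟙_ (Over (Spec (CommRingCat.of K))))) (𝟙 _), Category.id_comp]
      exact mul_inv_cancel_left a₀ a
    haveI : IsIso S.hom.left := ((Over.forget _).mapIso S).isIso_hom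
    haveI : IsIso T.hom.left := ((Over.forget _).mapIso T).isIso_hom
    have hx' : S.hom.left x₀ = x := by rw [← ha₀, ← ha, ← haS]; rfl
    subst hx'
    have hcomp : (Scheme.Hom.stalkMap (f.left ≫ T.hom.left) x₀).hom.Flat := by
      erw [Scheme.Hom.stalkMap_comp, CommRingCat.hom_comp]
      exact RingHom.Flat.comp (Flat.stalkMap T.hom.left _) hx₀.2
    have e : S.hom.left ≫ f.left = f.left ≫ T.hom.left := congrArg CommaMorphism.left (rTrans_comm f (a₀⁻¹ * a))
    have h2 : (Scheme.Hom.stalkMap (S.hom.left ≫ f.left) x₀).hom.Flat := by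
      revert hcomp
      generalize f.left ≫ T.hom.left = g at e
      subst e
      exact id
    erw [Scheme.Hom.stalkMap_comp, CommRingCat.hom_comp] at h2
    have hb := ConcreteCategory.bijective_of_isIso (S.hom.left.stalkMap x₀)
    let E := RingEquiv.ofBijective _ hb
    have h3 := h2.comp (RingHom.Flat.of_bijective (f := E.symm.toRingHom) E.symm.bijective)
    have he : E.symm.toRingHom.comp ((S.hom.left.stalkMap x₀).hom.comp (f.left.stalkMap (S.hom.left x₀)).hom) =
        (f.left.stalkMap (S.hom.left x₀)).hom := RingHom.ext fun b => E.symm_apply_apply _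
    exact he ▸ h3
  refine Flat.of_stalkMap _ fun x => ?_
  by_contra hx
  obtain ⟨y, hy, hyc⟩ := nonempty_inter_closedPoints (Z := closure ({x} : Set G.left)) ⟨x, subset_closure rfl⟩
    isClosed_closure.isLocallyClosed
  exact hx ((specializes_iff_mem_closure.mpr hy).mem_open hO (hall hyc)).2

/-- The critère de platitude par fibres for a surjective homomorphism. -/
theorem flat_hom {S : Scheme.{u}} {G H : Over S} [GrpObj G] [GrpObj H]
    [LocallyOfFinitePresentation G.hom] [Flat G.hom]
    [LocallyOfFiniteType H.hom] [GeometricallyReduced H.hom]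
    (f : G ⟶ H) [IsMonHom f] [Surjective f.left] : Flat f.left ∧ Flat H.hom := by
  haveI : LocallyOfFinitePresentation (f.left ≫ H.hom) := by rw [Over.w f]; infer_instance
  haveI : Flat (f.left ≫ H.hom) := by rw [Over.w f]; infer_instance
  suffices key : ∀ x : G.left, ((MoreMor.fiberMap f.left H.hom (H.hom (f.left x))).stalkMap
      ((f.left ≫ H.hom).asFiber x)).hom.Flat by
    have h := fun x => ((S1386.result f.left H.hom).1 x).1 ⟨Flat.stalkMap _ x, key x⟩
    refine ⟨Flat.of_stalkMap _ fun x => (h x).2, Flat.of_stalkMap _ fun y => ?_⟩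
    obtain ⟨x, rfl⟩ := f.left.surjective y
    exact (h x).1
  intro x
  let s := H.hom (f.left x)
  let K : Type u := AlgebraicClosure (S.residueField s)
  let τ : Spec (CommRingCat.of K) ⟶ Spec (S.residueField s) :=
    Spec.map (CommRingCat.ofHom (algebraMap (S.residueField s) K))
  haveI : Flat τ := by
    rw [HasRingHomProperty.Spec_iff (P := @Flat)]
    exact RingHom.Flat.of_isField (Field.toIsField (S.residueField s)) _
  haveI : Surjective τ := ⟨Function.surjective_to_subsingleton (α := Spec (CommRingCat.of K))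
    (β := Spec (S.residueField s)) _⟩
  let σ := τ ≫ S.fromSpecResidueField s
  let GK := Red.bc σ G
  let HK := Red.bc σ H
  let fK : GK ⟶ HK := (Over.pullback σ).map f
  haveI : LocallyOfFiniteType GK.hom := inferInstanceAs (LocallyOfFiniteType (pullback.snd G.hom σ))
  haveI : LocallyOfFiniteType HK.hom := inferInstanceAs (LocallyOfFiniteType (pullback.snd H.hom σ))
  haveI : IsReduced HK.left :=
    GeometricallyReduced.geometrically_isReduced (f := H.hom) _ _ _ (IsPullback.of_hasPullback H.hom σ)
  have sqf : IsPullback fK.left (pullback.fst G.hom σ) (pullback.fst H.hom σ) f.left := by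
    refine IsPullback.of_right ?_ ?_ (IsPullback.of_hasPullback H.hom σ).flip
    · rw [Over.w f, show fK.left ≫ pullback.snd H.hom σ = pullback.snd G.hom σ from Over.w fK]
      exact (IsPullback.of_hasPullback G.hom σ).flip
    · exact pullback.lift_fst _ _ _
  haveI : Surjective fK.left := MorphismProperty.of_isPullback (P := @Surjective) sqf.flip ‹_›
  haveI : Flat fK.left := flat_algClosed fK
  -- the comparison maps
  let p : GK.left ⟶ (f.left ≫ H.hom).fiber s :=
    pullback.lift (pullback.fst G.hom σ) (pullback.snd G.hom σ ≫ τ) (by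
      rw [Category.assoc, Over.w f, pullback.condition])
  let q : HK.left ⟶ H.hom.fiber s :=
    pullback.lift (pullback.fst H.hom σ) (pullback.snd H.hom σ ≫ τ) (by
      rw [Category.assoc, pullback.condition])
  have hq : IsPullback q (pullback.snd H.hom σ) (pullback.snd H.hom (S.fromSpecResidueField s)) τ := by
    refine IsPullback.of_right ?_ (pullback.lift_snd _ _ _) (IsPullback.of_hasPullback _ _)
    rw [show q ≫ pullback.fst H.hom (S.fromSpecResidueField s) = pullback.fst H.hom σ from pullback.lift_fst _ _ _]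
    exact IsPullback.of_hasPullback H.hom σ
  have hp : IsPullback p (pullback.snd G.hom σ) (pullback.snd (f.left ≫ H.hom) (S.fromSpecResidueField s)) τ := by
    refine IsPullback.of_right ?_ (pullback.lift_snd _ _ _) (IsPullback.of_hasPullback _ _)
    rw [show p ≫ pullback.fst (f.left ≫ H.hom) (S.fromSpecResidueField s) = pullback.fst G.hom σ from pullback.lift_fst _ _ _,
      Over.w f]
    exact IsPullback.of_hasPullback G.hom σ
  haveI : Flat q := MorphismProperty.of_isPullback (P := @Flat) hq.flip ‹Flat τ›
  haveI : Flat p := MorphismProperty.of_isPullback (P := @Flat) hp.flip ‹Flat τ›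
  haveI : Surjective p := MorphismProperty.of_isPullback (P := @Surjective) hp.flip ‹Surjective τ›
  have hcomm : p ≫ MoreMor.fiberMap f.left H.hom s = fK.left ≫ q := by
    apply pullback.hom_ext
    · refine (Category.assoc _ _ _).trans ?_
      refine (congrArg (fun t => p ≫ t) (pullback.lift_fst _ _ _)).trans ?_
      refine (Category.assoc _ _ _).symm.trans ?_
      refine Eq.trans ?_ (Category.assoc _ _ _).symm
      refine Eq.trans ?_ (congrArg (fun t => fK.left ≫ t) (pullback.lift_fst _ _ _)).symm
      exact (congrArg (fun t => t ≫ f.left) (pullback.lift_fst _ _ _)).trans sqf.w.symm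
    · refine (Category.assoc _ _ _).trans ?_
      refine (congrArg (fun t => p ≫ t) ((pullback.lift_snd _ _ _).trans (Category.comp_id _))).trans ?_
      refine Eq.trans ?_ (Category.assoc _ _ _).symm
      refine Eq.trans ?_ (congrArg (fun t => fK.left ≫ t) (pullback.lift_snd _ _ _)).symm
      refine (pullback.lift_snd _ _ _).trans ?_
      exact ((congrArg (fun t => t ≫ τ) (Over.w fK)).symm.trans (Category.assoc _ _ _))
  obtain ⟨z, hz⟩ := p.surjective ((f.left ≫ H.hom).asFiber x)
  have hflat : Flat (p ≫ MoreMor.fiberMap f.left H.hom s) := by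
    rw [hcomm]; infer_instance
  have := SrcDescent.flat_of_flat_comp p (MoreMor.fiberMap f.left H.hom s) z hflat
  rw [hz] at this
  exact this

end Groth.Agent.GrpSchLib.HomFlatLft
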