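import Groth.Agent.GrpSchLib.HomFibre

/-! A homomorphism has a property at all points once it has it along the unit section. -/

universe u

open CategoryTheory Limits AlgebraicGeometry MonoidalCategory CartesianMonoidalCategory MonObj GrpObj
  TopologicalSpace

namespace Groth.Agent.GrpSchLib.HomKer

open Loci Saturate HomFibre
open scoped CategoryTheory.Obj

variable {S : Scheme.{u}} {G H K : Over S} [GrpObj G] [GrpObj H] (u : G ⟶ H) [IsMonHom u]

theorem all_of_unit {P' : MorphismProperty Scheme.{u}} (hL : IsCompat (loc P') FL)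
    (hfib : ∀ s z, z ∈ loc P' (fib u s).left ↔ incl G s z ∈ loc P' u.left)
    (hG : ∀ s : S, LocallyOfFiniteType (G.hom.fiberToSpecResidueField s))
    (h : ∀ s : S, η[G].left s ∈ loc P' u.left) (x : G.left) : x ∈ loc P' u.left := by
  obtain ⟨z, hz⟩ := exists_incl x
  obtain ⟨z₀, hz₀⟩ := exists_unit (G := G) (G.hom x)
  rw [← hz]
  refine (hfib _ z).mp (fib_sat u hL _ (hG _) z₀ z ((hfib _ z₀).mpr ?_))
  rw [hz₀]
  exact h _

variable {u} (i : K ⟶ G) [GrpObj K] [IsMonHom i] (hK : AlgGrp.IsKernel i u)

include hK in
omit [IsMonHom i] [GrpObj K] [GrpObj G] [IsMonHom u] in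
theorem kernel_square : IsPullback i.left K.hom u.left η[H].left := by
  have h := hK.map (Over.forget S)
  have e : (toUnit K).left = K.hom := by
    have := Over.w (toUnit K)
    exact (Category.comp_id _).symm.trans this
  simpa [e] using h

omit [GrpObj H] in
theorem i_unit (s : S) : i.left (η[K].left s) = η[G].left s := by
  rw [← Scheme.Hom.comp_apply, ← Over.comp_left, IsMonHom.one_hom i]

end Groth.Agent.GrpSchLib.HomKer
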