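import Groth.Agent.GrpSchLib.FieldComp

/-! The identity component of an arbitrary group scheme over a field. -/

open CategoryTheory AlgebraicGeometry MonoidalCategory CartesianMonoidalCategory MonObj GrpObj
open Limits TopologicalSpace

namespace Groth.Agent.GrpSchLib

universe u

section ClopenKer

variable {X : Scheme.{u}} (s : Set X)

/-- The ideal sheaf cutting out the intersection of all clopen subsets containing `s`. -/
noncomputable def clopenKer : X.IdealSheafData :=
  ⨆ W : {W : X.Opens // IsClosed (W : Set X) ∧ s ⊆ W}, W.1.ι.ker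

theorem support_clopenKer : (clopenKer s).support = (⋂ W : {W : X.Opens // IsClosed (W : Set X) ∧ s ⊆ W}, (W.1 : Set X)) := by
  simp only [clopenKer, Scheme.IdealSheafData.support_iSup, Closeds.coe_iInf]
  refine Set.iInter_congr fun W => ?_
  have : IsClosedImmersion W.1.ι := IsClosedImmersion.of_isPreimmersion _ (by simpa using W.2.1)
  rw [Scheme.Hom.support_ker, Scheme.Opens.range_ι, W.2.1.closure_eq]

theorem le_ker_of_range_subset {T : Scheme.{u}} (f : T ⟶ X)
    (hf : Set.range f ⊆ (clopenKer s).support) : clopenKer s ≤ f.ker := by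
  rw [support_clopenKer] at hf
  refine iSup_le fun W => ?_
  have h : Set.range f ⊆ Set.range W.1.ι := by
    rw [Scheme.Opens.range_ι]; exact hf.trans (Set.iInter_subset _ W)
  exact (Scheme.Hom.le_ker_comp (IsOpenImmersion.lift W.1.ι f h) W.1.ι).trans_eq
    (by rw [IsOpenImmersion.lift_fac])

theorem ideal_clopenKer_le_ker_germ (U : X.affineOpens) (y : X) (hy : y ∈ U.1)
    (hys : y ∈ (clopenKer s).support) :
    (clopenKer s).ideal U ≤ RingHom.ker (X.presheaf.germ U.1 y hy).hom := by
  replace hys : y ∈ ((clopenKer s).support : Set X) := hys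
  rw [support_clopenKer] at hys
  rw [clopenKer, Scheme.IdealSheafData.ideal_iSup, iSup_apply]
  refine iSup_le fun W => fun a ha => ?_
  replace ha : W.1.ι.app U.1 a = 0 := W.1.ι.ideal_ker_le U ha
  have hyW : y ∈ W.1 := Set.mem_iInter.mp hys W
  let w : W.1.toScheme := ⟨y, hyW⟩
  have h0 : W.1.ι.stalkMap w (X.presheaf.germ U.1 y hy a) = W.1.ι.stalkMap w 0 := by
    rw [map_zero]
    exact (Scheme.Hom.germ_stalkMap_apply W.1.ι U.1 w hy a).trans (by rw [ha, map_zero])
  exact (ConcreteCategory.bijective_of_isIso (W.1.ι.stalkMap w)).1 h0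

theorem flat_clopenKer : Flat (clopenKer s).subschemeι := by
  refine Flat.of_stalkMap _ fun x => RingHom.Flat.of_bijective ⟨?_, ?_⟩
  swap
  · exact (clopenKer s).subschemeι.stalkMap_surjective x
  rw [injective_iff_map_eq_zero]
  intro t ht
  let i := (clopenKer s).subschemeι
  have hix : i x ∈ ((clopenKer s).support : Set X) :=
    (Scheme.IdealSheafData.range_subschemeι (clopenKer s)).subset ⟨x, rfl⟩
  obtain ⟨U, hxU, a, hat⟩ := X.presheaf.exists_germ_eq (C := CommRingCat) (x := (clopenKer s).subschemeι x) t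
  rw [← hat] at ht ⊢
  replace ht := (Scheme.Hom.germ_stalkMap_apply i U x hxU a).symm.trans ht
  obtain ⟨V, hxV, iV, iV', hV⟩ := (clopenKer s).subscheme.presheaf.germ_eq x
    (show x ∈ i ⁻¹ᵁ U from hxU) (show x ∈ i ⁻¹ᵁ U from hxU) (i.app U a) 0 (by rw [map_zero]; exact ht)
  obtain ⟨O, hO, hOV⟩ := i.isEmbedding.isInducing.isOpen_iff.mp V.2
  obtain ⟨U', hU', hxU', hU'le⟩ := exists_isAffineOpen_mem_and_subset (X := X) (x := i x)
    (U := U ⊓ ⟨O, hO⟩) ⟨hxU, show x ∈ i ⁻¹' O from hOV.symm ▸ hxV⟩
  have hle : U' ≤ U := fun z hz => (hU'le hz).1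
  have hle' : i ⁻¹ᵁ U' ≤ V := fun z hz => by
    show z ∈ (V : Set (clopenKer s).subscheme)
    exact hOV.subset (hU'le hz).2
  rw [← X.presheaf.germ_res_apply (homOfLE hle) (i x) hxU' a]
  refine ideal_clopenKer_le_ker_germ s ⟨U', hU'⟩ (i x) hxU' hix ?_
  rw [← Scheme.IdealSheafData.ker_subschemeι_app, RingHom.mem_ker]
  have h1 := congrArg ((clopenKer s).subscheme.presheaf.map (homOfLE hle').op) hV
  rw [map_zero, map_zero] at h1
  have h2 : X.presheaf.map (homOfLE hle).op ≫ i.app U' =
      i.app U ≫ (clopenKer s).subscheme.presheaf.map iV.op ≫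
        (clopenKer s).subscheme.presheaf.map (homOfLE hle').op := by
    rw [Scheme.Hom.naturality, ← Functor.map_comp]
    rfl
  exact (ConcreteCategory.congr_hom h2 a).trans h1

end ClopenKer

variable {K : Type u} [Field K] {G : Over (Spec (CommRingCat.of K))} [GrpObj G]

/-- A monomorphism into a group object through which the operations factor. -/
noncomputable abbrev grpObjOfFactor {T : Over (Spec (CommRingCat.of K))} (i : T ⟶ G) [Mono i]
    (one : 𝟙_ _ ⟶ T) (hone : one ≫ i = η[G]) (mul : T ⊗ T ⟶ T)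
    (hmul : mul ≫ i = (fst T T ≫ i) * (snd T T ≫ i)) (inv : T ⟶ T) (hinv : inv ≫ i = i⁻¹) :
    GrpObj T where
  one := one
  mul := mul
  inv := inv
  one_mul := by
    rw [← cancel_mono i]
    simp [hone, hmul, MonObj.comp_mul, MonObj.one_eq_one, CartesianMonoidalCategory.leftUnitor_hom,
      CartesianMonoidalCategory.rightUnitor_hom]
  mul_one := by
    rw [← cancel_mono i]
    simp [hone, hmul, MonObj.comp_mul, MonObj.one_eq_one, CartesianMonoidalCategory.leftUnitor_hom,
      CartesianMonoidalCategory.rightUnitor_hom]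
  mul_assoc := by
    rw [← cancel_mono i]
    simp [hmul, MonObj.comp_mul, _root_.mul_assoc]
  left_inv := by
    rw [← cancel_mono i]
    simp [hone, hinv, hmul, MonObj.comp_mul, MonObj.one_eq_one]
  right_inv := by
    rw [← cancel_mono i]
    simp [hone, hinv, hmul, MonObj.comp_mul, MonObj.one_eq_one]

theorem exists_identityComponent : ∃ (G₀ : Over (Spec (CommRingCat.of K))) (_ : GrpObj G₀) (incl : G₀ ⟶ G)
    (_ : IsMonHom incl), IsClosedImmersion incl.left ∧ Flat incl.left ∧
      Set.range incl.left = connectedComponent (η[G].left (IsLocalRing.closedPoint K)) ∧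
      GeometricallyIrreducible G₀.hom ∧ CompactSpace G₀.left := by
  obtain ⟨g, hg, hge⟩ := exists_isMaxPt (η[G].left (IsLocalRing.closedPoint K))
  have hC := connectedComponent_one hg hge
  rw [hC]
  let I := clopenKer ({η[G].left (IsLocalRing.closedPoint K)} : Set G.left)
  have hI : (I.support : Set G.left) = closure {g} := by
    rw [support_clopenKer]
    refine subset_antisymm (fun x hx => ?_) (Set.subset_iInter fun W => ?_)
    · by_contra hxg
      obtain ⟨gx, hgx, hgxx⟩ := exists_isMaxPt x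
      have he : η[G].left (IsLocalRing.closedPoint K) ∉ closure {gx} := fun h => hxg <| by
        rw [hg.eq uniComp hgx hge (specializes_iff_mem_closure.mpr h)]
        exact hgxx.mem_closure
      obtain ⟨V, hV, heV, hVs⟩ := exists_isAffineOpen_mem_and_subset
        (U := (⟨(closure {gx})ᶜ, isClosed_closure.isOpen_compl⟩ : G.left.Opens)) he
      obtain ⟨c, hcV, hc⟩ := Set.mem_iInter.mp hx ⟨⟨hull (V : Set G.left), isOpen_hull V.2⟩,
        isClosed_hull V.2 hV.isCompact, Set.singleton_subset_iff.mpr ⟨_, heV, specializes_rfl⟩⟩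
      exact hVs hcV (hgx.specializes uniComp hgxx hc).mem_closure
    · rw [← hC]
      exact (IsClopen.connectedComponent_subset ⟨W.2.1, W.1.2⟩ (W.2.2 rfl))
  let G₀ : Over (Spec (CommRingCat.of K)) := Over.mk (I.subschemeι ≫ G.hom)
  let i : G₀ ⟶ G := Over.homMk I.subschemeι rfl
  have hci : IsClosedImmersion i.left := inferInstanceAs (IsClosedImmersion I.subschemeι)
  have hmono : Mono i := (Over.forget _).mono_of_mono_map (inferInstanceAs (Mono I.subschemeι))
  have hr : Set.range i.left = closure {g} := (Scheme.IdealSheafData.range_subschemeι I).trans hI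
  have hfac : ∀ {T : Over (Spec (CommRingCat.of K))} (f : T ⟶ G), Set.range f.left ⊆ closure {g} →
      ∃ f₀ : T ⟶ G₀, f₀ ≫ i = f := by
    intro T f hf
    have h : I.subschemeι.ker ≤ f.left.ker := by
      rw [Scheme.IdealSheafData.ker_subschemeι]
      exact le_ker_of_range_subset _ f.left (hI ▸ hf)
    refine ⟨Over.homMk (IsClosedImmersion.lift I.subschemeι f.left h) ?_, ?_⟩
    · show _ ≫ I.subschemeι ≫ G.hom = _
      rw [IsClosedImmersion.lift_fac_assoc, Over.w]
    · ext1
      exact IsClosedImmersion.lift_fac _ _ _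
  obtain ⟨e₀, he₀⟩ := hfac η[G] (by
    rintro _ ⟨y, rfl⟩
    rw [show η[G].left y = η[G].left (IsLocalRing.closedPoint K) from
      congrArg η[G].left (@Subsingleton.elim (Spec (CommRingCat.of K)) inferInstance _ _)]
    exact hge.mem_closure)
  obtain ⟨m₀, hm₀⟩ := hfac ((fst G₀ G₀ ≫ i) * (snd G₀ G₀ ≫ i)) (by
    rintro _ ⟨y, rfl⟩
    rw [Hom.mul_def, left_comp_apply]
    refine mul_mem_closure hg hge ⟨?_, ?_⟩
    · rw [Set.mem_preimage, ← left_comp_apply, lift_fst, left_comp_apply]
      exact hr.subset ⟨_, rfl⟩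
    · rw [Set.mem_preimage, ← left_comp_apply, lift_snd, left_comp_apply]
      exact hr.subset ⟨_, rfl⟩)
  obtain ⟨v₀, hv₀⟩ := hfac i⁻¹ (by
    rintro _ ⟨y, rfl⟩
    rw [Hom.inv_def, left_comp_apply]
    exact inv_mem_closure hg hge (hr.subset ⟨_, rfl⟩))
  let : GrpObj G₀ := grpObjOfFactor i e₀ he₀ m₀ hm₀ v₀ hv₀
  refine ⟨G₀, this, i, ⟨he₀, ?_⟩, hci, flat_clopenKer _, hr, geometricallyIrreducible_one hg hge i hr, ?_⟩
  · show m₀ ≫ i = _
    rw [hm₀]
    simp [Hom.mul_def]
  · have := hr ▸ isCompact_closure_one hg hge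
    exact isCompact_univ_iff.mp ((Scheme.Hom.isClosedEmbedding i.left).isInducing.isCompact_iff.mpr
      (by rwa [Set.image_univ]))

end Groth.Agent.GrpSchLib
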