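import Groth.Prelude.Def_AlgGrp
import Mathlib.CategoryTheory.Monoidal.Cartesian.Grp
import Mathlib.AlgebraicGeometry.Pullbacks
import Mathlib.CategoryTheory.Limits.Constructions.Over.Connected

/-! Kernels of homomorphisms of group schemes are normal closed subgroup schemes. -/

open CategoryTheory MonoidalCategory CartesianMonoidalCategory AlgebraicGeometry MonObj

namespace Groth.Agent.GrpSchLib

universe u

/-- The kernel of a homomorphism, with its group structure. -/
theorem exists_kernel {S : Scheme.{u}} {G Q : Over S} [GrpObj G] [GrpObj Q] [IsSeparated Q.hom] (q : G ⟶ Q)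
    [IsMonHom q] :
    ∃ (N : Over S) (_ : GrpObj N) (i : N ⟶ G), IsMonHom i ∧ IsClosedImmersion i.left ∧ AlgGrp.IsNormalHom i ∧
      AlgGrp.IsKernel i q := by
  let N : Over S := Over.mk (Limits.pullback.fst q.left η[Q].left ≫ G.hom)
  let i : N ⟶ G := Over.homMk (Limits.pullback.fst q.left η[Q].left) rfl
  have hN : N.hom = Limits.pullback.snd q.left η[Q].left := by
    show Limits.pullback.fst _ _ ≫ G.hom = _
    rw [← Over.w q, Limits.pullback.condition_assoc, Over.w η[Q]]
    exact Category.comp_id _
  have hk : IsPullback i (toUnit N) q η[Q] := by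
    refine IsPullback.of_map (Over.forget S) (Over.OverMorphism.ext ?_) ?_
    · show Limits.pullback.fst _ _ ≫ q.left = (toUnit N).left ≫ η[Q].left
      rw [show (toUnit N).left = N.hom from rfl, hN, Limits.pullback.condition]
    · have h := IsPullback.of_hasPullback q.left η[Q].left
      refine h.of_iso (Iso.refl _) (Iso.refl _) (Iso.refl _) (Iso.refl _) ?_ ?_ ?_ ?_
      · exact (Category.comp_id _).trans (Category.id_comp _).symm
      · refine (Category.comp_id _).trans ?_
        show _ = 𝟙 _ ≫ (toUnit N).left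
        rw [Category.id_comp]
        exact hN.symm
      · exact (Category.comp_id _).trans (Category.id_comp _).symm
      · exact (Category.comp_id _).trans (Category.id_comp _).symm
  have hi1 : i ≫ q = 1 := hk.w
  have hmono : Mono i := ⟨fun a b hab => hk.hom_ext hab (toUnit_unique _ _)⟩
  have hlift : ∀ {T : Over S} (g : T ⟶ G), g ≫ q = 1 → ∃ n : T ⟶ N, n ≫ i = g := fun g hg =>
    ⟨hk.lift g (toUnit _) hg, hk.lift_fst _ _ _⟩
  have hiq : ∀ {T : Over S} (n : T ⟶ N), (n ≫ i) ≫ q = 1 := fun n => by
    rw [Category.assoc, hi1, MonObj.comp_one]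
  obtain ⟨e, he⟩ := hlift η[G] (by rw [IsMonHom.one_hom q, MonObj.one_eq_one])
  obtain ⟨m, hm⟩ := hlift ((fst N N ≫ i) * (snd N N ≫ i)) (by rw [MonObj.mul_comp, hiq, hiq, _root_.one_mul])
  obtain ⟨v, hv⟩ := hlift i⁻¹ (by rw [GrpObj.inv_comp, hi1, inv_one])
  have hm' : ∀ {T : Over S} (a b : T ⟶ N), lift a b ≫ m ≫ i = (a ≫ i) * (b ≫ i) := fun a b => by
    rw [hm, MonObj.comp_mul, lift_fst_assoc, lift_snd_assoc]
  have hm2 : ∀ {T : Over S} (f : T ⟶ N ⊗ N), f ≫ m ≫ i = ((f ≫ fst N N) ≫ i) * ((f ≫ snd N N) ≫ i) := fun f => by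
    rw [hm, MonObj.comp_mul, Category.assoc, Category.assoc]
  letI : MonObj N :=
    { one := e
      mul := m
      one_mul := by
        rw [← cancel_mono i, Category.assoc, hm2, whiskerRight_fst, whiskerRight_snd, leftUnitor_hom,
          Category.assoc, he, MonObj.one_eq_one, MonObj.comp_one, _root_.one_mul]
      mul_one := by
        rw [← cancel_mono i, Category.assoc, hm2, whiskerLeft_fst, whiskerLeft_snd, rightUnitor_hom,
          Category.assoc, he, MonObj.one_eq_one, MonObj.comp_one, _root_.mul_one]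
      mul_assoc := by
        rw [← cancel_mono i, Category.assoc, Category.assoc, Category.assoc, hm2, hm2]
        simp only [Category.assoc, whiskerRight_fst_assoc, whiskerRight_snd_assoc, whiskerLeft_fst_assoc,
          whiskerLeft_snd_assoc, associator_hom_fst_assoc, associator_hom_snd_fst_assoc, hm, MonObj.comp_mul,
          associator_hom_snd_snd_assoc, _root_.mul_assoc] }
  letI : GrpObj N :=
    { inv := v
      left_inv := by
        rw [← cancel_mono i, Category.assoc, Category.assoc]
        show lift v (𝟙 N) ≫ m ≫ i = toUnit N ≫ e ≫ i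
        rw [hm', hv, Category.id_comp, inv_mul_cancel, he, MonObj.one_eq_one, MonObj.comp_one]
      right_inv := by
        rw [← cancel_mono i, Category.assoc, Category.assoc]
        show lift (𝟙 N) v ≫ m ≫ i = toUnit N ≫ e ≫ i
        rw [hm', hv, Category.id_comp, mul_inv_cancel, he, MonObj.one_eq_one, MonObj.comp_one] }
  refine ⟨N, inferInstance, i, ⟨he, ?_⟩, ?_, ?_, hk⟩
  · show m ≫ i = (i ⊗ₘ i) ≫ μ
    rw [hm, Hom.mul_def, CartesianMonoidalCategory.lift_fst_comp_snd_comp]
  · have : IsClosedImmersion η[Q].left := by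
      haveI : IsClosedImmersion (η[Q].left ≫ Q.hom) := by
        rw [Over.w η[Q]]
        exact inferInstanceAs (IsClosedImmersion (𝟙 S))
      exact IsClosedImmersion.of_comp η[Q].left Q.hom
    exact inferInstanceAs (IsClosedImmersion (Limits.pullback.fst q.left η[Q].left))
  · intro T g n
    obtain ⟨n', hn'⟩ := hlift (g * (n ≫ i) * g⁻¹) (by
      rw [MonObj.mul_comp, MonObj.mul_comp, hiq, _root_.mul_one, GrpObj.inv_comp, mul_inv_cancel])
    exact ⟨n', hn'.symm⟩

end Groth.Agent.GrpSchLib
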