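import Groth.Prelude.Def_AlgGrp
import Mathlib.AlgebraicGeometry.Pullbacks
import Mathlib.CategoryTheory.Monoidal.Cartesian.Grp
import Mathlib.CategoryTheory.Limits.Constructions.Over.Connected
import Mathlib.Tactic.Group

/-! The kernel pair of a homomorphism is the product with the kernel. -/

open CategoryTheory MonoidalCategory CartesianMonoidalCategory AlgebraicGeometry MonObj

namespace Groth.Agent.GrpSchLib

universe u

/-- `(n, g) ↦ (n g, g)` identifies `N × G` with `G ×_Q G`. -/
theorem exists_kernelPair_iso {S : Scheme.{u}} {N G Q : Over S} [GrpObj G] [GrpObj Q] (i : N ⟶ G) (q : G ⟶ Q)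
    [IsMonHom q] (hNG : AlgGrp.IsKernel i q) :
    ∃ p : (N ⊗ G).left ⟶ Limits.pullback q.left q.left, IsIso p ∧
      p ≫ Limits.pullback.snd q.left q.left = (snd N G).left := by
  let p : (N ⊗ G).left ⟶ Limits.pullback q.left q.left :=
    Limits.pullback.lift ((fst N G ≫ i) * snd N G).left (snd N G).left (by
      rw [← Over.comp_left, ← Over.comp_left, MonObj.mul_comp, Category.assoc, hNG.w,
        ← Category.assoc, comp_toUnit]
      exact congrArg CommaMorphism.left (_root_.one_mul (snd N G ≫ q)))
  let T : Over S := Over.mk (Limits.pullback.fst q.left q.left ≫ G.hom)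
  let p₁ : T ⟶ G := Over.homMk (Limits.pullback.fst q.left q.left) rfl
  let p₂ : T ⟶ G := Over.homMk (Limits.pullback.snd q.left q.left) (by
    show Limits.pullback.snd q.left q.left ≫ G.hom = Limits.pullback.fst q.left q.left ≫ G.hom
    rw [← Over.w q, ← Limits.pullback.condition_assoc])
  have hker : (p₁ * p₂⁻¹) ≫ q = toUnit T ≫ η[Q] := by
    rw [MonObj.mul_comp, GrpObj.inv_comp,
      show p₁ ≫ q = p₂ ≫ q from Over.OverMorphism.ext Limits.pullback.condition, mul_inv_cancel]
    rfl
  let r : T ⟶ N ⊗ G := lift (hNG.lift _ _ hker) p₂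
  have hpr : p ≫ r.left = 𝟙 _ := by
    let p' : N ⊗ G ⟶ T := Over.homMk p (by
      show p ≫ Limits.pullback.fst _ _ ≫ G.hom = (N ⊗ G).hom
      rw [Limits.pullback.lift_fst_assoc, Over.w ((fst N G ≫ i) * snd N G)])
    have e1 : p' ≫ p₁ = (fst N G ≫ i) * snd N G := Over.OverMorphism.ext (Limits.pullback.lift_fst _ _ _)
    have e2 : p' ≫ p₂ = snd N G := Over.OverMorphism.ext (Limits.pullback.lift_snd _ _ _)
    have hmono : Mono i := by
      refine ⟨fun a b hab => hNG.hom_ext hab (toUnit_unique _ _)⟩
    have : p' ≫ r = 𝟙 _ := by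
      refine CartesianMonoidalCategory.hom_ext _ _ ?_ (by rw [Category.assoc, lift_snd, e2, Category.id_comp])
      rw [← cancel_mono i, Category.assoc, Category.assoc, lift_fst_assoc, hNG.lift_fst, MonObj.comp_mul,
        GrpObj.comp_inv, e1, e2, mul_inv_cancel_right, Category.id_comp]
    exact congrArg CommaMorphism.left this
  have hrp : r.left ≫ p = 𝟙 _ := by
    apply Limits.pullback.hom_ext
    · rw [Category.assoc, Limits.pullback.lift_fst, Category.id_comp, ← Over.comp_left]
      show _ = p₁.left
      congr 1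
      rw [MonObj.comp_mul, ← Category.assoc, lift_fst, lift_snd, hNG.lift_fst, inv_mul_cancel_right]
    · rw [Category.assoc, Limits.pullback.lift_snd, Category.id_comp, ← Over.comp_left]
      show _ = p₂.left
      congr 1
      rw [lift_snd]
  have : IsIso p := ⟨r.left, hpr, hrp⟩
  exact ⟨p, this, Limits.pullback.lift_snd _ _ _⟩

end Groth.Agent.GrpSchLib
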