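import Mathlib.AlgebraicGeometry.Morphisms.Flat
import Mathlib.AlgebraicGeometry.Morphisms.UniversallyOpen
import Mathlib.AlgebraicGeometry.Morphisms.OpenImmersion
import Mathlib.CategoryTheory.Monoidal.Cartesian.Over
import Mathlib.CategoryTheory.Monoidal.Cartesian.Grp
import Mathlib.CategoryTheory.Limits.Constructions.Over.Connected

/-! The shearing isomorphism of a group scheme and its consequences. -/

open CategoryTheory AlgebraicGeometry MonoidalCategory CartesianMonoidalCategory MonObj GrpObj

namespace Groth.Agent.GrpSchLib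

universe u

variable {S : Scheme.{u}} {G T : Over S} [GrpObj G]

/-- `(t, g) ↦ (t, ψ t * g)`. -/
noncomputable def shearIso (ψ : T ⟶ G) : T ⊗ G ≅ T ⊗ G where
  hom := lift (fst T G) ((fst T G ≫ ψ) * snd T G)
  inv := lift (fst T G) ((fst T G ≫ ψ)⁻¹ * snd T G)
  hom_inv_id := by
    apply CartesianMonoidalCategory.hom_ext
    · simp
    · simp [MonObj.comp_mul, GrpObj.comp_inv, ← mul_assoc]
  inv_hom_id := by
    apply CartesianMonoidalCategory.hom_ext
    · simp
    · simp [MonObj.comp_mul, GrpObj.comp_inv, ← mul_assoc]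

theorem shearIso_hom_snd (ψ : T ⟶ G) : (shearIso ψ).hom ≫ snd T G = ψ ▷ G ≫ μ[G] := by
  simp [shearIso, MonObj.mul_eq_mul, MonObj.comp_mul]

instance (ψ : T ⟶ G) : IsIso (shearIso ψ).hom.left := ((Over.forget S).mapIso (shearIso ψ)).isIso_hom

theorem flat_whiskerRight_mul (ψ : T ⟶ G) [Flat T.hom] : Flat (ψ ▷ G ≫ μ[G]).left := by
  rw [← shearIso_hom_snd, Over.comp_left]
  have : Flat (snd T G).left := inferInstanceAs (Flat (Limits.pullback.snd T.hom G.hom))
  infer_instance

theorem universallyOpen_whiskerRight_mul (ψ : T ⟶ G) [UniversallyOpen T.hom] :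
    UniversallyOpen (ψ ▷ G ≫ μ[G]).left := by
  rw [← shearIso_hom_snd, Over.comp_left]
  have : UniversallyOpen (snd T G).left := inferInstanceAs (UniversallyOpen (Limits.pullback.snd T.hom G.hom))
  infer_instance

theorem mul_eq_id_whiskerRight : μ[G] = (𝟙 G) ▷ G ≫ μ[G] := by simp

theorem isPullback_diag :
    IsPullback (lift (𝟙 G) (𝟙 G)) (toUnit G) (fst G G * (snd G G)⁻¹) η[G] :=
  IsPullback.of_isLimit' ⟨by simp [MonObj.comp_mul, GrpObj.comp_inv, MonObj.one_eq_one]⟩
    (Limits.PullbackCone.IsLimit.mk _ (fun s => s.fst ≫ fst G G)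
      (fun s => by
        have h := s.condition
        rw [MonObj.comp_mul, GrpObj.comp_inv,
          show s.snd ≫ η[G] = 1 by simp [MonObj.one_eq_one, MonObj.comp_one], mul_inv_eq_one] at h
        apply CartesianMonoidalCategory.hom_ext
        · simp
        · simpa using h)
      (fun s => toUnit_unique _ _)
      (fun s m h₁ _ => by rw [← h₁]; simp))

theorem isPullback_unit :
    IsPullback η[G] η[G] (lift (𝟙 G) (toUnit G ≫ η[G])) (lift (𝟙 G) (𝟙 G)) :=
  IsPullback.of_isLimit' ⟨by apply CartesianMonoidalCategory.hom_ext <;> simp⟩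
    (Limits.PullbackCone.IsLimit.mk _ (fun _ => toUnit _)
      (fun s => by
        have h1 := congrArg (· ≫ fst G G) s.condition
        have h2 := congrArg (· ≫ snd G G) s.condition
        simp at h1 h2
        simp [h1, ← h2])
      (fun s => by
        have h1 := congrArg (· ≫ fst G G) s.condition
        have h2 := congrArg (· ≫ snd G G) s.condition
        simp at h1 h2
        simp [← h2])
      (fun s m _ _ => toUnit_unique _ _))

theorem diagonal_iff_unit (P : MorphismProperty Scheme.{u}) [P.IsStableUnderBaseChange] :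
    P (Limits.pullback.diagonal G.hom) ↔ P η[G].left := by
  have e : Limits.pullback.diagonal G.hom = (lift (𝟙 G) (𝟙 G)).left := by
    apply Limits.pullback.hom_ext
    · rw [Limits.pullback.diagonal_fst]; exact (congrArg (fun q => q.left) (lift_fst (𝟙 G) (𝟙 G))).symm
    · rw [Limits.pullback.diagonal_snd]; exact (congrArg (fun q => q.left) (lift_snd (𝟙 G) (𝟙 G))).symm
  rw [e]
  exact ⟨fun h => MorphismProperty.of_isPullback (isPullback_unit.map (Over.forget S)).flip h,
    fun h => MorphismProperty.of_isPullback (isPullback_diag.map (Over.forget S)).flip h⟩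

end Groth.Agent.GrpSchLib
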