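import Groth.Agent.GrpSchLib.GeomIrr
import Groth.Agent.GrpSchLib.Shear
import Mathlib.AlgebraicGeometry.Group.Abelian
import Mathlib.AlgebraicGeometry.Morphisms.Integral
import Mathlib.AlgebraicGeometry.Morphisms.QuasiSeparated
import Mathlib.AlgebraicGeometry.IdealSheaf.Subscheme
import Mathlib.Topology.LocallyClosed

/-! Components of arbitrary group schemes over a field. -/

open CategoryTheory AlgebraicGeometry MonoidalCategory CartesianMonoidalCategory MonObj GrpObj
open Limits TopologicalSpace
open scoped CategoryTheory.Obj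

namespace Groth.Agent.GrpSchLib

universe u

section Topology

variable {X Y : Type*} [TopologicalSpace X] [TopologicalSpace Y]

/-- Points having a generalization in `V`. -/
def hull (V : Set X) : Set X := {x | ∃ c ∈ V, c ⤳ x}

/-- `c` has no proper generalization. -/
def IsMaxPt (c : X) : Prop := ∀ d, d ⤳ c → d = c

theorem exists_isMaxPt [T0Space X] [QuasiSober X] (a : X) : ∃ c, IsMaxPt c ∧ c ⤳ a := by
  have hc := isIrreducible_irreducibleComponent.isGenericPoint_genericPoint
    (isClosed_irreducibleComponent (x := a))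
  exact ⟨_, fun d => Groth.Agent.FDescent.eq_of_specializes_of_mem
    (irreducibleComponent_mem_irreducibleComponents a) hc, hc.specializes mem_irreducibleComponent⟩

theorem IsMaxPt.map [T0Space X] {f : X → Y} (hf : GeneralizingMap f) {c : X} (hc : IsMaxPt c) :
    IsMaxPt (f c) := by
  intro d hd
  obtain ⟨d', hd', rfl⟩ := hf hd
  rw [hc d' hd']

variable (X) in
/-- Every point lies on a single irreducible component. -/
def UniComp : Prop := ∀ x a b : X, a ⤳ x → b ⤳ x → ∃ c, c ⤳ a ∧ c ⤳ b

theorem IsMaxPt.specializes (h : UniComp X) {c a b : X} (hc : IsMaxPt c) (hca : c ⤳ a) (hba : b ⤳ a) :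
    c ⤳ b := by
  obtain ⟨d, hdc, hdb⟩ := h a c b hca hba
  rwa [hc d hdc] at hdb

theorem IsMaxPt.eq (h : UniComp X) [T0Space X] {c c' a : X} (hc : IsMaxPt c) (hc' : IsMaxPt c')
    (hca : c ⤳ a) (hca' : c' ⤳ a) : c = c' :=
  hc' c (hc.specializes h hca hca')

theorem isIrreducible_closure_image {f : X → Y} (hf : Continuous f) {s : Set X} (hs : IsIrreducible s) :
    IsIrreducible (closure (f '' s)) := (hs.image f hf.continuousOn).closure

end Topology

variable {K : Type u} [Field K] {G : Over (Spec (CommRingCat.of K))} [GrpObj G]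

omit [GrpObj G] in
theorem left_comp_apply {S : Scheme.{u}} {A B C : Over S} (f : A ⟶ B) (g : B ⟶ C) (y : A.left) :
    (f ≫ g).left y = g.left (f.left y) := rfl

omit [GrpObj G] in
theorem apply_pointSection {T : Over (Spec (CommRingCat.of K))} (a : 𝟙_ _ ⟶ G) (y : T.left) :
    (toUnit T ≫ a).left y = a.left (IsLocalRing.closedPoint K) := by
  rw [Over.comp_left, Scheme.Hom.comp_apply]
  exact congrArg a.left
    (@Subsingleton.elim (Spec (CommRingCat.of K)) inferInstance _ _)

theorem mul_one_section : lift (𝟙 G) (toUnit G ≫ η[G]) ≫ μ[G] = 𝟙 G := by simp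

theorem one_mul_section : lift (toUnit G ≫ η[G]) (𝟙 G) ≫ μ[G] = 𝟙 G := by simp

/-- `g ↦ a * g⁻¹`. -/
noncomputable def divIso (a : 𝟙_ _ ⟶ G) : G ≅ G where
  hom := (toUnit G ≫ a) * (𝟙 G)⁻¹
  inv := (𝟙 G)⁻¹ * (toUnit G ≫ a)
  hom_inv_id := by simp [MonObj.comp_mul, GrpObj.comp_inv]
  inv_hom_id := by simp [MonObj.comp_mul, GrpObj.comp_inv]

theorem comp_divIso_hom (a : 𝟙_ _ ⟶ G) : a ≫ (divIso a).hom = η[G] := by
  simp [divIso, MonObj.comp_mul, GrpObj.comp_inv, MonObj.one_eq_one]

theorem divIso_hom_apply_self (a : 𝟙_ _ ⟶ G) :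
    (divIso a).hom.left (a.left (IsLocalRing.closedPoint K)) = η[G].left (IsLocalRing.closedPoint K) := by
  exact (left_comp_apply a (divIso a).hom _).symm.trans
    (congrArg (fun f : 𝟙_ _ ⟶ G => f.left (IsLocalRing.closedPoint K)) (comp_divIso_hom a))

theorem divIso_hom_apply_one (a : 𝟙_ _ ⟶ G) :
    (divIso a).hom.left (η[G].left (IsLocalRing.closedPoint K)) = a.left (IsLocalRing.closedPoint K) := by
  have : η[G] ≫ (divIso a).hom = a := by
    simp [divIso, MonObj.comp_mul, GrpObj.comp_inv, MonObj.one_eq_one]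
  exact (left_comp_apply η[G] (divIso a).hom _).symm.trans
    (congrArg (fun f : 𝟙_ _ ⟶ G => f.left (IsLocalRing.closedPoint K)) this)

instance (a : 𝟙_ _ ⟶ G) : IsIso (divIso a).hom.left :=
  ((Over.forget _).mapIso (divIso a)).isIso_hom

instance : QuasiSeparatedSpace G.left := by
  have : IsSeparated G.hom :=
    (isSeparated_iff G.hom).mpr ((diagonal_iff_unit @IsClosedImmersion).mpr inferInstance)
  exact quasiSeparatedSpace_of_quasiSeparated G.hom

/-! Closed subsets as reduced subschemes. -/

omit [GrpObj G] in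
theorem exists_over_range_eq (A : Set G.left) (hA : IsClosed A) :
    ∃ (T : Over (Spec (CommRingCat.of K))) (j : T ⟶ G), IsClosedImmersion j.left ∧
      Set.range j.left = A := by
  let i := (Scheme.IdealSheafData.vanishingIdeal ⟨A, hA⟩).subschemeι
  refine ⟨Over.mk (i ≫ G.hom), Over.homMk i rfl, inferInstanceAs (IsClosedImmersion i), ?_⟩
  exact (Scheme.IdealSheafData.range_subschemeι _).trans
    (Scheme.IdealSheafData.coe_support_vanishingIdeal _)

omit [GrpObj G] in
theorem irreducibleSpace_of_range {T : Over (Spec (CommRingCat.of K))} (j : T ⟶ G) [IsClosedImmersion j.left]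
    (h : IsIrreducible (Set.range j.left)) : IrreducibleSpace T.left :=
  by
    have hc : IsClosed (Set.range j.left) := (Scheme.Hom.isClosedEmbedding j.left).isClosed_range
    obtain ⟨t₀, ht₀⟩ : h.genericPoint ∈ Set.range j.left := (h.isGenericPoint_genericPoint hc).mem
    have : closure ({t₀} : Set T.left) = Set.univ := Set.eq_univ_of_forall fun t =>
      ((Scheme.Hom.isClosedEmbedding j.left).isInducing.specializes_iff.mp
        (ht₀ ▸ (h.isGenericPoint_genericPoint hc).specializes ⟨t, rfl⟩)).mem_closure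
    rw [irreducibleSpace_def, Set.top_eq_univ, ← this]
    exact isIrreducible_singleton.closure

/-- The product of subsets. -/
def prodSet (A B : Set G.left) : Set (G ⊗ G).left :=
  (fst G G).left ⁻¹' A ∩ (snd G G).left ⁻¹' B

omit [GrpObj G] in
theorem range_tensorHom {T T' : Over (Spec (CommRingCat.of K))} (j : T ⟶ G) (j' : T' ⟶ G) :
    Set.range (j ⊗ₘ j').left = prodSet (Set.range j.left) (Set.range j'.left) := by
  rw [Over.tensorHom_left]
  exact Scheme.Pullback.range_map _ _ _ _ _ _ _ _ _

theorem uniComp_one [IsAlgClosed K] {a b : G.left} (ha : a ⤳ η[G].left (IsLocalRing.closedPoint K))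
    (hb : b ⤳ η[G].left (IsLocalRing.closedPoint K)) : ∃ c, c ⤳ a ∧ c ⤳ b := by
  obtain ⟨T, j, hj, hjr⟩ := exists_over_range_eq (closure {a}) isClosed_closure
  obtain ⟨T', j', hj', hjr'⟩ := exists_over_range_eq (closure {b}) isClosed_closure
  have := irreducibleSpace_of_range j (hjr ▸ isIrreducible_singleton.closure)
  have := irreducibleSpace_of_range j' (hjr' ▸ isIrreducible_singleton.closure)
  have := geometricallyIrreducible_of_isAlgClosed T.hom
  have : IrreducibleSpace (T ⊗ T').left := inferInstanceAs (IrreducibleSpace ↥(pullback T.hom T'.hom))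
  have hirr : IsIrreducible (prodSet (closure {a}) (closure {b}) : Set (G ⊗ G).left) := by
    rw [← hjr, ← hjr', ← range_tensorHom, ← Set.image_univ]
    exact (IrreducibleSpace.isIrreducible_univ _).image _ (j ⊗ₘ j').left.continuous.continuousOn
  have hW := isIrreducible_closure_image μ[G].left.continuous hirr
  have hmem : ∀ (f : G ⟶ G ⊗ G) (x : G.left), f ≫ μ[G] = 𝟙 G →
      f.left x ∈ prodSet (closure {a}) (closure {b}) →
        x ∈ closure (μ[G].left '' prodSet (closure {a}) (closure {b})) := by
    intro f x hf hx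
    refine subset_closure ⟨f.left x, hx, ?_⟩
    rw [← left_comp_apply, hf]
    rfl
  have hgen := hW.isGenericPoint_genericPoint isClosed_closure
  refine ⟨hW.genericPoint, hgen.specializes (hmem _ a mul_one_section ⟨?_, ?_⟩),
    hgen.specializes (hmem _ b one_mul_section ⟨?_, ?_⟩)⟩
  · rw [Set.mem_preimage, ← left_comp_apply, lift_fst]
    exact subset_closure rfl
  · rw [Set.mem_preimage, ← left_comp_apply, lift_snd, apply_pointSection]
    exact hb.mem_closure
  · rw [Set.mem_preimage, ← left_comp_apply, lift_fst, apply_pointSection]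
    exact ha.mem_closure
  · rw [Set.mem_preimage, ← left_comp_apply, lift_snd]
    exact subset_closure rfl

/-! Base change. -/

/-- Base change of `G` along a field extension. -/
noncomputable abbrev bc (G : Over (Spec (CommRingCat.of K))) {L : Type u} [Field L] (φ : K →+* L) :
    Over (Spec (CommRingCat.of L)) :=
  (Over.pullback (Spec.map (CommRingCat.ofHom φ))).obj G

/-- The projection from the base change. -/
noncomputable abbrev bcProj (G : Over (Spec (CommRingCat.of K))) {L : Type u} [Field L] (φ : K →+* L) :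
    (bc G φ).left ⟶ G.left := pullback.fst G.hom (Spec.map (CommRingCat.ofHom φ))

omit [GrpObj G] in
theorem bcProj_generalizing {L : Type u} [Field L] (φ : K →+* L) : GeneralizingMap (bcProj G φ) :=
  have := flat_spec_map_field φ
  Flat.generalizingMap _

omit [GrpObj G] in
theorem exists_bc_point_aux {L : Type u} [Field L] (φ : K →+* L)
    (t : Spec (CommRingCat.of L) ⟶ G.left) (hw : t ≫ G.hom = 𝟙 _ ≫ Spec.map (CommRingCat.ofHom φ))
    (x : G.left) (ht : t (IsLocalRing.closedPoint L) = x) :
    ∃ x' : 𝟙_ (Over (Spec (CommRingCat.of L))) ⟶ bc G φ,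
      bcProj G φ (x'.left (IsLocalRing.closedPoint L)) = x := by
  refine ⟨Over.homMk (pullback.lift t (𝟙 _) hw) (pullback.lift_snd _ _ hw), ?_⟩
  have h : (pullback.lift t (𝟙 _) hw ≫ pullback.fst G.hom (Spec.map (CommRingCat.ofHom φ)))
      (IsLocalRing.closedPoint L) = x := by rw [pullback.lift_fst]; exact ht
  exact h

omit [GrpObj G] in
theorem exists_bc_point (x : G.left) : ∃ (L : Type u) (_ : Field L) (_ : IsAlgClosed L) (φ : K →+* L)
    (x' : 𝟙_ (Over (Spec (CommRingCat.of L))) ⟶ bc G φ),
      bcProj G φ (x'.left (IsLocalRing.closedPoint L)) = x := by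
  let t : Spec (CommRingCat.of (AlgebraicClosure (G.left.residueField x))) ⟶ G.left :=
    Spec.map (CommRingCat.ofHom (algebraMap (G.left.residueField x) _)) ≫ G.left.fromSpecResidueField x
  obtain ⟨φ, hφ⟩ := Spec.map_surjective (t ≫ G.hom)
  have hx : t (IsLocalRing.closedPoint (AlgebraicClosure (G.left.residueField x))) = x :=
    G.left.fromSpecResidueField_apply x
      (Spec.map (CommRingCat.ofHom (algebraMap (G.left.residueField x) _)) _)
  obtain ⟨x', hx'⟩ := exists_bc_point_aux (L := AlgebraicClosure (G.left.residueField x))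
    φ.hom t (by rw [Category.id_comp]; exact hφ.symm) x hx
  exact ⟨AlgebraicClosure (G.left.residueField x), inferInstance,
    AlgebraicClosure.isAlgClosed (G.left.residueField x), φ.hom, x', hx'⟩

theorem uniComp : UniComp G.left := by
  intro x a b ha hb
  obtain ⟨L, _, _, φ, x', hx'⟩ := exists_bc_point x
  rw [← hx'] at ha hb
  obtain ⟨a', ha', haa⟩ := bcProj_generalizing φ ha
  obtain ⟨b', hb', hbb⟩ := bcProj_generalizing φ hb
  let f := (divIso x').hom.left
  have hf := divIso_hom_apply_self x'
  obtain ⟨c, hca, hcb⟩ := uniComp_one (G := bc G φ) (hf ▸ ha'.map f.continuous) (hf ▸ hb'.map f.continuous)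
  obtain ⟨c, rfl⟩ := f.homeomorph.surjective c
  have h1 : c ⤳ a' := f.homeomorph.isInducing.specializes_iff.mp hca
  have h2 : c ⤳ b' := f.homeomorph.isInducing.specializes_iff.mp hcb
  exact ⟨bcProj G φ c, haa ▸ h1.map (bcProj G φ).continuous, hbb ▸ h2.map (bcProj G φ).continuous⟩

theorem isOpen_hull_of_mem [IsAlgClosed K] {V : Set G.left} (hV : IsOpen V) (x : 𝟙_ _ ⟶ G)
    (hx : x.left (IsLocalRing.closedPoint K) ∈ hull V) :
    ∃ W, IsOpen W ∧ x.left (IsLocalRing.closedPoint K) ∈ W ∧ W ⊆ hull V := by
  set e := η[G].left (IsLocalRing.closedPoint K)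
  obtain ⟨g, hg, hge⟩ := exists_isMaxPt e
  obtain ⟨T, j, hj, hjr⟩ := exists_over_range_eq (closure {g}) isClosed_closure
  have := irreducibleSpace_of_range j (hjr ▸ isIrreducible_singleton.closure)
  have := geometricallyIrreducible_of_isAlgClosed T.hom
  let m := (j ▷ G ≫ μ[G]).left
  have : UniversallyOpen m := universallyOpen_whiskerRight_mul j
  have hrange : Set.range (j ▷ G).left = (fst G G).left ⁻¹' closure {g} := by
    have := range_tensorHom j (𝟙 G)
    rw [MonoidalCategory.tensorHom_id] at this
    rw [this, hjr, prodSet]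
    simp
  refine ⟨m '' ((snd T G).left ⁻¹' V), m.isOpenMap _ (hV.preimage (snd T G).left.continuous), ?_, ?_⟩
  · obtain ⟨c, hcV, hc⟩ := hx
    have : (lift (divIso x).hom (𝟙 G)).left c ∈ Set.range (j ▷ G).left := by
      rw [hrange, Set.mem_preimage, ← left_comp_apply, lift_fst]
      refine (hg.specializes uniComp hge ?_).mem_closure
      have := hc.map (divIso x).hom.left.continuous
      rwa [divIso_hom_apply_self] at this
    obtain ⟨p, hp⟩ := this
    refine ⟨p, ?_, ?_⟩
    · show (snd T G).left p ∈ V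
      rw [show (snd T G) = j ▷ G ≫ snd G G by simp, left_comp_apply, hp,
        ← left_comp_apply, lift_snd]
      exact hcV
    · show μ[G].left ((j ▷ G).left p) = _
      rw [hp, ← left_comp_apply,
        show lift (divIso x).hom (𝟙 G) ≫ μ[G] = toUnit G ≫ x by simp [divIso, ← Hom.mul_def],
        apply_pointSection]
  · rintro _ ⟨p, hpV, rfl⟩
    set v := (snd T G).left p
    have hfib : IsIrreducible ((snd T G).left ⁻¹' {v}) := by
      have : GeometricallyIrreducible (snd T G).left :=
        inferInstanceAs (GeometricallyIrreducible (pullback.snd T.hom G.hom))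
      have : UniversallyOpen (snd T G).left :=
        inferInstanceAs (UniversallyOpen (pullback.snd T.hom G.hom))
      exact (snd T G).left.isIrreducible_preimage (snd T G).left.isOpenMap isIrreducible_singleton
    have hW := isIrreducible_closure_image m.continuous hfib
    have hgen := hW.isGenericPoint_genericPoint isClosed_closure
    refine ⟨hW.genericPoint, ?_, hgen.specializes (subset_closure ⟨p, rfl, rfl⟩)⟩
    have : (lift (toUnit G ≫ η[G]) (𝟙 G)).left v ∈ Set.range (j ▷ G).left := by
      rw [hrange, Set.mem_preimage, ← left_comp_apply, lift_fst,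
        apply_pointSection]
      exact hge.mem_closure
    obtain ⟨q, hq⟩ := this
    refine (hgen.specializes (y := v) (subset_closure ⟨q, ?_, ?_⟩)).mem_open hV hpV
    · show (snd T G).left q = v
      rw [show (snd T G) = j ▷ G ≫ snd G G by simp, left_comp_apply, hq,
        ← left_comp_apply, lift_snd]
      rfl
    · show μ[G].left ((j ▷ G).left q) = v
      rw [hq, ← left_comp_apply, one_mul_section]
      rfl

theorem isOpen_hull {V : Set G.left} (hV : IsOpen V) : IsOpen (hull V) := by
  refine isOpen_iff_forall_mem_open.mpr fun x hx => ?_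
  obtain ⟨L, _, _, φ, x', hx'⟩ := exists_bc_point x
  subst hx'
  obtain ⟨c, hcV, hc⟩ := hx
  obtain ⟨c', hc', rfl⟩ := bcProj_generalizing φ hc
  obtain ⟨W, hWo, hxW, hW⟩ := isOpen_hull_of_mem (G := bc G φ) (hV.preimage (bcProj G φ).continuous) x'
    ⟨c', hcV, hc'⟩
  refine ⟨bcProj G φ '' W, ?_, (bcProj G φ).isOpenMap _ hWo, ⟨_, hxW, rfl⟩⟩
  rintro _ ⟨w, hw, rfl⟩
  obtain ⟨d, hdV, hd⟩ := hW hw
  exact ⟨_, hdV, hd.map (bcProj G φ).continuous⟩

end Groth.Agent.GrpSchLib
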