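import Groth.Agent.GrpSchLib.PerfectSmooth
import Groth.Agent.GrpSchLib.FieldTop
import Groth.Agent.RegLoc6.Basic
import Mathlib.RingTheory.RegularLocalRing.Defs
import Mathlib.RingTheory.Ideal.KrullsHeightTheorem
import Mathlib.RingTheory.Ideal.GoingDown
import Mathlib.LinearAlgebra.TensorProduct.RightExactness

/-! Smoothness of group schemes over a field from the local ring at the unit. -/

open CategoryTheory AlgebraicGeometry MonoidalCategory CartesianMonoidalCategory MonObj
open Limits TensorProduct
open scoped CategoryTheory.Obj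

namespace Groth.Agent.GrpSchLib

universe u

/-- A regular local ring with rational residue field stays reduced after an algebraic extension. -/
theorem isReduced_tensor_of_isRegularLocalRing {k O L : Type u} [Field k] [CommRing O] [Algebra k O]
    [IsRegularLocalRing O] [Field L] [Algebra k L] [Algebra.IsAlgebraic k L]
    (hres : Function.Surjective (algebraMap k (IsLocalRing.ResidueField O))) :
    _root_.IsReduced (O ⊗[k] L) := by
  refine IsReduced.tensorProduct_of_flat_of_forall_fg fun B hB => ?_
  let : Field B := (Subalgebra.isField_of_algebraic B).toField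
  have : Algebra.FiniteType k B := B.fg_iff_finiteType.mp hB
  have : Algebra.IsIntegral k B := Algebra.IsIntegral.of_injective B.val Subtype.val_injective
  have : Module.Finite k B := Algebra.IsIntegral.finite
  let e : k ≃ₐ[k] IsLocalRing.ResidueField O :=
    AlgEquiv.ofBijective (Algebra.ofId k _) ⟨(algebraMap k _).injective, hres⟩
  let χ : O →ₐ[k] k := e.symm.toAlgHom.comp (IsScalarTower.toAlgHom k O (IsLocalRing.ResidueField O))
  have hχ : Function.Surjective χ := fun c => ⟨algebraMap k O c, χ.commutes c⟩
  have hker : RingHom.ker χ = IsLocalRing.maximalIdeal O := by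
    ext a
    simp [χ, RingHom.mem_ker, IsLocalRing.residue_eq_zero_iff]
  let π : O ⊗[k] B →ₐ[k] k ⊗[k] B := Algebra.TensorProduct.map χ (AlgHom.id k B)
  have hπ : Function.Surjective π :=
    Algebra.TensorProduct.map_surjective χ (AlgHom.id k B) hχ Function.surjective_id
  let M : Ideal (O ⊗[k] B) := (IsLocalRing.maximalIdeal O).map (algebraMap O (O ⊗[k] B))
  have hMker : M = RingHom.ker π := by
    rw [Algebra.TensorProduct.rTensor_ker (C := B) χ hχ, hker]
    rfl
  have hM : M.IsMaximal := by
    rw [hMker]
    let : Field (k ⊗[k] B) := ((Algebra.TensorProduct.lid k B).toMulEquiv.isField (Field.toIsField B)).toField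
    exact RingHom.ker_isMaximal_of_surjective π hπ
  have huniq : ∀ P : Ideal (O ⊗[k] B), P.IsMaximal → P = M := by
    intro P hP
    refine (hM.eq_of_le hP.ne_top ?_).symm
    rw [Ideal.map_le_iff_le_comap]
    have : (P.comap (algebraMap O (O ⊗[k] B))).IsMaximal :=
      Ideal.isMaximal_comap_of_isIntegral_of_isMaximal P
    rw [IsLocalRing.eq_maximalIdeal this]
  have : IsLocalRing (O ⊗[k] B) := IsLocalRing.of_unique_max_ideal ⟨M, hM, huniq⟩
  have hmax : IsLocalRing.maximalIdeal (O ⊗[k] B) = M :=
    (IsLocalRing.eq_maximalIdeal hM).symm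
  have : IsNoetherianRing (O ⊗[k] B) := IsNoetherianRing.of_finite O _
  have : IsRegularLocalRing (O ⊗[k] B) := by
    refine IsRegularLocalRing.of_spanFinrank_maximalIdeal_le _ ?_
    have h1 : M.spanFinrank ≤ (IsLocalRing.maximalIdeal O).spanFinrank :=
      Ideal.spanFinrank_map_le_of_fg _ (IsNoetherian.noetherian _)
    rw [hmax]
    refine (Nat.cast_le.mpr h1).trans ?_
    rw [IsRegularLocalRing.spanFinrank_maximalIdeal (R := O),
      ← IsLocalRing.maximalIdeal_height_eq_ringKrullDim,
      ← IsLocalRing.maximalIdeal_height_eq_ringKrullDim (R := O ⊗[k] B), hmax]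
    have : M.LiesOver (IsLocalRing.maximalIdeal O) := ⟨by
      refine le_antisymm Ideal.le_comap_map ?_
      exact IsLocalRing.le_maximalIdeal (Ideal.comap_ne_top _ hM.ne_top)⟩
    rw [Ideal.height_eq_height_add_of_liesOver_of_hasGoingDown (IsLocalRing.maximalIdeal O) M]
    exact_mod_cast le_self_add
  have := Groth.Agent.RegLoc6.isDomain_of_isRegularLocalRing (O ⊗[k] B)
  infer_instance

/-- The stalks in the image of a flat preimmersion from a reduced scheme are reduced. -/
theorem isReduced_stalk_of_flat_preimmersion {T X : Scheme.{u}} (j : T ⟶ X) [IsPreimmersion j] [Flat j]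
    [IsReduced T] (t : T) : _root_.IsReduced (X.presheaf.stalk (j t)) := by
  let : Algebra (X.presheaf.stalk (j t)) (T.presheaf.stalk t) := (j.stalkMap t).hom.toAlgebra
  have : Module.Flat (X.presheaf.stalk (j t)) (T.presheaf.stalk t) := Flat.stalkMap j t
  have : IsLocalHom (algebraMap (X.presheaf.stalk (j t)) (T.presheaf.stalk t)) := j.toLRSHom.prop t
  have : Module.FaithfullyFlat (X.presheaf.stalk (j t)) (T.presheaf.stalk t) :=
    Module.FaithfullyFlat.of_flat_of_isLocalHom
  exact isReduced_of_injective (algebraMap (X.presheaf.stalk (j t)) (T.presheaf.stalk t))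
    (FaithfulSMul.algebraMap_injective _ _)

theorem flat_fromSpecStalk {X : Scheme.{u}} (x : X) : Flat (X.fromSpecStalk x) := by
  obtain ⟨U, hU, hxU, -⟩ := exists_isAffineOpen_mem_and_subset (show x ∈ (⊤ : X.Opens) from trivial)
  rw [← hU.fromSpecStalk_eq_fromSpecStalk hxU, IsAffineOpen.fromSpecStalk]
  have : Flat (Spec.map (X.presheaf.germ U x hxU)) := by
    rw [HasRingHomProperty.Spec_iff (P := @Flat)]
    let : Algebra Γ(X, U) (X.presheaf.stalk x) := (X.presheaf.germ U x hxU).hom.toAlgebra
    have := hU.isLocalization_stalk ⟨x, hxU⟩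
    exact IsLocalization.flat (X.presheaf.stalk x) (hU.primeIdealOf ⟨x, hxU⟩).asIdeal.primeCompl
  infer_instance

section
variable {k : Type u} [Field k] {G : Over (Spec (CommRingCat.of k))} [GrpObj G]

theorem bcProj_one {L : Type u} [Field L] (φ : k →+* L) (t : Spec (CommRingCat.of L)) :
    bcProj G φ (η[bc G φ].left t) = η[G].left (IsLocalRing.closedPoint k) := by
  have h : η[bc G φ].left ≫ bcProj G φ = Spec.map (CommRingCat.ofHom φ) ≫ η[G].left := by
    simp [Functor.obj.η_def, bcProj, pullback.lift_fst]
  have h2 := congrArg (fun f : Spec (CommRingCat.of L) ⟶ G.left => f t) h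
  exact h2.trans (congrArg η[G].left (@Subsingleton.elim (Spec (CommRingCat.of k)) inferInstance _ _))

theorem isReduced_of_stalk_one [IsAlgClosed k] [LocallyOfFiniteType G.hom]
    (h : _root_.IsReduced (G.left.presheaf.stalk (η[G].left (IsLocalRing.closedPoint k)))) :
    IsReduced G.left := by
  have := LocallyOfFiniteType.jacobsonSpace G.hom
  have hclosed : ∀ x : G.left, IsClosed ({x} : Set G.left) →
      _root_.IsReduced (G.left.presheaf.stalk x) := by
    intro x hx
    let x' : 𝟙_ _ ⟶ G := Over.homMk _ ((pointEquivClosedPoint G.hom).symm ⟨x, hx⟩).2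
    have hx' : x'.left (IsLocalRing.closedPoint k) = x := by
      simp only [x', pointEquivClosedPoint]
      exact pointOfClosedPoint_apply _ _ _ _
    let f := (divIso x').hom.left
    have hf : f x = η[G].left (IsLocalRing.closedPoint k) := hx' ▸ divIso_hom_apply_self x'
    have : _root_.IsReduced (G.left.presheaf.stalk (f x)) := hf ▸ h
    exact isReduced_of_injective (asIso (f.stalkMap x)).commRingCatIsoToRingEquiv.symm
      (RingEquiv.injective _)
  suffices h' : ∀ x : G.left, _root_.IsReduced (G.left.presheaf.stalk x) from isReduced_of_isReduced_stalk _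
  intro x
  obtain ⟨y, hyx, hy⟩ : ∃ y, x ⤳ y ∧ IsClosed ({y} : Set G.left) := by
    obtain ⟨y, hy, hy'⟩ := nonempty_inter_closedPoints (X := G.left) (Z := closure {x})
      ⟨x, subset_closure rfl⟩ isClosed_closure.isLocallyClosed
    exact ⟨y, specializes_iff_mem_closure.mpr hy, mem_closedPoints_iff.mp hy'⟩
  have := hclosed y hy
  obtain ⟨U, hU, hyU, -⟩ := exists_isAffineOpen_mem_and_subset (show y ∈ (⊤ : G.left.Opens) from trivial)
  have hxU : x ∈ U := hyx.mem_open U.2 hyU
  let : Algebra Γ(G.left, U) (G.left.presheaf.stalk y) := (G.left.presheaf.germ U y hyU).hom.toAlgebra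
  let : Algebra Γ(G.left, U) (G.left.presheaf.stalk x) := (G.left.presheaf.germ U x hxU).hom.toAlgebra
  have h1 := hU.isLocalization_stalk ⟨y, hyU⟩
  have h2 := hU.isLocalization_stalk ⟨x, hxU⟩
  let : Algebra (G.left.presheaf.stalk y) (G.left.presheaf.stalk x) :=
    (G.left.presheaf.stalkSpecializes hyx).hom.toAlgebra
  have : IsScalarTower Γ(G.left, U) (G.left.presheaf.stalk y) (G.left.presheaf.stalk x) :=
    .of_algebraMap_eq' (congrArg CommRingCat.Hom.hom (G.left.presheaf.germ_stalkSpecializes hyU hyx)).symm
  have : IsLocalization ((hU.primeIdealOf ⟨x, hxU⟩).asIdeal.primeCompl.map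
      (algebraMap Γ(G.left, U) (G.left.presheaf.stalk y))) (G.left.presheaf.stalk x) :=
    IsLocalization.isLocalization_of_submonoid_le (G.left.presheaf.stalk y) (G.left.presheaf.stalk x)
      (hU.primeIdealOf ⟨y, hyU⟩).asIdeal.primeCompl (hU.primeIdealOf ⟨x, hxU⟩).asIdeal.primeCompl (by
        refine fun a ha hax => ha ?_
        have hs : hU.primeIdealOf ⟨x, hxU⟩ ⤳ hU.primeIdealOf ⟨y, hyU⟩ := by
          refine hU.fromSpec.isOpenEmbedding.isInducing.specializes_iff.mp ?_
          rw [hU.fromSpec_primeIdealOf, hU.fromSpec_primeIdealOf]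
          exact hyx
        exact (PrimeSpectrum.le_iff_specializes _ _).mpr hs hax)
  exact isReduced_localizationPreserves ((hU.primeIdealOf ⟨x, hxU⟩).asIdeal.primeCompl.map
    (algebraMap Γ(G.left, U) (G.left.presheaf.stalk y))) (G.left.presheaf.stalk x) ‹_›

theorem smooth_of_isReduced_stalk_one_bc [LocallyOfFiniteType G.hom]
    (h : _root_.IsReduced ((bc G (algebraMap k (AlgebraicClosure k))).left.presheaf.stalk
      (η[bc G (algebraMap k (AlgebraicClosure k))].left (IsLocalRing.closedPoint (AlgebraicClosure k))))) :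
    Smooth G.hom := by
  have : LocallyOfFiniteType (bc G (algebraMap k (AlgebraicClosure k))).hom :=
    inferInstanceAs (LocallyOfFiniteType (pullback.snd G.hom _))
  exact smooth_of_isReduced_baseChange G (isReduced_of_stalk_one h)

theorem smooth_of_isRegularLocalRing_stalk_one [LocallyOfFiniteType G.hom]
    (h : IsRegularLocalRing (G.left.presheaf.stalk (η[G].left (IsLocalRing.closedPoint k)))) :
    Smooth G.hom := by
  refine smooth_of_isReduced_stalk_one_bc ?_
  set e := η[G].left (IsLocalRing.closedPoint k)
  let K := AlgebraicClosure k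
  let g : Spec (CommRingCat.of K) ⟶ Spec (CommRingCat.of k) :=
    Spec.map (CommRingCat.ofHom (algebraMap k K))
  let O := G.left.presheaf.stalk e
  obtain ⟨s, hs⟩ := Spec.map_surjective (G.left.fromSpecStalk e ≫ G.hom)
  let : Algebra k O := s.hom.toAlgebra
  have hres : Function.Surjective (algebraMap k (IsLocalRing.ResidueField O)) := by
    intro c
    have hst : ∀ a : k, Scheme.stalkClosedPointTo η[G].left (algebraMap k O a) = a := by
      intro a
      have h1 : Spec.map (Scheme.stalkClosedPointTo η[G].left) ≫ Spec.map s = 𝟙 _ := by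
        rw [hs, Scheme.Spec_stalkClosedPointTo_fromSpecStalk_assoc]
        exact Over.w η[G]
      rw [← Spec.map_comp, ← Spec.map_id] at h1
      exact congrArg (fun r => r.hom a) (Spec.map_injective h1)
    have hloc : IsLocalHom (Scheme.stalkClosedPointTo η[G].left).hom := inferInstance
    obtain ⟨x, rfl⟩ := IsLocalRing.residue_surjective c
    refine ⟨Scheme.stalkClosedPointTo η[G].left x, ?_⟩
    show IsLocalRing.residue O (algebraMap k O _) = IsLocalRing.residue O x
    rw [← sub_eq_zero, ← map_sub, IsLocalRing.residue_eq_zero_iff]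
    intro hu
    have := hu.map (Scheme.stalkClosedPointTo η[G].left).hom
    rw [map_sub, hst, sub_self] at this
    exact not_isUnit_zero this
  have hred := isReduced_tensor_of_isRegularLocalRing (L := K) hres
  have hred' : IsReduced (pullback (G.left.fromSpecStalk e ≫ G.hom) g) := by
    rw [← hs]
    exact @isReduced_of_isOpenImmersion _ _ (pullbackSpecIso k O K).hom _
      (inferInstanceAs (IsReduced (Spec (CommRingCat.of (O ⊗[k] K)))))
  let i := (pullbackRightPullbackFstIso G.hom g (G.left.fromSpecStalk e)).inv
  have : Flat (G.left.fromSpecStalk e) := flat_fromSpecStalk e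
  let j := i ≫ pullback.snd (G.left.fromSpecStalk e) (pullback.fst G.hom g)
  have : IsPreimmersion (pullback.snd (G.left.fromSpecStalk e) (pullback.fst G.hom g)) := inferInstance
  have : IsPreimmersion j := inferInstance
  have : Flat j := inferInstance
  have hmem : η[bc G (algebraMap k K)].left (IsLocalRing.closedPoint K) ∈ Set.range j := by
    rw [show Set.range j = Set.range (pullback.snd (G.left.fromSpecStalk e) (pullback.fst G.hom g)) by
      rw [Scheme.Hom.comp_base, TopCat.coe_comp, Set.range_comp,
        i.surjective.range_eq, Set.image_univ]]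
    rw [Scheme.Pullback.range_snd, Scheme.range_fromSpecStalk, Set.mem_preimage]
    exact specializes_of_eq (bcProj_one (G := G) (algebraMap k K) _)
  obtain ⟨t, ht⟩ := hmem
  exact ht ▸ isReduced_stalk_of_flat_preimmersion j t

end

end Groth.Agent.GrpSchLib
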