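import Groth.Agent.GrpSchLib.ImageFactor
import Groth.Agent.GrpSchLib.KernelGrp
import Groth.Agent.GrpSchLib.KernelPair
import Groth.Agent.GrpSchLib.HomKer
import Groth.Agent.GrpSchLib.IdentityComp
import Groth.Agent.GrpSchLib.HomFlatLft
import Groth.Agent.GrpSchLib.HomClosedRange
import Groth.Agent.H23.FFDescent
import Mathlib.AlgebraicGeometry.AlgClosed.Basic
import Mathlib.AlgebraicGeometry.Morphisms.FlatMono
import Mathlib.FieldTheory.IsAlgClosed.AlgebraicClosure

/-! A homomorphism of locally algebraic groups over a field is affine as soon as its kernel is affine. -/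

open CategoryTheory Limits AlgebraicGeometry MonoidalCategory CartesianMonoidalCategory MonObj GrpObj
  TopologicalSpace
open scoped CategoryTheory.Obj

set_option backward.isDefEq.respectTransparency.types false

namespace Groth.Agent.GrpSchLib.AffineKer

universe u

variable {k : Type u} [Field k] {P Q : Over (Spec (CommRingCat.of k))} [GrpObj P] [GrpObj Q]
  [LocallyOfFiniteType P.hom] [LocallyOfFiniteType Q.hom]

/-- The kernel seen through a monomorphism which carries the unit. -/
theorem ker_of_mono {I X : Over (Spec (CommRingCat.of k))} [GrpObj I] (i : I ⟶ Q) [Mono i.left]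
    (hi : η[I] ≫ i = η[Q]) (g : X ⟶ I) (h : IsAffineHom (pullback.snd (g ≫ i).left η[Q].left)) :
    IsAffineHom (pullback.snd g.left η[I].left) := by
  have hm : IsPullback η[I].left (𝟙 _) i.left η[Q].left := by
    have : η[I].left ≫ i.left = η[Q].left := by rw [← Over.comp_left, hi]
    exact IsPullback.of_vert_isIso_mono ⟨by rw [Category.id_comp]; exact this⟩
  have := (IsPullback.of_hasPullback g.left η[I].left).paste_vert hm
  rw [Category.comp_id, ← Over.comp_left] at this
  rw [← this.isoPullback_hom_snd]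
  haveI := h
  infer_instance

/-- The quasi-compact case. -/
theorem isAffineHom_of_quasiCompact [QuasiCompact P.hom] [QuasiCompact Q.hom] (f : P ⟶ Q) [IsMonHom f]
    (hker : IsAffineHom (pullback.snd f.left η[Q].left)) : IsAffineHom f.left := by
  obtain ⟨I, _, p, i, hp, hi, hpi, hic, hfl, hs, hlft, hqc⟩ := ImageFactor.exists_image f
  haveI := hp; haveI := hi; haveI := hic; haveI := hfl; haveI := hs; haveI := hlft; haveI := hqc
  haveI := AntiAffine.isSeparated_grp I
  haveI : QuasiCompact (p.left ≫ I.hom) := by rw [Over.w p]; infer_instance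
  haveI : QuasiCompact p.left := QuasiCompact.of_comp p.left I.hom
  haveI : IsSeparated (p.left ≫ I.hom) := by rw [Over.w p]; exact AntiAffine.isSeparated_grp P
  haveI : IsSeparated p.left := IsSeparated.of_comp p.left I.hom
  subst hpi
  have hkp := ker_of_mono i (IsMonHom.one_hom i) p hker
  obtain ⟨N, _, n, hn, -, -, hk⟩ := exists_kernel p
  haveI := hn
  have hsq := HomKer.kernel_square n hk
  haveI : IsAffineHom N.hom := by
    rw [← hsq.isoPullback_hom_snd]
    haveI := hkp
    infer_instance
  obtain ⟨e, he, he2⟩ := exists_kernelPair_iso n p hk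
  haveI := he
  haveI : IsAffineHom (pullback.snd p.left p.left) := by
    rw [show pullback.snd p.left p.left = inv e ≫ pullback.snd N.hom P.hom from by
      rw [IsIso.eq_inv_comp]; exact he2]
    haveI : IsAffineHom (pullback.snd N.hom P.hom) := MorphismProperty.pullback_snd _ _ ‹IsAffineHom N.hom›
    infer_instance
  haveI : IsAffineHom p.left := Groth.Agent.H23.FFDescent.isAffineHom_of_baseChange p.left p.left
  rw [Over.comp_left]
  infer_instance

/-- The case of an algebraically closed field. -/
theorem isAffineHom_of_isAlgClosed [IsAlgClosed k] (f : P ⟶ Q) [IsMonHom f] [QuasiCompact f.left]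
    (hker : IsAffineHom (pullback.snd f.left η[Q].left)) : IsAffineHom f.left := by
  classical
  obtain ⟨Q₀, _, i, _, hic, hfl, -, -, hQc⟩ := exists_identityComponent (G := Q)
  haveI : IsLocallyNoetherian Q.left := LocallyOfFiniteType.isLocallyNoetherian Q.hom
  haveI : IsOpenImmersion i.left := IsOpenImmersion.of_flat_of_mono i.left
  haveI : LocallyOfFiniteType Q₀.hom := by rw [← Over.w i]; infer_instance
  haveI : QuasiCompact Q₀.hom := (quasiCompact_iff_compactSpace Q₀.hom).mpr hQc
  let P' : Over (Spec (CommRingCat.of k)) := Over.mk (pullback.fst f.left i.left ≫ P.hom)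
  let j : P' ⟶ P := Over.homMk (pullback.fst f.left i.left) rfl
  let f' : P' ⟶ Q₀ := Over.homMk (pullback.snd f.left i.left) (by
    show pullback.snd f.left i.left ≫ Q₀.hom = pullback.fst f.left i.left ≫ P.hom
    rw [← Over.w i, ← pullback.condition_assoc, Over.w f])
  have hjf : j ≫ f = f' ≫ i := Over.OverMorphism.ext pullback.condition
  haveI : IsOpenImmersion j.left := inferInstanceAs (IsOpenImmersion (pullback.fst f.left i.left))
  haveI : Mono j := (Over.forget _).mono_of_mono_map (inferInstanceAs (Mono j.left))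
  haveI : Mono i := (Over.forget _).mono_of_mono_map (inferInstanceAs (Mono i.left))
  have hlift : ∀ {T : Over (Spec (CommRingCat.of k))} (g : T ⟶ P) (g₀ : T ⟶ Q₀), g ≫ f = g₀ ≫ i →
      ∃ l : T ⟶ P', l ≫ j = g := fun g g₀ hg =>
    ⟨Over.homMk (pullback.lift g.left g₀.left (congrArg CommaMorphism.left hg)) (by
      show pullback.lift _ _ _ ≫ pullback.fst _ _ ≫ P.hom = _
      rw [pullback.lift_fst_assoc, Over.w g]),
      Over.OverMorphism.ext (pullback.lift_fst _ _ _)⟩
  obtain ⟨e₀, he₀⟩ := hlift η[P] η[Q₀] (by rw [IsMonHom.one_hom f, IsMonHom.one_hom i])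
  obtain ⟨m₀, hm₀⟩ := hlift ((fst P' P' ≫ j) * (snd P' P' ≫ j)) ((fst P' P' ≫ f') * (snd P' P' ≫ f')) (by
    simp only [MonObj.mul_comp, Category.assoc, hjf])
  obtain ⟨v₀, hv₀⟩ := hlift j⁻¹ f'⁻¹ (by rw [GrpObj.inv_comp, GrpObj.inv_comp, hjf])
  letI : GrpObj P' := grpObjOfFactor j e₀ he₀ m₀ hm₀ v₀ hv₀
  haveI : IsMonHom f' :=
    { one_hom := by
        rw [← cancel_mono i, Category.assoc, ← hjf, ← Category.assoc, show η[P'] ≫ j = η[P] from he₀,
          IsMonHom.one_hom f, IsMonHom.one_hom i]
      mul_hom := by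
        rw [← cancel_mono i, Category.assoc, ← hjf, ← Category.assoc, show μ[P'] ≫ j = _ from hm₀,
          MonObj.mul_comp, Category.assoc, Category.assoc, Category.assoc, IsMonHom.mul_hom i,
          MonoidalCategory.tensorHom_comp_tensorHom_assoc, ← hjf, Hom.mul_def,
          CartesianMonoidalCategory.lift_fst_comp_snd_comp] }
  haveI : LocallyOfFiniteType P'.hom := inferInstanceAs (LocallyOfFiniteType (pullback.fst f.left i.left ≫ P.hom))
  haveI : QuasiCompact P'.hom := by
    rw [← Over.w f']
    haveI : QuasiCompact f'.left := inferInstanceAs (QuasiCompact (pullback.snd f.left i.left))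
    infer_instance
  have hker' : IsAffineHom (pullback.snd f'.left η[Q₀].left) := by
    have hη : η[Q₀].left ≫ i.left = η[Q].left := by rw [← Over.comp_left, IsMonHom.one_hom i]
    have hsq : IsPullback (pullback.fst f'.left η[Q₀].left ≫ j.left) (pullback.snd f'.left η[Q₀].left)
        f.left (η[Q₀].left ≫ i.left) :=
      (IsPullback.of_hasPullback f'.left η[Q₀].left).paste_horiz (IsPullback.of_hasPullback f.left i.left)
    rw [hη] at hsq
    rw [← hsq.isoPullback_hom_snd]
    haveI := hker
    infer_instance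
  haveI := isAffineHom_of_quasiCompact f' hker'
  have hsmall : ∀ V : Q.left.Opens, IsAffineOpen V → V ≤ i.left.opensRange → IsAffineOpen (f.left ⁻¹ᵁ V) := by
    intro V hV hVi
    have h := ((hV.preimage_of_isOpenImmersion i.left hVi).preimage f'.left).image_of_isOpenImmersion j.left
    have e : f.left ⁻¹ᵁ V = j.left ''ᵁ (f'.left ⁻¹ᵁ (i.left ⁻¹ᵁ V)) := by
      ext y
      constructor
      · intro hy
        obtain ⟨q₀, hq₀⟩ := hVi hy
        obtain ⟨w, hw1, hw2⟩ := Scheme.Pullback.exists_preimage_pullback (f := f.left) (g := i.left) y q₀ hq₀.symm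
        refine ⟨w, ?_, hw1⟩
        show i.left (f'.left w) ∈ V
        rw [show f'.left w = q₀ from hw2, hq₀]
        exact hy
      · rintro ⟨w, hw, rfl⟩
        show f.left (j.left w) ∈ V
        rw [← Scheme.Hom.comp_apply, ← Over.comp_left, hjf]
        exact hw
    rw [e]
    exact h
  haveI : JacobsonSpace Q.left := LocallyOfFiniteType.jacobsonSpace Q.hom
  haveI : JacobsonSpace P.left := LocallyOfFiniteType.jacobsonSpace P.hom
  let cl : Spec (CommRingCat.of k) := IsLocalRing.closedPoint k
  have hrange := HomClosedRange.isClosed_range f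
  have hgood : ∀ q : Q.left, IsClosed ({q} : Set Q.left) →
      ∃ V : Q.left.Opens, q ∈ V ∧ IsAffineOpen V ∧ IsAffineOpen (f.left ⁻¹ᵁ V) := by
    intro q hq
    by_cases hqr : q ∈ Set.range f.left
    · obtain ⟨x₀, hx₀⟩ := hqr
      obtain ⟨x, hxq, hxc⟩ := nonempty_inter_closedPoints (Z := f.left ⁻¹' {q}) ⟨x₀, hx₀⟩
        (hq.preimage f.left.continuous).isLocallyClosed
      let s := (pointEquivClosedPoint P.hom).symm ⟨x, hxc⟩
      let a : 𝟙_ (Over (Spec (CommRingCat.of k))) ⟶ P := Over.homMk s.1 s.2
      have ha : a.left cl = x := congrArg Subtype.val ((pointEquivClosedPoint P.hom).apply_symm_apply ⟨x, hxc⟩)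
      obtain ⟨V, hV, heV, hVi⟩ := exists_isAffineOpen_mem_and_subset
        (show η[Q].left cl ∈ i.left.opensRange from ⟨η[Q₀].left cl, by
          rw [← Scheme.Hom.comp_apply, ← Over.comp_left, IsMonHom.one_hom i]⟩)
      let tQ := (HomFlatLft.rTrans (a ≫ f)).inv
      let tP := (HomFlatLft.rTrans a).inv
      haveI : IsIso tQ.left := inferInstanceAs (IsIso ((Over.forget _).map tQ))
      haveI : IsIso tP.left := inferInstanceAs (IsIso ((Over.forget _).map tP))
      refine ⟨tQ.left ⁻¹ᵁ V, ?_, hV.preimage_of_isIso _, ?_⟩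
      · show tQ.left q ∈ V
        have hq' : q = (a ≫ f).left cl := by
          rw [Over.comp_left, Scheme.Hom.comp_apply, ha]
          exact hxq.symm
        have : (a ≫ f) ≫ tQ = η[Q] := by
          simp [tQ, HomFlatLft.rTrans, MonObj.comp_mul, GrpObj.comp_inv, MonObj.one_eq_one]
        rw [hq', ← left_comp_apply, this]
        exact heV
      · have hc : tP ≫ f = f ≫ tQ := by
          rw [Iso.inv_comp_eq, ← Category.assoc, HomFlatLft.rTrans_comm, Category.assoc, Iso.hom_inv_id,
            Category.comp_id]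
        rw [← Scheme.Hom.comp_preimage, ← Over.comp_left, ← hc, Over.comp_left, Scheme.Hom.comp_preimage]
        exact (hsmall V hV hVi).preimage_of_isIso _
    · obtain ⟨V, hV, hqV, hVsub⟩ := exists_isAffineOpen_mem_and_subset
        (U := (⟨(Set.range f.left)ᶜ, hrange.isOpen_compl⟩ : Q.left.Opens)) hqr
      refine ⟨V, hqV, hV, ?_⟩
      rw [show f.left ⁻¹ᵁ V = ⊥ from eq_bot_iff.mpr fun y hy => hVsub hy ⟨y, rfl⟩]
      exact isAffineOpen_bot _
  refine isAffineHom_of_forall_exists_isAffineOpen f.left fun q => ?_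
  by_contra hq
  push Not at hq
  let O : Set Q.left := ⋃ V : {V : Q.left.Opens // IsAffineOpen V ∧ IsAffineOpen (f.left ⁻¹ᵁ V)}, (V.1 : Set Q.left)
  obtain ⟨c, hcO, hc⟩ := nonempty_inter_closedPoints (Z := Oᶜ) ⟨q, fun h => by
      obtain ⟨⟨V, hV, hfV⟩, hqV⟩ := Set.mem_iUnion.mp h
      exact hq V hqV hV hfV⟩
    (isOpen_iUnion fun V => V.1.2).isClosed_compl.isLocallyClosed
  obtain ⟨V, hcV, hV, hfV⟩ := hgood c hc
  exact hcO (Set.mem_iUnion.mpr ⟨⟨V, hV, hfV⟩, hcV⟩)

/-- A quasi-compact homomorphism with affine kernel is affine. -/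
theorem isAffineHom_of_kernel (f : P ⟶ Q) [IsMonHom f] [QuasiCompact f.left]
    (hker : IsAffineHom (pullback.snd f.left η[Q].left)) : IsAffineHom f.left := by
  let K := AlgebraicClosure k
  let σ : Spec (CommRingCat.of K) ⟶ Spec (CommRingCat.of k) := Spec.map (CommRingCat.ofHom (algebraMap k K))
  haveI : Flat σ := flat_spec_map_field _
  haveI : Surjective σ := surjective_spec_map_field _
  haveI : LocallyOfFiniteType ((Over.pullback σ).obj P).hom :=
    inferInstanceAs (LocallyOfFiniteType (pullback.snd P.hom σ))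
  haveI : LocallyOfFiniteType ((Over.pullback σ).obj Q).hom :=
    inferInstanceAs (LocallyOfFiniteType (pullback.snd Q.hom σ))
  have hsq := HomFibre.map_isPullback f σ
  haveI : QuasiCompact ((Over.pullback σ).map f).left :=
    MorphismProperty.of_isPullback (P := @QuasiCompact) hsq ‹_›
  let g := (pullback.fst Q.hom σ)
  have hη : η[(Over.pullback σ).obj Q].left ≫ g = σ ≫ η[Q].left := by
    rw [show η[(Over.pullback σ).obj Q] = Functor.LaxMonoidal.ε (Over.pullback σ) ≫
      (Over.pullback σ).map η[Q] from rfl]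
    simp [g]
    rw [pullback.lift_fst, ← Category.assoc _ σ, ← pullback.condition, Category.comp_id]
  have hkerK : IsAffineHom (pullback.snd ((Over.pullback σ).map f).left η[(Over.pullback σ).obj Q].left) := by
    have h1 := (IsPullback.of_hasPullback ((Over.pullback σ).map f).left η[(Over.pullback σ).obj Q].left).paste_horiz hsq
    rw [hη] at h1
    have h2 : IsPullback (pullback.fst f.left η[Q].left) (pullback.snd f.left η[Q].left) f.left η[Q].left :=
      IsPullback.of_hasPullback _ _
    exact MorphismProperty.of_isPullback (P := @IsAffineHom.{u}) (h1.of_right' h2) hker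
  haveI := isAffineHom_of_isAlgClosed _ hkerK
  haveI : IsAffineHom (pullback.snd f.left g) := by
    rw [← hsq.isoPullback_inv_snd]
    infer_instance
  haveI : Flat g := inferInstanceAs (Flat (pullback.fst Q.hom σ))
  haveI : Surjective g := inferInstanceAs (Surjective (pullback.fst Q.hom σ))
  haveI := AntiAffine.isSeparated_grp P
  haveI : IsSeparated (f.left ≫ Q.hom) := by rw [Over.w f]; infer_instance
  haveI : IsSeparated f.left := IsSeparated.of_comp f.left Q.hom
  exact Groth.Agent.H23.FFDescent.isAffineHom_of_baseChange f.left g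

end Groth.Agent.GrpSchLib.AffineKer
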