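import Groth.Agent.GrpSchLib.FieldTop

/-! The component of the unit of an arbitrary group scheme over a field. -/

open CategoryTheory AlgebraicGeometry MonoidalCategory CartesianMonoidalCategory MonObj GrpObj
open Limits TopologicalSpace
open scoped CategoryTheory.Obj

namespace Groth.Agent.GrpSchLib

universe u

variable {K : Type u} [Field K] {G : Over (Spec (CommRingCat.of K))} [GrpObj G]

theorem isClosed_hull {V : Set G.left} (hVo : IsOpen V) (hVc : IsCompact V) : IsClosed (hull V) := by
  refine isClosed_of_closure_subset fun x hx => ?_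
  have hxV : x ∈ closure V :=
    closure_minimal (s := hull V) (fun y ⟨c, hc, hcy⟩ => hcy.mem_closed isClosed_closure (subset_closure hc))
      isClosed_closure hx
  obtain ⟨U, hU, hxU, -⟩ := exists_isAffineOpen_mem_and_subset (show x ∈ (⊤ : G.left.Opens) from trivial)
  let W : (Spec Γ(G.left, U)).Opens := ⟨hU.fromSpec ⁻¹' V, hVo.preimage hU.fromSpec.continuous⟩
  have hW : IsCompact (W : Set (Spec Γ(G.left, U))) := by
    rw [hU.fromSpec.isOpenEmbedding.isInducing.isCompact_iff]
    show IsCompact (hU.fromSpec '' (hU.fromSpec ⁻¹' V))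
    rw [Set.image_preimage_eq_inter_range, hU.range_fromSpec]
    exact QuasiSeparatedSpace.inter_isCompact _ _ hVo hVc U.2 hU.isCompact
  obtain ⟨R, f, hf⟩ := isCompact_iff_exists.mp hW
  obtain ⟨φ, rfl⟩ := Spec.map_surjective f
  obtain ⟨y, rfl⟩ : x ∈ Set.range hU.fromSpec := hU.range_fromSpec.symm ▸ hxU
  have hy : y ∈ closure (Set.range (Spec.map φ)) := by
    rw [hf]
    show y ∈ closure (hU.fromSpec ⁻¹' V)
    rw [← hU.fromSpec.isOpenEmbedding.isOpenMap.preimage_closure_eq_closure_preimage
      hU.fromSpec.continuous]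
    exact hxV
  have hy' : RingHom.ker φ.hom ≤ y.asIdeal := by
    have : y ∈ closure (Set.range (PrimeSpectrum.comap φ.hom)) := hy
    rw [PrimeSpectrum.closure_range_comap] at this
    exact (PrimeSpectrum.mem_zeroLocus _ _).mp this
  have : y.asIdeal.IsPrime := PrimeSpectrum.isPrime y
  obtain ⟨q, hq, hqy⟩ := Ideal.exists_minimalPrimes_le hy'
  obtain ⟨p, hp, -, hpq⟩ := Ideal.exists_comap_eq_of_mem_minimalPrimes (I := ⊥) φ.hom q
    (by rw [← RingHom.ker_eq_comap_bot]; exact hq)
  have hc : (Spec.map φ ⟨p, hp⟩ : Spec Γ(G.left, U)) ⤳ y :=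
    (PrimeSpectrum.le_iff_specializes _ _).mp (show p.comap φ.hom ≤ y.asIdeal from hpq ▸ hqy)
  refine ⟨hU.fromSpec (Spec.map φ ⟨p, hp⟩), ?_, hc.map hU.fromSpec.continuous⟩
  exact (hf.subset ⟨_, rfl⟩ : Spec.map φ ⟨p, hp⟩ ∈ (W : Set (Spec Γ(G.left, U))))

variable {g : G.left} (hg : IsMaxPt g) (hge : g ⤳ η[G].left (IsLocalRing.closedPoint K))

include hg hge

theorem connectedComponent_one :
    connectedComponent (η[G].left (IsLocalRing.closedPoint K)) = closure {g} := by
  refine subset_antisymm (fun x hx => ?_)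
    (isIrreducible_singleton.closure.isPreirreducible.isPreconnected.subset_connectedComponent
      hge.mem_closure)
  by_contra hxg
  obtain ⟨gx, hgx, hgxx⟩ := exists_isMaxPt x
  have he : η[G].left (IsLocalRing.closedPoint K) ∉ closure {gx} := fun h => hxg <| by
    rw [hg.eq uniComp hgx hge (specializes_iff_mem_closure.mpr h)]
    exact hgxx.mem_closure
  obtain ⟨V, hV, heV, hVs⟩ := exists_isAffineOpen_mem_and_subset
    (U := (⟨(closure {gx})ᶜ, isClosed_closure.isOpen_compl⟩ : G.left.Opens)) he
  have hclopen : IsClopen (hull (V : Set G.left)) :=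
    ⟨isClosed_hull V.2 hV.isCompact, isOpen_hull V.2⟩
  obtain ⟨c, hcV, hc⟩ := hclopen.connectedComponent_subset ⟨_, heV, specializes_rfl⟩ hx
  exact hVs hcV (hgx.specializes uniComp hgxx hc).mem_closure

theorem closure_mem_irreducibleComponents : closure {g} ∈ irreducibleComponents G.left := by
  refine ⟨isIrreducible_singleton.closure, fun Z hZ hgZ => ?_⟩
  have hgen := hZ.closure.isGenericPoint_genericPoint isClosed_closure
  have : hZ.closure.genericPoint = g :=
    hg _ (hgen.specializes (subset_closure (hgZ (subset_closure rfl))))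
  intro z hz
  rw [← this]
  exact (hgen.specializes (subset_closure hz)).mem_closure

theorem eq_closure_of_mem_irreducibleComponents {Z : Set G.left} (hZ : Z ∈ irreducibleComponents G.left)
    (he : η[G].left (IsLocalRing.closedPoint K) ∈ Z) : Z = closure {g} := by
  refine subset_antisymm (fun z hz => ?_) (hZ.2 isIrreducible_singleton.closure ?_)
  all_goals
    have hgen := hZ.1.isGenericPoint_genericPoint (isClosed_of_mem_irreducibleComponents Z hZ)
    have h := hg.specializes uniComp hge (hgen.specializes he)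
  · exact (h.trans (hgen.specializes hz)).mem_closure
  · exact fun z hz => (h.trans (hgen.specializes hz)).mem_closure

theorem geometricallyIrreducible_one {T : Over (Spec (CommRingCat.of K))} (j : T ⟶ G)
    [IsClosedImmersion j.left] (hj : Set.range j.left = closure {g}) :
    GeometricallyIrreducible T.hom := by
  refine geometricallyIrreducible_of_algClosure T.hom ?_
  let φ := algebraMap K (AlgebraicClosure K)
  let j' : bc T φ ⟶ bc G φ := (Over.pullback (Spec.map (CommRingCat.ofHom φ))).map j
  have : IsClosedImmersion j'.left :=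
    MorphismProperty.baseChange_map (P := @IsClosedImmersion) _ j ‹_›
  have hr : Set.range j'.left = bcProj G φ ⁻¹' closure {g} := by
    have : j'.left = pullback.map _ _ _ _ j.left (𝟙 _) (𝟙 _) (by simp) (by simp) := by
      apply pullback.hom_ext <;> simp [j', pullback.map, pullback.lift_fst, pullback.lift_snd]
    rw [this, Scheme.Pullback.range_map, hj]
    simp
  suffices h : IsIrreducible (bcProj G φ ⁻¹' closure {g}) from
    irreducibleSpace_of_range j' (hr ▸ h)
  have : IsIntegralHom (Spec.map (CommRingCat.ofHom φ)) :=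
    (IsIntegralHom.SpecMap_iff).mpr (algebraMap_isIntegral_iff.mpr inferInstance)
  have hcl : IsClosedMap (bcProj G φ) := (bcProj G φ).isClosedMap
  have key : (bcProj G φ ⁻¹' {η[G].left (IsLocalRing.closedPoint K)}).Subsingleton := by
    have hr : Set.range η[G].left = {η[G].left (IsLocalRing.closedPoint K)} := by
      refine Set.Subset.antisymm ?_ (Set.singleton_subset_iff.mpr ⟨_, rfl⟩)
      rintro _ ⟨y, rfl⟩
      exact congrArg η[G].left (@Subsingleton.elim (Spec (CommRingCat.of K)) inferInstance _ _)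
    rw [← hr, ← Scheme.Pullback.range_snd, ← Set.image_univ]
    refine Set.Subsingleton.image ?_ _
    have : Subsingleton ↥(pullback η[G].left (bcProj G φ)) :=
      ((pullbackRightPullbackFstIso G.hom (Spec.map (CommRingCat.ofHom φ)) η[G].left) ≪≫
        pullback.congrHom (show η[G].left ≫ G.hom = 𝟙 _ from Over.w η[G]) rfl ≪≫
        asIso (pullback.snd (𝟙 _) _)).hom.homeomorph.subsingleton
    exact Set.subsingleton_univ
  have main : ∀ a, a ∈ bcProj G φ ⁻¹' closure {g} →
      ∃ c e', IsMaxPt c ∧ c ⤳ a ∧ c ⤳ e' ∧ bcProj G φ e' = η[G].left (IsLocalRing.closedPoint K) ∧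
        bcProj G φ c = g := by
    intro a ha
    obtain ⟨c, hc, hca⟩ := exists_isMaxPt a
    have hcg : bcProj G φ c = g := (hc.map (bcProj_generalizing φ)).eq uniComp hg
      (hca.map (bcProj G φ).continuous) (specializes_iff_mem_closure.mpr ha)
    obtain ⟨e', he', he''⟩ :=
      (hcg ▸ hge).mem_closed (hcl (closure {c}) isClosed_closure) ⟨c, subset_closure rfl, rfl⟩
    exact ⟨c, e', hc, hca, specializes_iff_mem_closure.mpr he', he'', hcg⟩
  have := surjective_spec_map_field φ
  obtain ⟨g', hgg⟩ := (bcProj G φ).surjective g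
  obtain ⟨c, e', hc, hca, hce, he', hcg⟩ := main g' (by rw [Set.mem_preimage, hgg]; exact subset_closure rfl)
  have : bcProj G φ ⁻¹' closure {g} = closure {c} := by
    refine subset_antisymm (fun a ha => ?_) (closure_minimal ?_ (isClosed_closure.preimage (bcProj G φ).continuous))
    · obtain ⟨c', e'', hc', hca', hce', he'', -⟩ := main a ha
      obtain rfl := key he' he''
      rw [hc.eq uniComp hc' hce hce']
      exact hca'.mem_closure
    · rintro _ rfl
      rw [Set.mem_preimage, hcg]
      exact subset_closure rfl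
  rw [this]
  exact isIrreducible_singleton.closure

theorem mul_mem_closure {p : (G ⊗ G).left} (hp : p ∈ prodSet (closure {g}) (closure {g})) :
    μ[G].left p ∈ closure {g} := by
  obtain ⟨T, j, hj, hjr⟩ := exists_over_range_eq (closure {g}) isClosed_closure
  have := irreducibleSpace_of_range j (hjr ▸ isIrreducible_singleton.closure)
  have := geometricallyIrreducible_one hg hge j hjr
  have : IrreducibleSpace (T ⊗ T).left := inferInstanceAs (IrreducibleSpace ↥(pullback T.hom T.hom))
  have hirr : IsIrreducible (prodSet (closure {g}) (closure {g}) : Set (G ⊗ G).left) := by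
    rw [← hjr, ← range_tensorHom, ← Set.image_univ]
    exact (IrreducibleSpace.isIrreducible_univ _).image _ (j ⊗ₘ j).left.continuous.continuousOn
  have hW := isIrreducible_closure_image μ[G].left.continuous hirr
  have hgen := hW.isGenericPoint_genericPoint isClosed_closure
  have : hW.genericPoint = g := by
    refine hg _ (hgen.specializes (subset_closure ⟨(lift (𝟙 G) (toUnit G ≫ η[G])).left g, ⟨?_, ?_⟩, ?_⟩))
    · rw [Set.mem_preimage, ← left_comp_apply, lift_fst]
      exact subset_closure rfl
    · rw [Set.mem_preimage, ← left_comp_apply, lift_snd, apply_pointSection]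
      exact hge.mem_closure
    · rw [← left_comp_apply, mul_one_section]
      rfl
  exact this ▸ (hgen.specializes (subset_closure ⟨p, hp, rfl⟩)).mem_closure

theorem inv_mem_closure {x : G.left} (hx : x ∈ closure {g}) :
    (GrpObj.inv : G ⟶ G).left x ∈ closure ({g} : Set G.left) := by
  have hι : (GrpObj.inv : G ⟶ G) = (divIso η[G]).hom := by
    simp [divIso, GrpObj.inv_eq_inv, MonObj.one_eq_one, MonObj.comp_one]
  rw [hι]
  have h1 : IsMaxPt ((divIso η[G]).hom.left g) :=
    hg.map (divIso η[G]).hom.left.isOpenEmbedding.generalizingMap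
  have h2 : (divIso η[G]).hom.left g = g :=
    h1.eq uniComp hg (divIso_hom_apply_self η[G] ▸ hge.map (divIso η[G]).hom.left.continuous) hge
  have := (specializes_iff_mem_closure.mpr hx).map (divIso η[G]).hom.left.continuous
  rw [h2] at this
  exact this.mem_closure

theorem exists_mul_eq {x : G.left} (hx : x ∈ closure {g}) {U V : Set G.left} (hU : IsOpen U) (hV : IsOpen V)
    (hUg : (U ∩ closure {g}).Nonempty) (hVg : (V ∩ closure {g}).Nonempty) :
    ∃ p ∈ prodSet U V, μ[G].left p = x := by
  obtain ⟨T, j, hj, hjr⟩ := exists_over_range_eq (closure {g}) isClosed_closure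
  have := geometricallyIrreducible_one hg hge j hjr
  let A := prodSet (closure {g}) (closure {g}) (G := G)
  have hmem : ∀ {a b : G ⊗ G ⟶ G} {q : (G ⊗ G).left}, a.left q ∈ closure {g} → b.left q ∈ closure {g} →
      (a * b).left q ∈ closure {g} := by
    intro a b q ha hb
    rw [Hom.mul_def, left_comp_apply]
    refine mul_mem_closure hg hge ⟨?_, ?_⟩
    · rw [Set.mem_preimage, ← left_comp_apply, lift_fst]; exact ha
    · rw [Set.mem_preimage, ← left_comp_apply, lift_snd]; exact hb
  have hinv : ∀ {a : G ⊗ G ⟶ G} {q : (G ⊗ G).left}, a.left q ∈ closure {g} → a⁻¹.left q ∈ closure {g} := by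
    intro a q ha
    rw [Hom.inv_def, left_comp_apply]
    exact inv_mem_closure hg hge ha
  let h : G ⊗ G ⟶ G ⊗ G := lift (fst G G) ((fst G G)⁻¹ * snd G G)
  have hμ : h ≫ μ[G] = snd G G := by simp [h, ← Hom.mul_def]
  let F := (fun q => h.left q) '' (A ∩ (snd G G).left ⁻¹' {x})
  have hFirr : IsIrreducible F := by
    refine IsIrreducible.image ?_ _ h.left.continuous.continuousOn
    have hrw : A ∩ (snd G G).left ⁻¹' {x} = (j ▷ G).left '' ((snd T G).left ⁻¹' {x}) := by
      have hs : snd T G = j ▷ G ≫ snd G G := by simp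
      have hrange : Set.range (j ▷ G).left = (fst G G).left ⁻¹' closure {g} := by
        have := range_tensorHom j (𝟙 G)
        rw [MonoidalCategory.tensorHom_id] at this
        rw [this, hjr, prodSet]
        simp
      have hpre : (snd T G).left ⁻¹' {x} = (j ▷ G).left ⁻¹' ((snd G G).left ⁻¹' {x}) := by
        rw [hs]; rfl
      rw [hpre, Set.image_preimage_eq_inter_range, hrange]
      ext q
      constructor
      · exact fun h => ⟨h.2, h.1.1⟩
      · exact fun h => ⟨⟨h.2, show (snd G G).left q ∈ closure {g} from (h.1 : _ = x) ▸ hx⟩, h.1⟩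
    rw [hrw]
    refine IsIrreducible.image ?_ _ (j ▷ G).left.continuous.continuousOn
    have : GeometricallyIrreducible (snd T G).left :=
      inferInstanceAs (GeometricallyIrreducible (pullback.snd T.hom G.hom))
    have : UniversallyOpen (snd T G).left :=
      inferInstanceAs (UniversallyOpen (pullback.snd T.hom G.hom))
    exact (snd T G).left.isIrreducible_preimage (snd T G).left.isOpenMap isIrreducible_singleton
  have hpt : ∀ a ∈ closure ({g} : Set G.left), ∀ b ∈ closure ({g} : Set G.left),
      ∃ q ∈ A, (fst G G).left q = a ∧ (snd G G).left q = b := by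
    intro a ha b hb
    obtain ⟨q, h1, h2⟩ := Scheme.Pullback.exists_preimage_pullback (f := G.hom) (g := G.hom) a b
      (@Subsingleton.elim (Spec (CommRingCat.of K)) inferInstance _ _)
    exact ⟨q, ⟨show (pullback.fst G.hom G.hom) q ∈ _ from h1 ▸ ha,
      show (pullback.snd G.hom G.hom) q ∈ _ from h2 ▸ hb⟩, h1, h2⟩
  have h1 : (F ∩ (fst G G).left ⁻¹' U).Nonempty := by
    obtain ⟨u, huU, hu⟩ := hUg
    obtain ⟨q, hqA, hq1, hq2⟩ := hpt u hu x hx
    refine ⟨h.left q, ⟨q, ⟨hqA, hq2⟩, rfl⟩, ?_⟩
    rw [Set.mem_preimage, ← left_comp_apply, lift_fst, hq1]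
    exact huU
  have h2 : (F ∩ (snd G G).left ⁻¹' V).Nonempty := by
    obtain ⟨v, hvV, hv⟩ := hVg
    obtain ⟨q, hqA, hq1, hq2⟩ := hpt x hx v hv
    let f : G ⊗ G ⟶ G ⊗ G := lift (fst G G * (snd G G)⁻¹) (fst G G)
    refine ⟨h.left (f.left q), ⟨f.left q, ⟨⟨?_, ?_⟩, ?_⟩, rfl⟩, ?_⟩
    · rw [Set.mem_preimage, ← left_comp_apply, lift_fst]; exact hmem hqA.1 (hinv hqA.2)
    · rw [Set.mem_preimage, ← left_comp_apply, lift_snd]; exact hqA.1
    · rw [Set.mem_preimage, ← left_comp_apply, lift_snd, hq1]; rfl
    · rw [Set.mem_preimage, ← left_comp_apply, ← left_comp_apply]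
      have : f ≫ h ≫ snd G G = snd G G := by
        simp [f, h, MonObj.comp_mul, GrpObj.comp_inv]
      rw [this, hq2]
      exact hvV
  obtain ⟨p, ⟨q, ⟨hqA, hqx⟩, hqp⟩, hpU, hpV⟩ := hFirr.2 _ _ (hU.preimage (fst G G).left.continuous)
    (hV.preimage (snd G G).left.continuous) h1 h2
  refine ⟨p, ⟨hpU, hpV⟩, ?_⟩
  rw [← hqp, ← left_comp_apply, hμ]
  exact hqx

theorem isCompact_closure_one : IsCompact (closure ({g} : Set G.left)) := by
  obtain ⟨V, hV, heV, -⟩ := exists_isAffineOpen_mem_and_subset
    (show η[G].left (IsLocalRing.closedPoint K) ∈ (⊤ : G.left.Opens) from trivial)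
  let j : Over.mk (V.ι ≫ G.hom) ⟶ G := Over.homMk V.ι rfl
  have : CompactSpace V.toScheme := isCompact_iff_compactSpace.mp hV.isCompact
  have : IsAffine V.toScheme := hV
  have : IsAffineHom (V.ι ≫ G.hom) := isAffineHom_of_isAffine (V.ι ≫ G.hom)
  have : CompactSpace (Over.mk (V.ι ≫ G.hom) ⊗ Over.mk (V.ι ≫ G.hom)).left :=
    inferInstanceAs (CompactSpace ↥(pullback (V.ι ≫ G.hom) (V.ι ≫ G.hom)))
  refine ((isCompact_range (j ⊗ₘ j).left.continuous).image μ[G].left.continuous).of_isClosed_subset
    isClosed_closure fun x hx => ?_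
  obtain ⟨p, hp, hpx⟩ := exists_mul_eq hg hge hx V.2 V.2 ⟨_, heV, hge.mem_closure⟩ ⟨_, heV, hge.mem_closure⟩
  refine ⟨p, ?_, hpx⟩
  rw [range_tensorHom]
  show p ∈ prodSet (Set.range V.ι) (Set.range V.ι)
  rw [Scheme.Opens.range_ι]
  exact hp

end Groth.Agent.GrpSchLib
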