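import Groth.Agent.GrpSchLib.AntiAffine
import Groth.Agent.GrpSchLib.FieldComp
import Groth.Prelude.Def_Red

/-! Maps out of anti-affine groups: homomorphisms and centrality. -/

universe u

open CategoryTheory Limits AlgebraicGeometry MonoidalCategory CartesianMonoidalCategory MonObj GrpObj

namespace Groth.Agent.GrpSchLib.AntiAffine

variable {k : Type u} [Field k]

theorem isSeparated_grp (G : Over (Spec (CommRingCat.of k))) [GrpObj G] : IsSeparated G.hom :=
  (isSeparated_iff G.hom).mpr ((diagonal_iff_unit @IsClosedImmersion).mpr inferInstance)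

theorem one_comp {H G : Over (Spec (CommRingCat.of k))} [GrpObj H] [GrpObj G] (f : H ⟶ G) (hf : η[H] ≫ f = 1)
    (X : Over (Spec (CommRingCat.of k))) : (1 : X ⟶ H) ≫ f = 1 := by
  rw [show (1 : X ⟶ H) = toUnit X ≫ η[H] from rfl, Category.assoc, hf, MonObj.comp_one]

theorem isMonHom_of_one_algClosed [IsAlgClosed k] {H G : Over (Spec (CommRingCat.of k))} [GrpObj H] [GrpObj G]
    [LocallyOfFiniteType H.hom] [QuasiCompact H.hom] (hH : Function.Bijective H.hom.appTop) (f : H ⟶ G)
    (hf : η[H] ≫ f = 1) : IsMonHom f := by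
  haveI := isSeparated_grp G
  haveI := isSeparated_grp H
  haveI := connectedSpace_of_bijective hH
  let φ : H ⊗ H ⟶ G := (fst H H ≫ f) * (snd H H ≫ f) * ((fst H H * snd H H) ≫ f)⁻¹
  have hl : lift (𝟙 H) (toUnit H ≫ η[H]) ≫ φ = 1 := by
    simp only [φ, MonObj.comp_mul, GrpObj.comp_inv, ← Category.assoc, lift_fst, lift_snd]
    rw [show toUnit H ≫ η[H] = (1 : H ⟶ H) from rfl, one_comp f hf, _root_.mul_one, _root_.mul_one, Category.id_comp,
      mul_inv_cancel]
  have hr : lift (toUnit H ≫ η[H]) (𝟙 H) ≫ φ = 1 := by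
    simp only [φ, MonObj.comp_mul, GrpObj.comp_inv, ← Category.assoc, lift_fst, lift_snd]
    rw [show toUnit H ≫ η[H] = (1 : H ⟶ H) from rfl, one_comp f hf, _root_.one_mul, _root_.one_mul, Category.id_comp,
      mul_inv_cancel]
  have key := AntiAffineRigid.factor hH φ η[H] η[H] 1 (hl.trans (MonObj.comp_one _).symm)
  rw [hr, MonObj.comp_one] at key
  have hmul : (fst H H * snd H H) ≫ f = (fst H H ≫ f) * (snd H H ≫ f) := (mul_inv_eq_one.mp key).symm
  refine ⟨hf, ?_⟩
  have e : lift (fst H H) (snd H H) = 𝟙 (H ⊗ H) := lift_fst_snd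
  have e2 : μ[H] = fst H H * snd H H := by rw [Hom.mul_def, e, Category.id_comp]
  rw [e2, hmul, Hom.mul_def, ← lift_map, e, Category.id_comp]

theorem commute_algClosed [IsAlgClosed k] {H G : Over (Spec (CommRingCat.of k))} [GrpObj H] [GrpObj G]
    [LocallyOfFiniteType H.hom] [QuasiCompact H.hom] (hH : Function.Bijective H.hom.appTop)
    [LocallyOfFiniteType G.hom] [PreconnectedSpace G.left] (f : H ⟶ G) (hf : η[H] ≫ f = 1) :
    (fst H G ≫ f) * snd H G = snd H G * (fst H G ≫ f) := by
  haveI := isSeparated_grp G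
  haveI := isSeparated_grp H
  let φ : H ⊗ G ⟶ G := (fst H G ≫ f) * snd H G * (fst H G ≫ f)⁻¹ * (snd H G)⁻¹
  have hl : lift (𝟙 H) (toUnit H ≫ η[G]) ≫ φ = 1 := by
    simp only [φ, MonObj.comp_mul, GrpObj.comp_inv, ← Category.assoc, lift_fst, lift_snd]
    rw [show toUnit H ≫ η[G] = (1 : H ⟶ G) from rfl]
    simp
  have hr : lift (toUnit G ≫ η[H]) (𝟙 G) ≫ φ = 1 := by
    simp only [φ, MonObj.comp_mul, GrpObj.comp_inv, ← Category.assoc, lift_fst, lift_snd]
    rw [Category.assoc (toUnit G) η[H] f, hf, MonObj.comp_one]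
    simp
  have key := AntiAffineRigid.factor hH φ η[H] η[G] 1 (hl.trans (MonObj.comp_one _).symm)
  rw [hr, MonObj.comp_one] at key
  exact mul_inv_eq_iff_eq_mul.mp (mul_inv_eq_one.mp key)

theorem connectedSpace_bc (G : Over (Spec (CommRingCat.of k))) [GrpObj G] [ConnectedSpace G.left]
    {K : Type u} [Field K] (φ : k →+* K) :
    ConnectedSpace ↥(Red.bc (Spec.map (CommRingCat.ofHom φ)) G).left := by
  obtain ⟨g, hg, hge⟩ := exists_isMaxPt (η[G].left (IsLocalRing.closedPoint k))
  have h := connectedComponent_one hg hge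
  rw [PreconnectedSpace.connectedComponent_eq_univ] at h
  obtain ⟨T, j, hj, hrange⟩ := exists_over_range_eq (G := G) (closure {g}) isClosed_closure
  haveI := hj
  haveI := geometricallyIrreducible_one hg hge j hrange
  haveI : Surjective j.left := ⟨by rw [← Set.range_eq_univ, hrange, h]⟩
  let σ := Spec.map (CommRingCat.ofHom φ)
  haveI : IrreducibleSpace ↥(pullback T.hom σ) :=
    GeometricallyIrreducible.geometrically_irreducibleSpace (f := T.hom) σ _ _ (IsPullback.of_hasPullback _ _)
  haveI : Surjective ((Over.pullback σ).map j).left :=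
    MorphismProperty.baseChange_map (P := @Surjective) σ j inferInstance
  haveI : ConnectedSpace ↥((Over.pullback σ).obj T).left := inferInstanceAs (ConnectedSpace ↥(pullback T.hom σ))
  exact Function.Surjective.connectedSpace ((Over.pullback σ).map j).left.surjective
    ((Over.pullback σ).map j).left.continuous

section Descent

variable {H G : Over (Spec (CommRingCat.of k))} [GrpObj H] [GrpObj G]

theorem map_one_comp (σ : Spec (CommRingCat.of (AlgebraicClosure k)) ⟶ Spec (CommRingCat.of k)) (f : H ⟶ G)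
    (hf : η[H] ≫ f = 1) : η[Red.bc σ H] ≫ (Over.pullback σ).map f = 1 := by
  let F := Over.pullback σ
  have h1 : (1 : F.obj H ⟶ F.obj H) ≫ F.map f = 1 := by
    rw [← map_one F.homMonoidHom]
    show F.map 1 ≫ F.map f = _
    rw [← F.map_comp, one_comp f hf]
    exact map_one F.homMonoidHom
  have h2 : η[F.obj H] ≫ (1 : F.obj H ⟶ F.obj H) = η[F.obj H] :=
    (MonObj.comp_one _).trans (MonObj.one_eq_one _).symm
  calc η[F.obj H] ≫ F.map f = (η[F.obj H] ≫ (1 : F.obj H ⟶ F.obj H)) ≫ F.map f := by rw [h2]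
    _ = 1 := by rw [Category.assoc, h1, MonObj.comp_one]

variable [LocallyOfFiniteType H.hom] [QuasiCompact H.hom]

theorem bc_hyp (hH : Function.Bijective H.hom.appTop) (σ : Spec (CommRingCat.of (AlgebraicClosure k)) ⟶ Spec (CommRingCat.of k)) :
    LocallyOfFiniteType (Red.bc σ H).hom ∧ QuasiCompact (Red.bc σ H).hom ∧
      Function.Bijective (Red.bc σ H).hom.appTop := by
  haveI := isSeparated_grp H
  exact ⟨inferInstanceAs (LocallyOfFiniteType (pullback.snd H.hom σ)),
    inferInstanceAs (QuasiCompact (pullback.snd H.hom σ)), bijective_appTop_snd hH σ⟩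

/-- A pointed map out of an anti-affine group is a homomorphism. -/
theorem isMonHom_of_one (hH : Function.Bijective H.hom.appTop) (f : H ⟶ G) (hf : η[H] ≫ f = 1) : IsMonHom f := by
  let σ := Spec.map (CommRingCat.ofHom (algebraMap k (AlgebraicClosure k)))
  obtain ⟨h1, h2, h3⟩ := bc_hyp hH σ
  haveI := h1
  haveI := h2
  let F := Over.pullback σ
  haveI : IsMonHom (F.map f) := isMonHom_of_one_algClosed h3 (F.map f) (map_one_comp σ f hf)
  have hmul : (fst H H * snd H H) ≫ f = (fst H H ≫ f) * (snd H H ≫ f) := by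
    refine eq_of_map_eq (algebraMap k (AlgebraicClosure k)) ?_
    show F.map _ = F.homMonoidHom _
    rw [map_mul, F.map_comp]
    show F.homMonoidHom (fst H H * snd H H) ≫ F.map f = _
    rw [map_mul, MonObj.mul_comp]
    show (F.map _ ≫ F.map f) * (F.map _ ≫ F.map f) = F.map _ * F.map _
    rw [← F.map_comp, ← F.map_comp]
  refine ⟨hf, ?_⟩
  have e : lift (fst H H) (snd H H) = 𝟙 (H ⊗ H) := lift_fst_snd
  have e2 : μ[H] = fst H H * snd H H := by rw [Hom.mul_def, e, Category.id_comp]
  rw [e2, hmul, Hom.mul_def, ← lift_map, e, Category.id_comp]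

/-- An anti-affine group maps into the centre of a connected group. -/
theorem commute (hH : Function.Bijective H.hom.appTop) [LocallyOfFiniteType G.hom] [ConnectedSpace G.left]
    (f : H ⟶ G) (hf : η[H] ≫ f = 1) {T : Over (Spec (CommRingCat.of k))} (a : T ⟶ H) (b : T ⟶ G) :
    (a ≫ f) * b = b * (a ≫ f) := by
  let σ := Spec.map (CommRingCat.ofHom (algebraMap k (AlgebraicClosure k)))
  obtain ⟨h1, h2, h3⟩ := bc_hyp hH σ
  haveI := h1
  haveI := h2
  haveI : LocallyOfFiniteType (Red.bc σ G).hom := inferInstanceAs (LocallyOfFiniteType (pullback.snd G.hom σ))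
  haveI := connectedSpace_bc G (algebraMap k (AlgebraicClosure k))
  let F := Over.pullback σ
  have hc := commute_algClosed h3 (F.map f) (map_one_comp σ f hf)
  have key := congrArg (lift (F.map a) (F.map b) ≫ ·) hc
  simp only [MonObj.comp_mul, ← Category.assoc, lift_fst, lift_snd] at key
  rw [← F.map_comp, show lift (F.map a) (F.map b) ≫ snd (Red.bc σ H) (F.obj G) = F.map b from lift_snd _ _] at key
  refine eq_of_map_eq (algebraMap k (AlgebraicClosure k)) ?_
  show F.homMonoidHom ((a ≫ f) * b) = F.homMonoidHom (b * (a ≫ f))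
  rw [map_mul, map_mul]
  exact key

end Descent

end Groth.Agent.GrpSchLib.AntiAffine

namespace Groth.Agent.GrpSchLib.AntiAffine

variable {k : Type u} [Field k]

/-- Maps from a scheme with constant functions to an affine scheme are constant. -/
theorem eq_const_of_isAffine {X Z : Over (Spec (CommRingCat.of k))} [IsAffine Z.left]
    (hX : Function.Bijective X.hom.appTop) (a : X ⟶ Z) (x₀ : 𝟙_ (Over (Spec (CommRingCat.of k))) ⟶ X) :
    a = toUnit X ≫ x₀ ≫ a := by
  have hw : X.hom.appTop ≫ x₀.left.appTop = 𝟙 _ := by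
    rw [← Scheme.Hom.comp_appTop, show x₀.left ≫ X.hom = 𝟙 _ from Over.w x₀]
    rfl
  have hsec : ∀ c, x₀.left.appTop (X.hom.appTop c) = c := fun c => congr($hw c)
  have hinj : Function.Injective x₀.left.appTop := fun c d hcd => by
    obtain ⟨c, rfl⟩ := hX.2 c
    obtain ⟨d, rfl⟩ := hX.2 d
    exact congrArg X.hom.appTop ((hsec c).symm.trans (hcd.trans (hsec d)))
  refine Over.OverMorphism.ext (ext_of_isAffine ?_)
  ext z
  apply hinj
  show x₀.left.appTop (a.left.appTop z) = x₀.left.appTop (X.hom.appTop (x₀.left.appTop (a.left.appTop z)))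
  rw [hsec]

end Groth.Agent.GrpSchLib.AntiAffine
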