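import Groth.Agent.GrpSchLib.TensorDomain
import Groth.Agent.FDescent.Generalizing
import Mathlib.AlgebraicGeometry.Geometrically.Irreducible
import Mathlib.AlgebraicGeometry.Morphisms.Flat
import Mathlib.AlgebraicGeometry.Morphisms.UniversallyOpen
import Mathlib.AlgebraicGeometry.Properties
import Mathlib.FieldTheory.IsAlgClosed.AlgebraicClosure
import Mathlib.AlgebraicGeometry.PullbackCarrier

/-! Irreducible schemes over algebraically closed fields are geometrically irreducible. -/

open CategoryTheory AlgebraicGeometry Limits TensorProduct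

namespace Groth.Agent.GrpSchLib

universe u

theorem flat_spec_map_field {K L : Type u} [Field K] [CommRing L] (φ : K →+* L) :
    Flat (Spec.map (CommRingCat.ofHom φ)) := by
  rw [HasRingHomProperty.Spec_iff (P := @Flat)]
  show φ.Flat
  let := φ.toAlgebra
  show Module.Flat K L
  infer_instance

theorem surjective_spec_map_field {K L : Type u} [Field K] [CommRing L] [Nontrivial L] (φ : K →+* L) :
    Surjective (Spec.map (CommRingCat.ofHom φ)) :=
  ⟨Function.surjective_to_subsingleton (α := Spec (CommRingCat.of L)) (β := Spec (CommRingCat.of K)) _⟩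

theorem irreducibleSpace_pullback_of_isAlgClosed {K : Type u} [Field K] [IsAlgClosed K] {X : Scheme.{u}}
    (f : X ⟶ Spec (CommRingCat.of K)) [IrreducibleSpace X] {L : Type u} [Field L] (φ : K →+* L) :
    IrreducibleSpace ↥(pullback f (Spec.map (CommRingCat.ofHom φ))) := by
  let p := pullback.fst f (Spec.map (CommRingCat.ofHom φ))
  have := flat_spec_map_field φ
  refine Groth.Agent.FDescent.irreducible_of_generic_fibre (f := p) (Flat.generalizingMap p) ?_
  let ι := X.fromSpecResidueField (genericPoint X)
  have hr : p ⁻¹' {genericPoint X} = Set.range (pullback.snd ι p) := by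
    rw [Scheme.Pullback.range_snd, Scheme.range_fromSpecResidueField]
  rw [hr, ← Set.image_univ]
  obtain ⟨s, hs⟩ := Spec.map_surjective (ι ≫ f)
  let : Algebra K (X.residueField (genericPoint X)) := s.hom.toAlgebra
  let : Algebra K L := φ.toAlgebra
  have : IsDomain (X.residueField (genericPoint X) ⊗[K] L) := isDomain_tensor_of_isAlgClosed
  have h1 : IrreducibleSpace ↥(pullback (ι ≫ f) (Spec.map (CommRingCat.ofHom φ))) := by
    rw [← hs]
    exact (pullbackSpecIso K (X.residueField (genericPoint X)) L).hom.homeomorph.irreducibleSpace_iff.mpr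
      (inferInstanceAs (IrreducibleSpace (PrimeSpectrum (X.residueField (genericPoint X) ⊗[K] L))))
  have : IrreducibleSpace ↥(pullback ι p) :=
    (pullbackRightPullbackFstIso f (Spec.map (CommRingCat.ofHom φ)) ι).hom.homeomorph.irreducibleSpace_iff.mpr h1
  exact (IrreducibleSpace.isIrreducible_univ _).image _ (pullback.snd ι p).continuous.continuousOn

theorem geometricallyIrreducible_of_isAlgClosed {K : Type u} [Field K] [IsAlgClosed K] {X : Scheme.{u}}
    (f : X ⟶ Spec (CommRingCat.of K)) [IrreducibleSpace X] : GeometricallyIrreducible f := by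
  refine ⟨geometrically_iff_of_isClosedUnderIsomorphisms.mpr fun L _ x => ?_⟩
  obtain ⟨φ, rfl⟩ := Spec.map_surjective x
  exact irreducibleSpace_pullback_of_isAlgClosed f φ.hom

theorem geometricallyIrreducible_of_algClosure {K : Type u} [Field K] {X : Scheme.{u}}
    (f : X ⟶ Spec (CommRingCat.of K))
    (h : IrreducibleSpace ↥(pullback f (Spec.map (CommRingCat.ofHom (algebraMap K (AlgebraicClosure K)))))) :
    GeometricallyIrreducible f := by
  refine ⟨geometrically_iff_of_isClosedUnderIsomorphisms.mpr fun L _ x => ?_⟩
  obtain ⟨φ, rfl⟩ := Spec.map_surjective x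
  let : Algebra K L := φ.hom.toAlgebra
  let ψ : AlgebraicClosure K →ₐ[K] AlgebraicClosure L := IsAlgClosed.lift
  let s := Spec.map (CommRingCat.ofHom (algebraMap L (AlgebraicClosure L)))
  let g := Spec.map (CommRingCat.ofHom (algebraMap K (AlgebraicClosure K)))
  let t := Spec.map (CommRingCat.ofHom ψ.toRingHom)
  have hts : t ≫ g = s ≫ Spec.map φ := by
    rw [← Spec.map_comp, ← Spec.map_comp]
    congr 1
    ext k
    show ψ (algebraMap K (AlgebraicClosure K) k) = algebraMap L (AlgebraicClosure L) (φ.hom k)
    rw [ψ.commutes, IsScalarTower.algebraMap_apply K L (AlgebraicClosure L)]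
    rfl
  have h1 : IrreducibleSpace ↥(pullback (pullback.snd f g) t) :=
    irreducibleSpace_pullback_of_isAlgClosed _ ψ.toRingHom
  have : IrreducibleSpace ↥(pullback (pullback.snd f (Spec.map φ)) s) :=
    ((pullbackLeftPullbackSndIso f g t) ≪≫ pullback.congrHom rfl hts ≪≫
      (pullbackLeftPullbackSndIso f (Spec.map φ) s).symm).hom.homeomorph.irreducibleSpace_iff.mp h1
  have : Surjective s := surjective_spec_map_field _
  rw [irreducibleSpace_def, Set.top_eq_univ, ← (pullback.fst (pullback.snd f (Spec.map φ)) s).surjective.range_eq,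
    ← Set.image_univ]
  exact (IrreducibleSpace.isIrreducible_univ _).image _
    (pullback.fst (pullback.snd f (Spec.map φ)) s).continuous.continuousOn

end Groth.Agent.GrpSchLib
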