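import Mathlib.AlgebraicGeometry.Morphisms.Smooth
import Mathlib.AlgebraicGeometry.Geometrically.Reduced
import Mathlib.RingTheory.RingHom.StandardSmooth
import Mathlib.RingTheory.Unramified.Field
import Mathlib.RingTheory.Flat.Basic
import Mathlib.RingTheory.Etale.Basic

/-! Smooth schemes over a field are geometrically reduced. -/

open CategoryTheory AlgebraicGeometry TensorProduct Limits

namespace Groth.Agent.GrpSchLib

universe u

theorem isReduced_of_isStandardSmooth (k A : Type u) [Field k] [CommRing A] [Algebra k A]
    [Algebra.IsStandardSmooth k A] : _root_.IsReduced A := by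
  obtain ⟨ι, σ, _, _, ⟨P⟩⟩ := ‹Algebra.IsStandardSmooth k A›.out
  have : Algebra.IsStandardSmoothOfRelativeDimension P.dimension k A :=
    ⟨ι, σ, inferInstance, inferInstance, P, rfl⟩
  obtain ⟨g, hg⟩ := Algebra.IsStandardSmoothOfRelativeDimension.exists_etale_mvPolynomial (n := P.dimension) k A
  let Q := MvPolynomial (Fin P.dimension) k
  let : Algebra Q A := g.toRingHom.toAlgebra
  have : Algebra.Etale Q A := hg
  let F := FractionRing Q
  have : _root_.IsReduced (F ⊗[Q] A) := Algebra.FormallyUnramified.isReduced_of_field F _
  exact isReduced_of_injective (Algebra.TensorProduct.includeRight : A →ₐ[Q] F ⊗[Q] A)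
    (Algebra.TensorProduct.includeRight_injective (IsFractionRing.injective Q F))

theorem isReduced_of_smooth_field {K : Type u} [Field K] {X : Scheme.{u}}
    (f : X ⟶ Spec (CommRingCat.of K)) [Smooth f] : AlgebraicGeometry.IsReduced X := by
  choose U hU V hV hx e hf using Smooth.exists_isStandardSmooth f
  have key : ∀ x, _root_.IsReduced Γ(X, V x) := by
    intro x
    have hUtop : U x = ⊤ := top_unique fun y _ =>
      (@Subsingleton.elim (Spec (CommRingCat.of K)) inferInstance y (f x)).symm ▸ e x (hx x)
    have hfield : IsField Γ(Spec (CommRingCat.of K), U x) := by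
      rw [hUtop]
      exact (Scheme.ΓSpecIso (CommRingCat.of K)).commRingCatIsoToRingEquiv.toMulEquiv.isField
        (Field.toIsField K)
    let := hfield.toField
    let : Algebra Γ(Spec (CommRingCat.of K), U x) Γ(X, V x) := (f.appLE (U x) (V x) (e x)).hom.toAlgebra
    have : Algebra.IsStandardSmooth Γ(Spec (CommRingCat.of K), U x) Γ(X, V x) := hf x
    exact isReduced_of_isStandardSmooth Γ(Spec (CommRingCat.of K), U x) Γ(X, V x)
  have : ∀ x, AlgebraicGeometry.IsReduced (Scheme.Opens.toScheme (V x)) := fun x => by
    have := key x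
    exact isReduced_of_isOpenImmersion (hV x).isoSpec.hom
  exact @IsReduced.of_openCover _ (X.openCoverOfIsOpenCover V
    (.mk (top_unique fun x _ => TopologicalSpace.Opens.mem_iSup.mpr ⟨x, hx x⟩))) this

theorem geometricallyReduced_of_smooth {K : Type u} [Field K] {X : Scheme.{u}}
    (f : X ⟶ Spec (CommRingCat.of K)) [Smooth f] : GeometricallyReduced f := by
  constructor
  intro L _ y P fst snd h
  have : Smooth snd := MorphismProperty.of_isPullback h inferInstance
  exact isReduced_of_smooth_field snd

end Groth.Agent.GrpSchLib
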