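import Groth.Agent.H23.EqvUnr
import Groth.Prelude.Def_W4bk4git07Quot
import Mathlib.AlgebraicGeometry.Morphisms.FlatDescent
import Mathlib.AlgebraicGeometry.Morphisms.Separated

/-! An equivariant morphism of torsors over a morphism of bases makes a cartesian square. -/

set_option backward.isDefEq.respectTransparency.types false

open CategoryTheory AlgebraicGeometry Limits MonoidalCategory CartesianMonoidalCategory

namespace Groth.Agent.GrpSchLib.TorsorMap

universe u

variable {S : Scheme.{u}} {H : Over S} [GrpObj H]

/-- The square of a principal bundle. -/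
theorem isPullback_of_isIso_psiY {X Y : Over S} (a : AlgGrp.Action H X) (q : X ⟶ Y) (hinv : GIT.IsInvariant a q)
    (h : IsIso (GIT.PsiY a q hinv)) : IsPullback a.act.left (snd H X).left q.left q.left :=
  haveI := h
  IsPullback.of_iso_pullback ⟨hinv.left⟩ (asIso (GIT.PsiY a q hinv))
    (pullback.lift_fst _ _ _) (pullback.lift_snd _ _ _)

/-- A morphism over `B` which becomes an isomorphism after a faithfully flat quasi-compact base change is one. -/
theorem isIso_of_bc {P P' W W' : Scheme.{u}} (c : P ⟶ W) (π : W' ⟶ W) [Surjective π] [Flat π] [QuasiCompact π]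
    (l : P' ⟶ P) (e : P' ⟶ W') (h : IsPullback l e c π) [IsIso e] : IsIso c := by
  have hsnd : IsIso (pullback.snd c π) := by
    rw [← h.isoPullback_inv_snd]
    infer_instance
  exact MorphismProperty.of_pullback_snd_of_descendsAlong (P := MorphismProperty.isomorphisms Scheme)
    (Q := @Surjective ⊓ @Flat ⊓ @QuasiCompact) (f := c) (g := π) ⟨⟨‹_›, ‹_›⟩, ‹_›⟩ hsnd

/-- An equivariant morphism of principal bundles makes a cartesian square. -/
theorem isPullback_of_equivariant {P P' A A' : Over S} (a : AlgGrp.Action H P) (a' : AlgGrp.Action H P')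
    (q : P ⟶ A) (q' : P' ⟶ A') [Surjective q.left] [Flat q.left] [QuasiCompact q.left]
    (hq : IsPullback a.act.left (snd H P).left q.left q.left)
    (hq' : IsPullback a'.act.left (snd H P').left q'.left q'.left)
    (φ : P ⟶ P') (hφ : (H ◁ φ) ≫ a'.act = a.act ≫ φ) (m : A ⟶ A') (hm : q ≫ m = φ ≫ q') :
    IsPullback φ.left q.left q'.left m.left := by
  have hw : φ.left ≫ q'.left = q.left ≫ m.left := by rw [← Over.comp_left, ← hm, Over.comp_left]
  let c : P.left ⟶ pullback q'.left m.left := pullback.lift φ.left q.left hw
  have hc1 : c ≫ pullback.fst q'.left m.left = φ.left := pullback.lift_fst _ _ _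
  have hc2 : c ≫ pullback.snd q'.left m.left = q.left := pullback.lift_snd _ _ _
  have s1 : IsPullback (a.act ≫ φ).left (snd H P).left q'.left (φ ≫ q').left := by
    rw [← hφ, Over.comp_left, Over.comp_left]
    exact (Groth.Agent.H23.EqvUnr.isPullback_whiskerLeft H φ).paste_horiz hq'
  have s2 : IsPullback (a.act.left ≫ c) (snd H P).left (pullback.snd q'.left m.left) q.left := by
    refine IsPullback.of_right ?_ ?_ (IsPullback.of_hasPullback q'.left m.left)
    · rw [Category.assoc, hc1, ← Over.comp_left]
      have e : q.left ≫ m.left = (φ ≫ q').left := by rw [← hm, Over.comp_left]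
      rw [e]
      exact s1
    · rw [Category.assoc, hc2]
      exact hq.w
  haveI : Surjective (a.act.left ≫ c) := MorphismProperty.of_isPullback (P := @Surjective) s2.flip ‹_›
  haveI : Flat (a.act.left ≫ c) := MorphismProperty.of_isPullback (P := @Flat) s2.flip ‹_›
  haveI : QuasiCompact (a.act.left ≫ c) := MorphismProperty.of_isPullback (P := @QuasiCompact) s2.flip ‹_›
  have s3 : IsPullback a.act.left (𝟙 (H ⊗ P).left) c (a.act.left ≫ c) := by
    refine IsPullback.of_bot ?_ (by rw [Category.id_comp]) s2
    rw [Category.id_comp, hc2]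
    exact hq
  haveI : IsIso c := isIso_of_bc c (a.act.left ≫ c) a.act.left (𝟙 _) s3
  exact IsPullback.of_iso_pullback ⟨hw⟩ (asIso c) hc1 hc2

end Groth.Agent.GrpSchLib.TorsorMap
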