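import Groth.Agent.AGFLib.LargestNormal
import Groth.Agent.GrpSchLib.AffineKer
import Groth.Agent.GrpSchLib.AntiAffineHom
import Groth.Agent.GrpSchLib.SmoothReduced
import Groth.Agent.GrpSchLib.TorsorMap
import Groth.Agent.GrpSchLib.GeomIrr
import Groth.Agent.H23.BcComp
import Groth.Agent.H23.RedSub
import Groth.Agent.GeomField.Irreducible
import Groth.Agent.EtFound.Descent
import Groth.Agent.EtRam7.Reflect
import Groth.Agent.S2536
import Mathlib.FieldTheory.IsSepClosed

/-! The largest smooth connected affine normal subgroup commutes with separable algebraic extensions. -/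

set_option backward.isDefEq.respectTransparency false
set_option backward.isDefEq.respectTransparency.types false
set_option linter.style.haveILetI false
set_option maxHeartbeats 1000000

universe u

open CategoryTheory Limits AlgebraicGeometry MonoidalCategory CartesianMonoidalCategory MonObj GrpObj

namespace Groth.Agent.GrpSchLib.LargestNormalSep

section General

variable {S T : Scheme.{u}}

/-- The image of the base change of a morphism. -/
theorem range_map (τ : T ⟶ S) {A B : Over S} (j : A ⟶ B) :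
    Set.range ((Over.pullback τ).map j).left = pullback.fst B.hom τ ⁻¹' Set.range j.left := by
  have sq : IsPullback (pullback.fst A.hom τ) ((Over.pullback τ).map j).left j.left (pullback.fst B.hom τ) := by
    refine IsPullback.of_bot ?_ (pullback.lift_fst _ _ _).symm (IsPullback.of_hasPullback B.hom τ)
    rw [show ((Over.pullback τ).map j).left ≫ pullback.snd B.hom τ = pullback.snd A.hom τ from pullback.lift_snd _ _ _,
      Over.w j]
    exact IsPullback.of_hasPullback A.hom τ
  ext x
  constructor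
  · rintro ⟨y, rfl⟩
    refine ⟨pullback.fst A.hom τ y, ?_⟩
    exact ((Scheme.Hom.comp_apply _ _ _).symm.trans
      ((congrArg (fun q => q y) sq.w).trans (Scheme.Hom.comp_apply _ _ _)))
  · rintro ⟨y, hy⟩
    obtain ⟨z, -, hz⟩ := Scheme.Pullback.exists_preimage_pullback (f := j.left) (g := pullback.fst B.hom τ) y x hy
    refine ⟨sq.isoPullback.inv z, ?_⟩
    exact ((Scheme.Hom.comp_apply _ _ _).symm.trans (congrArg (fun q => q z) sq.isoPullback_inv_snd)).trans hz

theorem pullbackComp_inv_fst {U : Scheme.{u}} (f : U ⟶ T) (g : T ⟶ S) (A : Over S) :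
    ((Over.pullbackComp f g).inv.app A).left ≫ pullback.fst A.hom (f ≫ g) =
      pullback.fst _ f ≫ pullback.fst A.hom g := by
  simp [Over.pullbackComp, Over.mapPullbackAdj, Over.mapComp, conjugateIsoEquiv]
  exact Category.id_comp _

/-- Normality is preserved by base change. -/
theorem isNormalHom_map (τ : T ⟶ S) {A B : Over S} [GrpObj A] [GrpObj B] (j : A ⟶ B) [IsMonHom j]
    (hn : AlgGrp.IsNormalHom j) :
    @AlgGrp.IsNormalHom _ (Red.bc τ A) (Red.bc τ B) _ _ ((Over.pullback τ).map j) := by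
  intro W g n
  let F := Over.pullback τ
  obtain ⟨c, hc⟩ := hn (B ⊗ A) (fst B A) (snd B A)
  let t : W ⟶ F.obj (B ⊗ A) := lift g n ≫ Functor.LaxMonoidal.μ F B A
  refine ⟨t ≫ F.map c, ?_⟩
  have h := congrArg F.map hc
  rw [F.map_mul, F.map_mul, show F.map (fst B A)⁻¹ = (F.map (fst B A))⁻¹ from
    (F.homMonoidHom (X := B ⊗ A) (M := B)).map_inv _, F.map_comp, F.map_comp] at h
  rw [Category.assoc, ← h]
  have h1 : t ≫ F.map (fst B A) = g := by simp [t]; exact lift_fst _ _
  have h2 : t ≫ F.map (snd B A) = n := by simp [t]; exact lift_snd _ _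
  show g * (n ≫ F.map j) * g⁻¹ = _
  rw [MonObj.comp_mul, MonObj.comp_mul, GrpObj.comp_inv, ← Category.assoc t, h1, h2]

/-- Normality is transported by isomorphisms of the ambient group. -/
theorem isNormalHom_comp_iso {A B B' : Over S} [GrpObj A] [GrpObj B] [GrpObj B'] (j : A ⟶ B) (ψ : B ⟶ B')
    [IsMonHom ψ] [IsIso ψ] (hn : AlgGrp.IsNormalHom j) : AlgGrp.IsNormalHom (j ≫ ψ) := by
  intro W g n
  obtain ⟨n', h⟩ := hn W (g ≫ inv ψ) n
  refine ⟨n', ?_⟩
  have h' := congrArg (· ≫ ψ) h
  simp only [MonObj.mul_comp, GrpObj.inv_comp, Category.assoc, IsIso.inv_hom_id, Category.comp_id] at h'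
  exact h'

end General

variable {k K Ω : Type u} [Field k] [Field K] [Field Ω]

/-- Transport of subgroups along a further extension of the field. -/
theorem exists_transport (G : Over (Spec (CommRingCat.of k))) [GrpObj G]
    (g : Spec (CommRingCat.of K) ⟶ Spec (CommRingCat.of k)) (φ : K →+* Ω)
    (h : Spec (CommRingCat.of Ω) ⟶ Spec (CommRingCat.of k)) (e : Spec.map (CommRingCat.ofHom φ) ≫ g = h)
    (ρ : (Red.bc h G).left ⟶ (Red.bc g G).left) (hρ1 : ρ ≫ pullback.fst G.hom g = pullback.fst G.hom h)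
    (hρ2 : ρ ≫ pullback.snd G.hom g = pullback.snd G.hom h ≫ Spec.map (CommRingCat.ofHom φ))
    (H : Over (Spec (CommRingCat.of K))) [GrpObj H] (j : H ⟶ Red.bc g G) [IsMonHom j] [IsClosedImmersion j.left]
    [Smooth H.hom] [ConnectedSpace H.left] [IsAffine H.left] (hn : AlgGrp.IsNormalHom j) :
    Surjective ρ ∧ ∃ (H' : Over (Spec (CommRingCat.of Ω))) (_ : GrpObj H') (j' : H' ⟶ Red.bc h G),
      IsMonHom j' ∧ IsClosedImmersion j'.left ∧ Smooth H'.hom ∧ ConnectedSpace H'.left ∧ IsAffine H'.left ∧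
      AlgGrp.IsNormalHom j' ∧ Set.range j'.left = ρ ⁻¹' Set.range j.left := by
  subst e
  let τ := Spec.map (CommRingCat.ofHom φ)
  let ψ : Red.bc τ (Red.bc g G) ⟶ Red.bc (τ ≫ g) G := (H23.BcComp.iso τ g rfl).inv.app G
  haveI : IsMonHom ψ := H23.BcComp.isMonHom_inv τ g rfl G
  haveI : IsIso ψ := inferInstanceAs (IsIso ((H23.BcComp.iso τ g rfl).inv.app G))
  haveI : IsIso ψ.left := (Over.forget _).map_isIso ψ
  have hψ : ψ.left ≫ ρ = pullback.fst (Red.bc g G).hom τ := by
    apply pullback.hom_ext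
    · rw [Category.assoc, hρ1]
      simp only [ψ, H23.BcComp.inv_app, eqToHom_refl, Category.comp_id]
      exact pullbackComp_inv_fst τ g G
    · rw [Category.assoc, hρ2, ← Category.assoc, show ψ.left ≫ pullback.snd G.hom (τ ≫ g) =
        pullback.snd (Red.bc g G).hom τ from Over.w ψ]
      exact pullback.condition.symm
  haveI : Surjective τ := GrpSchLib.surjective_spec_map_field φ
  haveI : Surjective (pullback.fst (Red.bc g G).hom τ) := inferInstance
  haveI : Surjective (ψ.left ≫ ρ) := hψ ▸ inferInstance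
  refine ⟨Surjective.of_comp ψ.left ρ, ?_⟩
  let m : Red.bc τ H ⟶ Red.bc τ (Red.bc g G) := (Over.pullback τ).map j
  haveI : IsMonHom m := H23.BcComp.isMonHom_bc_map τ j
  haveI : IsClosedImmersion m.left := MorphismProperty.baseChange_map (P := @IsClosedImmersion) τ j inferInstance
  haveI : IsClosedImmersion (m ≫ ψ).left := inferInstanceAs (IsClosedImmersion (m.left ≫ ψ.left))
  haveI : IsAffineHom H.hom := isAffineHom_of_isAffine H.hom
  haveI : IsAffineHom (Red.bc τ H).hom := MorphismProperty.pullback_snd (P := @IsAffineHom) H.hom τ inferInstance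
  refine ⟨Red.bc τ H, inferInstance, m ≫ ψ, inferInstance, inferInstance,
    MorphismProperty.pullback_snd (P := @Smooth) H.hom τ inferInstance,
    AntiAffine.connectedSpace_bc H φ, isAffine_of_isAffineHom (Red.bc τ H).hom,
    isNormalHom_comp_iso m ψ (isNormalHom_map τ j hn), ?_⟩
  show Set.range (m.left ≫ ψ.left) = _
  rw [Scheme.Hom.comp_base, TopCat.coe_comp, Set.range_comp]
  rw [show Set.range m.left = pullback.fst (Red.bc g G).hom τ ⁻¹' Set.range j.left from range_map τ j, ← hψ]
  ext x
  obtain ⟨y, rfl⟩ := ψ.left.surjective x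
  constructor
  · rintro ⟨z, hz, hzy⟩
    obtain rfl : z = y := ψ.left.homeomorph.injective hzy
    exact hz
  · exact fun hy => ⟨y, hy, rfl⟩

/-- A morphism factors through a closed immersion if it does after an extension of the field. -/
theorem exists_factor_of_bc {A Z B : Over (Spec (CommRingCat.of k))} (φ : k →+* Ω)
    (f : A ⟶ B) (i : Z ⟶ B) [IsClosedImmersion i.left]
    (a : Red.bc (Spec.map (CommRingCat.ofHom φ)) A ⟶ Red.bc (Spec.map (CommRingCat.ofHom φ)) Z)
    (ha : a ≫ (Over.pullback _).map i = (Over.pullback _).map f) : ∃ f' : A ⟶ Z, f' ≫ i = f := by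
  let h := Spec.map (CommRingCat.ofHom φ)
  let π := pullback.fst A.hom h
  let c := pullback.fst f.left i.left
  haveI : Surjective h := GrpSchLib.surjective_spec_map_field φ
  haveI : Flat h := flat_spec_map_field φ
  haveI : Surjective π := MorphismProperty.pullback_fst (P := @Surjective) A.hom h inferInstance
  haveI : Flat π := MorphismProperty.pullback_fst (P := @Flat) A.hom h inferInstance
  haveI : QuasiCompact π := MorphismProperty.pullback_fst (P := @QuasiCompact) A.hom h inferInstance
  have hw : π ≫ f.left = (a.left ≫ pullback.fst Z.hom h) ≫ i.left := by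
    have h1 := congrArg (fun q => q.left ≫ pullback.fst B.hom h) ha
    simp only [Over.comp_left, Category.assoc] at h1
    rw [show ((Over.pullback h).map i).left ≫ pullback.fst B.hom h = pullback.fst Z.hom h ≫ i.left from
        pullback.lift_fst _ _ _,
      show ((Over.pullback h).map f).left ≫ pullback.fst B.hom h = π ≫ f.left from pullback.lift_fst _ _ _] at h1
    rw [Category.assoc]
    exact h1.symm
  let s : (Red.bc h A).left ⟶ pullback c π :=
    pullback.lift (pullback.lift π (a.left ≫ pullback.fst Z.hom h) hw) (𝟙 _)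
      (by simp only [c, pullback.lift_fst]; exact (Category.id_comp _).symm)
  haveI : IsSplitEpi (pullback.snd c π) := IsSplitEpi.mk' ⟨s, pullback.lift_snd _ _ _⟩
  haveI : IsIso (pullback.snd c π) := isIso_of_mono_of_isSplitEpi _
  haveI : IsIso c := TorsorMap.isIso_of_bc c π (pullback.fst c π) (pullback.snd c π) (IsPullback.of_hasPullback c π)
  refine ⟨Over.homMk (inv c ≫ pullback.snd f.left i.left) ?_, ?_⟩
  · rw [Category.assoc, ← Over.w i, ← pullback.condition_assoc, IsIso.inv_hom_id_assoc, Over.w f]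
  · ext : 1
    show (inv c ≫ pullback.snd f.left i.left) ≫ i.left = f.left
    rw [Category.assoc, ← pullback.condition, IsIso.inv_hom_id_assoc]

/-- A subgroup over a separable extension with image defined over the ground field descends. -/
theorem exists_descend (G : Over (Spec (CommRingCat.of k))) [GrpObj G] [Algebra k Ω] [Algebra.IsSeparable k Ω]
    (N : Over (Spec (CommRingCat.of Ω))) [GrpObj N]
    (jN : N ⟶ Red.bc (Spec.map (CommRingCat.ofHom (algebraMap k Ω))) G) [IsMonHom jN] [IsClosedImmersion jN.left]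
    [Smooth N.hom] [ConnectedSpace N.left] [IsAffine N.left] (hn : AlgGrp.IsNormalHom jN)
    (T : Set G.left) (hT : IsClosed T)
    (hTN : pullback.fst G.hom (Spec.map (CommRingCat.ofHom (algebraMap k Ω))) ⁻¹' T = Set.range jN.left) :
    ∃ (Z : Over (Spec (CommRingCat.of k))) (_ : GrpObj Z) (i : Z ⟶ G), IsMonHom i ∧ IsClosedImmersion i.left ∧
      Smooth Z.hom ∧ ConnectedSpace Z.left ∧ IsAffine Z.left ∧ AlgGrp.IsNormalHom i ∧ Set.range i.left = T := by
  let h := Spec.map (CommRingCat.ofHom (algebraMap k Ω))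
  let F := Over.pullback h
  let ι₀ := (Scheme.IdealSheafData.vanishingIdeal ⟨T, hT⟩).subschemeι
  let Z : Over (Spec (CommRingCat.of k)) := Over.mk (ι₀ ≫ G.hom)
  let i : Z ⟶ G := Over.homMk ι₀ rfl
  haveI : IsClosedImmersion i.left := inferInstanceAs (IsClosedImmersion ι₀)
  haveI : Mono i := (Over.forget _).mono_of_mono_map (inferInstanceAs (Mono i.left))
  haveI : IsReduced Z.left := H23.RedSub.isReduced_vanishingIdeal _
  have hri : Set.range i.left = T := H23.RedSub.range_vanishingIdeal _
  haveI : Surjective h := GrpSchLib.surjective_spec_map_field _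
  haveI : Flat h := flat_spec_map_field _
  haveI : IsClosedImmersion (F.map i).left := MorphismProperty.baseChange_map (P := @IsClosedImmersion) h i inferInstance
  haveI : IsReduced (F.obj Z).left := by
    haveI := EtRam7.isGeometricallyReduced_of_isSeparable k Ω
    exact S2536.result (k' := Ω) Z.hom
  haveI : IsReduced N.left := isReduced_of_smooth_field N.hom
  obtain ⟨e, he⟩ := H23.RedSub.exists_iso_of_range_eq (F.map i).left jN.left
    ((range_map h i).trans (by rw [hri]; exact hTN))
  let φ : F.obj Z ≅ N := Over.isoMk e (by rw [← Over.w jN, reassoc_of% he, Over.w (F.map i)])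
  have hφ : φ.hom ≫ jN = F.map i := Over.OverMorphism.ext he
  have hφ' : φ.inv ≫ F.map i = jN := by rw [← hφ, Iso.inv_hom_id_assoc]
  have fac : ∀ {A : Over (Spec (CommRingCat.of k))} (f : A ⟶ G), (∃ b, b ≫ jN = F.map f) → ∃ f', f' ≫ i = f := by
    rintro A f ⟨b, hb⟩
    exact exists_factor_of_bc (algebraMap k Ω) f i (b ≫ φ.inv) (by rw [Category.assoc, hφ', hb])
  have hFi : ∀ {A : Over (Spec (CommRingCat.of k))} (x : A ⟶ Z), F.map (x ≫ i) = (F.map x ≫ φ.hom) ≫ jN := by
    intro A x
    rw [Category.assoc, hφ, F.map_comp]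
  have hinv : ∀ {A : Over (Spec (CommRingCat.of k))} (x : A ⟶ G), F.map x⁻¹ = (F.map x)⁻¹ := fun x =>
    (F.homMonoidHom).map_inv x
  obtain ⟨η', he'⟩ := fac η[G] ⟨1, by rw [MonObj.one_comp, MonObj.one_eq_one, F.map_one]⟩
  obtain ⟨μ', hm'⟩ := fac ((fst Z Z ≫ i) * (snd Z Z ≫ i))
    ⟨(F.map (fst Z Z) ≫ φ.hom) * (F.map (snd Z Z) ≫ φ.hom), by rw [MonObj.mul_comp, F.map_mul, hFi, hFi]⟩
  obtain ⟨ι', hi'⟩ := fac i⁻¹ ⟨φ.hom⁻¹, by rw [GrpObj.inv_comp, hφ, hinv]⟩
  obtain ⟨str, hstr⟩ := exists_grpObj_of_mono i η' he' μ' hm' ι' hi'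
  letI := str
  haveI := hstr
  have hsm : Smooth Z.hom :=
    MorphismProperty.of_pullback_snd_of_descendsAlong (P := @Smooth) (Q := @Surjective ⊓ @Flat ⊓ @QuasiCompact)
      (f := Z.hom) (g := h) ⟨⟨‹_›, ‹_›⟩, inferInstance⟩ (by
        show Smooth (F.obj Z).hom
        rw [← Over.w φ.hom]
        haveI : IsIso φ.hom.left := (Over.forget _).map_isIso φ.hom
        infer_instance)
  have haff : IsAffineHom Z.hom := by
    haveI := EtFound.fpqc_isAffineHom
    exact MorphismProperty.of_pullback_snd_of_descendsAlong (P := @IsAffineHom)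
      (Q := @Surjective ⊓ @Flat ⊓ @QuasiCompact) (f := Z.hom) (g := h) ⟨⟨‹_›, ‹_›⟩, inferInstance⟩ (by
        show IsAffineHom (F.obj Z).hom
        rw [← Over.w φ.hom]
        haveI : IsIso φ.hom.left := (Over.forget _).map_isIso φ.hom
        haveI : IsAffineHom N.hom := isAffineHom_of_isAffine N.hom
        infer_instance)
  have hconn : ConnectedSpace Z.left := by
    let p : N.left ⟶ Z.left := e.inv ≫ pullback.fst Z.hom h
    haveI : Surjective (pullback.fst Z.hom h) := MorphismProperty.pullback_fst (P := @Surjective) Z.hom h inferInstance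
    haveI : Surjective p := inferInstanceAs (Surjective (e.inv ≫ pullback.fst Z.hom h))
    exact Function.Surjective.connectedSpace p.surjective p.continuous
  refine ⟨Z, inferInstance, i, inferInstance, inferInstance, hsm, hconn, isAffine_of_isAffineHom Z.hom, ?_, hri⟩
  intro W g n
  obtain ⟨b, hb⟩ := hn _ (F.map g) (F.map n ≫ φ.hom)
  obtain ⟨n', hn'⟩ := fac (g * (n ≫ i) * g⁻¹) ⟨b, by rw [← hb, F.map_mul, F.map_mul, hFi, hinv]⟩
  exact ⟨n', hn'.symm⟩

theorem trivial_subgroup (G : Over (Spec (CommRingCat.of k))) [GrpObj G] :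
    ∃ (E : Over (Spec (CommRingCat.of k))) (_ : GrpObj E) (j : E ⟶ G), IsMonHom j ∧ IsClosedImmersion j.left ∧
      Smooth E.hom ∧ ConnectedSpace E.left ∧ AlgGrp.IsNormalHom j ∧ IsAffine E.left := by
  haveI := AntiAffine.isSeparated_grp G
  refine ⟨𝟙_ _, inferInstance, η[G], ⟨⟨?_, ?_⟩, ?_, inferInstanceAs (Smooth (𝟙 _)),
    inferInstanceAs (ConnectedSpace ↥(Spec (CommRingCat.of k))),
    fun T g n => ⟨n, ?_⟩, inferInstanceAs (IsAffine (Spec (CommRingCat.of k)))⟩⟩
  · simp
  · simp [MonObj.one_eq_one, MonObj.one_mul, toUnit_unique μ[𝟙_ (Over (Spec (CommRingCat.of k)))] (toUnit _)]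
    rw [show ((1 : 𝟙_ (Over (Spec (CommRingCat.of k))) ⟶ G) ⊗ₘ (1 : 𝟙_ (Over (Spec (CommRingCat.of k))) ⟶ G)) = lift 1 1 by
      apply CartesianMonoidalCategory.hom_ext <;> simp, ← Hom.mul_def, _root_.mul_one]
  · exact inferInstanceAs (IsClosedImmersion η[G].left)
  · rw [MonObj.one_eq_one, MonObj.comp_one]; group

/-- The largest smooth connected affine normal subgroup commutes with separable algebraic extensions. -/
theorem exists_lift (k K : Type u) [Field k] [Field K] [Algebra k K] [Algebra.IsSeparable k K]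
    (G : Over (Spec (CommRingCat.of k))) [GrpObj G] [LocallyOfFiniteType G.hom] [QuasiCompact G.hom]
    {L : Over (Spec (CommRingCat.of k))} (l : L ⟶ G) [IsClosedImmersion l.left]
    (hmax : ∀ (Z : Over (Spec (CommRingCat.of k))) [GrpObj Z] (z : Z ⟶ G) [IsMonHom z], IsClosedImmersion z.left →
      Smooth Z.hom → ConnectedSpace Z.left → IsAffine Z.left → AlgGrp.IsNormalHom z → ∃ f : Z ⟶ L, f ≫ l = z)
    (g : Spec (CommRingCat.of K) ⟶ Spec (CommRingCat.of k)) (hg : g = Spec.map (CommRingCat.ofHom (algebraMap k K)))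
    (H : Over (Spec (CommRingCat.of K))) [GrpObj H] (j : H ⟶ Red.bc g G) [IsMonHom j] [IsClosedImmersion j.left]
    [Smooth H.hom] [ConnectedSpace H.left] [IsAffine H.left] (hn : AlgGrp.IsNormalHom j) :
    ∃ f : H ⟶ Red.bc g L, f ≫ (Over.pullback g).map l = j := by
  let Ω := SeparableClosure k
  let ψ : K →ₐ[k] Ω := IsSepClosed.lift
  let h := Spec.map (CommRingCat.ofHom (algebraMap k Ω))
  let GΩ : Over (Spec (CommRingCat.of Ω)) := Red.bc h G
  haveI : LocallyOfFiniteType GΩ.hom := MorphismProperty.pullback_snd (P := @LocallyOfFiniteType) G.hom h inferInstance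
  haveI : QuasiCompact GΩ.hom := MorphismProperty.pullback_snd (P := @QuasiCompact) G.hom h inferInstance
  haveI := AntiAffine.isSeparated_grp GΩ
  -- the largest subgroup over the separable closure
  obtain ⟨N, _, jN, _, _, _, _, hnN, haN, hmaxN⟩ := AGFLib.LargestNormal.exists_largest
    (fun E _ => IsAffine E.left)
    (fun N E Q _ _ _ _ _ _ _ _ _ i q _ _ _ _ hk hN hQ => by
      haveI : IsAffine N.left := hN
      haveI : IsAffine Q.left := hQ
      haveI : IsAffineHom N.hom := isAffineHom_of_isAffine N.hom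
      haveI : IsSeparated Q.hom := AntiAffine.isSeparated_grp Q
      haveI : QuasiCompact q.left := by
        haveI : QuasiCompact (q.left ≫ Q.hom) := by rw [Over.w q]; infer_instance
        exact QuasiCompact.of_comp q.left Q.hom
      have sq := GrpSchLib.HomKer.kernel_square (u := q) i hk
      haveI : IsAffineHom q.left := GrpSchLib.AffineKer.isAffineHom_of_kernel q (by
        rw [← sq.isoPullback_inv_snd]; infer_instance)
      exact isAffine_of_isAffineHom q.left)
    (fun E Q _ _ _ _ _ _ q _ _ _ hE => by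
      haveI : IsAffine E.left := hE
      exact GrpSchLib.isAffine_of_quotient q)
    (G := GΩ) (trivial_subgroup GΩ)
  haveI : IsAffine N.left := haN
  -- its image is Galois invariant
  letI : G.left.Over (Spec (CommRingCat.of k)) := ⟨G.hom⟩
  obtain ⟨R, hR⟩ : ∃ R : Set (Curv2.bc k G.left Ω), R = Set.range jN.left := ⟨_, rfl⟩
  have hgal : ∀ (σ : Ω ≃ₐ[k] Ω) (x : Curv2.bc k G.left Ω), Curv2.galAct k G.left Ω σ x ∈ R → x ∈ R := by
    intro σ x hx
    have e : Spec.map (CommRingCat.ofHom (σ : Ω →ₐ[k] Ω).toRingHom) ≫ h = h := by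
      rw [← Spec.map_comp, ← CommRingCat.ofHom_comp, AlgHom.toRingHom_eq_coe, AlgHom.comp_algebraMap]
    obtain ⟨-, H', _, j', _, h1, h2, h3, h4, h5, h6⟩ := exists_transport G h (σ : Ω →ₐ[k] Ω).toRingHom h e
      (Curv2.galAct k G.left Ω σ) ((pullback.lift_fst _ _ _).trans (Category.comp_id _)) (pullback.lift_snd _ _ _)
      N jN hnN
    obtain ⟨f, hf⟩ := hmaxN H' j' h1 h2 h3 h5 h4
    rw [hR] at hx
    obtain ⟨y, hy⟩ : x ∈ Set.range j'.left := by rw [h6]; exact hx
    rw [hR]
    refine ⟨f.left y, ?_⟩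
    rw [← hy, ← hf]
    rfl
  have hid : ∀ (σ : Ω ≃ₐ[k] Ω) (x : Curv2.bc k G.left Ω),
      Curv2.galAct k G.left Ω σ (Curv2.galAct k G.left Ω σ.symm x) = x := by
    intro σ x
    have : Curv2.galAct k G.left Ω σ.symm ≫ Curv2.galAct k G.left Ω σ = 𝟙 _ := by
      apply pullback.hom_ext
      · simp [Curv2.galAct]
      · simp only [Curv2.galAct, Category.assoc, pullback.lift_snd, pullback.lift_snd_assoc, Category.id_comp]
        rw [← Spec.map_comp, ← CommRingCat.ofHom_comp]
        rw [show ((σ.symm : Ω →ₐ[k] Ω).toRingHom.comp (σ : Ω →ₐ[k] Ω).toRingHom) = RingHom.id Ω from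
          RingHom.ext fun y => σ.symm_apply_apply y, CommRingCat.ofHom_id, Spec.map_id, Category.comp_id]
    exact (Scheme.Hom.comp_apply _ _ _).symm.trans (congrArg (fun q => q x) this)
  have hgal2 : ∀ σ : Ω ≃ₐ[k] Ω, Curv2.galAct k G.left Ω σ '' R = R := by
    intro σ
    refine Set.Subset.antisymm ?_ fun x hx => ⟨Curv2.galAct k G.left Ω σ.symm x, hgal σ _ (by rw [hid]; exact hx), hid σ x⟩
    rintro _ ⟨x, hx, rfl⟩
    refine hgal σ.symm _ ?_
    have := hid σ.symm x
    rw [show σ.symm.symm = σ from rfl] at this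
    rw [this]
    exact hx
  obtain ⟨T, hT, hTN⟩ := GeomField.exists_preimage_eq_of_invariant (k := k) (X := G.left) Ω R
    (by rw [hR]; exact jN.left.isClosedEmbedding.isClosed_range) hgal2
  rw [hR] at hTN
  obtain ⟨Z, _, z, _, hz1, hz2, hz3, hz4, hz5, hzT⟩ := exists_descend G N jN hnN T hT hTN
  obtain ⟨fz, hfz⟩ := hmax Z z hz1 hz2 hz3 hz4 hz5
  have hTl : T ⊆ Set.range l.left := by
    rw [← hzT, ← hfz]
    exact Set.range_comp_subset_range fz.left l.left
  -- the given subgroup over `K` lies in it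
  have e : Spec.map (CommRingCat.ofHom ψ.toRingHom) ≫ g = h := by
    rw [hg, ← Spec.map_comp, ← CommRingCat.ofHom_comp, AlgHom.toRingHom_eq_coe, AlgHom.comp_algebraMap]
  let ρ : GΩ.left ⟶ (Red.bc g G).left :=
    pullback.lift (pullback.fst G.hom h) (pullback.snd G.hom h ≫ Spec.map (CommRingCat.ofHom ψ.toRingHom))
      (by rw [Category.assoc, e]; exact pullback.condition)
  obtain ⟨hρ, H', _, j', _, h1, h2, h3, h4, h5, h6⟩ := exists_transport G g ψ.toRingHom h e ρ
    (pullback.lift_fst _ _ _) (pullback.lift_snd _ _ _) H j hn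
  obtain ⟨f, hf⟩ := hmaxN H' j' h1 h2 h3 h5 h4
  have hsub : Set.range j.left ⊆ Set.range ((Over.pullback g).map l).left := by
    rw [range_map g l]
    intro x hx
    obtain ⟨z', rfl⟩ := hρ.surj x
    have hz' : z' ∈ Set.range jN.left := by
      have : z' ∈ Set.range j'.left := by rw [h6]; exact hx
      rw [← hf] at this
      exact Set.range_comp_subset_range f.left jN.left this
    rw [← hTN] at hz'
    apply hTl
    show pullback.fst G.hom g (ρ z') ∈ T
    have h0 : ρ ≫ pullback.fst G.hom g = pullback.fst G.hom h := pullback.lift_fst _ _ _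
    have h7 : pullback.fst G.hom g (ρ z') = pullback.fst G.hom h z' :=
      (Scheme.Hom.comp_apply _ _ _).symm.trans (congrArg (fun q => q z') h0)
    rw [h7]
    exact hz'
  haveI : IsReduced H.left := isReduced_of_smooth_field H.hom
  haveI : IsClosedImmersion ((Over.pullback g).map l).left :=
    MorphismProperty.baseChange_map (P := @IsClosedImmersion) g l inferInstance
  obtain ⟨f₀, hf₀⟩ := H23.RedSub.exists_lift_closed j.left ((Over.pullback g).map l).left hsub
  refine ⟨Over.homMk f₀ ?_, Over.OverMorphism.ext hf₀⟩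
  rw [← Over.w j, ← hf₀, Category.assoc, Over.w ((Over.pullback g).map l)]

end Groth.Agent.GrpSchLib.LargestNormalSep
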