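import Groth.Agent.GrpSchLib.Loci
import Groth.Agent.S1386
import Groth.Agent.S2156
import Groth.Agent.S0386
import Groth.Agent.AlgSpPts.Sep
import Groth.Agent.S2155
import Groth.Agent.S9389

/-! Loci of a homomorphism of group schemes are detected on the fibres and are unions of fibres. -/

universe u

open CategoryTheory Limits AlgebraicGeometry MonoidalCategory CartesianMonoidalCategory MonObj GrpObj
  TopologicalSpace

namespace Groth.Agent.GrpSchLib.HomFibre

open Loci Saturate

variable {S : Scheme.{u}} {G H : Over S}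

/-- The fibre of `u` at `s`. -/
noncomputable abbrev fib (u : G ⟶ H) (s : S) :
    (Over.pullback (S.fromSpecResidueField s)).obj G ⟶ (Over.pullback (S.fromSpecResidueField s)).obj H :=
  (Over.pullback (S.fromSpecResidueField s)).map u

/-- The inclusion of a fibre. -/
noncomputable abbrev incl (G : Over S) (s : S) :
    ((Over.pullback (S.fromSpecResidueField s)).obj G).left ⟶ G.left :=
  pullback.fst G.hom (S.fromSpecResidueField s)

theorem map_isPullback (u : G ⟶ H) {T : Scheme.{u}} (σ : T ⟶ S) :
    IsPullback (pullback.fst G.hom σ) ((Over.pullback σ).map u).left u.left (pullback.fst H.hom σ) := by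
  refine (IsPullback.of_right ?_ ?_ (IsPullback.of_hasPullback H.hom σ).flip).flip
  · rw [Over.w u, show ((Over.pullback σ).map u).left ≫ pullback.snd H.hom σ = pullback.snd G.hom σ from
      Over.w ((Over.pullback σ).map u)]
    exact (IsPullback.of_hasPullback G.hom σ).flip
  · exact pullback.lift_fst _ _ _

theorem exists_incl (x : G.left) : ∃ z, incl G (G.hom x) z = x :=
  ⟨G.hom.asFiber x, G.hom.fiberι_asFiber x⟩

theorem hom_incl {s : S} (z : ((Over.pullback (S.fromSpecResidueField s)).obj G).left) :
    G.hom (incl G s z) = s := by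
  have : incl G s z ∈ Set.range (G.hom.fiberι s) := ⟨z, rfl⟩
  rw [Scheme.Hom.range_fiberι] at this
  exact this

/-- Flatness of a morphism over the base at a point of a fibre. -/
theorem flat_of_fibre_flat {X Y : Scheme.{u}} (f : X ⟶ Y) (g : Y ⟶ S) (k : X ⟶ S) (w : f ≫ g = k)
    [LocallyOfFinitePresentation k] [Flat k] [LocallyOfFiniteType g] (s : S)
    (z : ↑(pullback k (S.fromSpecResidueField s)))
    (φ : pullback k (S.fromSpecResidueField s) ⟶ pullback g (S.fromSpecResidueField s))
    (h1 : φ ≫ pullback.fst _ _ = pullback.fst _ _ ≫ f) (h2 : φ ≫ pullback.snd _ _ = pullback.snd _ _)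
    (h : (φ.stalkMap z).hom.Flat) : (f.stalkMap (pullback.fst k (S.fromSpecResidueField s) z)).hom.Flat := by
  subst w
  suffices key : ∀ (y : X) (t : S), g (f y) = t → ∀ (z : ↑(pullback (f ≫ g) (S.fromSpecResidueField t))),
      pullback.fst (f ≫ g) _ z = y → ∀ φ : pullback (f ≫ g) (S.fromSpecResidueField t) ⟶ pullback g (S.fromSpecResidueField t),
      φ ≫ pullback.fst _ _ = pullback.fst _ _ ≫ f → φ ≫ pullback.snd _ _ = pullback.snd _ _ →
      (φ.stalkMap z).hom.Flat → (f.stalkMap y).hom.Flat by
    refine key _ s ?_ z rfl φ h1 h2 h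
    have : pullback.fst (f ≫ g) (S.fromSpecResidueField s) z ∈ Set.range ((f ≫ g).fiberι s) := ⟨z, rfl⟩
    rw [Scheme.Hom.range_fiberι] at this
    exact this
  intro y t hy
  subst hy
  intro z hz φ h1 h2 h
  have e : φ = MoreMor.fiberMap f g _ := by
    apply pullback.hom_ext
    · exact h1.trans (pullback.lift_fst _ _ _).symm
    · exact h2.trans (pullback.lift_snd _ _ _).symm
  subst e
  refine (((S1386.result f g).1 _).1 ⟨Flat.stalkMap (f ≫ g) _, ?_⟩).2
  have hz' : (f ≫ g).asFiber y = z :=
    (Scheme.Hom.fiberι (f ≫ g) _).isEmbedding.injective (((f ≫ g).fiberι_asFiber y).trans hz.symm)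
  rw [hz']
  exact h

variable (u : G ⟶ H)

theorem fib_lfp [LocallyOfFinitePresentation u.left] {T : Scheme.{u}} (σ : T ⟶ S) :
    LocallyOfFinitePresentation ((Over.pullback σ).map u).left :=
  MorphismProperty.of_isPullback (P := @LocallyOfFinitePresentation) (map_isPullback u σ) ‹_›

theorem fib_lft [LocallyOfFiniteType u.left] {T : Scheme.{u}} (σ : T ⟶ S) :
    LocallyOfFiniteType ((Over.pullback σ).map u).left :=
  MorphismProperty.of_isPullback (P := @LocallyOfFiniteType) (map_isPullback u σ) ‹_›

theorem lfp_of_flat_lfp [LocallyOfFinitePresentation G.hom] [LocallyOfFiniteType H.hom] :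
    LocallyOfFinitePresentation u.left := by
  haveI : LocallyOfFinitePresentation (u.left ≫ H.hom) := by rw [Over.w u]; infer_instance
  exact AlgSpPts.locallyOfFinitePresentation_of_comp u.left H.hom

/-- Points near which a morphism is flat, for a morphism locally of finite presentation. -/
theorem mem_loc_FL_iff {A B : Scheme.{u}} (d : A ⟶ B) [LocallyOfFinitePresentation d] (x : A) :
    x ∈ loc FL d ↔ (d.stalkMap x).hom.Flat := by
  constructor
  · rintro ⟨U, hx, hU, -⟩
    haveI := hU
    have := Flat.stalkMap (U.ι ≫ d) ⟨x, hx⟩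
    erw [Scheme.Hom.stalkMap_comp, CommRingCat.hom_comp] at this
    exact (RingHom.Flat.respectsIso.cancel_right_isIso (d.stalkMap (U.ι ⟨x, hx⟩))
      (U.ι.stalkMap ⟨x, hx⟩)).mp this
  · intro h
    refine ⟨⟨_, S0386.result d⟩, h, Flat.of_stalkMap _ fun y => ?_, inferInstance⟩
    erw [Scheme.Hom.stalkMap_comp, CommRingCat.hom_comp]
    exact (RingHom.Flat.respectsIso.cancel_right_isIso (d.stalkMap (Scheme.Opens.ι _ y))
        ((Scheme.Opens.ι _).stalkMap y)).mpr y.2

theorem mem_loc_smooth_iff {A B : Scheme.{u}} (d : A ⟶ B) [LocallyOfFinitePresentation d] (x : A) :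
    x ∈ loc @Smooth d ↔ x ∈ d.smoothLocus := by
  constructor
  · rintro ⟨U, hx, hU⟩
    haveI := hU
    show (⟨x, hx⟩ : U.toScheme) ∈ U.ι ⁻¹ᵁ d.smoothLocus
    rw [Scheme.Hom.preimage_smoothLocus_eq, Scheme.Hom.smoothLocus_eq_top]
    trivial
  · intro h
    refine ⟨d.smoothLocus, h, ?_⟩
    rw [← Scheme.Hom.smoothLocus_eq_top_iff, ← Scheme.Hom.preimage_smoothLocus_eq d.smoothLocus.ι d,
      Scheme.Opens.ι_preimage_self]

/-- Flat locus: a point is flat iff it is so in its fibre. -/
theorem flat_iff [LocallyOfFinitePresentation G.hom] [Flat G.hom] [LocallyOfFiniteType H.hom] (s : S)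
    (z : ((Over.pullback (S.fromSpecResidueField s)).obj G).left) :
    z ∈ loc FL (fib u s).left ↔ incl G s z ∈ loc FL u.left := by
  haveI := lfp_of_flat_lfp u
  constructor
  · intro h
    haveI := fib_lfp u (S.fromSpecResidueField s)
    rw [mem_loc_FL_iff] at h ⊢
    exact flat_of_fibre_flat u.left H.hom G.hom (Over.w u) s z (fib u s).left
      (pullback.lift_fst _ _ _) (Over.w (fib u s)) h
  · rintro ⟨U, hx, hU⟩
    exact ⟨incl G s ⁻¹ᵁ U, hx,
      MorphismProperty.of_isPullback (P := FL) (isPullback_restrict (map_isPullback u _) U) hU⟩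

theorem smooth_iff [LocallyOfFinitePresentation G.hom] [Flat G.hom] [LocallyOfFiniteType H.hom] (s : S)
    (z : ((Over.pullback (S.fromSpecResidueField s)).obj G).left) :
    z ∈ loc @Smooth (fib u s).left ↔ incl G s z ∈ loc @Smooth u.left := by
  haveI := lfp_of_flat_lfp u
  constructor
  · intro h
    let d := (fib u s).left
    haveI : LocallyOfFinitePresentation d := fib_lfp u (S.fromSpecResidueField s)
    let q := pullback.fst H.hom (S.fromSpecResidueField s)
    haveI : LocallyOfFinitePresentation (d.fiberToSpecResidueField (d z)) :=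
      MorphismProperty.pullback_snd (P := @LocallyOfFinitePresentation) _ _ ‹_›
    haveI : LocallyOfFinitePresentation (u.left.fiberToSpecResidueField (u.left (incl G s z))) :=
      MorphismProperty.pullback_snd (P := @LocallyOfFinitePresentation) _ _ ‹_›
    rw [mem_loc_smooth_iff] at h ⊢
    rw [S2156.result] at h ⊢
    have hfl : z ∈ loc FL d := (mem_loc_FL_iff d z).mpr h.1
    refine ⟨(mem_loc_FL_iff u.left _).mp ((flat_iff u s z).mp hfl), ?_⟩
    have hsq := map_isPullback u (S.fromSpecResidueField s)
    have hb := isPullback_fiberToSpecResidueField_of_isPullback hsq (d z)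
    have he : q (d z) = u.left (incl G s z) := by
      rw [← Scheme.Hom.comp_apply, ← hsq.w]; rfl
    haveI : LocallyOfFinitePresentation (u.left.fiberToSpecResidueField (q (d z))) :=
      MorphismProperty.pullback_snd (P := @LocallyOfFinitePresentation) _ _ ‹_›
    have hflat : Flat (Spec.map (q.residueFieldMap (d z))) := by
      rw [HasRingHomProperty.Spec_iff (P := @Flat)]
      exact RingHom.Flat.of_isField (Field.toIsField _) _
    have h2 := h.2
    rw [S2155.result (u.left.fiberToSpecResidueField (q (d z))) _ (d.fiberToSpecResidueField (d z)) _ hb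
      (.inr hflat)] at h2
    clear hb hflat hfl h
    have hpt : ∀ (t : H.left) (ht : t = u.left (incl G s z)) (a : u.left.fiber t)
        [LocallyOfFinitePresentation (u.left.fiberToSpecResidueField t)],
        u.left.fiberι t a = incl G s z → a ∈ (u.left.fiberToSpecResidueField t).smoothLocus →
        u.left.asFiber (incl G s z) ∈ (u.left.fiberToSpecResidueField (u.left (incl G s z))).smoothLocus := by
      intro t ht a _ ha hs
      subst ht
      have : a = u.left.asFiber (incl G s z) :=
        (u.left.fiberι _).isEmbedding.injective (ha.trans (u.left.fiberι_asFiber _).symm)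
      exact this ▸ hs
    refine hpt _ he _ ?_ h2
    refine (Scheme.Hom.comp_apply _ _ _).symm.trans ?_
    refine (congrArg (fun m : d.fiber (d z) ⟶ G.left => m (d.asFiber z)) (pullback.lift_fst _ _ _)).trans ?_
    exact (Scheme.Hom.comp_apply _ _ _).trans (congrArg _ (d.fiberι_asFiber z))
  · rintro ⟨U, hx, hU⟩
    exact ⟨incl G s ⁻¹ᵁ U, hx,
      MorphismProperty.of_isPullback (P := @Smooth) (isPullback_restrict (map_isPullback u _) U) hU⟩

theorem unram_iff [LocallyOfFinitePresentation u.left] (s : S)
    (z : ((Over.pullback (S.fromSpecResidueField s)).obj G).left) :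
    z ∈ loc UR (fib u s).left ↔ incl G s z ∈ loc UR u.left := by
  constructor
  · rintro ⟨U, hz, hU, -⟩
    have hsq := map_isPullback u (S.fromSpecResidueField s)
    have h1 : MorLib.UnrLocus.Loc (fib u s).left z := ⟨U, hz, hU⟩
    rw [← hsq.isoPullback_hom_snd, MorLib.UnrLocus.loc_comp_left, MorLib.UnrLocus.loc_pullback,
      ← Scheme.Hom.comp_apply, hsq.isoPullback_hom_fst] at h1
    obtain ⟨W, hW, hu⟩ := h1
    exact ⟨W, hW, hu, MorphismProperty.comp_mem @LocallyOfFinitePresentation _ _ inferInstance ‹_›⟩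
  · rintro ⟨U, hx, hU⟩
    exact ⟨incl G s ⁻¹ᵁ U, hx,
      MorphismProperty.of_isPullback (P := UR) (isPullback_restrict (map_isPullback u _) U) hU⟩

theorem etale_iff [LocallyOfFinitePresentation G.hom] [Flat G.hom] [LocallyOfFiniteType H.hom] (s : S)
    (z : ((Over.pullback (S.fromSpecResidueField s)).obj G).left) :
    z ∈ loc @Etale (fib u s).left ↔ incl G s z ∈ loc @Etale u.left := by
  haveI := lfp_of_flat_lfp u
  simp only [etale_loc_eq, Set.mem_inter_iff, smooth_iff u s z, unram_iff u s z]

theorem mem_loc_LQ_iff {A B : Scheme.{u}} (d : A ⟶ B) [LocallyOfFiniteType d] (x : A) :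
    x ∈ loc LQ d ↔ d.QuasiFiniteAt x := by
  constructor
  · rintro ⟨U, hx, hU, -⟩
    haveI := hU
    exact Scheme.Hom.quasiFiniteAt_comp_iff_of_isOpenImmersion.mp ((U.ι ≫ d).quasiFiniteAt ⟨x, hx⟩)
  · intro h
    exact ⟨d.quasiFiniteLocus, h, inferInstance, inferInstance⟩

theorem lqf_iff [LocallyOfFiniteType u.left] (s : S)
    (z : ((Over.pullback (S.fromSpecResidueField s)).obj G).left) :
    z ∈ loc LQ (fib u s).left ↔ incl G s z ∈ loc LQ u.left := by
  haveI := fib_lft u (S.fromSpecResidueField s)
  rw [mem_loc_LQ_iff, mem_loc_LQ_iff]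
  exact Set.ext_iff.mp (S9389.result u.left _ _ _ (map_isPullback u _)) z

section Group

variable [GrpObj G] [GrpObj H] [IsMonHom u]

open scoped CategoryTheory.Obj

/-- Over a field a locus compatible with flat base change contains all points or none. -/
theorem fib_sat {L : LocusFn.{u}} (hL : IsCompat L FL) (s : S)
    (hG : LocallyOfFiniteType (G.hom.fiberToSpecResidueField s))
    (z z' : ((Over.pullback (S.fromSpecResidueField s)).obj G).left) (h : z ∈ L (fib u s).left) :
    z' ∈ L (fib u s).left := by
  haveI : LocallyOfFiniteType ((Over.pullback (S.fromSpecResidueField s)).obj G).hom := hG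
  exact Saturate.saturated (homAction (fib u s)) (fib u s) (equivariant_hom (fib u s)) hL
    ⟨inferInstance, inferInstance⟩ h (Subsingleton.elim _ _)

omit [GrpObj H] [IsMonHom u] in
/-- The unit point of a fibre. -/
theorem exists_unit (s : S) : ∃ z, incl G s z = η[G].left s := by
  have e : G.hom (η[G].left s) = s := by
    rw [← Scheme.Hom.comp_apply, Over.w η[G]]
    rfl
  have h : η[G].left s ∈ Set.range (G.hom.fiberι s) := by rw [Scheme.Hom.range_fiberι]; exact e
  exact h

omit [GrpObj H] [IsMonHom u] in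
/-- An open locus detected on fibres and saturated is the preimage of an open of the base. -/
theorem open_and_eq {Lu : Set G.left} (hO : IsOpen Lu) (Q : S → Prop)
    (hsat : ∀ (s : S) (z z' : ((Over.pullback (S.fromSpecResidueField s)).obj G).left),
      incl G s z ∈ Lu → incl G s z' ∈ Lu)
    (hQ : ∀ s, Q s ↔ ∀ z, incl G s z ∈ Lu) :
    IsOpen {s | Q s} ∧ Lu = G.hom ⁻¹' {s | Q s} := by
  have key : ∀ (s : S) (z : ((Over.pullback (S.fromSpecResidueField s)).obj G).left),
      Q s ↔ incl G s z ∈ Lu := fun s z =>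
    ⟨fun h => (hQ s).mp h z, fun h => (hQ s).mpr fun z' => hsat s z z' h⟩
  refine ⟨?_, Set.ext fun x => ?_⟩
  · have : {s | Q s} = η[G].left ⁻¹' Lu := Set.ext fun s => by
      obtain ⟨z, hz⟩ := exists_unit (G := G) s
      exact (key s z).trans (by rw [hz]; rfl)
    rw [this]
    exact hO.preimage (Scheme.Hom.continuous _)
  · obtain ⟨z, hz⟩ := exists_incl x
    rw [Set.mem_preimage, Set.mem_ofPred_eq, key _ z, hz]

variable (P : MorphismProperty Scheme.{u}) [IsZariskiLocalAtSource P]

theorem main {P' : MorphismProperty Scheme.{u}} (hL : IsCompat (loc P') FL)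
    (hfib : ∀ s z, z ∈ loc P' (fib u s).left ↔ incl G s z ∈ loc P' u.left)
    (hG : ∀ s : S, LocallyOfFiniteType (G.hom.fiberToSpecResidueField s))
    (hPP : ∀ s, P (fib u s).left ↔ ∀ z, z ∈ loc P' (fib u s).left) :
    IsOpen {s | P (fib u s).left} ∧ loc P' u.left = G.hom ⁻¹' {s | P (fib u s).left} := by
  refine open_and_eq (isOpen_loc P' u.left) _ (fun s z z' h => ?_) fun s => ?_
  · exact (hfib s z').mp (fib_sat u hL s (hG s) z z' ((hfib s z).mpr h))
  · exact (hPP s).trans (forall_congr' (hfib s))

end Group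

end Groth.Agent.GrpSchLib.HomFibre
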