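import Groth.Agent.GrpSchLib.WeilClosed
import Mathlib.AlgebraicGeometry.Morphisms.Separated
import Mathlib.CategoryTheory.Monoidal.Cartesian.Over
import Mathlib.RingTheory.TensorProduct.Free
import Mathlib.LinearAlgebra.Basis.VectorSpace

/-! Coincidence loci of two morphisms `W × X ⟶ Y`, as closed subschemes of `X`. -/

open CategoryTheory AlgebraicGeometry MonoidalCategory CartesianMonoidalCategory Limits TensorProduct

namespace Groth.Agent.GrpSchLib

universe u

set_option backward.isDefEq.respectTransparency false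
set_option backward.defeqAttrib.useBackward true

variable {S : Scheme.{u}} {W X Y : Over S}

theorem isPullback_whiskerLeft {T : Over S} (x : T ⟶ X) :
    IsPullback (W ◁ x).left (snd W T).left (snd W X).left x.left := by
  refine (IsPullback.of_bot (h₁₁ := (snd W T).left) (v₁₁ := (W ◁ x).left) (v₁₂ := x.left) ?_
    (congrArg CommaMorphism.left (whiskerLeft_snd W x)).symm
    (IsPullback.of_hasPullback W.hom X.hom).flip).flip
  have h1 : (W ◁ x).left ≫ pullback.fst W.hom X.hom = pullback.fst W.hom T.hom :=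
    congrArg CommaMorphism.left (whiskerLeft_fst W x)
  have h2 : x.left ≫ X.hom = T.hom := Over.w x
  rw [h1, h2]
  exact (IsPullback.of_hasPullback W.hom T.hom).flip

theorem good_iff_whiskerLeft {E : Scheme.{u}} (i : E ⟶ (W ⊗ X).left) {T : Over S} (x : T ⟶ X) :
    Good (snd W X).left i x.left ↔ ∃ l : (W ⊗ T).left ⟶ E, l ≫ i = (W ◁ x).left := by
  let e := (isPullback_whiskerLeft (W := W) x).flip.isoPullback
  constructor
  · rintro ⟨l, hl⟩
    exact ⟨e.hom ≫ l, by rw [Category.assoc, hl, IsPullback.isoPullback_hom_snd]⟩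
  · rintro ⟨l, hl⟩
    exact ⟨e.inv ≫ l, by rw [Category.assoc, hl, IsPullback.isoPullback_inv_snd]⟩

/-- `E` is the equalizer of `a` and `b`. -/
def IsEqualizerOf {E : Scheme.{u}} (i : E ⟶ (W ⊗ X).left) (a b : W ⊗ X ⟶ Y) : Prop :=
  ∀ (Q : Scheme.{u}) (q : Q ⟶ (W ⊗ X).left), (∃ l : Q ⟶ E, l ≫ i = q) ↔ q ≫ a.left = q ≫ b.left

theorem exists_coincidence {E : Scheme.{u}} (i : E ⟶ (W ⊗ X).left) [IsClosedImmersion i]
    {a b : W ⊗ X ⟶ Y} (hE : IsEqualizerOf i a b) (h : HasIdeals (snd W X).left i) :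
    ∃ (Z : Over S) (j : Z ⟶ X), IsClosedImmersion j.left ∧
      ∀ (T : Over S) (x : T ⟶ X), (∃ z : T ⟶ Z, z ≫ j = x) ↔ (W ◁ x) ≫ a = (W ◁ x) ≫ b := by
  obtain ⟨Z, z, hz, hfac⟩ := exists_weilRestriction h
  refine ⟨Over.mk (z ≫ X.hom), Over.homMk z rfl, hz, fun T x => ?_⟩
  have : ((W ◁ x) ≫ a = (W ◁ x) ≫ b) ↔ Good (snd W X).left i x.left := by
    rw [good_iff_whiskerLeft, hE, ← Over.comp_left, ← Over.comp_left]
    exact ⟨fun h => congrArg CommaMorphism.left h, fun h => Over.OverMorphism.ext h⟩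
  rw [this, ← hfac]
  constructor
  · rintro ⟨w, hw⟩
    exact ⟨w.left, congrArg CommaMorphism.left hw⟩
  · rintro ⟨w, hw⟩
    exact ⟨Over.homMk w (by show w ≫ z ≫ X.hom = T.hom; rw [← Category.assoc, hw, Over.w x]),
      Over.OverMorphism.ext hw⟩

/-- Equality of pairs of points. -/
theorem whiskerLeft_eq_iff {T : Over S} (x : T ⟶ X) (a : W ⊗ X ⟶ Y) (c : T ⟶ Y) :
    (W ◁ x) ≫ a = snd W T ≫ c ↔
      ∀ (T' : Over S) (t : T' ⟶ T) (g : T' ⟶ W), lift g (t ≫ x) ≫ a = t ≫ c := by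
  constructor
  · intro h T' t g
    have := congrArg (fun f => lift g t ≫ f) h
    simpa using this
  · intro h
    have := h (W ⊗ T) (snd W T) (fst W T)
    rw [← this]
    congr 1

/-- The diagonal pulled back along `(a, b)`. -/
theorem exists_equalizer_of_isSeparated [IsSeparated Y.hom] (a b : W ⊗ X ⟶ Y) :
    ∃ (E : Scheme.{u}) (i : E ⟶ (W ⊗ X).left), IsClosedImmersion i ∧ IsEqualizerOf i a b := by
  let γ : (W ⊗ X).left ⟶ pullback Y.hom Y.hom :=
    pullback.lift a.left b.left ((Over.w a).trans (Over.w b).symm)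
  refine ⟨pullback γ (pullback.diagonal Y.hom), pullback.fst _ _,
    MorphismProperty.pullback_fst _ _ inferInstance, fun Q q => ⟨?_, fun h => ?_⟩⟩
  · rintro ⟨l, rfl⟩
    have h1 := congrArg (fun f => l ≫ f ≫ pullback.fst Y.hom Y.hom) (pullback.condition (f := γ) (g := pullback.diagonal Y.hom))
    have h2 := congrArg (fun f => l ≫ f ≫ pullback.snd Y.hom Y.hom) (pullback.condition (f := γ) (g := pullback.diagonal Y.hom))
    simp [γ] at h1 h2
    rw [Category.assoc, Category.assoc, h1, h2]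
  · refine ⟨pullback.lift q (q ≫ a.left) ?_, pullback.lift_fst _ _ _⟩
    apply pullback.hom_ext
    · simp [γ]
    · simp [γ, h]

/-- Charts: `W` is covered by spectra of projective algebras over an affine base. -/
theorem hasIdeals_of_affine_base {R : Type u} [CommRing R] {W X : Over (Spec (CommRingCat.of R))}
    (𝒱 : Scheme.AffineOpenCover.{u} W.left)
    (hproj : ∀ (j : 𝒱.I₀) (t : CommRingCat.of R ⟶ 𝒱.X j), Spec.map t = 𝒱.f j ≫ W.hom →
      @Module.Projective R _ (𝒱.X j : Type u) _ t.hom.toAlgebra.toModule)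
    {E : Scheme.{u}} (i : E ⟶ (W ⊗ X).left) [IsClosedImmersion i] :
    HasIdeals (snd W X).left i := by
  intro U
  let A := Γ(X.left, U.1)
  let a : Spec (CommRingCat.of A) ⟶ X.left := U.2.fromSpec
  obtain ⟨s, hs⟩ := Spec.map_surjective (a ≫ X.hom)
  let : Algebra R A := s.hom.toAlgebra
  choose t ht using fun j => Spec.map_surjective (𝒱.f j ≫ W.hom)
  let : ∀ j, Algebra R (𝒱.X j) := fun j => (t j).hom.toAlgebra
  have hp : ∀ j, Module.Projective R (𝒱.X j) := fun j => hproj j (t j) (ht j)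
  let P := pullback (a ≫ X.hom) W.hom
  let e : pullback a (snd W X).left ≅ P :=
    pullback.congrHom rfl (show (snd W X).left = (pullbackSymmetry W.hom X.hom).hom ≫ pullback.fst X.hom W.hom by simp) ≪≫
    (asIso (pullback.map a ((pullbackSymmetry W.hom X.hom).hom ≫ pullback.fst X.hom W.hom) a (pullback.fst X.hom W.hom)
      (𝟙 _) (pullbackSymmetry W.hom X.hom).hom (𝟙 _) (by simp) (by simp))) ≪≫
    pullbackRightPullbackFstIso X.hom W.hom a
  let Pc := Scheme.Pullback.openCoverOfRight 𝒱.openCover (a ≫ X.hom) W.hom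
  let c : ∀ j : 𝒱.I₀, Spec (CommRingCat.of (A ⊗[R] 𝒱.X j)) ≅ pullback (a ≫ X.hom) (𝒱.f j ≫ W.hom) :=
    fun j => (pullbackSpecIso R A (𝒱.X j)).symm ≪≫ pullback.congrHom hs (ht j)
  let v : ∀ j : 𝒱.I₀, Spec (CommRingCat.of (A ⊗[R] 𝒱.X j)) ⟶ pullback a (snd W X).left :=
    fun j => (c j).hom ≫ Pc.f j ≫ e.inv
  refine hasIdeal_of_charts a (fun j => A ⊗[R] 𝒱.X j) v (fun j => ?_) fun x => ?_
  · have h1 : e.inv ≫ pullback.fst a (snd W X).left = pullback.fst (a ≫ X.hom) W.hom := by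
      rw [Iso.inv_comp_eq]
      simp [e, P]
    simp only [v, Category.assoc, h1, Pc, c]
    simp
    exact pullbackSpecIso_inv_fst' R A (𝒱.X j)
  · obtain ⟨j, y, hy⟩ := Pc.exists_eq (e.hom x)
    refine ⟨j, (c j).inv y, ?_⟩
    show ((c j).inv ≫ (c j).hom ≫ Pc.f j ≫ e.inv) y = x
    rw [Iso.inv_hom_id_assoc, Scheme.Hom.comp_apply]
    show e.inv (Pc.f j y) = x
    rw [hy, ← Scheme.Hom.comp_apply, e.hom_inv_id]
    rfl

theorem hasIdeals_field {k : Type u} [Field k] {W X : Over (Spec (CommRingCat.of k))}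
    {E : Scheme.{u}} (i : E ⟶ (W ⊗ X).left) [IsClosedImmersion i] :
    HasIdeals (snd W X).left i :=
  hasIdeals_of_affine_base W.left.affineOpenCover (fun _ t _ => by
    let := t.hom.toAlgebra
    exact Module.Projective.of_basis (Module.Basis.ofVectorSpace k _)) i

/-- Over a field the coincidence locus of two morphisms into a separated scheme is closed. -/
theorem exists_coincidence_field {k : Type u} [Field k] {W X Y : Over (Spec (CommRingCat.of k))}
    [IsSeparated Y.hom] (a b : W ⊗ X ⟶ Y) :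
    ∃ (Z : Over (Spec (CommRingCat.of k))) (j : Z ⟶ X), IsClosedImmersion j.left ∧
      ∀ (T : Over (Spec (CommRingCat.of k))) (x : T ⟶ X),
        (∃ z : T ⟶ Z, z ≫ j = x) ↔ (W ◁ x) ≫ a = (W ◁ x) ≫ b := by
  obtain ⟨E, i, hi, hE⟩ := exists_equalizer_of_isSeparated a b
  exact exists_coincidence i hE (hasIdeals_field i)

end Groth.Agent.GrpSchLib
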