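import Mathlib.RingTheory.MvPolynomial.EulerIdentity
import Mathlib.RingTheory.Filtration
import Mathlib.RingTheory.Derivation.Basic
import Mathlib.RingTheory.Localization.AtPrime.Basic
import Mathlib.LinearAlgebra.Basis.VectorSpace
import Mathlib.LinearAlgebra.Dimension.Finite
import Mathlib.RingTheory.Ideal.BigOperators
import Mathlib.RingTheory.Localization.Submodule
import Mathlib.Tactic.LinearCombination
import Mathlib.Algebra.MvPolynomial.PDeriv
import Mathlib.LinearAlgebra.LinearIndependent.Basic

/-!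
The algebraic core of Cartier's theorem: in characteristic zero, a local ring having derivations
lifting every functional on its cotangent space is a domain.
-/

open MvPolynomial

namespace Groth.Agent.GrpSchLib

universe u v w

variable {k : Type u} [Field k] {B : Type v} [CommRing B] [Algebra k B]

theorem derivation_pow_succ_le (m : Ideal B) (D : Derivation k B B) (j : ℕ) :
    ∀ a ∈ m ^ (j + 1), D a ∈ m ^ j := by
  induction j with
  | zero => intro a _; simp
  | succ j ih =>
    intro a ha
    rw [pow_succ] at ha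
    refine Submodule.mul_induction_on ha (fun u hu v hv => ?_) (fun u v hu hv => ?_)
    · rw [Derivation.leibniz]
      refine Ideal.add_mem _ ?_ ?_
      · exact Ideal.mul_mem_right _ _ hu
      · rw [smul_eq_mul, pow_succ']
        exact Ideal.mul_mem_mul hv (ih u hu)
    · rw [map_add]
      exact Ideal.add_mem _ hu hv

theorem derivation_aeval {σ : Type w} [Fintype σ] [DecidableEq σ] (D : Derivation k B B) (x : σ → B)
    (P : MvPolynomial σ k) : D (aeval x P) = ∑ i, aeval x (pderiv i P) * D (x i) := by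
  induction P using MvPolynomial.induction_on with
  | C c => simp [aeval_C]
  | add p q hp hq => simp only [map_add, hp, hq, add_mul, Finset.sum_add_distrib]
  | mul_X p j hp =>
    simp only [map_mul, aeval_X, Derivation.leibniz, smul_eq_mul, hp, map_add, pderiv_X,
      add_mul, Finset.sum_add_distrib]
    congr 1
    · rw [Finset.sum_eq_single j]
      · simp
      · intro i _ hi; simp [Pi.single_eq_of_ne (Ne.symm hi)]
      · simp
    · rw [Finset.mul_sum]
      exact Finset.sum_congr rfl fun i _ => by ring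

theorem aeval_mem_pow {σ : Type w} [Fintype σ] (m : Ideal B) (x : σ → B) (hx : ∀ i, x i ∈ m)
    {P : MvPolynomial σ k} {j : ℕ} (hP : P.IsHomogeneous j) : aeval x P ∈ m ^ j := by
  rw [P.as_sum, map_sum]
  refine Ideal.sum_mem _ fun d hd => ?_
  rw [aeval_monomial]
  refine Ideal.mul_mem_left _ _ ?_
  have hdeg : ∑ i ∈ d.support, d i = j := by
    have := hP (mem_support_iff.mp hd)
    simpa [Finsupp.weight_apply, Finsupp.sum] using this
  rw [← hdeg, ← Finset.prod_pow_eq_pow_sum]
  exact Ideal.prod_mem_prod fun i _ => Ideal.pow_mem_pow (hx i) _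

theorem homogeneous_eq_zero [CharZero k] {σ : Type w} [Fintype σ] [DecidableEq σ] (m : Ideal B)
    (hm : m ≠ ⊤) (x : σ → B) (hx : ∀ i, x i ∈ m) (D : σ → Derivation k B B)
    (hD : ∀ i j, D i (x j) - (if i = j then 1 else 0) ∈ m) :
    ∀ (j : ℕ) (P : MvPolynomial σ k), P.IsHomogeneous j → aeval x P ∈ m ^ (j + 1) → P = 0 := by
  intro j
  induction j with
  | zero =>
    intro P hP hmem
    obtain ⟨c, rfl⟩ : ∃ c, P = C c :=
      ⟨_, totalDegree_eq_zero_iff_eq_C.mp (Nat.eq_zero_of_le_zero hP.totalDegree_le)⟩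
    rw [aeval_C, zero_add, pow_one] at hmem
    by_contra hc
    exact hm (Ideal.eq_top_of_isUnit_mem _ hmem
      ((Ne.isUnit (fun h => hc (by rw [h, map_zero]))).map (algebraMap k B)))
  | succ j ih =>
    intro P hP hmem
    have hd : ∀ i, pderiv i P = 0 := by
      intro i
      have hpi : ∀ l, (pderiv l P).IsHomogeneous j := fun l => by simpa using hP.pderiv (i := l)
      refine ih _ (hpi i) ?_
      have h1 := derivation_pow_succ_le m (D i) (j + 1) _ hmem
      rw [derivation_aeval] at h1
      have h2 : aeval x (pderiv i P) =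
          (∑ l, aeval x (pderiv l P) * D i (x l)) -
            ∑ l, aeval x (pderiv l P) * (D i (x l) - (if i = l then 1 else 0)) := by
        simp [mul_sub, Finset.sum_sub_distrib]
      rw [h2]
      refine Ideal.sub_mem _ h1 (Ideal.sum_mem _ fun l _ => ?_)
      rw [pow_succ]
      exact Ideal.mul_mem_mul (aeval_mem_pow m x hx (hpi l)) (hD i l)
    have hE := hP.sum_X_mul_pderiv
    simp only [hd, mul_zero, Finset.sum_const_zero] at hE
    rw [← Nat.cast_smul_eq_nsmul k] at hE
    exact (smul_eq_zero.mp hE.symm).resolve_left (Nat.cast_ne_zero.mpr (by omega))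

theorem exists_homogeneous_approx {σ : Type w} [Fintype σ] (m : Ideal B)
    (hres : ∀ b, ∃ c : k, b - algebraMap k B c ∈ m)
    (x : σ → B) (hspan : ∀ a ∈ m, ∃ c : σ → k, a - ∑ i, algebraMap k B (c i) * x i ∈ m ^ 2)
    (hx : ∀ i, x i ∈ m) :
    ∀ (j : ℕ), ∀ a ∈ m ^ j, ∃ P : MvPolynomial σ k, P.IsHomogeneous j ∧ a - aeval x P ∈ m ^ (j + 1) := by
  intro j
  induction j with
  | zero =>
    intro a _
    obtain ⟨c, hc⟩ := hres a
    exact ⟨C c, isHomogeneous_C _ _, by simpa [aeval_C] using hc⟩
  | succ j ih =>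
    intro a ha
    rw [pow_succ] at ha
    refine Submodule.mul_induction_on ha (fun u hu v hv => ?_) (fun u v hu hv => ?_)
    · obtain ⟨P, hP, hPu⟩ := ih u hu
      obtain ⟨c, hc⟩ := hspan v hv
      set Q : MvPolynomial σ k := ∑ i, C (c i) * X i with hQdef
      have hQ : Q.IsHomogeneous 1 := IsHomogeneous.sum _ _ _ fun i _ => isHomogeneous_C_mul_X _ _
      have hQv : v - aeval x Q ∈ m ^ 2 := by simpa [hQdef] using hc
      refine ⟨P * Q, hP.mul hQ, ?_⟩
      rw [map_mul, show u * v - aeval x P * aeval x Q =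
        (u - aeval x P) * v + aeval x P * (v - aeval x Q) by ring]
      refine Ideal.add_mem _ ?_ ?_
      · rw [pow_succ _ (j + 1)]; exact Ideal.mul_mem_mul hPu hv
      · rw [show j + 1 + 1 = j + 2 by ring, pow_add]
        exact Ideal.mul_mem_mul (aeval_mem_pow m x hx hP) hQv
    · obtain ⟨P, hP, hPu⟩ := hu
      obtain ⟨Q, hQ, hQv⟩ := hv
      refine ⟨P + Q, hP.add hQ, ?_⟩
      rw [map_add, show u + v - (aeval x P + aeval x Q) = u - aeval x P + (v - aeval x Q) by ring]
      exact Ideal.add_mem _ hPu hQv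

/-- Functionals on `B` killing `1` and `m ^ 2` which lift to derivations give a dual system. -/
theorem exists_dual_system (m : Ideal B) (hfg : m.FG) (hm : m ≠ ⊤)
    (hres : ∀ b, ∃ c : k, b - algebraMap k B c ∈ m)
    (hlift : ∀ l : B →ₗ[k] k, l 1 = 0 → (∀ a ∈ m ^ 2, l a = 0) →
      ∃ D : Derivation k B B, ∀ b, D b - algebraMap k B (l b) ∈ m) :
    ∃ (n : ℕ) (x : Fin n → B) (D : Fin n → Derivation k B B), (∀ i, x i ∈ m) ∧
      (∀ a ∈ m, ∃ c : Fin n → k, a - ∑ i, algebraMap k B (c i) * x i ∈ m ^ 2) ∧
      ∀ i j, D i (x j) - (if i = j then 1 else 0) ∈ m := by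
  classical
  obtain ⟨s, hs⟩ := hfg
  set N : Submodule k B := (m ^ 2).restrictScalars k with hN
  have hsm : ∀ g ∈ s, g ∈ m := fun g hg => hs ▸ Ideal.subset_span hg
  have hspan0 : ∀ a ∈ m, N.mkQ a ∈ Submodule.span k (N.mkQ '' (s : Set B)) := by
    intro a ha
    rw [← hs] at ha
    induction ha using Submodule.span_induction with
    | mem g hg => exact Submodule.subset_span ⟨g, hg, rfl⟩
    | zero => simp
    | add g h _ _ hg hh => rw [map_add]; exact Submodule.add_mem _ hg hh
    | smul r g hg' hg =>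
      obtain ⟨c, hc⟩ := hres r
      have hgm : g ∈ m := hs ▸ hg'
      have : N.mkQ (r • g) = c • N.mkQ g := by
        rw [← map_smul]
        refine (Submodule.Quotient.eq N).mpr ?_
        rw [hN, Submodule.restrictScalars_mem, smul_eq_mul, Algebra.smul_def, ← sub_mul, pow_two]
        exact Ideal.mul_mem_mul hc hgm
      rw [this]
      exact Submodule.smul_mem _ _ hg
  obtain ⟨t, hts, htspan, hli⟩ := exists_linearIndependent k (N.mkQ '' (s : Set B))
  have htfin : t.Finite := (s.finite_toSet.image _).subset hts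
  have : Fintype t := htfin.fintype
  have hpre : ∀ v : t, ∃ g ∈ s, N.mkQ g = v.1 := fun v => by
    obtain ⟨g, hg, hgv⟩ := hts v.2
    exact ⟨g, hg, hgv⟩
  choose g hgs hgv using hpre
  let e := (Fintype.equivFin t).symm
  let x : Fin (Fintype.card t) → B := fun i => g (e i)
  have hxm : ∀ i, x i ∈ m := fun i => hsm _ (hgs _)
  let W : Submodule k (B ⧸ N) := Submodule.span k {N.mkQ 1}
  have hv : LinearIndependent k (fun o : Option (Fin (Fintype.card t)) =>
      o.elim (N.mkQ 1) (fun i => N.mkQ (x i))) := by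
    rw [linearIndependent_option]
    refine ⟨?_, ?_⟩
    · have : (fun i => N.mkQ (x i)) = (Subtype.val : t → B ⧸ N) ∘ e := by
        ext i; exact hgv (e i)
      exact this ▸ hli.comp e e.injective
    · intro hmem
      have hsub : Submodule.span k (Set.range fun i => N.mkQ (x i)) ≤
          (m.restrictScalars k).map N.mkQ :=
        Submodule.span_le.mpr (by rintro _ ⟨i, rfl⟩; exact ⟨x i, hxm i, rfl⟩)
      obtain ⟨a, ha, haeq⟩ := hsub hmem
      have h1 : a - 1 ∈ m ^ 2 := (Submodule.Quotient.eq N).mp haeq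
      refine hm (m.eq_top_iff_one.mpr ?_)
      have := Ideal.sub_mem _ (show a ∈ m from ha) (Ideal.pow_le_self two_ne_zero h1)
      simpa using this
  let bas := Module.Basis.span hv
  have hl : ∀ i, ∃ D : Derivation k B B, ∀ j, D (x j) - (if i = j then 1 else 0) ∈ m := by
    intro i
    obtain ⟨L, hL⟩ := LinearMap.exists_extend (bas.coord (some i))
    have hLv : ∀ o, L (o.elim (N.mkQ 1) (fun i => N.mkQ (x i))) = if o = some i then 1 else 0 := by
      intro o
      have := LinearMap.congr_fun hL (bas o)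
      rw [LinearMap.comp_apply, Submodule.subtype_apply, Module.Basis.coord_apply,
        Module.Basis.repr_self, Finsupp.single_apply, Module.Basis.span_apply] at this
      exact this
    obtain ⟨D, hD⟩ := hlift (L ∘ₗ N.mkQ) (by simpa using hLv none) (fun a ha => by
      show L (N.mkQ a) = 0
      rw [show N.mkQ a = 0 from (Submodule.Quotient.mk_eq_zero N).mpr ha]
      exact map_zero L)
    refine ⟨D, fun j => ?_⟩
    have := hD (x j)
    rw [LinearMap.comp_apply, show L (N.mkQ (x j)) = if some j = some i then 1 else 0 from hLv (some j)] at this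
    by_cases hij : i = j
    · subst hij; simpa using this
    · simpa [hij, Ne.symm hij] using this
  choose D hD using hl
  refine ⟨_, x, D, hxm, fun a ha => ?_, hD⟩
  have : N.mkQ a ∈ Submodule.span k (Set.range fun i => N.mkQ (x i)) := by
    have h := hspan0 a ha
    rw [← htspan] at h
    have hrange : t ⊆ Set.range fun i => N.mkQ (x i) := by
      intro v hv
      exact ⟨e.symm ⟨v, hv⟩, by simpa [x] using hgv ⟨v, hv⟩⟩
    refine Submodule.span_mono hrange h
  obtain ⟨c, hc⟩ := (Submodule.mem_span_range_iff_exists_fun k).mp this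
  refine ⟨c, ?_⟩
  have : N.mkQ (∑ i, c i • x i) = N.mkQ a := by simpa using hc
  have h2 := (Submodule.Quotient.eq N).mp this.symm
  simpa [Algebra.smul_def, hN] using h2

/-- Cartier's theorem, algebraic form. -/
theorem isDomain_of_derivations [CharZero k] [IsNoetherianRing B] (m : Ideal B) [m.IsMaximal]
    (hres : ∀ b, ∃ c : k, b - algebraMap k B c ∈ m)
    (hlift : ∀ l : B →ₗ[k] k, l 1 = 0 → (∀ a ∈ m ^ 2, l a = 0) →
      ∃ D : Derivation k B B, ∀ b, D b - algebraMap k B (l b) ∈ m)
    (R : Type w) [CommRing R] [Algebra B R] [IsLocalization.AtPrime R m] : IsDomain R := by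
  classical
  obtain ⟨n, x, D, hxm, hspan, hD⟩ :=
    exists_dual_system m (IsNoetherian.noetherian m) ‹m.IsMaximal›.ne_top hres hlift
  have hnl : IsLocalRing R := IsLocalization.AtPrime.isLocalRing R m
  have : IsNoetherianRing R := IsLocalization.isNoetherianRing m.primeCompl R ‹_›
  have hord : ∀ a : B, algebraMap B R a ≠ 0 → ∃ (p : ℕ) (P : MvPolynomial (Fin n) k),
      P.IsHomogeneous p ∧ P ≠ 0 ∧ a ∈ m ^ p ∧ a - aeval x P ∈ m ^ (p + 1) := by
    intro a ha
    have hex : ∃ p, a ∉ m ^ (p + 1) := by
      by_contra hall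
      push Not at hall
      apply ha
      have : algebraMap B R a ∈ ⨅ p, (IsLocalRing.maximalIdeal R) ^ p := by
        rw [Ideal.mem_iInf]
        intro p
        rw [← IsLocalization.AtPrime.map_eq_maximalIdeal m R, ← Ideal.map_pow]
        refine Ideal.mem_map_of_mem _ ?_
        rcases p with _ | p
        · simp
        · exact hall p
      rwa [Ideal.iInf_pow_eq_bot_of_isLocalRing _ (IsLocalRing.maximalIdeal.isMaximal R).ne_top,
        Ideal.mem_bot] at this
    have hp1 := Nat.find_spec hex
    have hp : a ∈ m ^ Nat.find hex := by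
      rcases h : Nat.find hex with _ | p
      · simp
      · exact not_not.mp (Nat.find_min hex (show p < Nat.find hex by omega))
    obtain ⟨P, hP, hPa⟩ := exists_homogeneous_approx m hres x hspan hxm _ a hp
    refine ⟨_, P, hP, ?_, hp, hPa⟩
    rintro rfl
    rw [map_zero, sub_zero] at hPa
    exact hp1 hPa
  have hmk : ∀ (r : R), r ≠ 0 → ∃ a : B, algebraMap B R a ≠ 0 ∧ ∃ u : R, IsUnit u ∧ r * u = algebraMap B R a := by
    intro r hr
    obtain ⟨a, s, rfl⟩ := IsLocalization.exists_mk'_eq m.primeCompl r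
    refine ⟨a, ?_, _, IsLocalization.map_units R s, IsLocalization.mk'_spec R a s⟩
    intro h0
    exact hr (IsLocalization.mk'_eq_zero_iff _ _ |>.mpr ((IsLocalization.map_eq_zero_iff m.primeCompl R a).mp h0))
  have : NoZeroDivisors R := by
    refine ⟨fun {r r'} hrr => ?_⟩
    by_contra hne
    push Not at hne
    obtain ⟨a, ha0, u, hu, hua⟩ := hmk r hne.1
    obtain ⟨b, hb0, u', hu', hub⟩ := hmk r' hne.2
    have hab : algebraMap B R (a * b) = 0 := by
      rw [map_mul, ← hua, ← hub, mul_mul_mul_comm, hrr, zero_mul]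
    obtain ⟨⟨s, hs⟩, hsab⟩ := (IsLocalization.map_eq_zero_iff m.primeCompl R _).mp hab
    obtain ⟨p, P, hP, hP0, hap, haP⟩ := hord a ha0
    obtain ⟨q, Q, hQ, hQ0, hbq, hbQ⟩ := hord b hb0
    obtain ⟨c, hc⟩ := hres s
    have hsab' : s * (a * b) = 0 := hsab
    have hc0 : c ≠ 0 := by
      rintro rfl
      rw [map_zero, sub_zero] at hc
      exact hs hc
    have key : aeval x (C c * (P * Q)) ∈ m ^ (p + q + 1) := by
      have e : aeval x (C c * (P * Q)) = -((s - algebraMap k B c) * (a * b)) -
          algebraMap k B c * ((a - aeval x P) * b + aeval x P * (b - aeval x Q)) := by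
        rw [map_mul, map_mul, aeval_C]
        linear_combination hsab'
      rw [e]
      refine Ideal.sub_mem _ (neg_mem ?_) (Ideal.mul_mem_left _ _ (Ideal.add_mem _ ?_ ?_))
      · rw [pow_succ', pow_add]; exact Ideal.mul_mem_mul hc (Ideal.mul_mem_mul hap hbq)
      · rw [show p + q + 1 = p + 1 + q by ring, pow_add]; exact Ideal.mul_mem_mul haP hbq
      · rw [show p + q + 1 = p + (q + 1) by ring, pow_add]
        exact Ideal.mul_mem_mul (aeval_mem_pow m x hxm hP) hbQ
    have hzero := homogeneous_eq_zero m ‹m.IsMaximal›.ne_top x hxm D hD (p + q) _ ((hP.mul hQ).C_mul c) key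
    exact mul_ne_zero (by simpa using hc0) (mul_ne_zero hP0 hQ0) hzero
  exact NoZeroDivisors.to_isDomain R

end Groth.Agent.GrpSchLib
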