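import Groth.Agent.GrpSchLib.Tangent
import Groth.Agent.GrpSchLib.CartierCore
import Mathlib.AlgebraicGeometry.Group.Smooth
import Mathlib.AlgebraicGeometry.Morphisms.FiniteType
import Mathlib.RingTheory.LocalProperties.Reduced
import Mathlib.RingTheory.FiniteType

/-! Cartier's theorem: group schemes locally of finite type over a field of characteristic zero are smooth. -/

open CategoryTheory AlgebraicGeometry MonoidalCategory CartesianMonoidalCategory MonObj

namespace Groth.Agent.GrpSchLib

universe u

theorem specHom_left {K : Type u} [Field K] {C C' : Type u} [CommRing C] [Algebra K C] [CommRing C']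
    [Algebra K C'] (φ : C →ₐ[K] C') : (specHom φ).left = Spec.map (CommRingCat.ofHom φ.toRingHom) := rfl

theorem isDomain_stalk_one {K : Type u} [Field K] [CharZero K] (G : Over (Spec (CommRingCat.of K)))
    [GrpObj G] [LocallyOfFiniteType G.hom] :
    IsDomain (G.left.presheaf.stalk (η[G].left (IsLocalRing.closedPoint K))) := by
  obtain ⟨U, hU, hxU, -⟩ := exists_isAffineOpen_mem_and_subset
    (show η[G].left (IsLocalRing.closedPoint K) ∈ (⊤ : G.left.Opens) from trivial)
  set B : CommRingCat := Γ(G.left, U)
  let j : Spec B ⟶ G.left := hU.fromSpec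
  obtain ⟨s, hs⟩ := Spec.map_surjective (j ≫ G.hom)
  let : Algebra K B := s.hom.toAlgebra
  have hj : j ≫ G.hom = Spec.map (CommRingCat.ofHom (algebraMap K B)) := hs.symm
  have hrange : Set.range η[G].left ⊆ Set.range j := by
    rintro _ ⟨(p : Spec (CommRingCat.of K)), rfl⟩
    rw [hU.range_fromSpec, Subsingleton.elim p (IsLocalRing.closedPoint K)]
    exact hxU
  obtain ⟨q, hq⟩ := Spec.map_surjective (IsOpenImmersion.lift j η[G].left hrange)
  have hqj : Spec.map q ≫ j = η[G].left := by rw [hq]; exact IsOpenImmersion.lift_fac _ _ _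
  have hqK : ∀ c : K, q.hom (algebraMap K B c) = c := by
    have h : Spec.map q ≫ Spec.map (CommRingCat.ofHom (algebraMap K B)) = Spec.map (𝟙 (CommRingCat.of K)) := by
      rw [← hj, ← Category.assoc, hqj, Over.w η[G], Spec.map_id]
      rfl
    rw [← Spec.map_comp] at h
    exact fun c => congrArg (fun r => r.hom c) (Spec.map_injective h)
  let χ : B →ₐ[K] K := { q.hom with commutes' := hqK }
  have hχ : Spec.map (CommRingCat.ofHom χ.toRingHom) ≫ j = η[G].left := hqj
  have : Algebra.FiniteType K B := by
    have h : LocallyOfFiniteType (Spec.map (CommRingCat.ofHom (algebraMap K B))) := hj ▸ inferInstance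
    exact (HasRingHomProperty.Spec_iff (P := @LocallyOfFiniteType)).mp h
  have : IsNoetherianRing B := Algebra.FiniteType.isNoetherianRing K B
  let P : Spec B := Spec.map (CommRingCat.ofHom χ.toRingHom) (IsLocalRing.closedPoint K)
  have hP : P.asIdeal = RingHom.ker χ := by
    show Ideal.comap χ.toRingHom (IsLocalRing.maximalIdeal K) = RingHom.ker χ
    rw [IsLocalRing.isField_iff_maximalIdeal_eq.mp (Field.toIsField K)]
    rfl
  have : P.asIdeal.IsMaximal := hP ▸ RingHom.ker_isMaximal_of_surjective χ (fun c => ⟨algebraMap K B c, hqK c⟩)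
  have hjP : j P = η[G].left (IsLocalRing.closedPoint K) := by
    rw [← hχ]; rfl
  have hy : hU.fromSpec P ∈ U := hjP ▸ hxU
  let : Algebra B (G.left.presheaf.stalk (hU.fromSpec P)) :=
    TopCat.Presheaf.algebra_section_stalk G.left.presheaf ⟨hU.fromSpec P, hy⟩
  have : IsLocalization.AtPrime (G.left.presheaf.stalk (hU.fromSpec P)) P.asIdeal :=
    hU.isLocalization_stalk' P hy
  rw [← hjP]
  refine isDomain_of_derivations P.asIdeal (fun b => ⟨χ b, ?_⟩) (fun l h1 h2 => ?_) _
  · rw [hP]; simp [RingHom.mem_ker]
  · rw [hP] at h2 ⊢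
    exact exists_derivation_lift B j hj χ hχ l h1 h2

set_option backward.isDefEq.respectTransparency false in
set_option backward.defeqAttrib.useBackward true in
theorem isDomain_stalk_of_isClosed {K : Type u} [Field K] [IsAlgClosed K] [CharZero K]
    (G : Over (Spec (CommRingCat.of K))) [GrpObj G] [LocallyOfFiniteType G.hom]
    (x : G.left) (hx : IsClosed ({x} : Set G.left)) : IsDomain (G.left.presheaf.stalk x) := by
  let x' : 𝟙_ _ ⟶ G := Over.homMk _ ((pointEquivClosedPoint G.hom).symm ⟨x, hx⟩).2
  let α := (GrpObj.mulRight (A := G) x').symm ≪≫ (GrpObj.mulRight (A := G) η[G])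
  have hα : x' ≫ α.hom = η[G] := by
    dsimp only [Iso.trans_hom, Iso.symm_hom, α]
    rw [← Category.assoc, ← Iso.eq_comp_inv]
    simp [comp_lift_assoc]
  have hα' : α.hom.left x = η[G].left (IsLocalRing.closedPoint K) := by
    simpa [x', pointEquivClosedPoint] using congr(($hα).left (IsLocalRing.closedPoint K))
  have : IsIso α.hom.left := ((Over.forget _).mapIso α).isIso_hom
  have h1 : IsDomain (G.left.presheaf.stalk (α.hom.left x)) := hα' ▸ isDomain_stalk_one G
  exact (asIso (α.hom.left.stalkMap x)).symm.commRingCatIsoToRingEquiv.toMulEquiv.isDomain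

theorem isReduced_of_isAlgClosed {K : Type u} [Field K] [IsAlgClosed K] [CharZero K]
    (G : Over (Spec (CommRingCat.of K))) [GrpObj G] [LocallyOfFiniteType G.hom] :
    IsReduced G.left := by
  have := LocallyOfFiniteType.jacobsonSpace G.hom
  suffices h : ∀ x : G.left, _root_.IsReduced (G.left.presheaf.stalk x) from isReduced_of_isReduced_stalk _
  intro x
  obtain ⟨U, hU, hxU, -⟩ := exists_isAffineOpen_mem_and_subset (show x ∈ (⊤ : G.left.Opens) from trivial)
  have hB : _root_.IsReduced Γ(G.left, U) := by
    refine isReduced_ofLocalizationMaximal _ fun m hm => ?_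
    let P : Spec Γ(G.left, U) := ⟨m, hm.isPrime⟩
    have hPc : IsClosed ({hU.fromSpec P} : Set G.left) := by
      refine (mem_closedPoints_iff).mp (isClosed_singleton_of_isLocallyClosed_singleton ?_)
      rw [← Set.image_singleton]
      exact (((PrimeSpectrum.isClosed_singleton_iff_isMaximal P).mpr hm).isLocallyClosed).image
        hU.fromSpec.isOpenEmbedding.isInducing hU.fromSpec.isOpenEmbedding.isOpen_range.isLocallyClosed
    have := isDomain_stalk_of_isClosed G _ hPc
    have hy : hU.fromSpec P ∈ U := by
      have : hU.fromSpec P ∈ Set.range hU.fromSpec := ⟨P, rfl⟩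
      rwa [hU.range_fromSpec] at this
    let : Algebra Γ(G.left, U) (G.left.presheaf.stalk (hU.fromSpec P)) :=
      TopCat.Presheaf.algebra_section_stalk G.left.presheaf ⟨hU.fromSpec P, hy⟩
    have : IsLocalization.AtPrime (G.left.presheaf.stalk (hU.fromSpec P)) m :=
      hU.isLocalization_stalk' P hy
    exact isReduced_of_injective (IsLocalization.algEquiv m.primeCompl (Localization.AtPrime m)
      (G.left.presheaf.stalk (hU.fromSpec P))) (AlgEquiv.injective _)
  have : IsReduced (Spec Γ(G.left, U)) := inferInstance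
  obtain ⟨P, rfl⟩ : x ∈ Set.range hU.fromSpec := by rw [hU.range_fromSpec]; exact hxU
  exact isReduced_of_injective (hU.fromSpec.stalkMap P).hom
    (asIso (hU.fromSpec.stalkMap P)).commRingCatIsoToRingEquiv.injective

set_option backward.isDefEq.respectTransparency false in
set_option backward.defeqAttrib.useBackward true in
open MonObj in
/-- A reduced group scheme locally of finite type over an algebraically closed field is smooth. -/
theorem smooth_of_isReduced_of_isAlgClosed {K : Type u} [Field K] [IsAlgClosed K]
    (G : Over (Spec (CommRingCat.of K))) [GrpObj G] [LocallyOfFiniteType G.hom] [IsReduced G.left] :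
    Smooth G.hom := by
  have := LocallyOfFiniteType.jacobsonSpace G.hom
  have : Nonempty G.left := ⟨η[G].left (IsLocalRing.closedPoint _)⟩
  rw [← Scheme.Hom.smoothLocus_eq_top_iff, ← TopologicalSpace.Opens.coe_eq_univ,
    ← not_ne_iff, ← Set.nonempty_compl]
  intro H
  obtain ⟨x, hx, hxc⟩ :=
    nonempty_inter_closedPoints H G.hom.smoothLocus.2.isClosed_compl.isLocallyClosed
  obtain ⟨y, hy : y ∈ G.hom.smoothLocus, hyc⟩ := nonempty_inter_closedPoints
    G.hom.dense_smoothLocus_of_perfectField.nonempty G.hom.smoothLocus.2.isLocallyClosed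
  let x' : 𝟙_ _ ⟶ G := Over.homMk _ ((pointEquivClosedPoint G.hom).symm ⟨x, hxc⟩).2
  let y' : 𝟙_ _ ⟶ G := Over.homMk _ ((pointEquivClosedPoint G.hom).symm ⟨y, hyc⟩).2
  let α := (GrpObj.mulRight (A := G) x').symm ≪≫ (GrpObj.mulRight (A := G) y')
  have hα : x' ≫ α.hom = y' := by
    dsimp only [Iso.trans_hom, Iso.symm_hom, α]
    rw [← Category.assoc, ← Iso.eq_comp_inv]
    simp [comp_lift_assoc]
  have hα' : α.hom.left x = y := by
    simpa [x', y', pointEquivClosedPoint] using congr(($hα).left (IsLocalRing.closedPoint K))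
  have : IsIso α.hom.left := ((Over.forget _).mapIso α).isIso_hom
  rw! [← hα', ← α.hom.left.mem_preimage, Scheme.Hom.preimage_smoothLocus_eq,
    show α.hom.left ≫ G.hom = G.hom from α.hom.w] at hy
  exact hx hy

/-- Smoothness of a group scheme may be checked over an algebraic closure. -/
theorem smooth_of_isReduced_baseChange {K : Type u} [Field K] (G : Over (Spec (CommRingCat.of K)))
    [GrpObj G] [LocallyOfFiniteType G.hom]
    (h : IsReduced (Limits.pullback G.hom
      (Spec.map (CommRingCat.ofHom (algebraMap K (AlgebraicClosure K)))))) : Smooth G.hom := by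
  let g : Spec (CommRingCat.of (AlgebraicClosure K)) ⟶ Spec (CommRingCat.of K) :=
    Spec.map (CommRingCat.ofHom <| algebraMap K (AlgebraicClosure K))
  let : GrpObj (Over.mk G.hom) := ‹GrpObj G›
  apply MorphismProperty.of_pullback_snd_of_descendsAlong
    (Q := @Surjective ⊓ @Flat ⊓ @QuasiCompact) (g := g)
  · exact ⟨⟨inferInstance, inferInstance⟩, inferInstance⟩
  · let : GrpObj (Over.mk (Limits.pullback.snd G.hom g)) := Over.grpObjMkPullbackSnd
    have : IsReduced (Over.mk (Limits.pullback.snd G.hom g)).left := h
    have : LocallyOfFiniteType (Over.mk (Limits.pullback.snd G.hom g)).hom :=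
      inferInstanceAs (LocallyOfFiniteType (Limits.pullback.snd G.hom g))
    exact smooth_of_isReduced_of_isAlgClosed (Over.mk (Limits.pullback.snd G.hom g))

/-- Cartier's theorem. -/
theorem smooth_of_charZero {K : Type u} [Field K] [CharZero K] (G : Over (Spec (CommRingCat.of K)))
    [GrpObj G] [LocallyOfFiniteType G.hom] : Smooth G.hom := by
  refine smooth_of_isReduced_baseChange G ?_
  have : CharZero (AlgebraicClosure K) := charZero_of_injective_algebraMap (algebraMap K (AlgebraicClosure K)).injective
  let g : Spec (CommRingCat.of (AlgebraicClosure K)) ⟶ Spec (CommRingCat.of K) :=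
    Spec.map (CommRingCat.ofHom <| algebraMap K (AlgebraicClosure K))
  let : GrpObj (Over.mk G.hom) := ‹GrpObj G›
  let : GrpObj (Over.mk (Limits.pullback.snd G.hom g)) := Over.grpObjMkPullbackSnd
  have : LocallyOfFiniteType (Over.mk (Limits.pullback.snd G.hom g)).hom :=
    inferInstanceAs (LocallyOfFiniteType (Limits.pullback.snd G.hom g))
  exact isReduced_of_isAlgClosed (Over.mk (Limits.pullback.snd G.hom g))

end Groth.Agent.GrpSchLib
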