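import Groth.Agent.GenFree.Basic
import Groth.Agent.SrcDescent.LocalAtSource
import Groth.Prelude.Def_Red
import Mathlib.AlgebraicGeometry.AlgClosed.Basic
import Mathlib.AlgebraicGeometry.Geometrically.Reduced
import Mathlib.AlgebraicGeometry.Morphisms.FiniteType
import Mathlib.AlgebraicGeometry.Noetherian

/-! A surjective homomorphism of groups over a field with geometrically reduced target is flat. -/

open CategoryTheory AlgebraicGeometry Limits MonoidalCategory CartesianMonoidalCategory MonObj
  TopologicalSpace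

namespace Groth.Agent.GrpSchLib

universe u

theorem flat_away_of_gfree {A B : Type u} [CommRing A] [CommRing B] [Algebra A B] (a : A)
    (h : GenFree.GFree A a B) : Module.Flat A (Localization.Away (algebraMap A B a)) := by
  obtain ⟨J, φ, hφ, hr⟩ := h
  let Bs := Localization.Away (algebraMap A B a)
  let ψ : (J →₀ A) →ₗ[A] Bs := (IsScalarTower.toAlgHom A B Bs).toLinearMap ∘ₗ φ
  have : IsLocalizedModule (Submonoid.powers a) ψ := by
    constructor
    · rintro ⟨_, n, rfl⟩
      rw [Module.End.isUnit_iff]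
      have hu : IsUnit (algebraMap A Bs (a ^ n)) := by
        rw [map_pow, IsScalarTower.algebraMap_apply A B Bs]
        exact (IsLocalization.Away.algebraMap_isUnit _).pow n
      refine Function.bijective_iff_has_inverse.mpr ⟨fun b => hu.unit⁻¹.val * b, fun b => ?_, fun b => ?_⟩
      · simp only [Module.algebraMap_end_apply, Algebra.smul_def]
        rw [← _root_.mul_assoc, IsUnit.val_inv_mul, _root_.one_mul]
      · simp only [Module.algebraMap_end_apply, Algebra.smul_def]
        rw [← _root_.mul_assoc, IsUnit.mul_val_inv, _root_.one_mul]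
    · intro y
      obtain ⟨⟨b, _, n, rfl⟩, hb⟩ := IsLocalization.surj (Submonoid.powers (algebraMap A B a)) y
      obtain ⟨k, c, hc⟩ := hr b
      refine ⟨⟨c, ⟨a ^ (k + n), k + n, rfl⟩⟩, ?_⟩
      simp only [ψ, LinearMap.comp_apply, hc, AlgHom.toLinearMap_apply, Submonoid.smul_def,
        IsScalarTower.coe_toAlgHom']
      simp only at hb
      rw [Algebra.smul_def, Algebra.smul_def, map_mul, ← hb, IsScalarTower.algebraMap_apply A B Bs,
        pow_add, map_mul, map_mul, map_pow (algebraMap A B) a n]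
      ring
    · intro c c' hcc
      simp only [ψ, LinearMap.comp_apply, AlgHom.toLinearMap_apply, IsScalarTower.coe_toAlgHom'] at hcc
      obtain ⟨⟨_, n, rfl⟩, hn⟩ := IsLocalization.exists_of_eq (M := Submonoid.powers (algebraMap A B a)) hcc
      refine ⟨⟨a ^ n, n, rfl⟩, hφ ?_⟩
      simp only [Submonoid.smul_def, map_smul, Algebra.smul_def, map_pow]
      exact hn
  have : Module.Flat A (LocalizedModule (Submonoid.powers a) (J →₀ A)) :=
    have : Module.Flat (Localization (Submonoid.powers a)) (LocalizedModule (Submonoid.powers a) (J →₀ A)) :=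
      Module.Flat.of_isLocalizedModule (R := A) (Localization (Submonoid.powers a)) (Submonoid.powers a)
        (LocalizedModule.mkLinearMap (Submonoid.powers a) (J →₀ A))
    have : Module.Flat A (Localization (Submonoid.powers a)) :=
      IsLocalization.flat (Localization (Submonoid.powers a)) (Submonoid.powers a)
    Module.Flat.trans A (Localization (Submonoid.powers a)) _
  exact Module.Flat.of_linearEquiv (IsLocalizedModule.iso (Submonoid.powers a) ψ).symm

/-- Generic flatness on an affine open over an integral affine open. -/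
theorem exists_forall_flat_stalkMap {X Y : Scheme.{u}} (f : X ⟶ Y) [LocallyOfFiniteType f]
    [IsLocallyNoetherian Y] (U : Y.Opens) (hU : IsAffineOpen U) [IsIntegral U.toScheme]
    (V : X.Opens) (hV : IsAffineOpen V) (e' : V ≤ f ⁻¹ᵁ U) :
    ∃ a : Γ(Y, U), a ≠ 0 ∧ ∀ x ∈ V, f x ∈ Y.basicOpen a → (f.stalkMap x).hom.Flat := by
  let φ := f.appLE U V e'
  let := φ.hom.toAlgebra
  have : Algebra.FiniteType Γ(Y, U) Γ(X, V) := f.finiteType_appLE hU hV e'
  have : IsDomain Γ(Y, U) := U.topIso.commRingCatIsoToRingEquiv.symm.toMulEquiv.isDomain _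
  have : IsNoetherianRing Γ(Y, U) := IsLocallyNoetherian.component_noetherian ⟨U, hU⟩
  obtain ⟨a, ha, hfree⟩ := GenFree.exists_gfree (R := Γ(Y, U)) (M := Γ(X, V)) Γ(X, V)
  have := flat_away_of_gfree a hfree
  let ρ : Γ(X, V) ⟶ CommRingCat.of (Localization.Away (algebraMap Γ(Y, U) Γ(X, V) a)) :=
    CommRingCat.ofHom (algebraMap Γ(X, V) _)
  have : IsOpenImmersion (Spec.map ρ) := IsOpenImmersion.of_isLocalization (φ.hom a)
  have hflat : Flat ((Spec.map ρ ≫ hV.fromSpec) ≫ f) := by
    rw [Category.assoc, ← hU.SpecMap_appLE_fromSpec f hV e', ← Category.assoc, ← Spec.map_comp]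
    have : Flat (Spec.map (φ ≫ ρ)) := by
      rw [HasRingHomProperty.Spec_iff (P := @Flat)]
      show (RingHom.Flat ((algebraMap Γ(X, V) _).comp (algebraMap Γ(Y, U) Γ(X, V))))
      rw [← IsScalarTower.algebraMap_eq]
      exact RingHom.flat_algebraMap_iff.mpr inferInstance
    infer_instance
  refine ⟨a, ha, fun x hxV h1 => ?_⟩
  have hxa : x ∈ X.basicOpen (φ.hom a) := by
    replace h1 : x ∈ f ⁻¹ᵁ Y.basicOpen a := h1
    rw [Scheme.preimage_basicOpen] at h1
    have : (φ.hom a) = X.presheaf.map (homOfLE e').op (f.app U a) := rfl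
    rw [this, Scheme.basicOpen_res]
    exact ⟨hxV, h1⟩
  rw [← hV.fromSpec_image_basicOpen] at hxa
  obtain ⟨p, hp, rfl⟩ := hxa
  have : p ∈ Set.range (Spec.map ρ) := by
    show p ∈ Set.range (PrimeSpectrum.comap (algebraMap Γ(X, V) (Localization.Away (algebraMap Γ(Y, U) Γ(X, V) a))))
    erw [PrimeSpectrum.localization_away_comap_range (Localization.Away (algebraMap Γ(Y, U) Γ(X, V) a)) (algebraMap Γ(Y, U) Γ(X, V) a)]
    exact hp
  obtain ⟨q, rfl⟩ := this
  exact SrcDescent.flat_of_flat_comp (Spec.map ρ ≫ hV.fromSpec) f q hflat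

theorem exists_integral_affineOpen (Y : Scheme.{u}) [IsReduced Y] [IsLocallyNoetherian Y] [Nonempty Y] :
    ∃ U : Y.Opens, IsAffineOpen U ∧ IsIntegral U.toScheme := by
  obtain ⟨_, ⟨⟨W, hW, rfl⟩, hyW, -⟩⟩ :=
    Y.isBasis_affineOpens.exists_subset_of_mem_open (Set.mem_univ (Classical.arbitrary Y)) isOpen_univ
  have : IsNoetherianRing Γ(Y, W) := IsLocallyNoetherian.component_noetherian ⟨W, hW⟩
  have hnoe := noetherianSpace_of_isAffineOpen W hW
  obtain ⟨o, ho, ⟨w, hwo⟩, hoZ⟩ := @NoetherianSpace.exists_isOpen_nonempty_subset_irreducibleComponent _ _ hnoe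
    (irreducibleComponent (⟨_, hyW⟩ : W)) (irreducibleComponent_mem_irreducibleComponents _)
  have ho' : IsOpen (Subtype.val '' o : Set Y) := W.2.isOpenMap_subtype_val _ ho
  obtain ⟨_, ⟨⟨U, hU, rfl⟩, hwU, e⟩⟩ :=
    Y.isBasis_affineOpens.exists_subset_of_mem_open (Set.mem_image_of_mem Subtype.val hwo) ho'
  let U' : Y.Opens := U
  refine ⟨U', hU, ?_⟩
  have h1 : IsPreirreducible (Subtype.val '' irreducibleComponent (⟨_, hyW⟩ : W) : Set Y) :=
    isIrreducible_irreducibleComponent.isPreirreducible.image _ continuous_subtype_val.continuousOn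
  have h2 : IsPreirreducible (U : Set Y) := h1.open_subset U.2 (e.trans (Set.image_mono hoZ))
  have : IrreducibleSpace U'.toScheme := by
    have h3 : IsIrreducible (U' : Set Y) := ⟨⟨_, hwU⟩, h2⟩
    rw [irreducibleSpace_def]
    have h4 : IsIrreducible (Subtype.val ⁻¹' (U' : Set Y) : Set U'.toScheme) :=
      h3.preimage U'.2.isOpenEmbedding_subtypeVal ⟨_, hwU, ⟨_, hwU⟩, rfl⟩
    convert h4
    exact (Set.eq_univ_of_forall fun y : U'.toScheme => y.2).symm
  exact isIntegral_of_irreducibleSpace_of_isReduced _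

/-- Generic flatness. -/
theorem exists_opens_flat {X Y : Scheme.{u}} (f : X ⟶ Y) [LocallyOfFiniteType f] [QuasiCompact f]
    [IsReduced Y] [IsLocallyNoetherian Y] [Nonempty Y] :
    ∃ U : Y.Opens, (U : Set Y).Nonempty ∧ ∀ x, f x ∈ U → (f.stalkMap x).hom.Flat := by
  obtain ⟨U, hU, hUi⟩ := exists_integral_affineOpen Y
  have hc : IsCompact ((f ⁻¹ᵁ U : X.Opens) : Set X) := QuasiCompact.isCompact_preimage _ U.2 hU.isCompact
  obtain ⟨s, hs, hsU⟩ := (TopologicalSpace.Opens.IsBasis.isCompact_open_iff_eq_finite_iUnion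
    (fun V : X.affineOpens => (V : X.Opens)) (by simpa [Subtype.range_coe] using X.isBasis_affineOpens)
    (fun V => V.2.isCompact) _).mp ⟨hc, (f ⁻¹ᵁ U).2⟩
  have : IsDomain Γ(Y, U) := U.topIso.commRingCatIsoToRingEquiv.symm.toMulEquiv.isDomain _
  have hle : ∀ V ∈ s, (V : X.Opens) ≤ f ⁻¹ᵁ U := fun V hV x hx => by
    show x ∈ ((f ⁻¹ᵁ U : X.Opens) : Set X)
    rw [hsU]
    exact Set.mem_biUnion hV hx
  choose! a ha hfl using fun V (hV : V ∈ s) => exists_forall_flat_stalkMap f U hU V V.2 (hle V hV)
  let a₀ := ∏ V ∈ hs.toFinset, a V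
  refine ⟨Y.basicOpen a₀, ?_, fun x hx => ?_⟩
  · rw [Set.nonempty_iff_ne_empty]
    intro h
    refine Finset.prod_ne_zero_iff.mpr (fun V hV => ha V (hs.mem_toFinset.mp hV)) ?_
    have : IsReduced U.toScheme := inferInstance
    exact (basicOpen_eq_bot_iff a₀).mp (Opens.ext h)
  · have hxU : x ∈ ((f ⁻¹ᵁ U : X.Opens) : Set X) := Y.basicOpen_le a₀ hx
    rw [hsU] at hxU
    obtain ⟨V, hV, hxV⟩ := Set.mem_iUnion₂.mp hxU
    refine hfl V hV x hxV ?_
    obtain ⟨c, hc⟩ : a V ∣ a₀ := Finset.dvd_prod_of_mem a (hs.mem_toFinset.mpr hV)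
    rw [hc, Scheme.basicOpen_mul] at hx
    exact hx.1

theorem isPullback_whiskerRight {S : Scheme.{u}} {A B : Over S} (g : A ⟶ B) (P : Over S) :
    IsPullback (g ▷ P).left (fst A P).left (fst B P).left g.left := by
  have h : IsPullback (g ▷ P) (fst A P) (fst B P) g := by
    refine IsPullback.of_isLimit' ⟨by simp⟩ (Limits.PullbackCone.IsLimit.mk _
      (fun s => lift s.snd (s.fst ≫ snd B P)) (fun s => ?_) (fun s => by simp) (fun s m h1 h2 => ?_))
    · apply CartesianMonoidalCategory.hom_ext
      · simpa using s.condition.symm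
      · simp
    · apply CartesianMonoidalCategory.hom_ext
      · simpa using h2
      · rw [lift_snd, ← h1]; simp
  exact h.map (Over.forget S)

theorem property_whiskerRight {S : Scheme.{u}} {A B : Over S} (g : A ⟶ B) (P : Over S)
    (Q : MorphismProperty Scheme.{u}) [Q.IsStableUnderBaseChange] (h : Q g.left) : Q (g ▷ P).left :=
  MorphismProperty.of_isPullback (isPullback_whiskerRight g P).flip h

/-- A morphism to a reduced scheme which commutes with enough automorphisms to move any geometric point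
of the target to any other is flat and surjective. -/
theorem flat_surjective_of_homogeneous {k : Type u} [Field k] (K : Type u) [Field K] [Algebra k K]
    [IsAlgClosed K] {X Y : Over (Spec (CommRingCat.of k))} [LocallyOfFiniteType X.hom]
    [LocallyOfFiniteType Y.hom] (f : X ⟶ Y) [QuasiCompact f.left] [IsReduced Y.left] [Nonempty X.left]
    (htr : ∀ y y' : Over.mk (Spec.map (CommRingCat.ofHom (algebraMap k K))) ⟶ Y,
      ∃ (S : X ⊗ Over.mk (Spec.map (CommRingCat.ofHom (algebraMap k K))) ≅
          X ⊗ Over.mk (Spec.map (CommRingCat.ofHom (algebraMap k K))))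
        (T : Y ⊗ Over.mk (Spec.map (CommRingCat.ofHom (algebraMap k K))) ≅
          Y ⊗ Over.mk (Spec.map (CommRingCat.ofHom (algebraMap k K)))),
        S.hom ≫ f ▷ _ = f ▷ _ ≫ T.hom ∧ lift y (𝟙 _) ≫ T.hom = lift y' (𝟙 _)) :
    Flat f.left ∧ Surjective f.left := by
  let σ : Spec (CommRingCat.of K) ⟶ Spec (CommRingCat.of k) := Spec.map (CommRingCat.ofHom (algebraMap k K))
  let P : Over (Spec (CommRingCat.of k)) := Over.mk σ
  have : Flat σ := by
    rw [HasRingHomProperty.Spec_iff (P := @Flat)]
    exact RingHom.Flat.of_isField (Field.toIsField k) _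
  have : Surjective σ := ⟨Function.surjective_to_subsingleton (α := Spec (CommRingCat.of K))
    (β := Spec (CommRingCat.of k)) _⟩
  have : Flat P.hom := ‹Flat σ›
  have : Surjective P.hom := ‹Surjective σ›
  have : IsLocallyNoetherian Y.left := LocallyOfFiniteType.isLocallyNoetherian Y.hom
  have : LocallyOfFiniteType f.left := by
    have : LocallyOfFiniteType (f.left ≫ Y.hom) := by rw [Over.w f]; infer_instance
    exact locallyOfFiniteType_of_comp f.left Y.hom
  have : Nonempty Y.left := Nonempty.map f.left inferInstance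
  let q : (Y ⊗ P).left ⟶ Spec (CommRingCat.of K) := pullback.snd Y.hom σ
  have : LocallyOfFiniteType q := inferInstanceAs (LocallyOfFiniteType (pullback.snd Y.hom σ))
  have : JacobsonSpace (Y ⊗ P).left := LocallyOfFiniteType.jacobsonSpace q
  have : Flat (fst X P).left := inferInstanceAs (Flat (pullback.fst X.hom σ))
  have : Surjective (fst X P).left := inferInstanceAs (Surjective (pullback.fst X.hom σ))
  have : Flat (fst Y P).left := inferInstanceAs (Flat (pullback.fst Y.hom σ))
  have : Surjective (fst Y P).left := inferInstanceAs (Surjective (pullback.fst Y.hom σ))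
  let fK := (f ▷ P).left
  -- translates of a point
  have hpt : ∀ c c' : (Y ⊗ P).left, IsClosed {c} → IsClosed {c'} →
      ∃ (S : (X ⊗ P) ≅ (X ⊗ P)) (T : (Y ⊗ P) ≅ (Y ⊗ P)),
        S.hom.left ≫ fK = fK ≫ T.hom.left ∧ T.hom.left c = c' := by
    have hlift : ∀ c : (Y ⊗ P).left, IsClosed {c} →
        ∃ y : P ⟶ Y, (lift y (𝟙 P)).left (IsLocalRing.closedPoint K) = c := by
      intro c hc
      let s := (pointEquivClosedPoint q).symm ⟨c, hc⟩
      have hsc : s.1 (IsLocalRing.closedPoint K) = c :=
        congrArg Subtype.val ((pointEquivClosedPoint q).apply_symm_apply ⟨c, hc⟩)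
      let y : P ⟶ Y := Over.homMk (s.1 ≫ pullback.fst Y.hom σ) (by
        show (s.1 ≫ pullback.fst Y.hom σ) ≫ Y.hom = σ
        rw [Category.assoc, pullback.condition, ← Category.assoc, s.2]
        exact Category.id_comp σ)
      refine ⟨y, (congrArg (fun g : Spec (CommRingCat.of K) ⟶ (Y ⊗ P).left => g (IsLocalRing.closedPoint K)) ?_).trans hsc⟩
      apply pullback.hom_ext
      · exact congrArg CommaMorphism.left (lift_fst y (𝟙 P))
      · exact (congrArg CommaMorphism.left (lift_snd y (𝟙 P))).trans s.2.symm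
    intro c c' hc hc'
    obtain ⟨y, hy⟩ := hlift c hc
    obtain ⟨y', hy'⟩ := hlift c' hc'
    obtain ⟨S, T, h1, h2⟩ := htr y y'
    refine ⟨S, T, congrArg CommaMorphism.left h1, ?_⟩
    rw [← hy, ← hy', ← h2]
    rfl
  -- generic flatness
  obtain ⟨U, ⟨u₀, hu₀⟩, hU⟩ := exists_opens_flat f.left
  let O : (Y ⊗ P).left.Opens := (fst Y P).left ⁻¹ᵁ U
  obtain ⟨u, hu⟩ := (fst Y P).left.surjective u₀
  obtain ⟨c₀, hc₀O, hc₀⟩ := nonempty_inter_closedPoints (Z := (O : Set (Y ⊗ P).left))
    ⟨u, by show (fst Y P).left u ∈ U; rw [hu]; exact hu₀⟩ O.2.isLocallyClosed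
  let W : Over (Spec (CommRingCat.of k)) := Over.mk ((f.left ⁻¹ᵁ U).ι ≫ X.hom)
  let jW : W ⟶ X := Over.homMk (f.left ⁻¹ᵁ U).ι rfl
  have hW : Flat (jW ≫ f).left := by
    refine Flat.of_stalkMap _ fun z => ?_
    show (((f.left ⁻¹ᵁ U).ι ≫ f.left).stalkMap z).hom.Flat
    erw [Scheme.Hom.stalkMap_comp]
    exact RingHom.Flat.comp (hU _ z.2) (Flat.stalkMap (f.left ⁻¹ᵁ U).ι z)
  have hWK : Flat ((jW ▷ P).left ≫ fK) := by
    rw [← Over.comp_left, ← comp_whiskerRight]
    exact property_whiskerRight _ _ @Flat hW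
  -- the base change is flat
  have hfK : Flat fK := by
    refine Flat.of_stalkMap _ fun x => ?_
    obtain ⟨c, hcl, hc⟩ := nonempty_inter_closedPoints (Z := closure {fK x}) ⟨_, subset_closure rfl⟩
      isClosed_closure.isLocallyClosed
    obtain ⟨S, T, hST, hTc⟩ := hpt c₀ c hc₀ hc
    have : IsIso T.hom.left := ((Over.forget _).mapIso T).isIso_hom
    have : IsIso S.hom.left := ((Over.forget _).mapIso S).isIso_hom
    obtain ⟨x', rfl⟩ := S.hom.left.surjective x
    have hx' : fK x' ∈ O := by
      obtain ⟨v, hv, hv'⟩ := (specializes_iff_mem_closure.mpr hcl).mem_open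
        (T.hom.left.isOpenMap _ O.2) ⟨c₀, hc₀O, hTc⟩
      have e : T.hom.left (fK x') = fK (S.hom.left x') := by
        rw [← Scheme.Hom.comp_apply, ← hST, Scheme.Hom.comp_apply]
      rw [← e] at hv'
      exact T.hom.left.injective hv' ▸ hv
    obtain ⟨z, hz, -⟩ := Scheme.exists_preimage_of_isPullback (isPullback_whiskerRight jW P) x'
      ⟨(fst X P).left x', by
        show f.left ((fst X P).left x') ∈ U
        rw [← Scheme.Hom.comp_apply, ← (isPullback_whiskerRight f P).w]
        exact hx'⟩ rfl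
    have : IsOpenImmersion (jW ▷ P).left :=
      property_whiskerRight jW P @IsOpenImmersion (inferInstanceAs (IsOpenImmersion (f.left ⁻¹ᵁ U).ι))
    subst hz
    refine SrcDescent.flat_of_flat_comp ((jW ▷ P).left ≫ S.hom.left) fK z ?_
    rw [Category.assoc, hST, ← Category.assoc]
    infer_instance
  -- descent
  have hflat : Flat f.left := by
    refine Flat.of_stalkMap _ fun x => ?_
    obtain ⟨x', rfl⟩ := (fst X P).left.surjective x
    refine SrcDescent.flat_of_flat_comp (fst X P).left f.left x' ?_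
    rw [← (isPullback_whiskerRight f P).w]
    exact MorphismProperty.comp_mem (@Flat : MorphismProperty Scheme.{u}) _ _ hfK inferInstance
  refine ⟨hflat, ⟨fun y => ?_⟩⟩
  have : LocallyOfFinitePresentation f.left := inferInstance
  have : UniversallyOpen f.left := inferInstance
  have : IsOpenMap fK := (property_whiskerRight f P @UniversallyOpen inferInstance : UniversallyOpen fK).out _ _ _ IsPullback.of_id_snd
  obtain ⟨x₁, -⟩ := (fst X P).left.surjective (Classical.arbitrary X.left)
  obtain ⟨c₁, ⟨x₂, hx₂⟩, hc₁⟩ := nonempty_inter_closedPoints (Z := Set.range fK) ⟨_, x₁, rfl⟩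
    this.isOpen_range.isLocallyClosed
  obtain ⟨yK, rfl⟩ := (fst Y P).left.surjective y
  obtain ⟨c, hcl, hc⟩ := nonempty_inter_closedPoints (Z := closure {yK}) ⟨_, subset_closure rfl⟩
    isClosed_closure.isLocallyClosed
  obtain ⟨S, T, hST, hTc⟩ := hpt c₁ c hc₁ hc
  obtain ⟨x₃, hx₃⟩ := (specializes_iff_mem_closure.mpr hcl).mem_open this.isOpen_range
    ⟨S.hom.left x₂, by rw [← Scheme.Hom.comp_apply, hST, Scheme.Hom.comp_apply, hx₂, hTc]⟩
  refine ⟨(fst X P).left x₃, ?_⟩
  rw [← Scheme.Hom.comp_apply, ← (isPullback_whiskerRight f P).w, Scheme.Hom.comp_apply, hx₃]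

/-- Translation of the base change of a group by a point. -/
noncomputable def transIso {C : Type*} [Category C] [CartesianMonoidalCategory C] {X P : C} [GrpObj X]
    (a : P ⟶ X) : X ⊗ P ≅ X ⊗ P where
  hom := lift ((snd X P ≫ a) * fst X P) (snd X P)
  inv := lift ((snd X P ≫ a)⁻¹ * fst X P) (snd X P)
  hom_inv_id := by
    apply CartesianMonoidalCategory.hom_ext
    · rw [Category.assoc, lift_fst, MonObj.comp_mul, GrpObj.comp_inv, ← Category.assoc, lift_snd, lift_fst,
        inv_mul_cancel_left, Category.id_comp]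
    · simp
  inv_hom_id := by
    apply CartesianMonoidalCategory.hom_ext
    · rw [Category.assoc, lift_fst, MonObj.comp_mul, ← Category.assoc, lift_snd, lift_fst,
        mul_inv_cancel_left, Category.id_comp]
    · simp

@[reassoc]
theorem transIso_hom_fst {C : Type*} [Category C] [CartesianMonoidalCategory C] {X P : C} [GrpObj X]
    (a : P ⟶ X) : (transIso a).hom ≫ fst X P = (snd X P ≫ a) * fst X P := lift_fst _ _

@[reassoc]
theorem transIso_hom_snd {C : Type*} [Category C] [CartesianMonoidalCategory C] {X P : C} [GrpObj X]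
    (a : P ⟶ X) : (transIso a).hom ≫ snd X P = snd X P := lift_snd _ _

/-- Points with values in an algebraically closed field lift along surjections locally of finite type. -/
theorem exists_point_lift {k : Type u} [Field k] {K : Type u} [Field K] [Algebra k K] [IsAlgClosed K]
    {X Y : Over (Spec (CommRingCat.of k))} (f : X ⟶ Y) [LocallyOfFiniteType f.left] [Surjective f.left]
    (z : Over.mk (Spec.map (CommRingCat.ofHom (algebraMap k K))) ⟶ Y) :
    ∃ g : Over.mk (Spec.map (CommRingCat.ofHom (algebraMap k K))) ⟶ X, g ≫ f = z := by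
  let q : pullback f.left z.left ⟶ Spec (CommRingCat.of K) := pullback.snd f.left z.left
  have : Surjective q := inferInstanceAs (Surjective (pullback.snd f.left z.left))
  have : LocallyOfFiniteType q := inferInstanceAs (LocallyOfFiniteType (pullback.snd f.left z.left))
  have : JacobsonSpace (pullback f.left z.left : Scheme.{u}) := LocallyOfFiniteType.jacobsonSpace q
  obtain ⟨w, -⟩ := q.surjective (IsLocalRing.closedPoint K)
  obtain ⟨c, -, hc⟩ := nonempty_inter_closedPoints (Z := (Set.univ : Set (pullback f.left z.left : Scheme.{u})))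
    ⟨w, trivial⟩ isClosed_univ.isLocallyClosed
  let s := (pointEquivClosedPoint q).symm ⟨c, hc⟩
  have hs : (s.1 ≫ pullback.fst f.left z.left) ≫ f.left = z.left := by
    rw [Category.assoc, pullback.condition, ← Category.assoc, s.2]
    exact Category.id_comp _
  refine ⟨Over.homMk (s.1 ≫ pullback.fst f.left z.left) ?_, Over.OverMorphism.ext hs⟩
  rw [← Over.w f, ← Category.assoc, hs]
  exact Over.w z

/-- A surjective quasi-compact homomorphism of groups locally of finite type over a field with reduced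
target is flat. -/
theorem flat_of_surjective_hom {k : Type u} [Field k]
    {G G' : Over (Spec (CommRingCat.of k))} [GrpObj G] [GrpObj G'] (f : G ⟶ G') [IsMonHom f]
    [LocallyOfFiniteType G.hom] [LocallyOfFiniteType G'.hom] [QuasiCompact f.left] [IsReduced G'.left]
    [Surjective f.left] : Flat f.left := by
  have : Nonempty G.left := ⟨(η[G] : 𝟙_ _ ⟶ G).left (IsLocalRing.closedPoint k)⟩
  have : LocallyOfFiniteType f.left := by
    have : LocallyOfFiniteType (f.left ≫ G'.hom) := by rw [Over.w f]; infer_instance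
    exact locallyOfFiniteType_of_comp f.left G'.hom
  refine (flat_surjective_of_homogeneous (AlgebraicClosure k) f fun y y' => ?_).1
  obtain ⟨g, hg⟩ := exists_point_lift f (y' * y⁻¹)
  refine ⟨transIso g, transIso (g ≫ f), ?_, ?_⟩
  · apply CartesianMonoidalCategory.hom_ext
    · rw [Category.assoc, Category.assoc, transIso_hom_fst, whiskerRight_fst, transIso_hom_fst_assoc,
        MonObj.mul_comp, MonObj.comp_mul, whiskerRight_fst, ← Category.assoc (f ▷ _), whiskerRight_snd,
        Category.assoc]
    · rw [Category.assoc, Category.assoc, transIso_hom_snd, whiskerRight_snd, transIso_hom_snd]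
  · apply CartesianMonoidalCategory.hom_ext
    · rw [Category.assoc, transIso_hom_fst, MonObj.comp_mul, ← Category.assoc, lift_snd, lift_fst,
        lift_fst, Category.id_comp, hg, inv_mul_cancel_right]
    · rw [Category.assoc, transIso_hom_snd, lift_snd, lift_snd]

end Groth.Agent.GrpSchLib
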