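import Mathlib.CategoryTheory.Monoidal.Cartesian.Grp

/-! The group structure on a mono closed under the group operations. -/

open CategoryTheory MonoidalCategory CartesianMonoidalCategory
open scoped MonObj

namespace Groth.Agent.GrpSchLib

universe v u

theorem exists_grpObj_of_mono {E : Type u} [Category.{v} E] [CartesianMonoidalCategory E] {G P : E} [GrpObj G]
    (a : P ⟶ G) [Mono a] (η' : 𝟙_ E ⟶ P) (he : η' ≫ a = η[G]) (μ' : P ⊗ P ⟶ P)
    (hm : μ' ≫ a = (fst P P ≫ a) * (snd P P ≫ a)) (ι' : P ⟶ P) (hv : ι' ≫ a = a⁻¹) :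
    ∃ str : GrpObj P, @IsMonHom E _ _ P G str.toMonObj _ a := by
  have hμ : ∀ {T : E} (f g : T ⟶ P), lift f g ≫ μ' ≫ a = (f ≫ a) * (g ≫ a) := by
    intro T f g
    rw [hm, MonObj.comp_mul, lift_fst_assoc, lift_snd_assoc]
  have hη : ∀ {T : E}, toUnit T ≫ η' ≫ a = 1 := by
    intro T
    rw [he]; rfl
  have hι : ∀ {T : E} (f : T ⟶ P), f ≫ ι' ≫ a = (f ≫ a)⁻¹ := by
    intro T f
    rw [hv, GrpObj.comp_inv]
  refine ⟨{
    one := η'
    mul := μ'
    one_mul := by
      rw [← cancel_mono a, show η' ▷ P = lift (toUnit _ ≫ η') (snd _ _) by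
        ext <;> simp [toUnit_unique (fst (𝟙_ E) _) (toUnit _)], Category.assoc, hμ, Category.assoc, hη,
        one_mul, leftUnitor_hom]
    mul_one := by
      rw [← cancel_mono a, show P ◁ η' = lift (fst _ _) (toUnit _ ≫ η') by
        ext <;> simp [toUnit_unique (snd _ (𝟙_ E)) (toUnit _)], Category.assoc, hμ, Category.assoc, hη,
        mul_one, rightUnitor_hom]
    mul_assoc := by
      rw [← cancel_mono a,
        show μ' ▷ P = lift (lift (fst _ _ ≫ fst _ _) (fst _ _ ≫ snd _ _) ≫ μ') (snd _ _) by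
          ext <;> simp,
        show (α_ P P P).hom ≫ P ◁ μ' ≫ μ' =
          lift (fst _ _ ≫ fst _ _) (lift (fst _ _ ≫ snd _ _) (snd _ _) ≫ μ') ≫ μ' by
          rw [← Category.assoc]
          congr 1
          apply CartesianMonoidalCategory.hom_ext
          · simp
          · rw [Category.assoc, whiskerLeft_snd, lift_snd, ← Category.assoc]
            congr 1
            ext <;> simp]
      simp only [Category.assoc, hμ, mul_assoc]
    inv := ι'
    left_inv := by
      rw [← cancel_mono a, Category.assoc, hμ, Category.assoc, hη, ← Category.id_comp (ι' ≫ a),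
        hι, inv_mul_cancel]
    right_inv := by
      rw [← cancel_mono a, Category.assoc, hμ, Category.assoc, hη, ← Category.id_comp (ι' ≫ a),
        hι, mul_inv_cancel] }, ?_⟩
  refine @IsMonHom.mk E _ _ P G ?_ _ a ?_ ?_
  · exact he
  · show μ' ≫ a = (a ⊗ₘ a) ≫ μ[G]
    rw [hm, Hom.mul_def]
    congr 1
    ext <;> simp

end Groth.Agent.GrpSchLib
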