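import Groth.Agent.GrpSchLib.FieldReduced
import Groth.Agent.GrpSchLib.MonoSubgroup
import Groth.Agent.H23.RedSub
import Mathlib.AlgebraicGeometry.Morphisms.FiniteType

/-! The reduced subgroup of a group scheme over a perfect field. -/

universe u

open CategoryTheory Limits AlgebraicGeometry MonoidalCategory CartesianMonoidalCategory MonObj GrpObj

namespace Groth.Agent.GrpSchLib.RedSubgroup

theorem exists_redSubgroup {k : Type u} [Field k] [PerfectField k] (G : Over (Spec (CommRingCat.of k))) [GrpObj G]
    [LocallyOfFiniteType G.hom] [QuasiCompact G.hom] :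
    ∃ (H : Over (Spec (CommRingCat.of k))) (_ : GrpObj H) (i : H ⟶ G), IsMonHom i ∧ IsClosedImmersion i.left ∧
      IsReduced H.left ∧ Surjective i.left ∧ LocallyOfFiniteType H.hom ∧ QuasiCompact H.hom := by
  let H : Over (Spec (CommRingCat.of k)) := Over.mk (G.left.nilradical.subschemeι ≫ G.hom)
  let i : H ⟶ G := Over.homMk G.left.nilradical.subschemeι rfl
  haveI : IsReduced H.left := H23.RedSub.isReduced_nilradical G.left
  haveI : IsClosedImmersion i.left := inferInstanceAs (IsClosedImmersion G.left.nilradical.subschemeι)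
  haveI hs : Surjective i.left := ⟨fun x => by
    have h : Set.range G.left.nilradical.subschemeι = Set.univ := by
      rw [Scheme.IdealSheafData.range_subschemeι, ← Scheme.IdealSheafData.vanishingIdeal_top]
      simp [Scheme.IdealSheafData.coe_support_vanishingIdeal]
    exact h.ge (Set.mem_univ x)⟩
  haveI : Mono i.left := inferInstance
  haveI : Mono i := (Over.forget _).mono_of_mono_map (inferInstanceAs (Mono i.left))
  haveI : IsReduced (H ⊗ H).left := isReduced_pullback_of_perfectField H.hom H.hom
  haveI : IsReduced (𝟙_ (Over (Spec (CommRingCat.of k)))).left := inferInstanceAs (IsReduced (Spec (CommRingCat.of k)))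
  have hl : ∀ (T : Over (Spec (CommRingCat.of k))) (_ : IsReduced T.left) (f : T ⟶ G), ∃ g : T ⟶ H, g ≫ i = f := by
    intro T _ f
    obtain ⟨g, hg⟩ := H23.RedSub.exists_lift_closed f.left i.left (by rw [i.left.surjective.range_eq]; exact Set.subset_univ _)
    exact ⟨Over.homMk g (by rw [← Over.w i, reassoc_of% hg, Over.w f]), Over.OverMorphism.ext hg⟩
  obtain ⟨e, he⟩ := hl _ inferInstance η[G]
  obtain ⟨m, hm⟩ := hl _ inferInstance ((fst H H ≫ i) * (snd H H ≫ i))
  obtain ⟨v, hv⟩ := hl _ inferInstance i⁻¹
  obtain ⟨str, hi⟩ := exists_grpObj_of_mono i e he m hm v hv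
  exact ⟨H, str, i, hi, inferInstance, inferInstance, hs,
    inferInstanceAs (LocallyOfFiniteType (G.left.nilradical.subschemeι ≫ G.hom)),
    inferInstanceAs (QuasiCompact (G.left.nilradical.subschemeι ≫ G.hom))⟩

end Groth.Agent.GrpSchLib.RedSubgroup
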