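import Groth.Agent.RegLoc6.RegEtale
import Mathlib.AlgebraicGeometry.Morphisms.Smooth
import Mathlib.AlgebraicGeometry.Morphisms.FiniteType
import Mathlib.RingTheory.RingHom.StandardSmooth
import Mathlib.RingTheory.RegularLocalRing.Polynomial

/-! Local rings of smooth schemes over a field are regular. -/

open CategoryTheory AlgebraicGeometry

namespace Groth.Agent.GrpSchLib

universe u

theorem regular_of_isStandardSmooth (k A : Type u) [Field k] [CommRing A] [Algebra k A]
    [Algebra.IsStandardSmooth k A] (Q : Ideal A) [Q.IsPrime] :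
    IsRegularLocalRing (Localization.AtPrime Q) := by
  obtain ⟨ι, σ, _, _, ⟨P⟩⟩ := ‹Algebra.IsStandardSmooth k A›.out
  have : Algebra.IsStandardSmoothOfRelativeDimension P.dimension k A :=
    ⟨ι, σ, inferInstance, inferInstance, P, rfl⟩
  obtain ⟨g, hg⟩ := Algebra.IsStandardSmoothOfRelativeDimension.exists_etale_mvPolynomial (n := P.dimension) k A
  let R := MvPolynomial (Fin P.dimension) k
  let : Algebra R A := g.toRingHom.toAlgebra
  have : Algebra.Etale R A := hg
  have : IsNoetherianRing A := Algebra.FiniteType.isNoetherianRing R A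
  exact RegLoc6.regular_of_etale (A := R) Q (IsRegularRing.isRegularLocalRing_localization (R := R) _)

theorem isRegularLocalRing_stalk_of_smooth {K : Type u} [Field K] {X : Scheme.{u}}
    (f : X ⟶ Spec (CommRingCat.of K)) [Smooth f] (x : X) :
    IsRegularLocalRing (X.presheaf.stalk x) := by
  obtain ⟨U, hU, V, hV, hx, e, hf⟩ := Smooth.exists_isStandardSmooth f x
  have hUtop : U = ⊤ := top_unique fun y _ =>
    (@Subsingleton.elim (Spec (CommRingCat.of K)) inferInstance y (f x)).symm ▸ e hx
  have hfield : IsField Γ(Spec (CommRingCat.of K), U) := by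
    rw [hUtop]
    exact (Scheme.ΓSpecIso (CommRingCat.of K)).commRingCatIsoToRingEquiv.toMulEquiv.isField
      (Field.toIsField K)
  let := hfield.toField
  let : Algebra Γ(Spec (CommRingCat.of K), U) Γ(X, V) := (f.appLE U V e).hom.toAlgebra
  have : Algebra.IsStandardSmooth Γ(Spec (CommRingCat.of K), U) Γ(X, V) := hf
  let : Algebra Γ(X, V) (X.presheaf.stalk x) := (X.presheaf.germ V x hx).hom.toAlgebra
  have := hV.isLocalization_stalk ⟨x, hx⟩
  have hreg := regular_of_isStandardSmooth Γ(Spec (CommRingCat.of K), U) Γ(X, V)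
    (hV.primeIdealOf ⟨x, hx⟩).asIdeal
  exact IsRegularLocalRing.of_ringEquiv
    (IsLocalization.algEquiv (hV.primeIdealOf ⟨x, hx⟩).asIdeal.primeCompl
      (Localization.AtPrime (hV.primeIdealOf ⟨x, hx⟩).asIdeal) (X.presheaf.stalk x)).toRingEquiv

end Groth.Agent.GrpSchLib
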