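import Groth.Agent.GrpSchLib.FieldTop
import Mathlib.AlgebraicGeometry.Sites.Fpqc

/-! Points of group schemes after fpqc covers. -/

open CategoryTheory AlgebraicGeometry MonoidalCategory CartesianMonoidalCategory Limits MonObj

namespace Groth.Agent.GrpSchLib

universe u

variable {S : Scheme.{u}}

/-- A flat surjective quasi-compact morphism. -/
def IsCover {T' T : Over S} (c : T' ⟶ T) : Prop :=
  Flat c.left ∧ Surjective c.left ∧ QuasiCompact c.left

theorem IsCover.id (T : Over S) : IsCover (𝟙 T) :=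
  ⟨inferInstanceAs (Flat (𝟙 T.left)), inferInstanceAs (Surjective (𝟙 T.left)),
    inferInstanceAs (QuasiCompact (𝟙 T.left))⟩

theorem IsCover.comp {T'' T' T : Over S} {d : T'' ⟶ T'} {c : T' ⟶ T} (hd : IsCover d) (hc : IsCover c) :
    IsCover (d ≫ c) := by
  obtain ⟨_, _, _⟩ := hd
  obtain ⟨_, _, _⟩ := hc
  exact ⟨inferInstanceAs (Flat (d.left ≫ c.left)), inferInstanceAs (Surjective (d.left ≫ c.left)),
    inferInstanceAs (QuasiCompact (d.left ≫ c.left))⟩

theorem IsCover.epi {T' T : Over S} {c : T' ⟶ T} (hc : IsCover c) : Epi c := by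
  obtain ⟨_, _, _⟩ := hc
  have : Epi c.left := inferInstance
  exact Over.epi_of_epi_left _

/-- Covers pull back. -/
theorem IsCover.exists_pullback {T' T U : Over S} {c : T' ⟶ T} (hc : IsCover c) (f : U ⟶ T) :
    ∃ (U' : Over S) (d : U' ⟶ U) (f' : U' ⟶ T'), IsCover d ∧ d ≫ f = f' ≫ c := by
  obtain ⟨_, _, _⟩ := hc
  let P := pullback f.left c.left
  refine ⟨Over.mk (pullback.fst f.left c.left ≫ U.hom), Over.homMk (pullback.fst f.left c.left) rfl,
    Over.homMk (pullback.snd f.left c.left) ?_, ?_, Over.OverMorphism.ext pullback.condition⟩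
  · show pullback.snd _ _ ≫ T'.hom = pullback.fst _ _ ≫ U.hom
    rw [← Over.w c, ← pullback.condition_assoc, Over.w f]
  · exact ⟨inferInstanceAs (Flat (pullback.fst f.left c.left)),
      inferInstanceAs (Surjective (pullback.fst f.left c.left)),
      inferInstanceAs (QuasiCompact (pullback.fst f.left c.left))⟩

/-- A quotient map of finite type group schemes is a cover. -/
theorem isCover_of_flat_surjective {k : Type u} [Field k] {G Q : Over (Spec (CommRingCat.of k))}
    [GrpObj Q] [QuasiCompact G.hom] (q : G ⟶ Q) [Flat q.left] [Surjective q.left] : IsCover q := by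
  have : IsSeparated Q.hom :=
    (isSeparated_iff Q.hom).mpr ((diagonal_iff_unit @IsClosedImmersion).mpr inferInstance)
  have : QuasiCompact (q.left ≫ Q.hom) := by rw [Over.w q]; infer_instance
  exact ⟨inferInstance, inferInstance, QuasiCompact.of_comp q.left Q.hom⟩

/-- Factorization through a monomorphism is fpqc local. -/
theorem exists_fac_of_cover {T' T W Y : Over S} {c : T' ⟶ T} (hc : IsCover c) (i : W ⟶ Y) [Mono i.left]
    (f : T ⟶ Y) (w' : T' ⟶ W) (h : w' ≫ i = c ≫ f) : ∃ w : T ⟶ W, w ≫ i = f := by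
  obtain ⟨_, _, _⟩ := hc
  have hl : w'.left ≫ i.left = c.left ≫ f.left := congrArg CommaMorphism.left h
  let l := EffectiveEpi.desc c.left w'.left fun {Z} g₁ g₂ e => by
    rw [← cancel_mono i.left, Category.assoc, Category.assoc, hl, reassoc_of% e]
  have hfac : c.left ≫ l = w'.left := EffectiveEpi.fac _ _ _
  have hi : l ≫ i.left = f.left := by rw [← cancel_epi c.left, reassoc_of% hfac, hl]
  exact ⟨Over.homMk l (by rw [← Over.w i, ← Category.assoc, hi, Over.w f]), Over.OverMorphism.ext hi⟩

end Groth.Agent.GrpSchLib
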