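import Groth.Agent.GrpSchLib.HomFlatLft
import Groth.Agent.GrpSchLib.KernelPair
import Groth.Agent.GrpSchLib.HomClosedRange
import Groth.Agent.GrpSchLib.Descent
import Groth.Agent.GrpSchLib.SmoothReduced
import Groth.Agent.EtFound.Descent

/-! Isogenies of smooth groups with connected fibres, fibre by fibre. -/

open CategoryTheory AlgebraicGeometry Limits MonoidalCategory CartesianMonoidalCategory MonObj

namespace Groth.Agent.GrpSchLib.IsogenyFibre

universe u

theorem geometricallyReduced_of_smooth' {X S : Scheme.{u}} (f : X ⟶ S) [Smooth f] : GeometricallyReduced f := by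
  constructor
  intro L _ y P fst snd h
  have : Smooth snd := MorphismProperty.of_isPullback h inferInstance
  exact isReduced_of_smooth_field snd

/-- A flat quasi-finite homomorphism to a connected group over a field is surjective and finite. -/
theorem finite_surjective_field {k : Type u} [Field k] {G H : Over (Spec (CommRingCat.of k))} [GrpObj G] [GrpObj H]
    [LocallyOfFiniteType G.hom] [QuasiCompact G.hom] [LocallyOfFiniteType H.hom] [ConnectedSpace H.left]
    (f : G ⟶ H) [IsMonHom f] [Flat f.left] [LocallyQuasiFinite f.left] :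
    IsFinite f.left ∧ Surjective f.left := by
  haveI : IsSeparated H.hom :=
    (isSeparated_iff H.hom).mpr ((GrpSchLib.diagonal_iff_unit @IsClosedImmersion).mpr inferInstance)
  haveI : IsSeparated G.hom :=
    (isSeparated_iff G.hom).mpr ((GrpSchLib.diagonal_iff_unit @IsClosedImmersion).mpr inferInstance)
  haveI : QuasiCompact (f.left ≫ H.hom) := by rw [Over.w f]; infer_instance
  haveI : QuasiCompact f.left := QuasiCompact.of_comp f.left H.hom
  haveI : LocallyOfFiniteType (f.left ≫ H.hom) := by rw [Over.w f]; infer_instance
  haveI : LocallyOfFiniteType f.left := locallyOfFiniteType_of_comp f.left H.hom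
  haveI : IsLocallyNoetherian H.left := LocallyOfFiniteType.isLocallyNoetherian H.hom
  haveI : LocallyOfFinitePresentation f.left := inferInstance
  haveI : UniversallyOpen f.left := inferInstance
  haveI hsurj : Surjective f.left := by
    have hne : (Set.range f.left).Nonempty :=
      ⟨_, (η[G] : 𝟙_ _ ⟶ G).left (IsLocalRing.closedPoint k), rfl⟩
    have hclopen : IsClopen (Set.range f.left) :=
      ⟨HomClosedRange.isClosed_range f, f.left.isOpenMap.isOpen_range⟩
    exact ⟨Set.range_eq_univ.mp (hclopen.eq_univ hne)⟩
  refine ⟨?_, hsurj⟩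
  let N := Limits.pullback f η[H]
  let i : N ⟶ G := pullback.fst f η[H]
  have sq : IsPullback i (pullback.snd f η[H]) f η[H] := IsPullback.of_hasPullback f η[H]
  have hker : AlgGrp.IsKernel i f := by
    have e : pullback.snd f η[H] = toUnit N := toUnit_unique _ _
    rw [e] at sq
    exact sq
  have sqN := sq.map (Over.forget _)
  have hN : N.hom = (pullback.snd f η[H]).left := by
    rw [← Over.w (pullback.snd f η[H])]
    exact Category.comp_id _
  haveI : LocallyQuasiFinite N.hom := by
    rw [hN]; exact MorphismProperty.of_isPullback (P := @LocallyQuasiFinite) sqN ‹_›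
  haveI : QuasiCompact N.hom := by
    rw [hN]; exact MorphismProperty.of_isPullback (P := @QuasiCompact) sqN ‹_›
  haveI : LocallyOfFiniteType N.hom := by
    rw [hN]; exact MorphismProperty.of_isPullback (P := @LocallyOfFiniteType) sqN ‹_›
  haveI : IsFinite N.hom := IsFinite.of_locallyQuasiFinite N.hom
  haveI : IsFinite (snd N G).left := inferInstanceAs (IsFinite (pullback.snd N.hom G.hom))
  obtain ⟨p, hp, hps⟩ := exists_kernelPair_iso i f hker
  haveI := hp
  haveI : IsFinite (pullback.snd f.left f.left) := by
    have : pullback.snd f.left f.left = inv p ≫ (snd N G).left := by rw [← hps, IsIso.inv_hom_id_assoc]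
    rw [this]; infer_instance
  haveI := EtFound.fpqc_isFinite.{u}
  exact MorphismProperty.of_pullback_snd_of_descendsAlong (P := @IsFinite)
    (Q := @Surjective ⊓ @Flat ⊓ @QuasiCompact) (f := f.left) (g := f.left)
    ⟨⟨inferInstance, inferInstance⟩, inferInstance⟩ ‹_›

/-- The fibre of a morphism over `S` is the base change. -/
theorem fibre_isPullback {S : Scheme.{u}} {G H : Over S} (f : G ⟶ H) {T : Scheme.{u}} (σ : T ⟶ S) :
    IsPullback ((Over.pullback σ).map f).left (pullback.fst G.hom σ) (pullback.fst H.hom σ) f.left := by
  refine IsPullback.of_right ?_ ?_ (IsPullback.of_hasPullback H.hom σ).flip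
  · rw [Over.w f, show ((Over.pullback σ).map f).left ≫ pullback.snd H.hom σ = pullback.snd G.hom σ from
      Over.w ((Over.pullback σ).map f)]
    exact (IsPullback.of_hasPullback G.hom σ).flip
  · exact pullback.lift_fst _ _ _

theorem iff_fibres {S : Scheme.{u}} {G H : Over S} [GrpObj G] [GrpObj H]
    [Smooth G.hom] [QuasiCompact G.hom] [GeometricallyConnected G.hom]
    [Smooth H.hom] [IsSeparated H.hom] [GeometricallyConnected H.hom] (f : G ⟶ H) [IsMonHom f] :
    (Flat f.left ∧ LocallyQuasiFinite f.left ∧ LocallyOfFinitePresentation f.left) ↔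
      ∀ s : S, IsFinite (pullback.snd f.left (H.hom.fiberι s)) ∧
        Surjective (pullback.snd f.left (H.hom.fiberι s)) := by
  haveI : LocallyOfFinitePresentation (f.left ≫ H.hom) := by rw [Over.w f]; infer_instance
  haveI : LocallyOfFinitePresentation f.left := AlgSpPts.locallyOfFinitePresentation_of_comp f.left H.hom
  constructor
  · rintro ⟨hfl, hqf, -⟩ s
    let σ := S.fromSpecResidueField s
    let fs := (Over.pullback σ).map f
    have sqf := fibre_isPullback f σ
    haveI : Flat fs.left := MorphismProperty.of_isPullback (P := @Flat) sqf.flip hfl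
    haveI : LocallyQuasiFinite fs.left := MorphismProperty.of_isPullback (P := @LocallyQuasiFinite) sqf.flip hqf
    haveI : LocallyOfFiniteType (Red.bc σ G).hom := inferInstanceAs (LocallyOfFiniteType (pullback.snd G.hom σ))
    haveI : LocallyOfFiniteType (Red.bc σ H).hom := inferInstanceAs (LocallyOfFiniteType (pullback.snd H.hom σ))
    haveI : QuasiCompact (Red.bc σ G).hom := inferInstanceAs (QuasiCompact (pullback.snd G.hom σ))
    haveI : ConnectedSpace (Red.bc σ H).left := inferInstanceAs (ConnectedSpace (H.hom.fiber s))
    obtain ⟨h1, h2⟩ := finite_surjective_field (k := S.residueField s) fs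
    have e : pullback.snd f.left (H.hom.fiberι s) = sqf.flip.isoPullback.inv ≫ fs.left :=
      sqf.flip.isoPullback_inv_snd.symm
    rw [e]
    exact ⟨(MorphismProperty.cancel_left_of_respectsIso @IsFinite _ fs.left).mpr h1,
      (MorphismProperty.cancel_left_of_respectsIso @Surjective _ fs.left).mpr h2⟩
  · intro h
    haveI : Surjective f.left := ⟨fun y => by
      let s := H.hom y
      haveI := (h s).2
      obtain ⟨z, hz⟩ := (pullback.snd f.left (H.hom.fiberι s)).surjective (H.hom.asFiber y)
      refine ⟨pullback.fst f.left (H.hom.fiberι s) z, ?_⟩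
      rw [← Scheme.Hom.comp_apply, pullback.condition, Scheme.Hom.comp_apply, hz]
      exact H.hom.fiberι_asFiber y⟩
    haveI : GeometricallyReduced H.hom := geometricallyReduced_of_smooth' H.hom
    refine ⟨(HomFlatLft.flat_hom f).1, ?_, inferInstance⟩
    rw [locallyQuasiFinite_iff_isDiscrete_preimage_singleton]
    intro y
    let s := H.hom y
    haveI := (h s).1
    have hd : _root_.IsDiscrete (pullback.snd f.left (H.hom.fiberι s) ⁻¹' {H.hom.asFiber y}) :=
      Scheme.Hom.isDiscrete_preimage_singleton _ _
    have himg : f.left ⁻¹' {y} = pullback.fst f.left (H.hom.fiberι s) ''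
        (pullback.snd f.left (H.hom.fiberι s) ⁻¹' {H.hom.asFiber y}) := by
      ext x
      constructor
      · intro hx
        obtain ⟨z, hz1, hz2⟩ := Scheme.Pullback.exists_preimage_pullback (f := f.left) (g := H.hom.fiberι s) x
          (H.hom.asFiber y) (hx.trans (H.hom.fiberι_asFiber y).symm)
        exact ⟨z, hz2, hz1⟩
      · rintro ⟨z, hz, rfl⟩
        show f.left _ = y
        rw [← Scheme.Hom.comp_apply, pullback.condition, Scheme.Hom.comp_apply,
          show pullback.snd f.left (H.hom.fiberι s) z = H.hom.asFiber y from hz]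
        exact H.hom.fiberι_asFiber y
    rw [himg]
    exact hd.image (pullback.fst f.left (H.hom.fiberι s)).isEmbedding.toIsInducing

end Groth.Agent.GrpSchLib.IsogenyFibre
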