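import Groth.Agent.GrpSchLib.TorsorFibre
import Groth.Agent.H23.CubeField
import Groth.Agent.GrpSchLib.AntiAffineHom
import Groth.Agent.S3030
import Groth.Agent.GrpSchLib.RedSubgroup
import Groth.Agent.GrpSchLib.KernelGrp
import Groth.Agent.GrpSchLib.Cartier
import Groth.Agent.GrpSchLib.HomFlat
import Groth.Agent.Lib.AVMulN
import Groth.Agent.S14584

set_option autoImplicit false
set_option backward.isDefEq.respectTransparency false
set_option backward.isDefEq.respectTransparency.types false
set_option linter.style.haveILetI false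
set_option maxHeartbeats 1000000
set_option synthInstance.maxHeartbeats 200000

universe u

open CategoryTheory CategoryTheory.Limits MonoidalCategory CartesianMonoidalCategory MonObj AlgebraicGeometry
open Groth.Agent.H23

namespace Groth.Agent.GrpSchLib.AVSubgroup

open MaxAbelian

variable {k : Type u} [Field k]

/-- A smooth connected group over a field is geometrically integral. -/
theorem geometricallyIntegral_group (G : Over (Spec (CommRingCat.of k))) [GrpObj G] [Smooth G.hom]
    [QuasiCompact G.hom] [ConnectedSpace G.left] : GeometricallyIntegral G.hom := by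
  haveI : GeometricallyReduced G.hom := GrpSchLib.geometricallyReduced_of_smooth G.hom
  obtain ⟨g, hg, hge⟩ := exists_isMaxPt (η[G].left (IsLocalRing.closedPoint k))
  have hu : closure ({g} : Set G.left) = Set.univ := by
    rw [← connectedComponent_one hg hge]; exact PreconnectedSpace.connectedComponent_eq_univ _
  have : IsClosedImmersion (𝟙 G : G ⟶ G).left := by rw [Over.id_left]; infer_instance
  have : GeometricallyIrreducible G.hom := geometricallyIrreducible_one hg hge (𝟙 G)
    (hu ▸ Set.range_eq_univ.2 fun x => ⟨x, rfl⟩)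
  exact GeometricallyIntegral.of_geometricallyReduced_of_geometricallyIrreducible _

variable {G A : Over (Spec (CommRingCat.of k))} [GrpObj G] [GrpObj A] [LocallyOfFiniteType G.hom]
  [QuasiCompact G.hom] [ConnectedSpace G.left] [IsProper A.hom] [Smooth A.hom] [ConnectedSpace A.left]
  (i : A ⟶ G) [IsMonHom i]

/-- An abelian subvariety is central. -/
theorem central {T : Over (Spec (CommRingCat.of k))} (a : T ⟶ A) (g : T ⟶ G) :
    (a ≫ i) * g = g * (a ≫ i) := by
  haveI : GeometricallyReduced A.hom := GrpSchLib.geometricallyReduced_of_smooth A.hom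
  haveI : GeometricallyConnected A.hom := GeomConn.of_point k A.hom η[A].left (Over.w η[A])
  exact AntiAffine.commute (CubeField.bijective_appTop_of_connected A) i
    ((IsMonHom.one_hom (f := i)).trans (MonObj.one_eq_one _)) a g

theorem isNormalHom : AlgGrp.IsNormalHom i := fun T g n =>
  ⟨n, by rw [← central i n g, _root_.mul_assoc, mul_inv_cancel, _root_.mul_one]⟩

/-- Translation by an abelian subvariety. -/
noncomputable def action : AlgGrp.Action A G where
  act := snd A G * (fst A G ≫ i)
  one_act := by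
    rw [MonObj.comp_mul, whiskerRight_snd, whiskerRight_fst_assoc, IsMonHom.one_hom,
      toUnit_unique (fst (𝟙_ (Over (Spec (CommRingCat.of k)))) G) (toUnit _), ← Hom.one_def, _root_.mul_one]
    exact (leftUnitor_hom _).symm
  mul_act := by
    rw [MonObj.comp_mul, whiskerRight_snd, whiskerRight_fst_assoc, MonObj.comp_mul, MonObj.comp_mul,
      whiskerLeft_snd, whiskerLeft_fst_assoc, MonObj.comp_mul, MonObj.comp_mul, MonObj.mul_eq_mul A,
      MonObj.mul_comp, MonObj.comp_mul]
    simp only [Category.assoc, associator_hom_fst_assoc, associator_hom_snd_fst_assoc, associator_hom_snd_snd,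
      associator_hom_fst, _root_.mul_assoc]
    congr 1
    rw [← Category.assoc (fst (A ⊗ A) G) (fst A A) i]
    exact central i _ _

/-- An abelian subvariety has a norm map. -/
theorem exists_norm [Smooth G.hom] [IsClosedImmersion i.left] :
    ∃ (φ : G ⟶ A) (n : ℕ), 0 < n ∧
      ∀ (T : Over (Spec (CommRingCat.of k))) (g : T ⟶ G) (a : T ⟶ A), (g * (a ≫ i)) ≫ φ = (g ≫ φ) * a ^ n := by
  haveI : Mono i := (Over.forget _).mono_of_mono_map (inferInstanceAs (Mono i.left))
  obtain ⟨Q, _, p, _, _, _, _, hker, _, _, hQ⟩ := S3030.result k A G i (isNormalHom i)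
  haveI : Smooth Q.hom := hQ inferInstance
  haveI : QuasiCompact Q.hom := by
    haveI : CompactSpace G.left := QuasiCompact.compactSpace_of_compactSpace G.hom
    haveI : CompactSpace Q.left := ⟨(p.left.surjective.range_eq) ▸ isCompact_range p.left.continuous⟩
    exact (HasAffineProperty.iff_of_isAffine (P := @QuasiCompact)).mpr inferInstance
  haveI : ConnectedSpace Q.left :=
    { toPreconnectedSpace := ⟨p.left.surjective.range_eq ▸ isPreconnected_range p.left.continuous⟩
      toNonempty := ⟨η[Q].left (IsLocalRing.closedPoint k)⟩ }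
  haveI := geometricallyIntegral_group G
  haveI := geometricallyIntegral_group Q
  haveI : IsSeparated G.hom := AntiAffine.isSeparated_grp G
  haveI : IsIntegral Q.left := isIntegral_of_geometricallyIntegral
  have hw : i ≫ p = 1 := hker.w.trans Hom.one_def.symm
  have hinv : (action i).act ≫ p = snd A G ≫ p := by
    show (snd A G * (fst A G ≫ i)) ≫ p = _
    rw [MonObj.mul_comp, Category.assoc, hw, MonObj.comp_one, _root_.mul_one]
  have htors : IsIso (pullback.lift (action i).act (snd A G) hinv) := by
    have hd : ((pullback.snd p p)⁻¹ * pullback.fst p p) ≫ p = toUnit _ ≫ η[Q] := by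
      rw [MonObj.mul_comp, GrpObj.inv_comp, pullback.condition, inv_mul_cancel]; rfl
    refine ⟨lift (hker.lift _ _ hd) (pullback.snd p p), ?_, ?_⟩
    · apply CartesianMonoidalCategory.hom_ext
      · rw [Category.assoc, lift_fst, Category.id_comp, ← cancel_mono i, Category.assoc, hker.lift_fst,
          MonObj.comp_mul, GrpObj.comp_inv, pullback.lift_snd, pullback.lift_fst]
        exact inv_mul_cancel_left _ _
      · rw [Category.assoc, lift_snd, pullback.lift_snd, Category.id_comp]
    · apply pullback.hom_ext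
      · rw [Category.assoc, pullback.lift_fst, Category.id_comp]
        show _ ≫ (snd A G * (fst A G ≫ i)) = _
        rw [MonObj.comp_mul, lift_snd, lift_fst_assoc, hker.lift_fst, mul_inv_cancel_left]
      · rw [Category.assoc, pullback.lift_snd, lift_snd, Category.id_comp]
  obtain ⟨φ, n, hn, h⟩ := TorsorFibre.exists_norm (action i) p hinv htors
  refine ⟨φ, n, hn, fun T g a => ?_⟩
  have e : lift a g ≫ (action i).act = g * (a ≫ i) := by
    show _ ≫ (snd A G * (fst A G ≫ i)) = _
    rw [MonObj.comp_mul, lift_snd, lift_fst_assoc]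
  rw [← e, Category.assoc]
  exact h T a g

/-- The norm map can be chosen to be a homomorphism. -/
theorem exists_normHom [Smooth G.hom] [IsClosedImmersion i.left] :
    ∃ (ψ : G ⟶ A) (n : ℕ), IsMonHom ψ ∧ 0 < n ∧ i ≫ ψ = 𝟙 A ^ n := by
  obtain ⟨φ, n, hn, hφ⟩ := exists_norm i
  haveI : GeometricallyReduced A.hom := GrpSchLib.geometricallyReduced_of_smooth A.hom
  haveI : GeometricallyConnected A.hom := GeomConn.of_point k A.hom η[A].left (Over.w η[A])
  haveI : GeometricallyIntegral A.hom := geometricallyIntegral_of_connected A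
  haveI : IsCommMonObj A := S7790.isCommMonObj A
  haveI := geometricallyIntegral_group G
  haveI : IsSeparated G.hom := AntiAffine.isSeparated_grp G
  let ψ : G ⟶ A := φ * (toUnit G ≫ η[G] ≫ φ)⁻¹
  have hψ1 : η[G] ≫ ψ = 1 := by
    show η[G] ≫ (φ * (toUnit G ≫ η[G] ≫ φ)⁻¹) = 1
    rw [MonObj.comp_mul, GrpObj.comp_inv, ← Category.assoc η[G] (toUnit G), toUnit_unique (η[G] ≫ toUnit G) (𝟙 _),
      Category.id_comp, mul_inv_cancel]
  have hm : μ[G] ≫ ψ = (fst G G ≫ ψ) * (snd G G ≫ ψ) := by
    have h := S14584.result k G G A η[G] η[G] (μ[G] ≫ ψ)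
    have h0 : lift η[G] η[G] ≫ μ[G] = η[G] := by
      rw [← Hom.mul_def, MonObj.one_eq_one, _root_.one_mul]
    have h1 : lift (toUnit G ≫ η[G]) (𝟙 G) ≫ μ[G] = 𝟙 G := by
      rw [← Hom.mul_def, ← Hom.one_def, _root_.one_mul]
    have h2 : lift (𝟙 G) (toUnit G ≫ η[G]) ≫ μ[G] = 𝟙 G := by
      rw [← Hom.mul_def, ← Hom.one_def, _root_.mul_one]
    rw [reassoc_of% h0, reassoc_of% h1, reassoc_of% h2, hψ1, MonObj.comp_one, inv_one, _root_.one_mul,
      _root_.mul_comm] at h
    exact h
  haveI : IsMonHom ψ :=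
    { one_hom := by rw [hψ1, MonObj.one_eq_one]
      mul_hom := by rw [hm, Hom.mul_def, CartesianMonoidalCategory.lift_fst_comp_snd_comp] }
  refine ⟨ψ, n, inferInstance, hn, ?_⟩
  have e := hφ A 1 (𝟙 A)
  rw [_root_.one_mul, Category.id_comp] at e
  show i ≫ (φ * (toUnit G ≫ η[G] ≫ φ)⁻¹) = _
  rw [MonObj.comp_mul, GrpObj.comp_inv, e, ← Category.assoc i (toUnit G), toUnit_unique (i ≫ toUnit G) (toUnit A),
    show (1 : A ⟶ G) ≫ φ = toUnit A ≫ η[G] ≫ φ from Category.assoc _ _ _, _root_.mul_comm _ (𝟙 A ^ n),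
    mul_inv_cancel_right]

omit [LocallyOfFiniteType G.hom] [QuasiCompact G.hom] [ConnectedSpace G.left] [IsProper A.hom] [Smooth A.hom]
  [ConnectedSpace A.left] in
/-- A normal subgroup of the kernel of a homomorphism with the same points, smooth over perfect fields. -/
theorem exists_kernel_red [Smooth G.hom] [LocallyOfFiniteType G.hom] [QuasiCompact G.hom] [IsSeparated A.hom]
    (ψ : G ⟶ A) [IsMonHom ψ] :
    ∃ (N : Over (Spec (CommRingCat.of k))) (_ : GrpObj N) (j : N ⟶ G), IsMonHom j ∧ IsClosedImmersion j.left ∧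
      AlgGrp.IsNormalHom j ∧ j ≫ ψ = 1 ∧
      (∃ (K : Over (Spec (CommRingCat.of k))) (_ : GrpObj K) (l : K ⟶ G) (s : N ⟶ K),
        AlgGrp.IsKernel l ψ ∧ s ≫ l = j ∧ Surjective s.left) ∧
      (PerfectField k → Smooth N.hom) := by
  obtain ⟨K, _, l, _, hlc, hln, hlk⟩ := GrpSchLib.exists_kernel ψ
  have hw : l ≫ ψ = 1 := hlk.w.trans Hom.one_def.symm
  by_cases hp : PerfectField k
  swap
  · exact ⟨K, inferInstance, l, inferInstance, hlc, hln, hw, ⟨K, inferInstance, l, 𝟙 K, hlk, Category.id_comp _,
      by rw [Over.id_left]; infer_instance⟩, fun h => absurd h hp⟩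
  haveI : IsClosedImmersion l.left := hlc
  haveI : LocallyOfFiniteType K.hom := by rw [← Over.w l]; infer_instance
  haveI : QuasiCompact K.hom := by rw [← Over.w l]; infer_instance
  obtain ⟨N, _, s, _, hsc, hNr, hss, hNl, hNq⟩ := RedSubgroup.exists_redSubgroup K
  haveI : IsClosedImmersion s.left := hsc
  haveI : Mono s := (Over.forget _).mono_of_mono_map (inferInstanceAs (Mono s.left))
  haveI : Mono l := (Over.forget _).mono_of_mono_map (inferInstanceAs (Mono l.left))
  haveI : IsClosedImmersion (s ≫ l).left := by rw [Over.comp_left]; infer_instance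
  haveI : IsReduced G.left := GrpSchLib.isReduced_of_smooth_field G.hom
  haveI : IsReduced (G ⊗ N).left := isReduced_pullback_of_perfectField G.hom N.hom
  obtain ⟨c, hc⟩ := hln (G ⊗ N) (fst G N) (snd G N ≫ s)
  obtain ⟨d, hd⟩ := H23.RedSub.exists_lift_closed c.left s.left (by rw [s.left.surjective.range_eq]; exact Set.subset_univ _)
  let c' : G ⊗ N ⟶ N := Over.homMk d (by rw [← Over.w s, reassoc_of% hd, Over.w c])
  have hc' : c' ≫ s = c := Over.OverMorphism.ext hd
  refine ⟨N, inferInstance, s ≫ l, inferInstance, inferInstance, fun T g m => ⟨lift g m ≫ c', ?_⟩,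
    by rw [Category.assoc, hw, MonObj.comp_one], ⟨K, inferInstance, l, s, hlk, rfl, hss⟩, fun _ => ?_⟩
  · have h := congrArg (lift g m ≫ ·) hc
    simp only [MonObj.comp_mul, GrpObj.comp_inv, Category.assoc, lift_fst, lift_snd_assoc] at h
    rw [h, Category.assoc, reassoc_of% hc']
  · exact smooth_of_isReduced_baseChange N (isReduced_pullback_of_perfectField _ _)

/-- An abelian subvariety has a normal almost complement. -/
theorem exists_almostComplement [Smooth G.hom] [IsClosedImmersion i.left] :
    ∃ (N : Over (Spec (CommRingCat.of k))) (_ : GrpObj N) (j : N ⟶ G), IsMonHom j ∧ IsClosedImmersion j.left ∧ AlgGrp.IsNormalHom j ∧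
      (∀ (T : Over (Spec (CommRingCat.of k))) (a : T ⟶ A) (n : T ⟶ N), (a ≫ i) * (n ≫ j) = (n ≫ j) * (a ≫ i)) ∧
      Flat ((i ⊗ₘ j) ≫ μ[G]).left ∧ Surjective ((i ⊗ₘ j) ≫ μ[G]).left ∧
      IsFinite (Limits.pullback.fst i.left j.left ≫ A.hom) ∧
      (PerfectField k → Smooth N.hom) := by
  obtain ⟨ψ, n, _, hn, hψ⟩ := exists_normHom i
  haveI : GeometricallyReduced A.hom := GrpSchLib.geometricallyReduced_of_smooth A.hom
  haveI : GeometricallyConnected A.hom := GeomConn.of_point k A.hom η[A].left (Over.w η[A])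
  haveI : GeometricallyIntegral A.hom := geometricallyIntegral_of_connected A
  haveI : IsSeparated G.hom := AntiAffine.isSeparated_grp G
  obtain ⟨N, _, j, _, hjc, hjn, hjψ, ⟨K, _, l, s, hlk, hsl, hss⟩, hsm⟩ := exists_kernel_red ψ
  haveI : IsClosedImmersion j.left := hjc
  haveI := AVMulN.isFinite_pow (A := A) n hn
  haveI := AVMulN.surjective_pow (A := A) n hn
  have hcomm : ∀ (T : Over (Spec (CommRingCat.of k))) (a : T ⟶ A) (m : T ⟶ N),
      (a ≫ i) * (m ≫ j) = (m ≫ j) * (a ≫ i) := fun T a m => central i a _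
  let F := (i ⊗ₘ j) ≫ μ[G]
  have hF : ∀ {T : Over (Spec (CommRingCat.of k))} (z : T ⟶ A ⊗ N),
      z ≫ F = (z ≫ fst A N ≫ i) * (z ≫ snd A N ≫ j) := fun {T} z => by
    rw [show F = (fst A N ≫ i) * (snd A N ≫ j) by rw [Hom.mul_def, lift_fst_comp_snd_comp], MonObj.comp_mul]
  -- surjectivity
  haveI hS : Surjective F.left := by
    let ν : A ⟶ A := 𝟙 A ^ n
    haveI : Surjective (pullback.fst ψ.left ν.left) := inferInstance
    let P : Over (Spec (CommRingCat.of k)) := Over.mk (pullback.fst ψ.left ν.left ≫ G.hom)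
    let g : P ⟶ G := Over.homMk (pullback.fst ψ.left ν.left) rfl
    let a : P ⟶ A := Over.homMk (pullback.snd ψ.left ν.left) (by
      show _ = pullback.fst ψ.left ν.left ≫ G.hom
      rw [← Over.w ψ, pullback.condition_assoc, Over.w ν])
    have hga : g ≫ ψ = a ^ n := by
      have h : g ≫ ψ = a ≫ ν := Over.OverMorphism.ext pullback.condition
      rw [h, TorusQI.comp_npow, Category.comp_id]
    have hk : ((a ≫ i)⁻¹ * g) ≫ ψ = toUnit P ≫ η[A] := by
      rw [MonObj.mul_comp, GrpObj.inv_comp, Category.assoc, hψ, TorusQI.comp_npow, Category.comp_id, hga,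
        inv_mul_cancel]
      exact Hom.one_def
    let z : P ⟶ A ⊗ K := lift a (hlk.lift _ _ hk)
    have hz : z ≫ ((fst A K ≫ i) * (snd A K ≫ l)) = g := by
      rw [MonObj.comp_mul, lift_fst_assoc, lift_snd_assoc, hlk.lift_fst, mul_inv_cancel_left]
    haveI : Surjective g.left := inferInstanceAs (Surjective (pullback.fst ψ.left ν.left))
    haveI : Surjective ((fst A K ≫ i) * (snd A K ≫ l)).left := by
      haveI : Surjective (z.left ≫ ((fst A K ≫ i) * (snd A K ≫ l)).left) := by
        rw [← Over.comp_left, hz]; infer_instance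
      exact Surjective.of_comp z.left _
    have e : F = (A ◁ s) ≫ ((fst A K ≫ i) * (snd A K ≫ l)) := by
      rw [← Category.id_comp F, hF, MonObj.comp_mul, whiskerLeft_fst_assoc, whiskerLeft_snd_assoc, hsl,
        Category.id_comp, Category.id_comp]
    haveI : Surjective (A ◁ s).left := MorphismProperty.of_isPullback (P := @Surjective)
      (GrpSchLib.isPullback_whiskerLeft (W := A) s).flip hss
    rw [e, Over.comp_left]
    infer_instance
  haveI : IsMonHom F := by
    refine { one_hom := ?_, mul_hom := ?_ }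
    · rw [hF, ← Category.assoc, ← Category.assoc, IsMonHom.one_hom (fst A N), IsMonHom.one_hom (snd A N),
        IsMonHom.one_hom i, IsMonHom.one_hom j, MonObj.one_eq_one, _root_.one_mul]
    · rw [hF, show μ[A ⊗ N] = fst (A ⊗ N) (A ⊗ N) * snd (A ⊗ N) (A ⊗ N) by rw [Hom.mul_def, lift_fst_snd, Category.id_comp],
        MonObj.mul_comp, MonObj.mul_comp, show (F ⊗ₘ F) ≫ μ[G] = (fst _ _ ≫ F) * (snd _ _ ≫ F) by
          rw [Hom.mul_def, lift_fst_comp_snd_comp], hF, hF]
      simp only [_root_.mul_assoc]
      congr 1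
      rw [← _root_.mul_assoc, ← _root_.mul_assoc]
      congr 1
      simp only [← Category.assoc]
      exact hcomm _ _ _
  haveI : LocallyOfFiniteType N.hom := by rw [← Over.w j]; infer_instance
  haveI : LocallyOfFiniteType (A ⊗ N).hom := inferInstanceAs (LocallyOfFiniteType (pullback.fst A.hom N.hom ≫ A.hom))
  haveI : QuasiCompact N.hom := by rw [← Over.w j]; infer_instance
  haveI : QuasiCompact (F.left ≫ G.hom) := by
    rw [Over.w F]; exact inferInstanceAs (QuasiCompact (pullback.fst A.hom N.hom ≫ A.hom))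
  haveI : QuasiCompact F.left := QuasiCompact.of_comp F.left G.hom
  haveI : IsReduced G.left := GrpSchLib.isReduced_of_smooth_field G.hom
  refine ⟨N, _, j, inferInstance, hjc, hjn, hcomm, GrpSchLib.flat_of_surjective_hom F, hS, ?_, hsm⟩
  -- finite intersection
  let ν : A ⟶ A := 𝟙 A ^ n
  have hw : pullback.fst i.left j.left ≫ ν.left = (pullback.snd i.left j.left ≫ N.hom) ≫ η[A].left := by
    have h1 : ν.left = i.left ≫ ψ.left := by rw [← Over.comp_left, hψ]
    have h2 : j.left ≫ ψ.left = N.hom ≫ η[A].left := by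
      rw [← Over.comp_left, hjψ]
      exact congrArg CommaMorphism.left (Hom.one_def (X := N))
    rw [h1, pullback.condition_assoc, h2, Category.assoc]
  let q : pullback i.left j.left ⟶ pullback ν.left η[A].left := pullback.lift _ _ hw
  haveI : IsClosedImmersion (q ≫ pullback.fst ν.left η[A].left) := by
    rw [pullback.lift_fst]; infer_instance
  haveI : IsClosedImmersion q := IsClosedImmersion.of_comp q (pullback.fst ν.left η[A].left)
  have hA : pullback.fst i.left j.left ≫ A.hom = q ≫ pullback.snd ν.left η[A].left := by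
    rw [pullback.lift_snd, ← Over.w i, pullback.condition_assoc, Over.w j]
  rw [hA]
  infer_instance

end Groth.Agent.GrpSchLib.AVSubgroup
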