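import Groth.Agent.GrpSchLib.FieldComp
import Groth.Agent.VarDim.Local
import Mathlib.AlgebraicGeometry.AlgClosed.Basic
import Mathlib.RingTheory.Ideal.GoingUp

/-! Dimension of group schemes locally of finite type over a field. -/

open CategoryTheory AlgebraicGeometry MonoidalCategory CartesianMonoidalCategory MonObj
open Limits TopologicalSpace
open scoped CategoryTheory.Obj

namespace Groth.Agent.GrpSchLib

universe u

/-- No proper specializations inside a fibre of an integral morphism. -/
theorem eq_of_specializes_of_isIntegralHom {X Y : Scheme.{u}} (p : X ⟶ Y) [IsIntegralHom p] {y y' : X}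
    (h : y ⤳ y') (he : p y = p y') : y = y' := by
  obtain ⟨V, hV, hyV, -⟩ := exists_isAffineOpen_mem_and_subset (show p y' ∈ (⊤ : Y.Opens) from trivial)
  have hU := hV.preimage p
  have hy : y ∈ p ⁻¹ᵁ V := h.mem_open (p ⁻¹ᵁ V).2 hyV
  obtain ⟨a, rfl⟩ : y ∈ Set.range hU.fromSpec := by rw [hU.range_fromSpec]; exact hy
  obtain ⟨b, rfl⟩ : y' ∈ Set.range hU.fromSpec := by rw [hU.range_fromSpec]; exact hyV
  let φ := p.appLE V (p ⁻¹ᵁ V) le_rfl
  have hφ : φ.hom.IsIntegral := by
    simp only [φ, Scheme.Hom.appLE_eq_app]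
    exact IsIntegralHom.isIntegral_app p V hV
  let : Algebra Γ(Y, V) Γ(X, p ⁻¹ᵁ V) := φ.hom.toAlgebra
  have hcomm : Spec.map φ ≫ hV.fromSpec = hU.fromSpec ≫ p := IsAffineOpen.SpecMap_appLE_fromSpec p hV hU le_rfl
  have hab : Spec.map φ a = Spec.map φ b := by
    apply hV.fromSpec.isOpenEmbedding.injective
    rw [← Scheme.Hom.comp_apply, ← Scheme.Hom.comp_apply, hcomm]
    exact he
  have hle : a.asIdeal ≤ b.asIdeal :=
    (PrimeSpectrum.le_iff_specializes _ _).mpr (hU.fromSpec.isOpenEmbedding.isInducing.specializes_iff.mp h)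
  congr 1
  apply PrimeSpectrum.ext
  have : a.asIdeal.IsPrime := PrimeSpectrum.isPrime a
  refine le_antisymm hle fun x hx => by_contra fun hxa => ?_
  have hlt := Ideal.comap_lt_comap_of_integral_mem_sdiff (R := Γ(Y, V)) hle ⟨hx, hxa⟩ (hφ x)
  exact hlt.ne (congrArg PrimeSpectrum.asIdeal hab)

/-- Integral morphisms preserve the height of points. -/
theorem height_apply_of_isIntegralHom {X Y : Scheme.{u}} (p : X ⟶ Y) [IsIntegralHom p] (y : X) :
    Order.height y = Order.height (p y) := by
  refine Order.height_eq_of_strictMono (fun x : X => p x) (fun a b hab => ?_) (fun a b hb => ?_) y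
  · obtain ⟨h1, h2⟩ := lt_iff_le_not_ge.1 hab
    refine lt_iff_le_not_ge.2 ⟨(h1 : b ⤳ a).map p.continuous, fun h => h2 ?_⟩
    have := eq_of_specializes_of_isIntegralHom p (h1 : b ⤳ a)
      ((h1 : b ⤳ a).map p.continuous |>.antisymm (h : p a ⤳ p b)).eq
    rw [this]
  · obtain ⟨h1, h2⟩ := lt_iff_le_not_ge.1 hb
    obtain ⟨a', ha', ha'b⟩ := (h1 : p a ⤳ b).mem_closed (p.isClosedMap (closure {a}) isClosed_closure)
      ⟨a, subset_closure rfl, rfl⟩
    refine ⟨a', lt_iff_le_not_ge.2 ⟨specializes_iff_mem_closure.mpr ha', fun h => h2 ?_⟩, ha'b⟩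
    rw [← ha'b]
    exact (h : a' ⤳ a).map p.continuous

variable {k : Type u} [Field k] {G : Over (Spec (CommRingCat.of k))} [GrpObj G] [LocallyOfFiniteType G.hom]

theorem height_eq_of_isMaxPt_of_isAlgClosed [IsAlgClosed k] {g g' : G.left} (hg : IsMaxPt g)
    (hge : g ⤳ η[G].left (IsLocalRing.closedPoint k)) (hg' : IsMaxPt g') :
    Order.height g' = Order.height g := by
  have := LocallyOfFiniteType.jacobsonSpace G.hom
  obtain ⟨x, hx, hxc⟩ := nonempty_inter_closedPoints (X := G.left) (Z := closure {g'})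
    ⟨g', subset_closure rfl⟩ isClosed_closure.isLocallyClosed
  let x' : 𝟙_ _ ⟶ G := Over.homMk _ ((pointEquivClosedPoint G.hom).symm ⟨x, hxc⟩).2
  have hx' : x'.left (IsLocalRing.closedPoint k) = x := by
    simp only [x', pointEquivClosedPoint]
    exact pointOfClosedPoint_apply _ _ _ _
  let f := (divIso x').hom.left
  have hfx : f g' ⤳ η[G].left (IsLocalRing.closedPoint k) := by
    rw [← divIso_hom_apply_self x', hx']
    exact (specializes_iff_mem_closure.mpr hx).map f.continuous
  have hmax : IsMaxPt (f g') := by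
    intro d hd
    obtain ⟨d, rfl⟩ := f.homeomorph.surjective d
    exact congrArg f (hg' d (f.homeomorph.isInducing.specializes_iff.mp hd))
  rw [height_apply_of_isIntegralHom f g', hmax.eq uniComp hg hfx hge]

variable (G) in
/-- All components of `G` have the dimension of the component of the unit. -/
theorem exists_height_isMaxPt :
    ∃ d : ℕ, ∀ g : G.left, IsMaxPt g → VarDim.deg G.hom g = d := by
  let K := AlgebraicClosure k
  let φ := algebraMap k K
  let H := bc G φ
  have : LocallyOfFiniteType H.hom := inferInstanceAs (LocallyOfFiniteType (pullback.snd G.hom _))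
  have : IsIntegralHom (Spec.map (CommRingCat.ofHom φ)) :=
    (IsIntegralHom.SpecMap_iff).mpr (algebraMap_isIntegral_iff.mpr inferInstance)
  have : Surjective (Spec.map (CommRingCat.ofHom φ)) := surjective_spec_map_field _
  obtain ⟨g₀, hg₀, hg₀e⟩ := exists_isMaxPt (η[H].left (IsLocalRing.closedPoint K))
  refine ⟨VarDim.deg H.hom g₀, fun g hg => ?_⟩
  obtain ⟨g', hgg⟩ := (bcProj G φ).surjective g
  obtain ⟨c, hc, hcg⟩ := exists_isMaxPt g'
  have hpc : bcProj G φ c = g := hg _ (hgg ▸ hcg.map (bcProj G φ).continuous)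
  have h1 := height_eq_of_isMaxPt_of_isAlgClosed hg₀ hg₀e hc
  rw [height_apply_of_isIntegralHom (bcProj G φ) c, hpc, VarDim.height_eq_deg H.hom,
    VarDim.height_eq_deg G.hom] at h1
  exact_mod_cast h1

theorem topologicalKrullDim_eq_deg {g : G.left} (hg : IsMaxPt g) :
    topologicalKrullDim G.left = ((VarDim.deg G.hom g : ℕ∞) : WithBot ℕ∞) := by
  obtain ⟨d, hd⟩ := exists_height_isMaxPt G
  rw [VarDim.topologicalKrullDim_eq_iSup_deg G.hom]
  refine le_antisymm (iSup_le fun x => ?_) (le_iSup_of_le g le_rfl)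
  obtain ⟨c, hc, hcx⟩ := exists_isMaxPt x
  have := VarDim.deg_le_of_specializes G.hom hcx
  rw [hd c hc, ← hd g hg] at this
  exact_mod_cast this

/-- The local ring at a closed point has the dimension of `G`. -/
theorem ringKrullDim_stalk_eq {x : G.left} (hx : IsClosed ({x} : Set G.left)) :
    ringKrullDim (G.left.presheaf.stalk x) = topologicalKrullDim G.left := by
  obtain ⟨b, hb, ⟨η', hη', hdeg⟩, hle⟩ := VarDim.exists_deg_add_stalk G.hom x
  obtain ⟨g, hg, hgx⟩ := exists_isMaxPt x
  rw [topologicalKrullDim_eq_deg hg, hb]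
  have h0 := (VarDim.closedPoint_iff_deg_eq_zero G.hom x).mp hx
  have h1 : VarDim.deg G.hom η' ≤ VarDim.deg G.hom g :=
    VarDim.deg_le_of_specializes G.hom (hg.specializes uniComp hgx hη')
  have h2 := hle g hgx
  have : VarDim.deg G.hom g = b := by omega
  rw [this]
  rfl

end Groth.Agent.GrpSchLib
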