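import Groth.Agent.GrpSchLib.Neutral
import Groth.Agent.GrpSchLib.FieldDim
import Groth.Agent.S5341
import Groth.Agent.FibDim.LocDim
import Groth.Agent.FibDim.Semicont
import Groth.Agent.Triage.FibMaxFlat

/-! Dimensions of the fibres of a group scheme. -/

universe u

open CategoryTheory Limits AlgebraicGeometry MonoidalCategory CartesianMonoidalCategory MonObj GrpObj
  TopologicalSpace
open scoped CategoryTheory.Obj

namespace Groth.Agent.GrpSchLib.FibreDimGrp

variable {S : Scheme.{u}} (G : Over S) [GrpObj G] [LocallyOfFiniteType G.hom]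

/-- The local dimension of the fibre at any point is the dimension of the fibre. -/
theorem fibreDimAt_eq (x : G.left) :
    FlatMor.fibreDimAt G.hom x = topologicalKrullDim ↥(G.hom ⁻¹' {G.hom x}) := by
  haveI : LocallyOfFiniteType (Neutral.fib G (G.hom x)).hom :=
    inferInstanceAs (LocallyOfFiniteType (pullback.snd G.hom _))
  have h := (S5341.result _ (Neutral.fib G (G.hom x))).2 (G.hom.asFiber x)
  rw [← (G.hom.fiberHomeo (G.hom x)).isHomeomorph.topologicalKrullDim_eq]
  exact h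

/-- The dimension of the fibre is read off at the unit section. -/
theorem dim_eq (s : S) :
    topologicalKrullDim ↥(G.hom ⁻¹' {s}) = FlatMor.fibreDimAt G.hom (Neutral.unit G s) := by
  rw [fibreDimAt_eq, Neutral.hom_unit]

theorem exists_nat (s : S) : ∃ n : ℕ, topologicalKrullDim ↥(G.hom ⁻¹' {s}) = ((n : ℕ∞) : WithBot ℕ∞) := by
  obtain ⟨z, -, -, he, -⟩ := FibDim.exists_fibreDimAt_eq G.hom (Neutral.unit G s)
  exact ⟨_, (dim_eq G s).trans he⟩

theorem isOpen_le (n : ℕ) : IsOpen {s : S | topologicalKrullDim ↥(G.hom ⁻¹' {s}) ≤ (n : WithBot ℕ∞)} := by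
  simp only [dim_eq]
  exact (FibDim.isOpen_fibreDimAt_le G.hom n).preimage (Neutral.unit G).continuous

theorem upperSemicontinuous :
    UpperSemicontinuous (fun s : S => topologicalKrullDim ↥(G.hom ⁻¹' {s})) := by
  rw [upperSemicontinuous_iff_isOpen_preimage]
  intro c
  induction c with
  | bot => simp [Set.preimage]
  | coe c =>
    induction c using ENat.recTopCoe with
    | top =>
      convert isOpen_univ using 1
      refine Set.eq_univ_of_forall fun s => ?_
      obtain ⟨n, hn⟩ := exists_nat G s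
      show topologicalKrullDim ↥(G.hom ⁻¹' {s}) < _
      rw [hn]
      exact WithBot.coe_lt_coe.mpr (ENat.coe_lt_top n)
    | coe n =>
      rcases n with _ | n
      · convert isOpen_empty using 1
        ext s
        obtain ⟨m, hm⟩ := exists_nat G s
        simp [hm]
      · convert isOpen_le G n using 1
        ext s
        obtain ⟨m, hm⟩ := exists_nat G s
        show topologicalKrullDim ↥(G.hom ⁻¹' {s}) < _ ↔ _
        simp only [Set.mem_ofPred_eq, hm]
        norm_cast
        omega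

theorem locallyConstructible [LocallyOfFinitePresentation G.hom] (s : S) :
    ∃ V : S.Opens, s ∈ V ∧
      ((fun t : S => topologicalKrullDim ↥(G.hom ⁻¹' {t})) '' (V : Set S)).Finite ∧
      ∀ d : WithBot ℕ∞, Topology.IsConstructible
        {t : V | topologicalKrullDim ↥(G.hom ⁻¹' {(t : S)}) = d} := by
  let e := Neutral.unit G
  obtain ⟨U, hU, heU, -⟩ :=
    exists_isAffineOpen_mem_and_subset (show e s ∈ (⊤ : G.left.Opens) from trivial)
  obtain ⟨V, hV, hsV, hVU⟩ := exists_isAffineOpen_mem_and_subset (show s ∈ e ⁻¹ᵁ U from heU)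
  haveI : IsAffine (U : Scheme.{u}) := hU
  haveI : IsAffine (V : Scheme.{u}) := hV
  let g : V.toScheme ⟶ U.toScheme := e.resLE U V hVU
  haveI : IsAffineHom g := isAffineHom_of_isAffine _
  have hg : ∀ t : V.toScheme, U.ι (g t) = e (V.ι t) := fun t => by
    have h := congrArg (fun f : V.toScheme ⟶ G.left => f t) (Scheme.Hom.resLE_comp_ι e hVU)
    exact h
  have hcV : IsCompact (Set.univ : Set V.toScheme) := isCompact_univ
  obtain ⟨N, hN⟩ : ∃ N : ℕ, ∀ t ∈ V, topologicalKrullDim ↥(G.hom ⁻¹' {t}) ≤ (N : WithBot ℕ∞) := by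
    have hc : IsCompact (V : Set S) := hV.isCompact
    obtain ⟨b, hb⟩ := hc.elim_directed_cover
      (fun n : ℕ => {t : S | topologicalKrullDim ↥(G.hom ⁻¹' {t}) ≤ (n : WithBot ℕ∞)}) (isOpen_le G)
      (fun t _ => by
        obtain ⟨n, hn⟩ := exists_nat G t
        exact Set.mem_iUnion.mpr ⟨n, hn.le⟩)
      (Monotone.directed_le fun a b hab t ht => le_trans (α := WithBot ℕ∞) ht (Nat.cast_le.mpr hab))
    exact ⟨b, fun t ht => hb ht⟩
  refine ⟨V, hsV, ?_, fun d => ?_⟩
  · refine ((Set.finite_Iic N).image fun n : ℕ => ((n : ℕ∞) : WithBot ℕ∞)).subset ?_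
    rintro _ ⟨t, ht, rfl⟩
    obtain ⟨n, hn⟩ := exists_nat G t
    have h := hN t ht
    rw [hn] at h
    exact ⟨n, (by exact_mod_cast h : n ≤ N), hn.symm⟩
  have hle : ∀ n : ℕ, Topology.IsConstructible
      {t : V.toScheme | topologicalKrullDim ↥(G.hom ⁻¹' {(V.ι t)}) ≤ (n : WithBot ℕ∞)} := by
    intro n
    have hc : IsCompact {y : U.toScheme | FlatMor.fibreDimAt G.hom (U.ι y) ≤ (n : WithBot ℕ∞)} := by
      rw [U.ι.isOpenEmbedding.isInducing.isCompact_iff]
      have h := FibDim.isRetrocompact_setOf_fibreDimAt_le G.hom n hU.isCompact U.2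
      convert h using 1
      ext y
      constructor
      · rintro ⟨y, hy, rfl⟩
        exact ⟨hy, y.2⟩
      · rintro ⟨hy, hyU⟩
        exact ⟨⟨y, hyU⟩, hy, rfl⟩
    have ho : IsOpen {y : U.toScheme | FlatMor.fibreDimAt G.hom (U.ι y) ≤ (n : WithBot ℕ∞)} :=
      (FibDim.isOpen_fibreDimAt_le G.hom n).preimage U.ι.continuous
    have hset : {t : V.toScheme | topologicalKrullDim ↥(G.hom ⁻¹' {(V.ι t)}) ≤ (n : WithBot ℕ∞)} =
        g ⁻¹' {y : U.toScheme | FlatMor.fibreDimAt G.hom (U.ι y) ≤ (n : WithBot ℕ∞)} := by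
      ext t
      show _ ↔ FlatMor.fibreDimAt G.hom (U.ι (g t)) ≤ _
      rw [hg t, ← dim_eq]
      rfl
    rw [hset]
    exact (QuasiCompact.isCompact_preimage (f := g) _ ho hc).isConstructible (ho.preimage g.continuous)
  show Topology.IsConstructible (X := V.toScheme)
    {t : V.toScheme | topologicalKrullDim ↥(G.hom ⁻¹' {(V.ι t)}) = d}
  by_cases hd : ∃ n : ℕ, d = (n : WithBot ℕ∞)
  · obtain ⟨n, rfl⟩ := hd
    rcases n with _ | n
    · have e : {t : V.toScheme | topologicalKrullDim ↥(G.hom ⁻¹' {(V.ι t)}) = ((0 : ℕ) : WithBot ℕ∞)} =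
          {t : V.toScheme | topologicalKrullDim ↥(G.hom ⁻¹' {(V.ι t)}) ≤ ((0 : ℕ) : WithBot ℕ∞)} := by
        refine Set.ext fun t => ?_
        obtain ⟨m, hm⟩ := exists_nat G (V.ι t)
        simp only [Set.mem_ofPred_eq]
        rw [hm]
        norm_cast
        omega
      rw [e]
      exact hle 0
    · have e : {t : V.toScheme | topologicalKrullDim ↥(G.hom ⁻¹' {(V.ι t)}) = ((n + 1 : ℕ) : WithBot ℕ∞)} =
          {t : V.toScheme | topologicalKrullDim ↥(G.hom ⁻¹' {(V.ι t)}) ≤ ((n + 1 : ℕ) : WithBot ℕ∞)} \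
          {t : V.toScheme | topologicalKrullDim ↥(G.hom ⁻¹' {(V.ι t)}) ≤ ((n : ℕ) : WithBot ℕ∞)} := by
        refine Set.ext fun t => ?_
        obtain ⟨m, hm⟩ := exists_nat G (V.ι t)
        simp only [Set.mem_ofPred_eq, Set.mem_diff]
        rw [hm]
        norm_cast
        omega
      rw [e]
      exact (hle (n + 1)).sdiff (hle n)
  · have e : {t : V.toScheme | topologicalKrullDim ↥(G.hom ⁻¹' {(V.ι t)}) = d} = ∅ :=
      Set.eq_empty_of_forall_notMem fun t ht => hd (by
        obtain ⟨m, hm⟩ := exists_nat G (V.ι t)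
        exact ⟨m, ht.symm.trans hm⟩)
    rw [e]
    exact Topology.IsConstructible.empty

theorem isLocallyConstant [Flat G.hom] [LocallyOfFinitePresentation G.hom] :
    IsLocallyConstant (fun s : S => topologicalKrullDim ↥(G.hom ⁻¹' {s})) := by
  rw [IsLocallyConstant.iff_exists_open]
  intro s
  obtain ⟨x, -, hx, hmax, -⟩ := FibDim.exists_fibMax_generization G.hom (Neutral.unit G s)
  rw [Neutral.hom_unit] at hx
  obtain ⟨U, hxU, hU⟩ := Triage.FibMaxFlat.exists_nhd_fibreDimAt_eq G.hom hmax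
  refine ⟨G.hom '' U, G.hom.isOpenMap _ U.2, ⟨x, hxU, hx⟩, ?_⟩
  rintro _ ⟨z, hz, rfl⟩
  rw [← fibreDimAt_eq, hU z hz, ← hx, ← fibreDimAt_eq, hU x hxU]

end Groth.Agent.GrpSchLib.FibreDimGrp
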