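import Groth.Prelude.Def_Red
import Mathlib.AlgebraicGeometry.Group.Affine
import Mathlib.RingTheory.TensorProduct.MonoidAlgebra
import Mathlib.RingTheory.Bialgebra.Convolution

/-! Affine group schemes as spectra of Hopf algebras; the diagonalisable groups over an affine base. -/

open CategoryTheory CategoryTheory.Limits MonoidalCategory CartesianMonoidalCategory MonObj GrpObj AlgebraicGeometry
open TensorProduct WithConv

universe u

namespace Groth.Agent.GrpSchLib.AffineHopf

/-- The spectrum of an algebra as a scheme over the spectrum of the base. -/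
noncomputable abbrev sp (R : Type u) [CommRing R] (B : Type u) [CommRing B] [Algebra R B] : Over (Spec (CommRingCat.of R)) :=
  (Spec (CommRingCat.of B)).asOver (Spec (CommRingCat.of R))

variable {R : Type u} [CommRing R]

/-- An affine group scheme is the spectrum of a Hopf algebra. -/
theorem exists_hopf (X : Over (Spec (CommRingCat.of R))) [GrpObj X] [IsAffine X.left] :
    ∃ (A : Type u) (_ : CommRing A) (_ : HopfAlgebra R A), Nonempty (Grp.mk (sp R A) ≅ Grp.mk X) := by
  obtain ⟨⟨H⟩, ⟨e⟩⟩ := (essImage_hopfSpec (R := CommRingCat.of R) (G := Grp.mk X)).mpr ‹IsAffine X.left›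
  exact ⟨H, inferInstance, inferInstance, ⟨e⟩⟩

/-- The spectrum of an algebra map. -/
noncomputable def spMap {A B : Type u} [CommRing A] [CommRing B] [Algebra R A] [Algebra R B] (f : B →ₐ[R] A) :
    sp R A ⟶ sp R B :=
  (Spec.map (CommRingCat.ofHom f.toRingHom)).asOver _

instance isMonHom_spMap {A B : Type u} [CommRing A] [CommRing B] [Bialgebra R A] [Bialgebra R B] (f : B →ₐc[R] A) :
    IsMonHom (spMap (f : B →ₐ[R] A)) :=
  ((bialgSpec (CommRingCat.of R)).map (CommBialgCat.ofHom f).op).isMonHom_hom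

theorem spMap_eq_mapMulEquiv {A B : Type u} [CommRing A] [CommRing B] [Algebra R A] [Bialgebra R B] (f : B →ₐ[R] A) :
    spMap f = Spec.mapMulEquiv (toConv f) := rfl

theorem exists_eq_spMap {A B : Type u} [CommRing A] [CommRing B] [Algebra R A] [Bialgebra R B] (g : sp R A ⟶ sp R B) :
    ∃ f : B →ₐ[R] A, g = spMap f :=
  ⟨(Spec.mapMulEquiv.symm g).ofConv, (Spec.mapMulEquiv.apply_symm_apply g).symm⟩

theorem spMap_injective {A B : Type u} [CommRing A] [CommRing B] [Algebra R A] [Bialgebra R B] {f g : B →ₐ[R] A}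
    (h : spMap f = spMap g) : f = g :=
  congrArg WithConv.ofConv (Spec.mapMulEquiv.injective (h : Spec.mapMulEquiv (toConv f) = Spec.mapMulEquiv (toConv g)))

theorem spMap_comp {A B C : Type u} [CommRing A] [CommRing B] [CommRing C] [Algebra R A] [Algebra R B] [Algebra R C]
    (f : B →ₐ[R] A) (g : C →ₐ[R] B) : spMap f ≫ spMap g = spMap (f.comp g) := by
  refine Over.OverMorphism.ext ?_
  show Spec.map _ ≫ Spec.map _ = Spec.map _
  rw [← Spec.map_comp]
  rfl

theorem spMap_id {A : Type u} [CommRing A] [Algebra R A] : spMap (AlgHom.id R A) = 𝟙 (sp R A) := by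
  refine Over.OverMorphism.ext ?_
  show Spec.map (CommRingCat.ofHom (RingHom.id A)) = _
  simp
  rfl

theorem spMap_mul {A B : Type u} [CommRing A] [CommRing B] [Algebra R A] [Bialgebra R B] (f g : B →ₐ[R] A) :
    spMap f * spMap g = spMap (toConv f * toConv g).ofConv := (map_mul Spec.mapMulEquiv (toConv f) (toConv g)).symm

/-- A group homomorphism between affine group schemes comes from a bialgebra map. -/
theorem exists_bialgHom {A B : Type u} [CommRing A] [CommRing B] [HopfAlgebra R A] [HopfAlgebra R B]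
    (g : sp R A ⟶ sp R B) [IsMonHom g] : ∃ f : B →ₐc[R] A, g = spMap (f : B →ₐ[R] A) := by
  obtain ⟨f, rfl⟩ := exists_eq_spMap g
  let h : (hopfSpec (CommRingCat.of R)).obj (.op (CommHopfAlgCat.of R A)) ⟶
      (hopfSpec (CommRingCat.of R)).obj (.op (CommHopfAlgCat.of R B)) :=
    (Grp.ofHom (A := sp R A) (B := sp R B) (spMap f) : Grp.mk (sp R A) ⟶ Grp.mk (sp R B))
  let φ := (hopfSpec.fullyFaithful (R := CommRingCat.of R)).preimage h
  refine ⟨φ.unop.hom, ?_⟩
  show h.hom.hom = _
  exact (congrArg (fun e => e.hom.hom) ((hopfSpec.fullyFaithful (R := CommRingCat.of R)).map_preimage h)).symm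

/-- A bialgebra equivalence gives an isomorphism of group schemes. -/
noncomputable def spIso {A B : Type u} [CommRing A] [CommRing B] [HopfAlgebra R A] [HopfAlgebra R B] (e : B ≃ₐc[R] A) :
    Grp.mk (sp R A) ≅ Grp.mk (sp R B) where
  hom := Grp.ofHom (spMap ((e : B →ₐc[R] A) : B →ₐ[R] A))
  inv := Grp.ofHom (spMap ((e.symm : A →ₐc[R] B) : A →ₐ[R] B))
  hom_inv_id := by
    ext : 1
    show spMap _ ≫ spMap _ = 𝟙 _
    rw [spMap_comp, ← spMap_id]
    congr 1
    ext a
    exact e.apply_symm_apply a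
  inv_hom_id := by
    ext : 1
    show spMap _ ≫ spMap _ = 𝟙 _
    rw [spMap_comp, ← spMap_id]
    congr 1
    ext a
    exact e.symm_apply_apply a

theorem nonempty_bc_iso {S T : Scheme.{u}} (f g : T ⟶ S) (h : f = g) (X : Over S) [GrpObj X] :
    Nonempty (Grp.mk (Red.bc f X) ≅ Grp.mk (Red.bc g X)) := by
  subst h
  exact ⟨Iso.refl _⟩

set_option backward.isDefEq.respectTransparency false in
/-- Base change of the spectrum of a Hopf algebra. -/
theorem nonempty_bc_sp (S T : Type u) [CommRing S] [CommRing T] [Algebra R S] [HopfAlgebra R T] :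
    Nonempty (Grp.mk (Red.bc (Spec.map (CommRingCat.ofHom (algebraMap R S))) (sp R T)) ≅ Grp.mk (sp S (S ⊗[R] T))) := by
  let g : Red.bc (Spec.map (CommRingCat.ofHom (algebraMap R S))) (sp R T) ⟶ sp S (S ⊗[R] T) :=
    (pullbackSymmetry .. ≪≫ pullbackSpecIso' R S T).hom.asOver (Spec (CommRingCat.of S))
  haveI : IsMonHom g := inferInstanceAs (IsMonHom
    ((pullbackSymmetry .. ≪≫ pullbackSpecIso' R S T).hom.asOver (Spec (CommRingCat.of S))))
  haveI : IsIso g.left := inferInstanceAs (IsIso (pullbackSymmetry .. ≪≫ pullbackSpecIso' R S T).hom)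
  haveI : IsIso ((Over.forget _).map g) := ‹IsIso g.left›
  haveI : IsIso g := isIso_of_reflects_iso g (Over.forget _)
  exact ⟨Grp.mkIso' (asIso g)⟩

/-- The base change of a group algebra is the group algebra. -/
noncomputable def scalarBialgEquiv (R S : Type u) [CommRing R] [CommRing S] [Algebra R S] (M : Type*) [CommGroup M] :
    MonoidAlgebra S M ≃ₐc[S] S ⊗[R] MonoidAlgebra R M :=
  BialgEquiv.ofAlgEquiv (MonoidAlgebra.scalarTensorEquiv R S (M := M)).symm
    (MonoidAlgebra.algHom_ext (fun m => by simp) (by ext))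
    (MonoidAlgebra.algHom_ext (fun m => by simp [Algebra.TensorProduct.one_def]) (by ext))

/-- A diagonalisable group over an affine base is the spectrum of the group algebra. -/
theorem nonempty_DS_iso (k : Type u) [CommRing k] (M : Type) [AddCommGroup M] :
    Nonempty (Grp.mk (sp k (MonoidAlgebra k (Multiplicative M))) ≅ Grp.mk (Red.DS (Spec (CommRingCat.of k)) M)) := by
  let : Algebra (ULift.{u} ℤ) k := ((algebraMap ℤ k).comp (ULift.ringEquiv.toRingHom)).toAlgebra
  obtain ⟨e1⟩ := nonempty_bc_iso (IsTerminal.from specULiftZIsTerminal (Spec (CommRingCat.of k)))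
    (Spec.map (CommRingCat.ofHom (algebraMap (ULift.{u} ℤ) k))) (specULiftZIsTerminal.hom_ext _ _)
    (Red.diag (ULift.{u} ℤ) M)
  obtain ⟨e2⟩ := nonempty_bc_sp (R := ULift.{u} ℤ) k (MonoidAlgebra (ULift.{u} ℤ) (Multiplicative M))
  exact ⟨(e1.trans (e2.trans (spIso (scalarBialgEquiv (ULift.{u} ℤ) k (Multiplicative M))))).symm⟩

end Groth.Agent.GrpSchLib.AffineHopf
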