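import Groth.Prelude.Def_GLin4
import Mathlib.RingTheory.HopfAlgebra.MonoidAlgebra
import Mathlib.RingTheory.Bialgebra.Convolution
import Mathlib.LinearAlgebra.Matrix.Basis
import Mathlib.LinearAlgebra.Matrix.NonsingularInverse
import Mathlib.LinearAlgebra.TensorProduct.Basis
import Mathlib.LinearAlgebra.Basis.VectorSpace
import Mathlib.GroupTheory.QuotientGroup.Basic
import Mathlib.LinearAlgebra.Matrix.Permutation
import Mathlib.GroupTheory.Perm.Sign

/-! Diagonalisable subgroups of the general linear group in matrix form. -/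

open TensorProduct WithConv Matrix

universe u v

namespace Groth.Agent.GrpSchLib.GLnDiag

open CoordGrp

variable {k : Type u} [CommRing k] {m : ℕ} {C : Type v} [CommRing C] [Algebra k C]

/-- The matrix of a point of the general linear group. -/
noncomputable def mat (f : GLn m k →ₐ[k] C) : Matrix (Fin m) (Fin m) C := fun i j => f (GLn.X i j)

theorem mat_comp {D : Type*} [CommRing D] [Algebra k D] (h : C →ₐ[k] D) (f : GLn m k →ₐ[k] C) :
    mat (h.comp f) = (mat f).map h := rfl

theorem det_mat (f : GLn m k →ₐ[k] C) : (mat f).det * f GLn.Dinv = 1 := by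
  have h := congrArg f (GLn.det_mul_Dinv (n := m) (k := k))
  rw [map_mul, map_one, GLn.det_eq, AlgHom.map_det] at h
  exact h

theorem ext_mat {f g : GLn m k →ₐ[k] C} (h : mat f = mat g) : f = g := by
  refine GLn.algHom_ext (fun i j => congrFun (congrFun h i) j) ?_
  calc f GLn.Dinv = f GLn.Dinv * ((mat g).det * g GLn.Dinv) := by rw [det_mat, mul_one]
    _ = ((mat f).det * f GLn.Dinv) * g GLn.Dinv := by rw [h]; ring
    _ = g GLn.Dinv := by rw [det_mat, one_mul]

theorem mat_mul (f g : WithConv (GLn m k →ₐ[k] C)) : mat (f * g).ofConv = mat f.ofConv * mat g.ofConv := by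
  ext i j
  show (f * g).ofConv (GLn.X i j) = _
  rw [AlgHom.convMul_apply, GLn.comul_X, map_sum, Matrix.mul_apply]
  simp [mat]

theorem mat_one : mat (1 : WithConv (GLn m k →ₐ[k] C)).ofConv = 1 := by
  ext i j
  show (1 : WithConv (GLn m k →ₐ[k] C)).ofConv (GLn.X i j) = _
  rw [AlgHom.convOne_apply, GLn.counit_X, Matrix.one_apply]
  split_ifs <;> simp

theorem exists_pt (M : Matrix (Fin m) (Fin m) C) (hM : IsUnit M) :
    ∃ f : GLn m k →ₐ[k] C, mat f = M := by
  obtain ⟨d, hd⟩ := ((Matrix.isUnit_iff_isUnit_det M).mp hM).exists_right_inv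
  exact ⟨GLn.pt m k M d hd, by ext i j; exact GLn.pt_X M d hd i j⟩

section Field

variable {F : Type*} [Field F] {G : Type*} [CommGroup G]

/-- The diagonal matrix of group elements. -/
noncomputable def diagG (c : Fin m → G) : Matrix (Fin m) (Fin m) (MonoidAlgebra F G) :=
  Matrix.diagonal fun i => MonoidAlgebra.single (c i) 1

theorem exists_diagonalization (M : Matrix (Fin m) (Fin m) (MonoidAlgebra F G))
    (hΔ : ∀ i j, Coalgebra.comul (R := F) (M i j) = ∑ l, M i l ⊗ₜ[F] M l j)
    (hε : ∀ i j, Coalgebra.counit (R := F) (M i j) = if i = j then 1 else 0) :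
    ∃ (P : Matrix (Fin m) (Fin m) F) (c : Fin m → G), IsUnit P ∧
      M = P.map (algebraMap F _) * diagG c * P⁻¹.map (algebraMap F _) := by
  classical
  let b := MonoidAlgebra.basis G F
  let E : G → Matrix (Fin m) (Fin m) F := fun a i j => b.repr (M i j) a
  have hb : ∀ a, b a = MonoidAlgebra.single a 1 := fun a => by simp [b]
  have hcom : ∀ (x : MonoidAlgebra F G) (a a' : G),
      (b.tensorProduct b).repr (Coalgebra.comul (R := F) x) (a, a') = if a = a' then b.repr x a else 0 := by
    intro x a a'
    have hx := b.linearCombination_repr x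
    conv_lhs => rw [← hx, Finsupp.linearCombination_apply, map_finsuppSum, map_finsuppSum, Finsupp.sum_apply]
    simp only [map_smul, hb, (MonoidAlgebra.isGroupLikeElem_single_one _).comul_eq_tmul_self,
      Finsupp.smul_apply, smul_eq_mul]
    simp only [← hb, Module.Basis.tensorProduct_repr_tmul_apply, Module.Basis.repr_self, Finsupp.single_apply,
      smul_eq_mul]
    rw [Finsupp.sum, Finset.sum_eq_single a]
    · split_ifs with h h2 <;> simp_all
    · intro y _ hy; simp [hy]
    · intro h; simp [Finsupp.notMem_support_iff.mp h]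
  have hEE : ∀ a a', E a * E a' = if a = a' then E a else 0 := by
    intro a a'
    ext i j
    have h := congrArg (fun z => (b.tensorProduct b).repr z (a, a')) (hΔ i j)
    simp only [map_sum, Finsupp.finsetSum_apply, Module.Basis.tensorProduct_repr_tmul_apply, smul_eq_mul] at h
    rw [hcom] at h
    rw [Matrix.mul_apply]
    have e : (∑ l, E a i l * E a' l j) = ∑ l, b.repr (M l j) a' * b.repr (M i l) a :=
      Finset.sum_congr rfl fun l _ => mul_comm _ _
    rw [e, ← h]
    split_ifs <;> rfl
  let S : Finset G := Finset.univ.biUnion fun ij : Fin m × Fin m => (b.repr (M ij.1 ij.2)).support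
  have hsum : ∑ a ∈ S, E a = 1 := by
    ext i j
    rw [Matrix.sum_apply, Matrix.one_apply, ← hε i j]
    conv_rhs => rw [← b.linearCombination_repr (M i j), Finsupp.linearCombination_apply, map_finsuppSum]
    simp only [map_smul, hb, (MonoidAlgebra.isGroupLikeElem_single_one _).counit_eq_one, smul_eq_mul, _root_.mul_one]
    rw [Finsupp.sum]
    refine (Finset.sum_subset ?_ fun x _ hx => Finsupp.notMem_support_iff.mp hx).symm
    exact Finset.subset_biUnion_of_mem (fun ij : Fin m × Fin m => (b.repr (M ij.1 ij.2)).support) (Finset.mem_univ (i, j))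
  -- a basis of eigenvectors
  let W : Set (Fin m → F) := {w | ∃ a, (E a) *ᵥ w = w}
  have hW : Submodule.span F W = ⊤ := by
    refine eq_top_iff.mpr fun w _ => ?_
    rw [show w = ∑ a ∈ S, (E a) *ᵥ w by rw [← Matrix.sum_mulVec, hsum, Matrix.one_mulVec]]
    refine Submodule.sum_mem _ fun a _ => Submodule.subset_span ⟨a, ?_⟩
    rw [Matrix.mulVec_mulVec, hEE, if_pos rfl]
  let bW := Module.Basis.ofSpan hW.ge
  have hbW : ∀ i, bW i ∈ W := fun i => Module.Basis.ofSpan_subset hW.ge ⟨i, rfl⟩
  haveI := FiniteDimensional.fintypeBasisIndex bW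
  let e := (Fintype.equivFinOfCardEq (show Fintype.card _ = m by
    rw [← Module.finrank_eq_card_basis bW, Module.finrank_pi, Fintype.card_fin])).symm
  let bP := bW.reindex e.symm
  have hbP : ∀ i, ∃ a, (E a) *ᵥ bP i = bP i := fun i => by
    have h : bP i ∈ W := by
      simp only [bP, Module.Basis.reindex_apply]
      exact hbW _
    exact h
  choose c hc using hbP
  let P : Matrix (Fin m) (Fin m) F := (Pi.basisFun F (Fin m)).toMatrix bP
  have hP : IsUnit P := (Matrix.isUnit_iff_isUnit_det P).mpr
    (Matrix.isUnit_det_of_left_inverse (bP.toMatrix_mul_toMatrix_flip (Pi.basisFun F (Fin m))))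
  have hPcol : ∀ i j, P i j = bP j i := fun i j => by simp [P, Module.Basis.toMatrix_apply]
  refine ⟨P, c, hP, ?_⟩
  have key : M * P.map (algebraMap F _) = P.map (algebraMap F _) * diagG c := by
    refine Matrix.ext fun i j => ?_
    simp only [Matrix.mul_apply, diagG, Matrix.diagonal_apply, mul_ite, mul_zero, Finset.sum_ite_eq',
      Finset.mem_univ, if_true, Matrix.map_apply]
    refine b.ext_elem fun a => ?_
    rw [map_sum, Finsupp.finsetSum_apply]
    have hl : ∀ l, b.repr (M i l * algebraMap F _ (P l j)) a = E a i l * bP j l := fun l => by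
      rw [mul_comm, ← Algebra.smul_def, map_smul, Finsupp.smul_apply, smul_eq_mul, hPcol]
      exact mul_comm _ _
    rw [Finset.sum_congr rfl fun l _ => hl l, ← Algebra.smul_def, ← hb, map_smul, Module.Basis.repr_self,
      Finsupp.smul_apply, Finsupp.single_apply, smul_eq_mul, hPcol]
    show ((E a) *ᵥ bP j) i = _
    rw [← hc j, Matrix.mulVec_mulVec, hEE]
    split_ifs with h1 h2 h2
    · rw [mul_one, h1]
    · exact absurd h1.symm h2
    · exact absurd h2.symm h1
    · simp
  rw [← key, mul_assoc, ← Matrix.map_mul, Matrix.mul_nonsing_inv _ ((Matrix.isUnit_iff_isUnit_det P).mp hP),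
    Matrix.map_one _ (map_zero _) (map_one _), mul_one]

/-- The entries of a diagonalised closed subgroup generate the character group. -/
theorem closure_range_eq_top {R : Type u} [CommRing R] [Algebra R F] {f : GLn m R →ₐ[R] MonoidAlgebra F G}
    (hf : ∀ x : MonoidAlgebra F G, x ∈ Algebra.adjoin F (Set.range f)) {P : Matrix (Fin m) (Fin m) F} {c : Fin m → G}
    (hM : mat f = P.map (algebraMap F _) * diagG c * P⁻¹.map (algebraMap F _)) :
    Subgroup.closure (Set.range c) = ⊤ := by
  classical
  let H := Subgroup.closure (Set.range c)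
  let ψ : MonoidAlgebra F G →ₐ[F] MonoidAlgebra F (G ⧸ H) := MonoidAlgebra.mapDomainAlgHom F F (QuotientGroup.mk' H)
  let ψ' : MonoidAlgebra F G →ₐ[F] MonoidAlgebra F (G ⧸ H) :=
    MonoidAlgebra.mapDomainAlgHom F F (1 : G →* G ⧸ H)
  have hc : ∀ i, ψ (MonoidAlgebra.single (c i) 1) = ψ' (MonoidAlgebra.single (c i) 1) := fun i => by
    have h1 : ((c i : G) : G ⧸ H) = 1 := (QuotientGroup.eq_one_iff (c i)).mpr (Subgroup.subset_closure ⟨i, rfl⟩)
    simp [ψ, ψ']
    rw [h1]
  have h : (ψ.restrictScalars R).comp f = (ψ'.restrictScalars R).comp f := by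
    refine ext_mat ?_
    rw [mat_comp, mat_comp, hM]
    have e : ∀ φ : MonoidAlgebra F G →ₐ[F] MonoidAlgebra F (G ⧸ H),
        (P.map (algebraMap F (MonoidAlgebra F G)) * diagG c * P⁻¹.map (algebraMap F _)).map (φ.restrictScalars R) =
          P.map (algebraMap F _) * Matrix.diagonal (fun i => φ (MonoidAlgebra.single (c i) 1)) * P⁻¹.map (algebraMap F _) := by
      intro φ
      show φ.mapMatrix _ = _
      rw [map_mul, map_mul]
      have hal : ∀ N : Matrix (Fin m) (Fin m) F,
          φ.mapMatrix (N.map (algebraMap F (MonoidAlgebra F G))) = N.map (algebraMap F _) := fun N =>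
        Matrix.ext fun i j => φ.commutes (N i j)
      rw [hal, hal]
      congr 2
      show (Matrix.diagonal _).map φ = _
      rw [Matrix.diagonal_map (map_zero φ)]
    rw [e, e]
    simp only [hc]
  have hall : ψ = ψ' := by
    refine AlgHom.ext fun x => ?_
    have hx := hf x
    induction hx using Algebra.adjoin_induction with
    | mem y hy =>
      obtain ⟨z, rfl⟩ := hy
      exact AlgHom.congr_fun h z
    | algebraMap r => rw [AlgHom.commutes, AlgHom.commutes]
    | add a b _ _ ha hb => rw [map_add, map_add, ha, hb]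
    | mul a b _ _ ha hb => rw [map_mul, map_mul, ha, hb]
  refine eq_top_iff.mpr fun g _ => ?_
  have := congrArg (fun φ : MonoidAlgebra F G →ₐ[F] MonoidAlgebra F (G ⧸ H) => φ (MonoidAlgebra.single g 1)) hall
  simp [ψ, ψ'] at this
  exact (QuotientGroup.eq_one_iff g).mp (MonoidAlgebra.single_left_injective one_ne_zero this)

/-- Conjugate diagonalisable subgroups differ by a permutation and an automorphism of the character group. -/
theorem exists_perm_of_intertwine [Finite G] (Q : Matrix (Fin m) (Fin m) F) (hQ : IsUnit Q) (c c' : Fin m → G)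
    (hc : Subgroup.closure (Set.range c) = ⊤) (hc' : Subgroup.closure (Set.range c') = ⊤)
    (h : MonoidAlgebra F G →* MonoidAlgebra F G)
    (heq : Q.map (algebraMap F _) * diagG c = (Matrix.diagonal fun i => h (MonoidAlgebra.single (c' i) 1)) * Q.map (algebraMap F _)) :
    ∃ (θ : G ≃* G) (s : Equiv.Perm (Fin m)),
      (∀ b, h (MonoidAlgebra.single b 1) = MonoidAlgebra.single (θ b) 1) ∧ ∀ j, c j = θ (c' (s j)) := by
  classical
  have hQd : Q.det ≠ 0 := ((Matrix.isUnit_iff_isUnit_det Q).mp hQ).ne_zero
  have hinjA : Function.Injective (algebraMap F (MonoidAlgebra F G)) := (algebraMap F (MonoidAlgebra F G)).injective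
  obtain ⟨s, hs⟩ : ∃ s : Equiv.Perm (Fin m), ∀ j, Q (s j) j ≠ 0 := by
    by_contra hcon
    push Not at hcon
    refine hQd ?_
    rw [Matrix.det_apply]
    refine Finset.sum_eq_zero fun s _ => ?_
    obtain ⟨j, hj⟩ := hcon s
    rw [Finset.prod_eq_zero (f := fun i => Q (s i) i) (Finset.mem_univ j) hj, smul_zero]
  have hval : ∀ i j, Q i j ≠ 0 → h (MonoidAlgebra.single (c' i) 1) = MonoidAlgebra.single (c j) 1 := by
    intro i j hij
    have := congrFun (congrFun heq i) j
    rw [diagG, Matrix.mul_diagonal, Matrix.diagonal_mul, Matrix.map_apply, mul_comm (h _)] at this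
    have hu : IsUnit (algebraMap F (MonoidAlgebra F G) (Q i j)) := (Ne.isUnit hij).map _
    exact (hu.mul_left_cancel this).symm
  have hθex : ∀ b, ∃ d, h (MonoidAlgebra.single b 1) = MonoidAlgebra.single d 1 := by
    intro b
    have hb : b ∈ Subgroup.closure (Set.range c') := hc' ▸ Subgroup.mem_top b
    induction hb using Subgroup.closure_induction with
    | mem x hx =>
      obtain ⟨i, rfl⟩ := hx
      obtain ⟨j, rfl⟩ := s.surjective i
      exact ⟨c j, hval _ j (hs j)⟩
    | one => exact ⟨1, by rw [← MonoidAlgebra.one_def, map_one]⟩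
    | mul x y _ _ hx hy =>
      obtain ⟨dx, hdx⟩ := hx
      obtain ⟨dy, hdy⟩ := hy
      exact ⟨dx * dy, by
        rw [show MonoidAlgebra.single (x * y) (1 : F) = MonoidAlgebra.single x 1 * MonoidAlgebra.single y 1 by simp,
          map_mul, hdx, hdy]; simp⟩
    | inv x _ hx =>
      obtain ⟨d, hd⟩ := hx
      refine ⟨d⁻¹, ?_⟩
      have h1 : h (MonoidAlgebra.single x⁻¹ 1) * MonoidAlgebra.single d 1 = 1 := by
        rw [← hd, ← map_mul]; simp [← MonoidAlgebra.one_def]
      calc h (MonoidAlgebra.single x⁻¹ 1)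
          = h (MonoidAlgebra.single x⁻¹ 1) * (MonoidAlgebra.single d 1 * MonoidAlgebra.single d⁻¹ 1) := by
            simp [← MonoidAlgebra.one_def]
        _ = MonoidAlgebra.single d⁻¹ 1 := by rw [← mul_assoc, h1, one_mul]
  choose θ hθ using hθex
  let θh : G →* G :=
    { toFun := θ
      map_one' := MonoidAlgebra.single_left_injective (R := F) one_ne_zero (by
        show MonoidAlgebra.single (θ 1) (1 : F) = MonoidAlgebra.single 1 1
        rw [← hθ, ← MonoidAlgebra.one_def, map_one])
      map_mul' := fun x y => MonoidAlgebra.single_left_injective (R := F) one_ne_zero (by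
        show MonoidAlgebra.single (θ (x * y)) (1 : F) = MonoidAlgebra.single (θ x * θ y) 1
        rw [show MonoidAlgebra.single (θ x * θ y) (1 : F) = MonoidAlgebra.single (θ x) 1 * MonoidAlgebra.single (θ y) 1 by simp,
          ← hθ, ← hθ, ← hθ, ← map_mul]
        simp) }
  have hcs : ∀ j, c j = θh (c' (s j)) := fun j =>
    MonoidAlgebra.single_left_injective (R := F) one_ne_zero ((hval _ _ (hs j)).symm.trans (hθ (c' (s j))))
  have hsurj : Function.Surjective θh := by
    rw [← MonoidHom.range_eq_top, eq_top_iff, ← hc, Subgroup.closure_le]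
    rintro _ ⟨j, rfl⟩
    exact ⟨c' (s j), (hcs j).symm⟩
  exact ⟨MulEquiv.ofBijective θh ⟨(Finite.injective_iff_surjective).mpr hsurj, hsurj⟩, s, hθ, hcs⟩

theorem perm_conj_diagG (s : Equiv.Perm (Fin m)) (c : Fin m → G) :
    (s.permMatrix F).map (algebraMap F _) * diagG c * (s⁻¹.permMatrix F).map (algebraMap F _) =
      diagG (F := F) (fun i => c (s i)) := by
  classical
  have key : (s.permMatrix F).map (algebraMap F (MonoidAlgebra F G)) * diagG c =
      diagG (fun i => c (s i)) * (s.permMatrix F).map (algebraMap F _) := by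
    refine Matrix.ext fun i j => ?_
    rw [diagG, diagG, Matrix.mul_diagonal, Matrix.diagonal_mul, Matrix.map_apply]
    simp only [Equiv.Perm.permMatrix, PEquiv.toMatrix_apply, Equiv.toPEquiv_apply, Option.mem_def, Option.some.injEq]
    split_ifs with h
    · rw [h, map_one, _root_.one_mul, _root_.mul_one]
    · rw [map_zero, zero_mul, mul_zero]
  rw [key, mul_assoc, ← Matrix.map_mul, ← Matrix.permMatrix_mul, inv_mul_cancel, Matrix.permMatrix_one,
    Matrix.map_one _ (map_zero _) (map_one _), _root_.mul_one]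

end Field

end Groth.Agent.GrpSchLib.GLnDiag
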