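import Groth.Agent.GrpSchLib.MatrixCoeff
import Groth.Agent.GrpSchLib.AffineHopf
import Groth.Agent.GrpSchLib.GLnDiag
import Groth.Prelude.Def_FrameBundle

/-! Maps to the general linear group given by invertible matrices of functions. -/

universe u

open CategoryTheory Limits AlgebraicGeometry MonoidalCategory CartesianMonoidalCategory MonObj GrpObj WithConv

namespace Groth.Agent.GrpSchLib.Kunneth

variable {k : Type u} [Field k] {n : ℕ}

set_option quotPrecheck false in
local notation "σZ" => IsTerminal.from specULiftZIsTerminal (Spec (CommRingCat.of k))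

/-- Functions are an algebra over the integers. -/
noncomputable instance instAlgebraInt (T : Over (Spec (CommRingCat.of k))) : Algebra (ULift.{u} ℤ) (Fn T) :=
  ((algebraMap ℤ (Fn T)).comp ULift.ringEquiv.toRingHom).toAlgebra

/-- The tautological map of a scheme to the spectrum of its functions, over the integers. -/
noncomputable def canSp (T : Over (Spec (CommRingCat.of k))) :
    (Over.map σZ).obj T ⟶ AffineHopf.sp (ULift.{u} ℤ) (Fn T) :=
  Over.homMk T.left.toSpecΓ (specULiftZIsTerminal.hom_ext _ _)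

/-- The transpose of a point. -/
noncomputable def preGL {T : Over (Spec (CommRingCat.of k))} (φ : CoordGrp.GLn n (ULift.{u} ℤ) →ₐ[(ULift.{u} ℤ)] Fn T) :
    (Over.map σZ).obj T ⟶ FrB.GLZ.{u} n :=
  canSp T ≫ AffineHopf.spMap φ

/-- A point of the general linear group given by an algebra map to the functions. -/
noncomputable def toGL {T : Over (Spec (CommRingCat.of k))} (φ : CoordGrp.GLn n (ULift.{u} ℤ) →ₐ[(ULift.{u} ℤ)] Fn T) :
    T ⟶ FrB.GLn n (Spec (CommRingCat.of k)) :=
  (Over.mapPullbackAdj σZ).homEquiv _ _ (preGL φ)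

theorem toGL_mul {T : Over (Spec (CommRingCat.of k))} (φ ψ : CoordGrp.GLn n (ULift.{u} ℤ) →ₐ[(ULift.{u} ℤ)] Fn T) :
    toGL φ * toGL ψ = toGL (toConv φ * toConv ψ).ofConv := by
  simp only [toGL, Adjunction.homEquiv_unit]
  rw [← MonObj.comp_mul, ← Functor.map_mul]
  congr 2
  simp only [preGL]
  rw [← MonObj.comp_mul, AffineHopf.spMap_mul]

theorem preGL_injective {T : Over (Spec (CommRingCat.of k))} {φ ψ : CoordGrp.GLn n (ULift.{u} ℤ) →ₐ[(ULift.{u} ℤ)] Fn T}
    (h : preGL φ = preGL ψ) : φ = ψ := by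
  have h1 : T.left.toSpecΓ ≫ Spec.map (CommRingCat.ofHom φ.toRingHom) =
      T.left.toSpecΓ ≫ Spec.map (CommRingCat.ofHom ψ.toRingHom) := congrArg CommaMorphism.left h
  have h2 := congrArg Scheme.Hom.appTop h1
  simp only [Scheme.Hom.comp_appTop, Scheme.toSpecΓ_appTop, Scheme.ΓSpecIso_naturality] at h2
  rw [cancel_epi] at h2
  exact AlgHom.coe_ringHom_injective (congrArg CommRingCat.Hom.hom h2)

/-- The algebra map of an invertible matrix. -/
noncomputable def matHom {C : Type u} [CommRing C] [Algebra (ULift.{u} ℤ) C] (M : Matrix (Fin n) (Fin n) C) (hM : IsUnit M) :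
    CoordGrp.GLn n (ULift.{u} ℤ) →ₐ[(ULift.{u} ℤ)] C :=
  (GLnDiag.exists_pt M hM).choose

theorem mat_matHom {C : Type u} [CommRing C] [Algebra (ULift.{u} ℤ) C] (M : Matrix (Fin n) (Fin n) C) (hM : IsUnit M) :
    GLnDiag.mat (matHom M hM) = M :=
  (GLnDiag.exists_pt M hM).choose_spec

/-- The point given by an invertible matrix of functions. -/
noncomputable def matPt {T : Over (Spec (CommRingCat.of k))} (M : Matrix (Fin n) (Fin n) (Fn T)) (hM : IsUnit M) :
    T ⟶ FrB.GLn n (Spec (CommRingCat.of k)) :=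
  toGL (matHom M hM)

theorem matPt_injective {T : Over (Spec (CommRingCat.of k))} {M N : Matrix (Fin n) (Fin n) (Fn T)} {hM : IsUnit M}
    {hN : IsUnit N} (h : matPt M hM = matPt N hN) : M = N := by
  rw [← mat_matHom M hM, ← mat_matHom N hN, preGL_injective ((Over.mapPullbackAdj σZ).homEquiv _ _ |>.injective h)]

theorem matPt_mul {T : Over (Spec (CommRingCat.of k))} (M N : Matrix (Fin n) (Fin n) (Fn T)) (hM : IsUnit M) (hN : IsUnit N) :
    matPt M hM * matPt N hN = matPt (M * N) (hM.mul hN) := by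
  rw [matPt, matPt, toGL_mul]
  refine congrArg toGL (GLnDiag.ext_mat ?_)
  rw [GLnDiag.mat_mul, ofConv_toConv, ofConv_toConv, mat_matHom, mat_matHom, mat_matHom]

theorem isUnit_map {T T' : Over (Spec (CommRingCat.of k))} (u : T' ⟶ T) {M : Matrix (Fin n) (Fin n) (Fn T)} (hM : IsUnit M) :
    IsUnit (M.map (ev u)) :=
  hM.map (RingHom.mapMatrix (ev u).toRingHom)

theorem comp_matPt {T T' : Over (Spec (CommRingCat.of k))} (u : T' ⟶ T) (M : Matrix (Fin n) (Fin n) (Fn T)) (hM : IsUnit M) :
    u ≫ matPt M hM = matPt (M.map (ev u)) (isUnit_map u hM) := by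
  let e : Fn T →ₐ[(ULift.{u} ℤ)] Fn T' := AlgHom.mk (ev u).toRingHom (fun c => by
    obtain ⟨z⟩ := c
    exact map_intCast (ev u).toRingHom z)
  have h1 : matHom (M.map (ev u)) (isUnit_map u hM) = e.comp (matHom M hM) :=
    GLnDiag.ext_mat (by rw [mat_matHom, GLnDiag.mat_comp, mat_matHom]; rfl)
  rw [matPt, matPt, h1, toGL, toGL, ← Adjunction.homEquiv_naturality_left]
  congr 1
  refine Over.OverMorphism.ext ?_
  show u.left ≫ T.left.toSpecΓ ≫ Spec.map _ = T'.left.toSpecΓ ≫ Spec.map _
  rw [← Category.assoc, Scheme.toSpecΓ_naturality, Category.assoc, ← Spec.map_comp]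
  rfl

theorem matPt_congr {T : Over (Spec (CommRingCat.of k))} {M N : Matrix (Fin n) (Fin n) (Fn T)} {hM : IsUnit M}
    {hN : IsUnit N} (h : M = N) : matPt M hM = matPt N hN := by
  subst h; rfl

theorem matPt_one {T : Over (Spec (CommRingCat.of k))} :
    matPt (1 : Matrix (Fin n) (Fin n) (Fn T)) isUnit_one = 1 := by
  have h : matPt (1 : Matrix (Fin n) (Fin n) (Fn T)) isUnit_one * matPt 1 isUnit_one = matPt 1 isUnit_one :=
    (matPt_mul _ _ _ _).trans (matPt_congr (_root_.one_mul _))
  exact mul_eq_right.mp h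

variable {G : Over (Spec (CommRingCat.of k))} [GrpObj G] {M : Matrix (Fin n) (Fin n) (Fn G)}

/-- The representation of a multiplicative matrix. -/
noncomputable def IsRepMatrix.hom (h : IsRepMatrix M) : G ⟶ FrB.GLn n (Spec (CommRingCat.of k)) :=
  matPt M h.isUnit

theorem IsRepMatrix.isMonHom_hom (h : IsRepMatrix M) : IsMonHom h.hom := by
  constructor
  · rw [IsRepMatrix.hom, comp_matPt, MonObj.one_eq_one, MonObj.one_eq_one, ← matPt_one]
    exact matPt_congr (h.one _)
  · rw [show μ[G] = fst G G * snd G G by rw [Hom.mul_def, lift_fst_snd, Category.id_comp], IsRepMatrix.hom, comp_matPt,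
      matPt_congr (hN := (isUnit_map (fst G G) h.isUnit).mul
        (isUnit_map (snd G G) h.isUnit)) (h.mul _ (fst G G) (snd G G))]
    refine (matPt_mul _ _ (isUnit_map (fst G G) h.isUnit) (isUnit_map (snd G G) h.isUnit)).symm.trans ?_
    rw [← comp_matPt, ← comp_matPt, Hom.mul_def, ← lift_map, lift_fst_snd, Category.id_comp]

theorem IsRepMatrix.eq_one_of_hom (h : IsRepMatrix M) (h1 : h.hom = 1) : M = 1 :=
  matPt_injective (h1.trans matPt_one.symm)

end Groth.Agent.GrpSchLib.Kunneth
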