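import Groth.Agent.S2080
import Groth.Agent.GrpSchLib.HomClosedRange
import Mathlib.AlgebraicGeometry.ZariskisMainTheorem
import Mathlib.RingTheory.Artinian.Module
import Mathlib.RingTheory.LocalRing.ResidueField.Basic

/-! Quasi-finite homomorphisms of locally algebraic groups are finite. -/

universe u

open CategoryTheory Limits AlgebraicGeometry MonoidalCategory CartesianMonoidalCategory MonObj GrpObj
  TopologicalSpace

namespace Groth.Agent.GrpSchLib.HomFinite

/-- Left translation by a rational point. -/
noncomputable def trans {C : Type*} [Category C] [CartesianMonoidalCategory C] {G : C} [GrpObj G]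
    (a : 𝟙_ C ⟶ G) : G ≅ G where
  hom := (toUnit G ≫ a) * 𝟙 G
  inv := (toUnit G ≫ a)⁻¹ * 𝟙 G
  hom_inv_id := by simp [MonObj.comp_mul, GrpObj.comp_inv]
  inv_hom_id := by simp [MonObj.comp_mul, GrpObj.comp_inv]

section AlgClosed

variable {K : Type u} [Field K] [IsAlgClosed K] {G H : Over (Spec (CommRingCat.of K))} [GrpObj G] [GrpObj H]
  [LocallyOfFiniteType G.hom] [LocallyOfFiniteType H.hom] (u : G ⟶ H) [IsMonHom u]

omit [IsAlgClosed K] [LocallyOfFiniteType G.hom] [LocallyOfFiniteType H.hom] in
theorem trans_comm (a : 𝟙_ _ ⟶ G) : (trans a).hom.left ≫ u.left = u.left ≫ (trans (a ≫ u)).hom.left := by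
  rw [← Over.comp_left, ← Over.comp_left]
  congr 1
  simp [trans, MonObj.mul_comp, MonObj.comp_mul]

omit [GrpObj H] [LocallyOfFiniteType H.hom] in
theorem exists_trans (g₀ g : G.left) (h₀ : IsClosed ({g₀} : Set G.left)) (h : IsClosed ({g} : Set G.left)) :
    ∃ a : 𝟙_ _ ⟶ G, (trans a).hom.left g₀ = g := by
  let pt : ∀ x : G.left, IsClosed ({x} : Set G.left) → (𝟙_ _ ⟶ G) := fun x hx =>
    Over.homMk (pointOfClosedPoint G.hom x hx) (pointOfClosedPoint_comp G.hom x hx)
  have hpt : ∀ x hx, (pt x hx).left (IsLocalRing.closedPoint K) = x := fun x hx =>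
    pointOfClosedPoint_apply G.hom x hx _
  refine ⟨pt g h * (pt g₀ h₀)⁻¹, ?_⟩
  have e : pt g₀ h₀ ≫ (trans (pt g h * (pt g₀ h₀)⁻¹)).hom = pt g h := by
    simp [trans, MonObj.comp_mul, GrpObj.comp_inv]
  have h1 := congrArg (fun f : 𝟙_ _ ⟶ G => f.left (IsLocalRing.closedPoint K)) e
  exact (congrArg (trans (pt g h * (pt g₀ h₀)⁻¹)).hom.left (hpt g₀ h₀).symm).trans (h1.trans (hpt g h))

/-- The fibre over the unit being finite, the homomorphism is locally quasi-finite. -/
theorem locallyQuasiFinite_of_finite_preimage [QuasiCompact u.left]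
    (hfin : (u.left ⁻¹' {η[H].left (IsLocalRing.closedPoint K)}).Finite) :
    LocallyQuasiFinite u.left := by
  haveI : JacobsonSpace G.left := LocallyOfFiniteType.jacobsonSpace G.hom
  haveI : LocallyOfFiniteType u.left := by
    have : LocallyOfFiniteType (u.left ≫ H.hom) := by rw [Over.w u]; infer_instance
    exact locallyOfFiniteType_of_comp u.left H.hom
  rw [← Scheme.Hom.quasiFiniteLocus_eq_top_iff, eq_top_iff]
  intro x _
  by_contra hx
  obtain ⟨g, hg1, hg⟩ := nonempty_inter_closedPoints
    (Z := (u.left.quasiFiniteLocus : Set G.left)ᶜ) ⟨x, hx⟩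
    u.left.quasiFiniteLocus.isOpen.isClosed_compl.isLocallyClosed
  refine hg1 ?_
  rw [SetLike.mem_coe, Scheme.Hom.mem_quasiFiniteLocus,
    Scheme.Hom.quasiFiniteAt_iff_isOpen_singleton_asFiber]
  have he : IsClosed ({η[G].left (IsLocalRing.closedPoint K)} : Set G.left) :=
    by
    have h1 := (η[G]).left.isClosedEmbedding.isClosedMap _ (isClosed_discrete (α := ↥(Spec (CommRingCat.of K))) {IsLocalRing.closedPoint K})
    exact (Set.image_singleton (f := (η[G]).left)) ▸ h1
  obtain ⟨a, ha⟩ := exists_trans (G := G) _ g he hg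
  have hue : u.left (η[G].left (IsLocalRing.closedPoint K)) = η[H].left (IsLocalRing.closedPoint K) :=
    congrArg (fun f : 𝟙_ _ ⟶ H => f.left (IsLocalRing.closedPoint K)) (IsMonHom.one_hom u)
  let T : H.left ≅ H.left := (Over.forget _).mapIso (trans (a ≫ u))
  let S : G.left ≅ G.left := (Over.forget _).mapIso (trans a)
  have hf : (u.left ⁻¹' {u.left g}).Finite := by
    refine (hfin.image S.hom).subset fun y hy => ?_
    obtain ⟨y', rfl⟩ := S.hom.homeomorph.surjective y
    refine ⟨y', ?_, rfl⟩
    have h1 : ∀ z, T.hom (u.left z) = u.left (S.hom z) := fun z =>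
      congrArg (fun f : G.left ⟶ H.left => f z) (trans_comm u a).symm
    have h2 : T.hom (u.left y') = T.hom (η[H].left (IsLocalRing.closedPoint K)) := by
      rw [h1, ← hue, h1]
      exact (hy : u.left (S.hom y') = u.left g).trans (congrArg u.left ha.symm)
    exact T.hom.homeomorph.injective h2
  haveI : Finite ↥(u.left ⁻¹' {u.left g}) := hf.to_subtype
  haveI : Finite (u.left.fiber (u.left g)) :=
    Finite.of_equiv _ (u.left.fiberHomeo (u.left g)).symm.toEquiv
  exact isOpen_discrete _

/-- A quasi-compact, locally quasi-finite homomorphism is finite. -/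
theorem isFinite_of_isAlgClosed [QuasiCompact u.left] [LocallyQuasiFinite u.left] :
    IsFinite u.left := by
  haveI : JacobsonSpace H.left := LocallyOfFiniteType.jacobsonSpace H.hom
  haveI : LocallyOfFiniteType u.left := by
    have : LocallyOfFiniteType (u.left ≫ H.hom) := by rw [Over.w u]; infer_instance
    exact locallyOfFiniteType_of_comp u.left H.hom
  haveI : IsSeparated u.left := by
    have : IsSeparated G.hom :=
      (isSeparated_iff G.hom).mpr ((diagonal_iff_unit @IsClosedImmersion).mpr inferInstance)
    have : IsSeparated (u.left ≫ H.hom) := by rwa [Over.w u]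
    exact IsSeparated.of_comp u.left H.hom
  have hR : IsClosed (Set.range u.left) := HomClosedRange.isClosed_range u
  let W : H.left.Opens := ⨆ V : {V : H.left.Opens // IsFinite (u.left ∣_ V)}, V.1
  have hW : IsFinite (u.left ∣_ W) :=
    Groth.Agent.MorLib.GenFinite.isFinite_iSup u.left _ fun V => V.2
  have hout : ∀ y ∉ Set.range u.left, y ∈ W := by
    intro y hy
    let V : H.left.Opens := ⟨(Set.range u.left)ᶜ, hR.isOpen_compl⟩
    refine le_iSup (fun V : {V : H.left.Opens // IsFinite (u.left ∣_ V)} => V.1) ⟨V, ?_⟩ hy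
    haveI : IsEmpty ↥(u.left ⁻¹ᵁ V).toScheme := ⟨fun z => z.2 ⟨z.1, rfl⟩⟩
    infer_instance
  have hne : ∃ r ∈ Set.range u.left, r ∈ W := by
    let Y := u.left.image
    have hrange : Set.range u.left.imageι = Set.range u.left := by
      rw [Scheme.IdealSheafData.range_subschemeι, Scheme.Hom.support_ker]
      exact hR.closure_eq
    haveI : IsLocallyNoetherian H.left := LocallyOfFiniteType.isLocallyNoetherian H.hom
    haveI : Nonempty Y := ⟨u.left.toImage (η[G].left (IsLocalRing.closedPoint K))⟩
    obtain ⟨c, hc⟩ : ∃ c : Y, closure {c} ∈ irreducibleComponents (Y : Type u) := by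
      obtain ⟨Z, hZ⟩ : ∃ Z, Z ∈ irreducibleComponents (Y : Type u) :=
        ⟨_, irreducibleComponent_mem_irreducibleComponents (Classical.arbitrary Y)⟩
      refine ⟨hZ.1.genericPoint, ?_⟩
      rw [(hZ.1.isGenericPoint_genericPoint (isClosed_of_mem_irreducibleComponents Z hZ)).def]
      exact hZ
    haveI : LocallyOfFiniteType u.left.toImage := by
      have : LocallyOfFiniteType (u.left.toImage ≫ u.left.imageι) := by
        rw [Scheme.Hom.toImage_imageι]; infer_instance
      exact locallyOfFiniteType_of_comp u.left.toImage u.left.imageι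
    haveI : IsSeparated u.left.toImage := by
      have : IsSeparated (u.left.toImage ≫ u.left.imageι) := by
        rw [Scheme.Hom.toImage_imageι]; infer_instance
      exact IsSeparated.of_comp u.left.toImage u.left.imageι
    haveI : LocallyQuasiFinite u.left.toImage := by
      have : LocallyQuasiFinite (u.left.toImage ≫ u.left.imageι) := by
        rw [Scheme.Hom.toImage_imageι]; infer_instance
      exact LocallyQuasiFinite.of_comp u.left.toImage u.left.imageι
    obtain ⟨V, -, hcV, hV⟩ := (Groth.Agent.S2080.result u.left.toImage c hc).mp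
      (u.left.toImage.finite_preimage_singleton c)
    obtain ⟨W', hW', hWV⟩ := u.left.imageι.isEmbedding.isInducing.isOpen_iff.mp V.2
    let V' : H.left.Opens := ⟨W', hW'⟩
    have hVV : u.left.imageι ⁻¹ᵁ V' = V := TopologicalSpace.Opens.ext hWV
    refine ⟨u.left.imageι c, hrange ▸ ⟨c, rfl⟩,
      le_iSup (fun V : {V : H.left.Opens // IsFinite (u.left ∣_ V)} => V.1) ⟨V', ?_⟩
        (show c ∈ u.left.imageι ⁻¹ᵁ V' from hVV.symm ▸ hcV)⟩
    haveI : IsFinite (u.left.toImage ∣_ (u.left.imageι ⁻¹ᵁ V')) := by rw [hVV]; exact hV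
    have : IsFinite ((u.left.toImage ≫ u.left.imageι) ∣_ V') := by
      rw [morphismRestrict_comp]
      exact MorphismProperty.comp_mem @IsFinite _ _ ‹_›
        (IsZariskiLocalAtTarget.restrict (P := @IsFinite) inferInstance V')
    rwa [Scheme.Hom.toImage_imageι] at this
  have htop : ∀ y, y ∈ W := by
    by_contra h
    push Not at h
    obtain ⟨x, hx⟩ := h
    obtain ⟨y, hyW, hy⟩ := nonempty_inter_closedPoints (Z := (W : Set H.left)ᶜ) ⟨x, hx⟩
      W.2.isClosed_compl.isLocallyClosed
    refine hyW ?_
    by_cases hyr : y ∈ Set.range u.left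
    swap
    · exact hout y hyr
    obtain ⟨r, hrR, hrW⟩ := hne
    haveI : JacobsonSpace G.left := LocallyOfFiniteType.jacobsonSpace G.hom
    obtain ⟨g₀, hg₀W, hg₀⟩ := nonempty_inter_closedPoints (Z := u.left ⁻¹' (W : Set H.left))
      (by obtain ⟨g, rfl⟩ := hrR; exact ⟨g, hrW⟩)
      (W.2.preimage u.left.continuous).isLocallyClosed
    obtain ⟨g, hgy, hg⟩ := nonempty_inter_closedPoints (Z := u.left ⁻¹' {y})
      (by obtain ⟨g, hg⟩ := hyr; exact ⟨g, hg⟩) (hy.preimage u.left.continuous).isLocallyClosed
    obtain ⟨a, ha⟩ := exists_trans (G := G) g g₀ hg hg₀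
    let T : H.left ≅ H.left := (Over.forget _).mapIso (trans (a ≫ u))
    let S : G.left ≅ G.left := (Over.forget _).mapIso (trans a)
    have hTW : IsFinite (u.left ∣_ (T.hom ⁻¹ᵁ W)) := by
      haveI := hW
      haveI : IsFinite ((S.hom ≫ u.left) ∣_ W) := by
        rw [morphismRestrict_comp]
        exact MorphismProperty.comp_mem @IsFinite _ _ (IsZariskiLocalAtTarget.restrict (P := @IsFinite) inferInstance _) hW
      have h1 : IsFinite ((u.left ≫ T.hom) ∣_ W) := by
        have e : S.hom ≫ u.left = u.left ≫ T.hom := trans_comm u a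
        rwa [← e]
      rw [morphismRestrict_comp] at h1
      exact (MorphismProperty.cancel_right_of_respectsIso @IsFinite _ (T.hom ∣_ W)).mp h1
    refine le_iSup (fun V : {V : H.left.Opens // IsFinite (u.left ∣_ V)} => V.1) ⟨_, hTW⟩ ?_
    show T.hom y ∈ W
    have h2 : T.hom (u.left g) = u.left (S.hom g) :=
      congrArg (fun f : G.left ⟶ H.left => f g) (trans_comm u a).symm
    rw [(hgy : u.left g = y)] at h2
    rw [h2]
    exact (congrArg u.left ha).symm ▸ hg₀W
  have hWtop : W = ⊤ := eq_top_iff.mpr fun y _ => htop y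
  rw [hWtop] at hW
  exact (IsZariskiLocalAtTarget.iff_of_iSup_eq_top (P := @IsFinite) (fun _ : PUnit.{1} => (⊤ : H.left.Opens))
    (iSup_const)).mpr fun _ => hW

end AlgClosed

section Artin

variable {A : Type u} [CommRing A] [IsArtinianRing A] [IsLocalRing A]
  {G H : Over (Spec (CommRingCat.of A))}

/-- The algebraic closure of the residue field, as a map to the residue ring. -/
noncomputable abbrev geomPt (A : Type u) [CommRing A] [IsLocalRing A] :
    Spec (CommRingCat.of (AlgebraicClosure (IsLocalRing.ResidueField A))) ⟶ Spec (CommRingCat.of A) :=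
  Spec.map (CommRingCat.ofHom ((algebraMap (IsLocalRing.ResidueField A) _).comp (IsLocalRing.residue A)))

instance : IsIntegralHom (geomPt A) := by
  rw [IsIntegralHom.SpecMap_iff]
  refine RingHom.IsIntegral.trans _ _ ?_ ?_
  · exact RingHom.isIntegral_of_surjective _ IsLocalRing.residue_surjective
  · exact algebraMap_isIntegral_iff.mpr inferInstance

instance : Surjective (geomPt A) := ⟨fun y => by
  exact ⟨IsLocalRing.closedPoint _, @Subsingleton.elim (PrimeSpectrum A) inferInstance _ _⟩⟩

theorem universallyClosed_of_geomPt (u : G ⟶ H)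
    [UniversallyClosed ((Over.pullback (geomPt A)).map u).left] : UniversallyClosed u.left := by
  let v := ((Over.pullback (geomPt A)).map u).left
  haveI : UniversallyClosed (pullback.fst G.hom (geomPt A) ≫ u.left) := by
    have e : v ≫ pullback.fst H.hom (geomPt A) = pullback.fst G.hom (geomPt A) ≫ u.left :=
      pullback.lift_fst _ _ _
    rw [← e]
    infer_instance
  exact UniversallyClosed.of_comp_surjective (pullback.fst G.hom (geomPt A)) u.left

variable [GrpObj G] [GrpObj H] [LocallyOfFiniteType G.hom] [LocallyOfFiniteType H.hom]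

/-- A quasi-compact locally quasi-finite homomorphism over an artinian base is finite. -/
theorem isFinite (u : G ⟶ H) [IsMonHom u] [QuasiCompact u.left] [LocallyQuasiFinite u.left]
    [IsSeparated u.left] : IsFinite u.left := by
  let F := Over.pullback (geomPt A)
  haveI : LocallyOfFiniteType (F.obj G).hom :=
    inferInstanceAs (LocallyOfFiniteType (pullback.snd G.hom _))
  haveI : LocallyOfFiniteType (F.obj H).hom :=
    inferInstanceAs (LocallyOfFiniteType (pullback.snd H.hom _))
  haveI : QuasiCompact (F.map u).left :=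
    MorphismProperty.overPullbackMap (P := @QuasiCompact) _ u ‹_›
  haveI : LocallyQuasiFinite (F.map u).left :=
    MorphismProperty.overPullbackMap (P := @LocallyQuasiFinite) _ u ‹_›
  haveI : IsMonHom (F.map u) := inferInstance
  haveI : IsFinite (F.map u).left := isFinite_of_isAlgClosed (F.map u)
  haveI : UniversallyClosed u.left := universallyClosed_of_geomPt u
  haveI : LocallyOfFiniteType u.left := by
    have : LocallyOfFiniteType (u.left ≫ H.hom) := by rw [Over.w u]; infer_instance
    exact locallyOfFiniteType_of_comp u.left H.hom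
  haveI : IsProper u.left := ⟨⟩
  exact IsFinite.of_isProper_of_locallyQuasiFinite u.left

end Artin


section Separated

variable {A : Type u} [CommRing A] [IsArtinianRing A] [IsLocalRing A]
  {G H : Over (Spec (CommRingCat.of A))} [GrpObj G] [GrpObj H]

variable (G) in
/-- Group schemes over an artinian local ring are separated. -/
theorem isSeparated : IsSeparated G.hom := by
  let F := Over.pullback (geomPt A)
  haveI hK : IsSeparated (F.obj G).hom :=
    (isSeparated_iff _).mpr ((diagonal_iff_unit @IsClosedImmersion).mpr inferInstance)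
  haveI : IsClosedImmersion (lift (𝟙 (F.obj G)) (𝟙 (F.obj G))).left :=
    inferInstanceAs (IsClosedImmersion (pullback.diagonal (F.obj G).hom))
  haveI : UniversallyClosed (F.map (lift (𝟙 G) (𝟙 G))).left := by
    rw [← Functor.Monoidal.lift_μ, Over.comp_left, F.map_id]
    haveI : IsIso (Functor.LaxMonoidal.μ F G G).left :=
      ((Over.forget _).mapIso (Functor.Monoidal.μIso F G G)).isIso_hom
    exact MorphismProperty.comp_mem @UniversallyClosed _ _ inferInstance inferInstance
  haveI : UniversallyClosed (lift (𝟙 G) (𝟙 G)).left := universallyClosed_of_geomPt _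
  haveI : UniversallyClosed (pullback.diagonal G.hom) := ‹UniversallyClosed (lift (𝟙 G) (𝟙 G)).left›
  rw [isSeparated_iff]
  exact IsClosedImmersion.of_isPreimmersion _
    (pullback.diagonal G.hom).isClosedMap.isClosed_range

variable [LocallyOfFiniteType G.hom] [LocallyOfFiniteType H.hom]

/-- A quasi-compact homomorphism with discrete kernel is finite. -/
theorem isFinite_of_discrete_ker (u : G ⟶ H) [IsMonHom u] [QuasiCompact u.left]
    (hd : DiscreteTopology ↥(Limits.pullback u.left (η[H]).left)) : IsFinite u.left := by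
  let S₀ := Spec (CommRingCat.of A)
  let kerπ : Limits.pullback u.left (η[H]).left ⟶ S₀ := Limits.pullback.snd u.left (η[H]).left
  haveI : LocallyOfFiniteType u.left := by
    have : LocallyOfFiniteType (u.left ≫ H.hom) := by rw [Over.w u]; infer_instance
    exact locallyOfFiniteType_of_comp u.left H.hom
  haveI : IsSeparated u.left := by
    have := isSeparated G
    have : IsSeparated (u.left ≫ H.hom) := by rwa [Over.w u]
    exact IsSeparated.of_comp u.left H.hom
  haveI : CompactSpace ↥(Limits.pullback u.left (η[H]).left) := by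
    haveI : QuasiCompact kerπ := inferInstanceAs (QuasiCompact (Limits.pullback.snd u.left (η[H]).left))
    exact QuasiCompact.compactSpace_of_compactSpace kerπ
  haveI : Finite ↥(Limits.pullback u.left (η[H]).left) := finite_of_compact_of_discrete
  haveI : LocallyOfFiniteType kerπ :=
    inferInstanceAs (LocallyOfFiniteType (Limits.pullback.snd u.left (η[H]).left))
  haveI hlqf : LocallyQuasiFinite kerπ :=
    LocallyQuasiFinite.of_finite_preimage_singleton _ fun _ => Set.toFinite _
  let F := Over.pullback (geomPt A)
  haveI : LocallyOfFiniteType (F.obj G).hom :=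
    inferInstanceAs (LocallyOfFiniteType (pullback.snd G.hom _))
  haveI : LocallyOfFiniteType (F.obj H).hom :=
    inferInstanceAs (LocallyOfFiniteType (pullback.snd H.hom _))
  haveI : QuasiCompact (F.map u).left :=
    MorphismProperty.overPullbackMap (P := @QuasiCompact) _ u ‹_›
  have sq : IsPullback (pullback.fst G.hom (geomPt A)) (F.map u).left u.left
      (pullback.fst H.hom (geomPt A)) := by
    refine IsPullback.of_bot ?_ (pullback.lift_fst _ _ _).symm
      (IsPullback.of_hasPullback H.hom (geomPt A))
    have h1 : (F.map u).left ≫ pullback.snd H.hom (geomPt A) = pullback.snd G.hom (geomPt A) :=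
      pullback.lift_snd _ _ _
    rw [h1, Over.w u]
    exact IsPullback.of_hasPullback G.hom (geomPt A)
  let e : Spec (CommRingCat.of (AlgebraicClosure (IsLocalRing.ResidueField A))) ⟶ (F.obj H).left :=
    (η[F.obj H]).left
  have he : e ≫ pullback.fst H.hom (geomPt A) = geomPt A ≫ (η[H]).left := by
    have h1 : η[F.obj H] = Functor.LaxMonoidal.ε F ≫ F.map η[H] := rfl
    have h2 : (F.map η[H]).left ≫ pullback.fst H.hom (geomPt A) =
        pullback.fst (𝟙_ (Over S₀)).hom (geomPt A) ≫ (η[H]).left := pullback.lift_fst _ _ _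
    have h3 : (Functor.LaxMonoidal.ε F).left ≫ pullback.fst (𝟙_ (Over S₀)).hom (geomPt A) = geomPt A := by
      have h4 : (Functor.LaxMonoidal.ε F).left ≫ pullback.snd (𝟙_ (Over S₀)).hom (geomPt A) = 𝟙 _ :=
        Over.w (Functor.LaxMonoidal.ε F)
      have h5 : pullback.fst (𝟙_ (Over S₀)).hom (geomPt A) =
          pullback.snd (𝟙_ (Over S₀)).hom (geomPt A) ≫ geomPt A := by
        rw [← pullback.condition]
        exact (Category.comp_id _).symm
      rw [h5, reassoc_of% h4]
    show (η[F.obj H]).left ≫ _ = _
    rw [h1, Over.comp_left, Category.assoc, h2, reassoc_of% h3]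
  have hbig := (IsPullback.of_hasPullback (F.map u).left e).paste_horiz sq.flip.flip
  haveI : LocallyQuasiFinite (pullback.snd (F.map u).left e) := by
    have hker : IsPullback (pullback.fst u.left (η[H]).left) kerπ u.left (η[H]).left :=
      IsPullback.of_hasPullback _ _
    rw [he] at hbig
    have hsub := IsPullback.of_right
      (h₁₁ := hker.lift (pullback.fst (F.map u).left e ≫ pullback.fst G.hom (geomPt A))
        (pullback.snd (F.map u).left e ≫ geomPt A) (by rw [Category.assoc]; exact hbig.w.trans (Category.assoc _ _ _).symm))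
      (by rw [IsPullback.lift_fst]; exact hbig) (IsPullback.lift_snd _ _ _ _) hker
    exact MorphismProperty.of_isPullback hsub hlqf
  haveI : QuasiCompact (pullback.snd (F.map u).left e) := inferInstance
  have hfin : ((F.map u).left ⁻¹' {e (IsLocalRing.closedPoint _)}).Finite := by
    have h := (pullback.snd (F.map u).left e).finite_preimage_singleton (IsLocalRing.closedPoint _)
    refine (h.image (pullback.fst (F.map u).left e)).subset fun y hy => ?_
    obtain ⟨z, hz1, hz2⟩ := Scheme.Pullback.exists_preimage_pullback (f := (F.map u).left) (g := e)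
      y (IsLocalRing.closedPoint _) hy
    exact ⟨z, hz2, hz1⟩
  haveI : LocallyQuasiFinite (F.map u).left := locallyQuasiFinite_of_finite_preimage (F.map u) hfin
  haveI : IsFinite (F.map u).left := isFinite_of_isAlgClosed (F.map u)
  haveI : UniversallyClosed u.left := universallyClosed_of_geomPt u
  haveI : IsProper u.left := ⟨⟩
  haveI : LocallyQuasiFinite u.left := by
    refine LocallyQuasiFinite.of_finite_preimage_singleton _ fun y => ?_
    obtain ⟨y', rfl⟩ := (pullback.fst H.hom (geomPt A)).surjective y
    refine (((F.map u).left.finite_preimage_singleton y').image (pullback.fst G.hom (geomPt A))).subset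
      fun x hx => ?_
    obtain ⟨z, hz1, hz2⟩ := Scheme.Pullback.exists_preimage_pullback (f := u.left)
      (g := pullback.fst H.hom (geomPt A)) x y' hx
    refine ⟨sq.isoPullback.inv z, ?_, ?_⟩
    · show (F.map u).left (sq.isoPullback.inv z) = y'
      rw [← Scheme.Hom.comp_apply, IsPullback.isoPullback_inv_snd]
      exact hz2
    · rw [← Scheme.Hom.comp_apply, IsPullback.isoPullback_inv_fst]
      exact hz1
  exact IsFinite.of_isProper_of_locallyQuasiFinite u.left

end Separated

end Groth.Agent.GrpSchLib.HomFinite
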