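import Groth.Agent.GrpSchLib.AdjointRep
import Groth.Agent.GrpSchLib.GLnHom
import Groth.Agent.GrpSchLib.Shear
import Groth.Agent.GrpSchLib.FieldComp
import Groth.Agent.GrpSchLib.Coincidence
import Groth.Agent.GrpSchLib.HomFinite
import Groth.Agent.S3280
import Mathlib.AlgebraicGeometry.Sites.Fpqc
import Groth.Prelude.Def_Red2

/-! The quotient of a connected group by its centre is affine. -/

universe u

open CategoryTheory Limits AlgebraicGeometry MonoidalCategory CartesianMonoidalCategory MonObj GrpObj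

namespace Groth.Agent.GrpSchLib.Adjoint

open Kunneth

variable {k : Type u} [Field k] {G : Over (Spec (CommRingCat.of k))} [GrpObj G] [LocallyOfFiniteType G.hom]
  [QuasiCompact G.hom] (D : Nbhds G η[G])

theorem geometricallyIrreducible [ConnectedSpace G.left] : GeometricallyIrreducible G.hom := by
  obtain ⟨c, hc, hce⟩ := exists_isMaxPt (η[G].left (IsLocalRing.closedPoint k))
  have huniv : closure ({c} : Set G.left) = Set.univ := by
    rw [← connectedComponent_one (G := G) hc hce]
    exact PreconnectedSpace.connectedComponent_eq_univ _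
  haveI : IsClosedImmersion (𝟙 G : G ⟶ G).left := by rw [Over.id_left]; infer_instance
  refine geometricallyIrreducible_one hc hce (𝟙 G) ?_
  rw [huniv, Over.id_left]
  exact Set.range_eq_univ.mpr fun y => ⟨y, rfl⟩

/-- Products of two points of a nonempty open subset fill a connected group. -/
theorem surjective_mul_open [ConnectedSpace G.left] :
    Surjective ((D.uι ⊗ₘ D.uι) ≫ μ[G]).left := by
  haveI := geometricallyIrreducible (G := G)
  constructor
  intro y
  let L := G.left.residueField y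
  let T : Over (Spec (CommRingCat.of k)) := Over.mk (G.left.fromSpecResidueField y ≫ G.hom)
  let y' : T ⟶ G := Over.homMk (G.left.fromSpecResidueField y) rfl
  let pr : G ⊗ T ⟶ G := fst G T
  let θ : G ⊗ T ⟶ G ⊗ T := lift ((fst G T)⁻¹ * (snd G T ≫ y')) (snd G T)
  let θ' : G ⊗ T ⟶ G ⊗ T := lift ((snd G T ≫ y') * (fst G T)⁻¹) (snd G T)
  have hθ : θ' ≫ θ = 𝟙 _ := by
    apply CartesianMonoidalCategory.hom_ext
    · simp only [θ, θ', Category.assoc, lift_fst, MonObj.comp_mul, GrpObj.comp_inv, lift_snd_assoc, Category.id_comp]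
      group
    · simp [θ, θ']
  haveI : Surjective θ.left := ⟨fun p => ⟨θ'.left p, by
    rw [← Scheme.Hom.comp_apply, ← Over.comp_left, hθ]; rfl⟩⟩
  haveI : Subsingleton ↥T.left := inferInstanceAs (Subsingleton (PrimeSpectrum L))
  haveI : Nonempty ↥T.left := ⟨IsLocalRing.closedPoint L⟩
  haveI : IrreducibleSpace (G ⊗ T).left :=
    GeometricallyIrreducible.irreducibleSpace_of_subsingleton (pullback.snd G.hom T.hom)
  haveI : Nonempty D.U.left := ⟨D.u₀.left (IsLocalRing.closedPoint k)⟩
  have hne : (pr.left ⁻¹' Set.range D.uι.left).Nonempty := by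
    obtain ⟨u⟩ := ‹Nonempty D.U.left›
    haveI : Surjective T.hom := ⟨fun z => ⟨IsLocalRing.closedPoint L, Subsingleton.elim _ _⟩⟩
    haveI : Surjective pr.left := inferInstanceAs (Surjective (pullback.fst G.hom T.hom))
    obtain ⟨p, hp⟩ := pr.left.surjective (D.uι.left u)
    exact ⟨p, u, hp.symm⟩
  have hne' : ((θ ≫ pr).left ⁻¹' Set.range D.uι.left).Nonempty := by
    obtain ⟨p, hp⟩ := hne
    obtain ⟨p', rfl⟩ := θ.left.surjective p
    exact ⟨p', hp⟩
  have ho := D.uι.left.isOpenEmbedding.isOpen_range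
  obtain ⟨p, hp1, hp2⟩ := nonempty_preirreducible_inter (ho.preimage pr.left.continuous)
    (ho.preimage (θ ≫ pr).left.continuous) hne hne'
  let m : G ⊗ T ⟶ G ⊗ G := lift pr (θ ≫ pr)
  have hm : m ≫ μ[G] = snd G T ≫ y' := by
    show lift pr (θ ≫ pr) ≫ μ[G] = _
    rw [← Hom.mul_def]
    simp only [θ, pr, lift_fst, mul_inv_cancel_left]
  have hmem : m.left p ∈ Set.range (D.uι ⊗ₘ D.uι).left := by
    have e : (D.uι ⊗ₘ D.uι).left = pullback.map D.U.hom D.U.hom G.hom G.hom D.uι.left D.uι.left (𝟙 _)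
        (by simp) (by simp) := by
      apply pullback.hom_ext
      · rw [pullback.lift_fst]
        exact congrArg (fun r : _ ⟶ G => r.left) (tensorHom_fst D.uι D.uι)
      · rw [pullback.lift_snd]
        exact congrArg (fun r : _ ⟶ G => r.left) (tensorHom_snd D.uι D.uι)
    rw [e, Scheme.Pullback.range_map]
    constructor
    · rw [Set.mem_preimage, ← Scheme.Hom.comp_apply, show m.left ≫ pullback.fst G.hom G.hom = pr.left from congrArg (fun r : _ ⟶ G => r.left) (lift_fst pr (θ ≫ pr))]
      exact hp1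
    · rw [Set.mem_preimage, ← Scheme.Hom.comp_apply, show m.left ≫ pullback.snd G.hom G.hom = (θ ≫ pr).left from congrArg (fun r : _ ⟶ G => r.left) (lift_snd pr (θ ≫ pr))]
      exact hp2
  obtain ⟨z, hz⟩ := hmem
  refine ⟨z, ?_⟩
  rw [Over.comp_left, Scheme.Hom.comp_apply, hz, ← Scheme.Hom.comp_apply, ← Over.comp_left, hm, Over.comp_left,
    Scheme.Hom.comp_apply]
  exact (congrArg (G.left.fromSpecResidueField y) (Subsingleton.elim _ _)).trans
    (G.left.fromSpecResidueField_apply y (IsLocalRing.closedPoint L))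

/-- A point acting trivially on all infinitesimal neighbourhoods is central. -/
theorem central_of_act [ConnectedSpace G.left] {T : Over (Spec (CommRingCat.of k))} [IsAffine T.left] (g : T ⟶ G)
    (h : ∀ n, (g ▷ D.N n) ≫ act D n = snd T (D.N n)) : cj g (𝟙 G) = snd T G := by
  haveI := AntiAffine.isSeparated_grp G
  have hU : cj g D.uι = snd T D.U ≫ D.uι := by
    have key : (β_ D.U T).hom ≫ cj g D.uι = (β_ D.U T).hom ≫ snd T D.U ≫ D.uι := by
      refine InfNbhdEq.eq_of_joint D.j D.dense _ _ fun n => ?_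
      have h1 := congrArg (· ≫ D.j n ≫ D.uι) (h n)
      simp only [Category.assoc, act_fac, comp_cj, Category.comp_id] at h1
      have e : (D.j n ▷ T) ≫ (β_ D.U T).hom = (β_ (D.N n) T).hom ≫ (T ◁ D.j n) :=
        BraidedCategory.braiding_naturality_left _ _
      rw [reassoc_of% e, reassoc_of% e, whiskerLeft_cj, h1, whiskerLeft_snd_assoc]
    exact (cancel_epi (β_ D.U T).hom).mp key
  let M : D.U ⊗ D.U ⟶ G := (D.uι ⊗ₘ D.uι) ≫ μ[G]
  have hM : (T ◁ M) ≫ cj g (𝟙 G) = (T ◁ M) ≫ snd T G := by
    rw [whiskerLeft_cj, whiskerLeft_snd, Category.comp_id]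
    have hpart : ∀ (p : D.U ⊗ D.U ⟶ D.U), cj g (p ≫ D.uι) = snd T (D.U ⊗ D.U) ≫ p ≫ D.uι := fun p => by
      rw [← whiskerLeft_cj, hU, whiskerLeft_snd_assoc]
    have hm : M = (fst D.U D.U ≫ D.uι) * (snd D.U D.U ≫ D.uι) := by
      rw [Hom.mul_def, lift_fst_comp_snd_comp]
    rw [hm, MonObj.comp_mul, ← hpart, ← hpart]
    simp only [cj, MonObj.comp_mul]
    group
  haveI := surjective_mul_open D
  haveI : Flat M.left := by
    haveI : Flat μ[G].left := by
      rw [mul_eq_id_whiskerRight]
      exact flat_whiskerRight_mul (𝟙 G)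
    haveI : IsOpenImmersion (D.uι ⊗ₘ D.uι).left := by
      have e : (D.uι ⊗ₘ D.uι).left = pullback.map D.U.hom D.U.hom G.hom G.hom D.uι.left D.uι.left (𝟙 _)
          (by simp) (by simp) := by
        apply pullback.hom_ext
        · rw [pullback.lift_fst]
          exact congrArg (fun r : _ ⟶ G => r.left) (tensorHom_fst D.uι D.uι)
        · rw [pullback.lift_snd]
          exact congrArg (fun r : _ ⟶ G => r.left) (tensorHom_snd D.uι D.uι)
      rw [e]
      infer_instance
    show Flat ((D.uι ⊗ₘ D.uι).left ≫ μ[G].left)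
    infer_instance
  haveI : IsAffine (D.U ⊗ D.U).left := inferInstanceAs (IsAffine (pullback D.U.hom D.U.hom))
  haveI : QuasiCompact (M.left ≫ G.hom) := by rw [Over.w M]; infer_instance
  haveI : QuasiCompact M.left := QuasiCompact.of_comp M.left G.hom
  have hp := isPullback_whiskerLeft (W := T) M
  haveI : Surjective (T ◁ M).left := MorphismProperty.of_isPullback (P := @Surjective) hp.flip inferInstance
  haveI : Flat (T ◁ M).left := MorphismProperty.of_isPullback (P := @Flat) hp.flip inferInstance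
  haveI : QuasiCompact (T ◁ M).left := MorphismProperty.of_isPullback (P := @QuasiCompact) hp.flip inferInstance
  haveI : Epi (T ◁ M) := Over.epi_of_epi_left _
  exact (cancel_epi (T ◁ M)).mp hM

/-- One matrix detects triviality on all neighbourhoods. -/
theorem exists_finset : ∃ F : Finset ℕ, ∀ (T : Over (Spec (CommRingCat.of k))) (g : T ⟶ G), IsAffine T.left →
    (∀ n ∈ F, (mat D n).map (ev g) = 1) → ∀ n, (mat D n).map (ev g) = 1 := by
  classical
  haveI : IsLocallyNoetherian G.left := LocallyOfFiniteType.isLocallyNoetherian G.hom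
  haveI : CompactSpace G.left := (quasiCompact_iff_compactSpace G.hom).mp inferInstance
  let 𝒰 := G.left.affineCover.finiteSubcover
  let V : ∀ i : 𝒰.I₀, Over (Spec (CommRingCat.of k)) := fun i => Over.mk (𝒰.f i ≫ G.hom)
  let vι : ∀ i, V i ⟶ G := fun i => Over.homMk (𝒰.f i) rfl
  haveI : ∀ i, IsAffine (V i).left := fun i => inferInstanceAs (IsAffine (G.left.affineCover.X _))
  haveI : ∀ i, IsNoetherianRing (Fn (V i)) := fun i => by
    haveI : IsLocallyNoetherian (V i).left := isLocallyNoetherian_of_isOpenImmersion (𝒰.f i)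
    exact IsLocallyNoetherian.component_noetherian ⟨⊤, isAffineOpen_top (V i).left⟩
  let ent : ∀ (i : 𝒰.I₀) (n : ℕ), Set (Fn (V i)) := fun i n =>
    Set.range fun p : Fin (dim D n) × Fin (dim D n) => ev (vι i) (mat D n p.1 p.2) - (1 : Matrix _ _ (Fn (V i))) p.1 p.2
  have hfin : ∀ i, ∃ F : Finset ℕ, ∀ n, ent i n ⊆ Ideal.span (⋃ m ∈ F, ent i m) := by
    intro i
    obtain ⟨s, hs, hspan⟩ := (Submodule.fg_span_iff_fg_span_finset_subset _).mp
      (IsNoetherian.noetherian (Ideal.span (⋃ m, ent i m)))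
    choose f hf using fun x : s => Set.mem_iUnion.mp (hs x.2)
    refine ⟨Finset.univ.image f, fun n x hx => ?_⟩
    have hx' : x ∈ Submodule.span (Fn (V i)) (⋃ m, ent i m) := Submodule.subset_span (Set.mem_iUnion.mpr ⟨n, hx⟩)
    rw [hspan] at hx'
    refine Ideal.span_mono ?_ hx'
    intro z hz
    exact Set.mem_biUnion (Finset.mem_image.mpr ⟨⟨z, hz⟩, Finset.mem_univ _, rfl⟩) (hf ⟨z, hz⟩)
  choose F hF using hfin
  haveI : Finite 𝒰.I₀ := inferInstance
  letI := Fintype.ofFinite 𝒰.I₀
  refine ⟨Finset.univ.biUnion F, fun T g hT h n => ?_⟩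
  refine Matrix.ext fun a b => ?_
  refine sub_eq_zero.mp ?_
  let 𝒯 := 𝒰.pullback₁ g.left
  refine Scheme.zero_of_zero_cover _ 𝒯 fun i => ?_
  let R : Over (Spec (CommRingCat.of k)) := Over.mk (𝒯.f i ≫ T.hom)
  let r : R ⟶ T := Over.homMk (𝒯.f i) rfl
  let t : R ⟶ V i := Over.homMk (pullback.snd g.left (𝒰.f i)) (by
    show pullback.snd g.left (𝒰.f i) ≫ 𝒰.f i ≫ G.hom = pullback.fst g.left (𝒰.f i) ≫ T.hom
    rw [← pullback.condition_assoc, Over.w g])
  have hrt : r ≫ g = t ≫ vι i := Over.OverMorphism.ext pullback.condition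
  show ev r (ev g (mat D n a b) - (1 : Matrix _ _ (Fn T)) a b) = 0
  have hone : ∀ {S S' : Over (Spec (CommRingCat.of k))} (s : S ⟶ S') (m : ℕ) (c d : Fin (dim D m)),
      ev s ((1 : Matrix _ _ (Fn S')) c d) = (1 : Matrix _ _ (Fn S)) c d := fun s m c d => by
    simp [Matrix.one_apply, apply_ite (ev s)]
  have hle : Ideal.span (⋃ m ∈ F i, ent i m) ≤ RingHom.ker (ev t) := by
    refine Ideal.span_le.mpr ?_
    simp only [Set.iUnion_subset_iff]
    rintro m hm _ ⟨⟨c, d⟩, rfl⟩
    show ev t (ev (vι i) (mat D m c d) - _) = 0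
    rw [map_sub, ev_ev, ← hrt, ← ev_ev, hone t m c d, ← hone r m c d, ← map_sub]
    have := congrFun (congrFun (h m (Finset.mem_biUnion.mpr ⟨i, Finset.mem_univ _, hm⟩)) c) d
    rw [show ev g (mat D m c d) = _ from this, sub_self, map_zero]
  have h0 : ev t (ev (vι i) (mat D n a b) - (1 : Matrix _ _ (Fn (V i))) a b) = 0 := hle (hF i n ⟨(a, b), rfl⟩)
  rw [map_sub, ev_ev, ← hrt, ← ev_ev, hone t n a b, ← hone r n a b, ← map_sub] at h0
  exact h0

/-- The block diagonal representation of the finitely many adjoint representations. -/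
theorem exists_rep (F : Finset ℕ) : ∃ (N : ℕ) (M : Matrix (Fin N) (Fin N) (Fn G)), IsRepMatrix M ∧
    ∀ (T : Over (Spec (CommRingCat.of k))) (g : T ⟶ G),
      M.map (ev g) = 1 ↔ ∀ n ∈ F, (mat D n).map (ev g) = 1 := by
  classical
  let e := Fintype.equivFin (Σ n : F, Fin (dim D n.1))
  let M₀ : Matrix (Σ n : F, Fin (dim D n.1)) (Σ n : F, Fin (dim D n.1)) (Fn G) :=
    Matrix.blockDiagonal' fun n => mat D n.1
  refine ⟨_, Matrix.reindex e e M₀, ⟨fun T g h => ?_, fun T => ?_⟩, fun T g => ?_⟩
  · simp only [Matrix.reindex_apply, ← Matrix.submatrix_map, Matrix.submatrix_mul_equiv, M₀,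
      Matrix.blockDiagonal'_map _ _ (map_zero (ev (g * h))), Matrix.blockDiagonal'_map _ _ (map_zero (ev g)),
      Matrix.blockDiagonal'_map _ _ (map_zero (ev h)), ← Matrix.blockDiagonal'_mul]
    congr 2
    funext n
    exact (isRepMatrix D n.1).mul T g h
  · simp only [Matrix.reindex_apply, ← Matrix.submatrix_map, M₀,
      Matrix.blockDiagonal'_map _ _ (map_zero (ev (1 : T ⟶ G)))]
    rw [show (fun n : F => (mat D n.1).map (ev (1 : T ⟶ G))) = 1 from funext fun n => (isRepMatrix D n.1).one T,
      Matrix.blockDiagonal'_one, Matrix.submatrix_one_equiv]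
  · simp only [Matrix.reindex_apply, ← Matrix.submatrix_map, M₀, Matrix.blockDiagonal'_map _ _ (map_zero (ev g))]
    rw [← Matrix.submatrix_one_equiv e.symm, ← Matrix.reindex_apply, ← Matrix.reindex_apply,
      EmbeddingLike.apply_eq_iff_eq, ← Matrix.blockDiagonal'_one,
      Matrix.blockDiagonal'_inj, funext_iff]
    exact ⟨fun h n hn => h ⟨n, hn⟩, fun h n => h n.1 n.2⟩

/-- The quotient of a connected group by its centre is affine. -/
theorem isAffine_quotient_centre [ConnectedSpace G.left] {Z Q : Over (Spec (CommRingCat.of k))} [GrpObj Z] [GrpObj Q]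
    [LocallyOfFiniteType Q.hom] [QuasiCompact Q.hom] (j : Z ⟶ G) (hZ : Red.IsCentre j) (q : G ⟶ Q) [IsMonHom q]
    [Surjective q.left] [Flat q.left] (hker : AlgGrp.IsKernel j q) : IsAffine Q.left := by
  classical
  haveI := AntiAffine.isSeparated_grp G
  haveI := AntiAffine.isSeparated_grp Q
  haveI : QuasiCompact (q.left ≫ Q.hom) := by rw [Over.w q]; infer_instance
  haveI : QuasiCompact q.left := QuasiCompact.of_comp q.left Q.hom
  obtain ⟨D⟩ := exists_nbhds G η[G]
  obtain ⟨F, hF⟩ := exists_finset D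
  obtain ⟨N, M, hM, hMiff⟩ := exists_rep D F
  let H : Over (Spec (CommRingCat.of k)) := FrB.GLn N (Spec (CommRingCat.of k))
  haveI : IsAffine (FrB.GLZ.{u} N).left := inferInstanceAs (IsAffine (Spec _))
  haveI : IsAffineHom (FrB.GLZ.{u} N).hom := inferInstance
  haveI : IsAffineHom H.hom := inferInstanceAs (IsAffineHom (pullback.snd _ _))
  haveI : IsAffine H.left := isAffine_of_isAffineHom H.hom
  haveI : LocallyOfFiniteType (FrB.GLZ.{u} N).hom := by
    refine (HasRingHomProperty.Spec_iff (P := @LocallyOfFiniteType)).mpr ?_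
    refine RingHom.finiteType_algebraMap.mpr ?_
    have h : Algebra.FiniteType (ULift.{u} ℤ) (MvPolynomial (CoordGrp.GLPoly.Idx N) (ULift.{u} ℤ)) := inferInstance
    exact @Algebra.FiniteType.of_surjective _ _ _ _ _ _ _ _ h (CoordGrp.GLn.mk N (ULift.{u} ℤ))
      Ideal.Quotient.mk_surjective
  haveI : LocallyOfFiniteType H.hom := inferInstanceAs (LocallyOfFiniteType (pullback.snd _ _))
  haveI : QuasiCompact H.hom := inferInstance
  let ρ : G ⟶ H := hM.hom
  haveI : IsMonHom ρ := hM.isMonHom_hom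
  have hcen : ∀ (T : Over (Spec (CommRingCat.of k))) (g : T ⟶ G),
      (∃ z : T ⟶ Z, z ≫ j = g) ↔ cj g (𝟙 G) = snd T G := by
    intro T g
    rw [hZ.2.2]
    simp only [cj, Category.comp_id]
    constructor
    · intro h
      have := h (T ⊗ G) (fst T G) (snd T G)
      rw [_root_.mul_assoc, ← this, inv_mul_cancel_left]
    · intro h X' x y
      have := congrArg (fun f => lift x y ≫ f) h
      simp only [MonObj.comp_mul, GrpObj.comp_inv, lift_fst_assoc, lift_snd] at this
      rw [_root_.mul_assoc, inv_mul_eq_iff_eq_mul] at this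
      exact this.symm
  haveI : IsClosedImmersion j.left := by
    haveI : IsClosedImmersion η[Q].left := by
      haveI : IsClosedImmersion (η[Q].left ≫ Q.hom) := by
        rw [Over.w η[Q]]; exact inferInstanceAs (IsClosedImmersion (𝟙 _))
      exact IsClosedImmersion.of_comp η[Q].left Q.hom
    exact MorphismProperty.of_isPullback ((IsPullback.map (Over.forget _) hker).flip) ‹IsClosedImmersion η[Q].left›
  haveI : QuasiCompact Z.hom := by rw [← Over.w j]; infer_instance
  haveI : IsSeparated Z.hom := by rw [← Over.w j]; infer_instance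
  have hjρ : j ≫ ρ = toUnit Z ≫ η[H] := by
    show j ≫ matPt M _ = _
    rw [comp_matPt, matPt_congr (hN := isUnit_one) ((hMiff Z j).mpr fun n _ => ?_), matPt_one]
    · rfl
    refine mat_map_one_of_act D n j ?_
    haveI := mono_j_uι D n
    rw [← cancel_mono (D.j n ≫ D.uι), Category.assoc, act_fac, comp_cj, Category.comp_id]
    have := (hcen Z j).mp ⟨𝟙 Z, Category.id_comp j⟩
    rw [← Category.comp_id (D.j n ≫ D.uι), ← whiskerLeft_cj, this, whiskerLeft_snd, Category.comp_id]
  obtain ⟨φ, _, hφ, -⟩ := S3280.result k G Z Q H q j hker ρ hjρ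
  have hker' : ∀ (T : Over (Spec (CommRingCat.of k))) (x : T ⟶ Q), x ≫ φ = 1 → x = 1 := by
    intro T x hx
    let p := pullback.fst x.left q.left
    let T' : Over (Spec (CommRingCat.of k)) := Over.mk (p ≫ T.hom)
    let p' : T' ⟶ T := Over.homMk p rfl
    let g : T' ⟶ G := Over.homMk (pullback.snd x.left q.left) (by
      show pullback.snd x.left q.left ≫ G.hom = p ≫ T.hom
      rw [← Over.w q, ← pullback.condition_assoc, Over.w x])
    have hg : g ≫ q = p' ≫ x := Over.OverMorphism.ext pullback.condition.symm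
    have hm : M.map (ev g) = 1 := by
      have h1 : g ≫ ρ = 1 := by rw [← hφ, ← Category.assoc, hg, Category.assoc, hx, MonObj.comp_one]
      have h2 : g ≫ matPt M hM.isUnit = 1 := h1
      rw [comp_matPt] at h2
      exact matPt_injective (hN := isUnit_one) (h2.trans matPt_one.symm)
    have h1 : g ≫ q = 1 := by
      refine Over.OverMorphism.ext (Scheme.Cover.hom_ext T'.left.affineCover _ _ fun i => ?_)
      let R : Over (Spec (CommRingCat.of k)) := Over.mk (T'.left.affineCover.f i ≫ T'.hom)
      let r : R ⟶ T' := Over.homMk (T'.left.affineCover.f i) rfl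
      haveI : IsAffine R.left := inferInstanceAs (IsAffine (T'.left.affineCover.X i))
      have hr : ∀ n, (mat D n).map (ev (r ≫ g)) = 1 := hF R (r ≫ g) inferInstance fun n hn => by
        have h3 := congrArg (fun A : Matrix _ _ (Fn T') => A.map (ev r)) ((hMiff T' g).mp hm n hn)
        simp only [Matrix.map_map, Matrix.map_one _ (map_zero (ev r)) (map_one (ev r))] at h3
        exact h3
      obtain ⟨z, hz⟩ := (hcen R (r ≫ g)).mpr (central_of_act D _ fun n => act_eq_snd D n _ (hr n))
      have h4 : r ≫ g ≫ q = r ≫ (1 : T' ⟶ Q) := by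
        rw [← Category.assoc, ← hz, Category.assoc, hker.w, ← Category.assoc, comp_toUnit, MonObj.comp_one]
        rfl
      exact congrArg CommaMorphism.left h4
    haveI : Surjective p := inferInstanceAs (Surjective (pullback.fst x.left q.left))
    haveI : Flat p := inferInstanceAs (Flat (pullback.fst x.left q.left))
    haveI : QuasiCompact p := inferInstanceAs (QuasiCompact (pullback.fst x.left q.left))
    haveI : Surjective p'.left := ‹Surjective p›
    haveI : Flat p'.left := ‹Flat p›
    haveI : QuasiCompact p'.left := ‹QuasiCompact p›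
    haveI : Epi p' := Over.epi_of_epi_left _
    rw [← cancel_epi p', MonObj.comp_one, ← hg, h1]
  haveI : Mono φ := ⟨fun a b hab => by
    have := hker' _ (a * b⁻¹) (by rw [MonObj.mul_comp, GrpObj.inv_comp, hab, mul_inv_cancel])
    exact mul_inv_eq_one.mp this⟩
  haveI : Mono φ.left := (Over.forget _).map_mono φ
  haveI : QuasiCompact (φ.left ≫ H.hom) := by rw [Over.w φ]; infer_instance
  haveI : QuasiCompact φ.left := QuasiCompact.of_comp φ.left H.hom
  haveI : LocallyOfFiniteType (φ.left ≫ H.hom) := by rw [Over.w φ]; infer_instance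
  haveI : LocallyOfFiniteType φ.left := locallyOfFiniteType_of_comp φ.left H.hom
  haveI : IsFinite φ.left := HomFinite.isFinite φ
  exact isAffine_of_isAffineHom φ.left

end Groth.Agent.GrpSchLib.Adjoint
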