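import Groth.Agent.GrpSchLib.NormalQuot
import Groth.Agent.GrpSchLib.KernelGrp
import Groth.Agent.GrpSchLib.AntiAffineHom
import Groth.Agent.GrpSchLib.Cartier
import Groth.Agent.GrpSchLib.SmoothReduced
import Groth.Agent.FBaseLib.Basic
import Groth.Agent.S3280

/-! Quotients of affine, smooth groups are affine, smooth. -/

open CategoryTheory MonoidalCategory CartesianMonoidalCategory MonObj AlgebraicGeometry

namespace Groth.Agent.GrpSchLib

universe u

variable {k : Type u} [Field k] {G Q : Over (Spec (CommRingCat.of k))} [GrpObj G] [GrpObj Q]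

/-- A quotient of an affine group is affine. -/
theorem isAffine_of_quotient [LocallyOfFiniteType G.hom] [LocallyOfFiniteType Q.hom] [QuasiCompact Q.hom]
    [IsAffine G.left] (q : G ⟶ Q) [IsMonHom q] [Flat q.left] [Surjective q.left] : IsAffine Q.left := by
  haveI : IsSeparated Q.hom := AntiAffine.isSeparated_grp Q
  obtain ⟨N, _, i, _, hi, hn, hk⟩ := exists_kernel q
  obtain ⟨Q', _, q', _, hQ', hQf, hfl, hs, hk'⟩ := NormalQuot.exists_quot G N i hn
  haveI := hQ'; haveI := hQf; haveI := hfl; haveI := hs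
  haveI : QuasiCompact Q'.hom := inferInstance
  haveI : QuasiCompact G.hom := inferInstance
  obtain ⟨a, -, ha, -⟩ := S3280.result k G N Q Q' q i hk q' hk'.w
  obtain ⟨b, -, hb, -⟩ := S3280.result k G N Q' Q q' i hk' q hk.w
  obtain ⟨_, -, -, hu⟩ := S3280.result k G N Q Q q i hk q hk.w
  obtain ⟨_, -, -, hu'⟩ := S3280.result k G N Q' Q' q' i hk' q' hk'.w
  have hab : a ≫ b = 𝟙 Q := (hu _ (by rw [reassoc_of% ha, hb])).trans (hu _ (Category.comp_id q)).symm
  have hba : b ≫ a = 𝟙 Q' := (hu' _ (by rw [reassoc_of% hb, ha])).trans (hu' _ (Category.comp_id q')).symm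
  let e : Q ≅ Q' := ⟨a, b, hab, hba⟩
  haveI : IsIso a.left := ((Over.forget _).mapIso e).isIso_hom
  exact IsAffine.of_isIso a.left

/-- A quotient of a smooth group is smooth. -/
theorem smooth_of_quotient [Smooth G.hom] [LocallyOfFiniteType Q.hom]
    (q : G ⟶ Q) [Flat q.left] [Surjective q.left] : Smooth Q.hom := by
  refine smooth_of_isReduced_baseChange Q ?_
  let g : Spec (CommRingCat.of (AlgebraicClosure k)) ⟶ Spec (CommRingCat.of k) :=
    Spec.map (CommRingCat.ofHom (algebraMap k (AlgebraicClosure k)))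
  haveI : IsReduced (Limits.pullback (q.left ≫ Q.hom) g) := by
    rw [Over.w q]
    exact isReduced_of_smooth_field (Limits.pullback.snd G.hom g)
  haveI : IsReduced (Limits.pullback q.left (Limits.pullback.fst Q.hom g)) :=
    isReduced_of_isOpenImmersion (Limits.pullbackRightPullbackFstIso Q.hom g q.left).hom
  exact FBaseLib.isReduced_of_flat_surjective (Limits.pullback.snd q.left (Limits.pullback.fst Q.hom g))

end Groth.Agent.GrpSchLib
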