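import Groth.Agent.GrpSchLib.AffineHopf
import Mathlib.AlgebraicGeometry.Morphisms.ClosedImmersion

/-! Closed immersions of affine group schemes. -/

open CategoryTheory AlgebraicGeometry

universe u

namespace Groth.Agent.GrpSchLib.AffineHopf

variable {R : Type u} [CommRing R]

theorem surjective_of_isClosedImmersion {A B : Type u} [CommRing A] [CommRing B] [Algebra R A] [Algebra R B]
    (f : B →ₐ[R] A) (h : IsClosedImmersion (spMap f).left) : Function.Surjective f := by
  let g := CommRingCat.ofHom f.toRingHom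
  haveI : IsClosedImmersion (Spec.map g) := h
  have hs := (Spec.map g).app_surjective ⊤ (isAffineOpen_top _)
  have hn := Scheme.ΓSpecIso_naturality g
  intro a
  obtain ⟨y, hy⟩ := hs ((Scheme.ΓSpecIso (CommRingCat.of A)).inv a)
  refine ⟨(Scheme.ΓSpecIso (CommRingCat.of B)).hom y, ?_⟩
  have h2 := congrArg (fun φ => φ y) hn
  simp only [CommRingCat.comp_apply] at h2
  refine h2.symm.trans ?_
  show (Scheme.ΓSpecIso (CommRingCat.of A)).hom ((Spec.map g).app ⊤ y) = a
  rw [hy]
  exact congrArg (fun φ => φ a) (Scheme.ΓSpecIso (CommRingCat.of A)).inv_hom_id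

end Groth.Agent.GrpSchLib.AffineHopf
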