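import Mathlib.RingTheory.Flat.Basic
import Mathlib.RingTheory.Flat.Tensor
import Mathlib.RingTheory.Spectrum.Prime.RingHom
import Mathlib.LinearAlgebra.Basis.VectorSpace
import Mathlib.RingTheory.Nakayama
import Mathlib.RingTheory.Finiteness.Basic
import Mathlib.RingTheory.TensorProduct.Free
import Mathlib.LinearAlgebra.TensorProduct.Quotient
import Mathlib.LinearAlgebra.Matrix.Basis
import Mathlib.LinearAlgebra.Matrix.Adjugate
import Mathlib.RingTheory.Spectrum.Prime.Basic
import Mathlib.LinearAlgebra.Dimension.Constructions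

/-! A finite module which becomes free along an injective ring map with surjective spectrum is flat. -/

universe v w x

open TensorProduct

namespace Groth.Agent.GrpSchLib.FlatDescentFree

variable {A : Type v} [CommRing A] {B : Type w} [CommRing B] [Algebra A B] {M : Type x} [AddCommGroup M] [Module A M]

/-- Near every maximal ideal the module is free up to a scalar outside the ideal. -/
theorem exists_almost_free (hinj : Function.Injective (algebraMap A B))
    (hsurj : Function.Surjective (PrimeSpectrum.comap (algebraMap A B)))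
    [Module.Finite A M] [Module.Free B (B ⊗[A] M)] (P : Ideal A) [hP : P.IsMaximal] :
    ∃ a ∉ P, ∃ (s : ℕ) (V : (Fin s → A) →ₗ[A] M) (ψ : M →ₗ[A] (Fin s → A)), ∀ m, V (ψ m) = a • m := by
  classical
  let F := A ⧸ P
  letI : Field F := Ideal.Quotient.field P
  have hmk : ∀ z : F ⊗[A] M, ∃ m : M, (1 : F) ⊗ₜ[A] m = z := by
    intro z
    induction z using TensorProduct.induction_on with
    | zero => exact ⟨0, TensorProduct.tmul_zero _ _⟩
    | tmul c m =>
      obtain ⟨c, rfl⟩ := Ideal.Quotient.mk_surjective c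
      exact ⟨c • m, by rw [← TensorProduct.smul_tmul, Algebra.smul_def, _root_.mul_one]; rfl⟩
    | add s t hs ht =>
      obtain ⟨m, rfl⟩ := hs
      obtain ⟨m', rfl⟩ := ht
      exact ⟨m + m', TensorProduct.tmul_add _ _ _⟩
  let bF := Module.finBasis F (F ⊗[A] M)
  set s := Module.finrank F (F ⊗[A] M) with hs
  choose v hv using fun i : Fin s => hmk (bF i)
  let V : (Fin s → A) →ₗ[A] M := Fintype.linearCombination A v
  let N := LinearMap.range V
  -- cokernel killed near P
  have hPQ : (⊤ : Submodule A (M ⧸ N)) ≤ P • ⊤ := by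
    have h0 : ∀ z : F ⊗[A] (M ⧸ N), z = 0 := by
      intro z
      obtain ⟨w, rfl⟩ := LinearMap.lTensor_surjective F N.mkQ_surjective z
      have hw : w ∈ Submodule.span F (Set.range bF) := bF.mem_span w
      induction hw using Submodule.span_induction with
      | mem y hy =>
        obtain ⟨i, rfl⟩ := hy
        rw [← hv i, LinearMap.lTensor_tmul]
        have : N.mkQ (v i) = 0 := (Submodule.Quotient.mk_eq_zero _).mpr ⟨Pi.single i 1, by simp [V, Fintype.linearCombination_apply, Pi.single_apply, ite_smul]⟩
        rw [this, TensorProduct.tmul_zero]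
      | zero => exact map_zero _
      | add y z _ _ hy hz => rw [map_add, hy, hz, add_zero]
      | smul c y _ hy =>
        obtain ⟨c, rfl⟩ := Ideal.Quotient.mk_surjective c
        rw [show Ideal.Quotient.mk P c • y = c • y from algebraMap_smul F c y, map_smul, hy, smul_zero]
    haveI : Subsingleton (F ⊗[A] (M ⧸ N)) := ⟨fun a b => by rw [h0 a, h0 b]⟩
    haveI : Subsingleton ((M ⧸ N) ⧸ (P • ⊤ : Submodule A (M ⧸ N))) :=
      (TensorProduct.quotTensorEquivQuotSMul (M ⧸ N) P).toEquiv.symm.subsingleton
    rw [(Submodule.Quotient.subsingleton_iff (p := (P • ⊤ : Submodule A (M ⧸ N)))).mp inferInstance]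
  obtain ⟨a, haP, ha⟩ := Submodule.exists_sub_one_mem_and_smul_eq_zero_of_fg_of_le_smul P ⊤ Module.Finite.fg_top hPQ
  have hanP : a ∉ P := fun h => hP.ne_top ((Ideal.eq_top_iff_one _).mpr (by simpa using sub_mem h haP))
  have haN : ∀ m, a • m ∈ N := fun m => (Submodule.Quotient.mk_eq_zero _).mp (ha (Submodule.Quotient.mk m) trivial)
  choose c hc using haN
  -- the rank
  obtain ⟨q, hq⟩ := hsurj ⟨P, hP.isPrime⟩
  have hqP : P ≤ q.asIdeal.comap (algebraMap A B) := (congrArg PrimeSpectrum.asIdeal hq).ge
  let L := B ⧸ q.asIdeal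
  letI : Algebra F L := (Ideal.quotientMap q.asIdeal (algebraMap A B) hqP).toAlgebra
  haveI : IsScalarTower A F L := IsScalarTower.of_algebraMap_eq fun a => rfl
  haveI : Nontrivial B := ⟨⟨0, 1, fun h => q.2.ne_top ((Ideal.eq_top_iff_one _).mpr (h ▸ zero_mem _))⟩⟩
  let e₀ := Module.Free.chooseBasis B (B ⊗[A] M)
  have hcard : Fintype.card (Module.Free.ChooseBasisIndex B (B ⊗[A] M)) = s := by
    have h1 := (TensorProduct.AlgebraTensorModule.cancelBaseChange A B L L M).finrank_eq
    have h2 := (TensorProduct.AlgebraTensorModule.cancelBaseChange A F L L M).finrank_eq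
    rw [Module.finrank_baseChange] at h1 h2
    rw [← Module.finrank_eq_card_chooseBasisIndex, h1, hs, h2]
  let e := e₀.reindex (Fintype.equivFinOfCardEq hcard)
  let T := e.toMatrix fun i => (1 : B) ⊗ₜ[A] v i
  have hT : ∀ j, ∑ i, T i j • e i = (1 : B) ⊗ₜ[A] v j := fun j => e.sum_toMatrix_smul_self _ j
  have hsol : ∀ z : B ⊗[A] M, ∃ y : Fin s → B, algebraMap A B a • z = ∑ j, y j • ((1 : B) ⊗ₜ[A] v j) := by
    intro z
    induction z using TensorProduct.induction_on with
    | zero => exact ⟨0, by simp⟩
    | tmul b m =>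
      refine ⟨fun j => c m j • b, ?_⟩
      rw [algebraMap_smul, ← TensorProduct.tmul_smul, ← hc m]
      simp only [V, Fintype.linearCombination_apply, TensorProduct.tmul_sum]
      exact Finset.sum_congr rfl fun j _ => by rw [TensorProduct.smul_tmul' (c m j • b), smul_eq_mul, _root_.mul_one, ← TensorProduct.smul_tmul]
    | add y z hy hz =>
      obtain ⟨y₁, h1⟩ := hy
      obtain ⟨y₂, h2⟩ := hz
      exact ⟨y₁ + y₂, by simp only [smul_add, h1, h2, Pi.add_apply, add_smul, Finset.sum_add_distrib]⟩
  choose C hC using fun i : Fin s => hsol (e i)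
  let C' : Matrix (Fin s) (Fin s) B := fun j i => C i j
  have hTC : T * C' = algebraMap A B a • (1 : Matrix (Fin s) (Fin s) B) := by
    ext l i
    have h := congrArg (fun z => e.repr z l) (hC i)
    simp only [map_sum, map_smul, Finsupp.coe_finset_sum, Finset.sum_apply, Finsupp.smul_apply, Module.Basis.repr_self] at h
    rw [Matrix.mul_apply, Matrix.smul_apply, Matrix.one_apply]
    rw [show (∑ j, T l j * C' j i) = ∑ j, C i j • e.repr ((1 : B) ⊗ₜ[A] v j) l from
      Finset.sum_congr rfl fun j _ => _root_.mul_comm _ _, ← h, Finsupp.single_apply]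
    simp [eq_comm]
  have hdet : T.det * C'.det = algebraMap A B (a ^ s) := by
    rw [← Matrix.det_mul, hTC, Matrix.det_smul, Matrix.det_one, _root_.mul_one, Fintype.card_fin, map_pow]
  have hker : ∀ y, V y = 0 → a ^ s • y = 0 := by
    intro y hy
    let y' : Fin s → B := fun j => algebraMap A B (y j)
    have h1 : T.mulVec y' = 0 := by
      funext l
      have h := congrArg (fun m => e.repr ((1 : B) ⊗ₜ[A] m) l) hy
      simp only [V, Fintype.linearCombination_apply, TensorProduct.tmul_sum, TensorProduct.tmul_smul, TensorProduct.tmul_zero,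
        map_sum, map_zero, Finsupp.coe_finset_sum, Finset.sum_apply, Finsupp.coe_zero, Pi.zero_apply] at h
      rw [Pi.zero_apply, ← h, Matrix.mulVec, dotProduct]
      refine Finset.sum_congr rfl fun j _ => ?_
      rw [← algebraMap_smul B (y j), map_smul, Finsupp.smul_apply, smul_eq_mul, _root_.mul_comm]
      rfl
    have h2 : T.det • y' = 0 := by
      have := congrArg T.adjugate.mulVec h1
      rwa [Matrix.mulVec_mulVec, Matrix.adjugate_mul, Matrix.smul_mulVec, Matrix.one_mulVec, Matrix.mulVec_zero] at this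
    funext j
    apply hinj
    rw [Pi.smul_apply, smul_eq_mul, map_mul, ← hdet, _root_.mul_comm T.det, _root_.mul_assoc, Pi.zero_apply, map_zero]
    have h3 : T.det * y' j = 0 := congrFun h2 j
    rw [h3, mul_zero]
  let ψ : M →ₗ[A] (Fin s → A) :=
    { toFun := fun m => a ^ s • c m
      map_add' := fun m m' => by
        rw [← sub_eq_zero, ← smul_add, ← smul_sub]
        exact hker _ (by rw [map_sub, map_add, hc, hc, hc, smul_add, sub_self])
      map_smul' := fun r m => by
        rw [RingHom.id_apply, ← sub_eq_zero, smul_comm r, ← smul_sub]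
        exact hker _ (by rw [map_sub, map_smul, hc, hc, smul_comm, sub_self]) }
  refine ⟨a ^ (s + 1), fun h => hanP (hP.isPrime.mem_of_pow_mem _ h), s, V, ψ, fun m => ?_⟩
  show V (a ^ s • c m) = _
  rw [map_smul, hc, smul_smul, pow_succ]

theorem flat_of_free_baseChange (hinj : Function.Injective (algebraMap A B))
    (hsurj : Function.Surjective (PrimeSpectrum.comap (algebraMap A B)))
    [Module.Finite A M] [Module.Free B (B ⊗[A] M)] : Module.Flat A M := by
  rw [Module.Flat.iff_rTensor_injective]
  intro I _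
  rw [← LinearMap.ker_eq_bot, eq_bot_iff]
  intro x hx
  rw [Submodule.mem_bot]
  by_contra hne
  obtain ⟨P, hP, hle⟩ := Ideal.exists_le_maximal (LinearMap.ker (LinearMap.toSpanSingleton A _ x)) (fun h => hne (by
    have h1 : (1 : A) ∈ LinearMap.ker (LinearMap.toSpanSingleton A _ x) := h ▸ trivial
    simpa using h1))
  obtain ⟨a, haP, s, V, ψ, hVψ⟩ := exists_almost_free (B := B) (M := M) hinj hsurj P
  refine haP (hle ?_)
  have h1 : ψ.lTensor I x = 0 := by
    apply Module.Flat.rTensor_preserves_injective_linearMap I.subtype Subtype.val_injective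
    rw [map_zero, ← LinearMap.comp_apply, LinearMap.rTensor_comp_lTensor, ← LinearMap.lTensor_comp_rTensor,
      LinearMap.comp_apply, LinearMap.mem_ker.mp hx, map_zero]
  have h2 : (V ∘ₗ ψ).lTensor I x = a • x := by
    rw [show V ∘ₗ ψ = a • LinearMap.id from LinearMap.ext hVψ, LinearMap.lTensor_smul, LinearMap.lTensor_id]
    rfl
  rw [LinearMap.lTensor_comp, LinearMap.comp_apply, h1, map_zero] at h2
  show LinearMap.toSpanSingleton A _ x a = 0
  rw [LinearMap.toSpanSingleton_apply, ← h2]

end Groth.Agent.GrpSchLib.FlatDescentFree
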