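import Mathlib.RingTheory.HopfAlgebra.Convolution
import Mathlib.RingTheory.Bialgebra.Hom
import Mathlib.RingTheory.Flat.Basic
import Mathlib.RingTheory.TensorProduct.Maps
import Mathlib.RingTheory.TensorProduct.Free
import Mathlib.LinearAlgebra.Basis.VectorSpace

/-! Hopf structures pulled back along injective algebra maps with stable image. -/

universe u w x

open TensorProduct

namespace Groth.Agent.GrpSchLib.HopfTransfer

variable {k : Type u} [Field k] {A : Type w} [CommRing A] [HopfAlgebra k A]

theorem map_val_injective {B C D E : Type*} [CommRing B] [CommRing C] [CommRing D] [CommRing E]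
    [Algebra k B] [Algebra k C] [Algebra k D] [Algebra k E] (f : B →ₐ[k] C) (g : D →ₐ[k] E)
    (hf : Function.Injective f) (hg : Function.Injective g) :
    Function.Injective (Algebra.TensorProduct.map f g) :=
  TensorProduct.map_injective_of_flat_flat f.toLinearMap g.toLinearMap hf hg

variable {B : Type x} [CommRing B] [Algebra k B] (j : B →ₐ[k] A) (hj : Function.Injective j)
  (h1 : ∀ b, Coalgebra.comul (R := k) (j b) ∈ (Algebra.TensorProduct.map j j).range)
  (h2 : ∀ b, HopfAlgebraStruct.antipode (R := k) (j b) ∈ j.range)

/-- The restricted comultiplication. -/
noncomputable def comulRes : B →ₐ[k] B ⊗[k] B :=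
  ((AlgEquiv.ofInjective (Algebra.TensorProduct.map j j)
    (map_val_injective _ _ hj hj)).symm : _ →ₐ[k] B ⊗[k] B).comp
    (((Bialgebra.comulAlgHom k A).comp j).codRestrict (Algebra.TensorProduct.map j j).range h1)

theorem map_comulRes (b : B) :
    Algebra.TensorProduct.map j j (comulRes j hj h1 b) = Bialgebra.comulAlgHom k A (j b) :=
  congrArg Subtype.val (AlgEquiv.apply_symm_apply (AlgEquiv.ofInjective (Algebra.TensorProduct.map j j)
    (map_val_injective _ _ hj hj)) _)

/-- The restricted antipode. -/
noncomputable def antipodeRes : B →ₐ[k] B :=
  ((AlgEquiv.ofInjective j hj).symm : _ →ₐ[k] B).comp (((HopfAlgebra.antipodeAlgHom k A).comp j).codRestrict j.range h2)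

theorem j_antipodeRes (b : B) : j (antipodeRes j hj h2 b) = HopfAlgebraStruct.antipode (R := k) (j b) :=
  congrArg Subtype.val (AlgEquiv.apply_symm_apply (AlgEquiv.ofInjective j hj) _)

/-- The bialgebra structure on a Hopf subalgebra. -/
noncomputable abbrev bialgebra : Bialgebra k B :=
  Bialgebra.ofAlgHom (comulRes j hj h1) ((Bialgebra.counitAlgHom k A).comp j)
    (by
      refine AlgHom.ext fun b => map_val_injective j (Algebra.TensorProduct.map j j) hj
        (map_val_injective _ _ hj hj) ?_
      have e1 : ∀ z : (B ⊗[k] B) ⊗[k] B, Algebra.TensorProduct.map j (Algebra.TensorProduct.map j j)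
          (Algebra.TensorProduct.assoc k k k B B B z) = Algebra.TensorProduct.assoc k k k A A A
          (Algebra.TensorProduct.map (Algebra.TensorProduct.map j j) j z) := by
        intro z
        induction z using TensorProduct.induction_on with
        | zero => simp
        | tmul x y =>
          induction x using TensorProduct.induction_on with
          | zero => simp
          | tmul x x' => simp
          | add s t hs ht => simp only [add_tmul, map_add, hs, ht]
        | add s t hs ht => simp only [map_add, hs, ht]
      have e2 : ∀ z : B ⊗[k] B, Algebra.TensorProduct.map (Algebra.TensorProduct.map j j) j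
          (Algebra.TensorProduct.map (comulRes j hj h1) (AlgHom.id k B) z) =
          Algebra.TensorProduct.map (Bialgebra.comulAlgHom k A) (AlgHom.id k A) (Algebra.TensorProduct.map j j z) := by
        intro z
        induction z using TensorProduct.induction_on with
        | zero => simp
        | tmul x y => simp [map_comulRes]
        | add s t hs ht => simp only [map_add, hs, ht]
      have e3 : ∀ z : B ⊗[k] B, Algebra.TensorProduct.map j (Algebra.TensorProduct.map j j)
          (Algebra.TensorProduct.map (AlgHom.id k B) (comulRes j hj h1) z) =
          Algebra.TensorProduct.map (AlgHom.id k A) (Bialgebra.comulAlgHom k A) (Algebra.TensorProduct.map j j z) := by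
        intro z
        induction z using TensorProduct.induction_on with
        | zero => simp
        | tmul x y => simp [map_comulRes]
        | add s t hs ht => simp only [map_add, hs, ht]
      simp only [AlgHom.comp_apply, AlgEquiv.coe_toAlgHom, e1, e2, e3, map_comulRes]
      exact Coalgebra.coassoc_apply (j b))
    (by
      refine AlgHom.ext fun b => map_val_injective (AlgHom.id k k) j Function.injective_id hj ?_
      have e2 : ∀ z : B ⊗[k] B, Algebra.TensorProduct.map (AlgHom.id k k) j
          (Algebra.TensorProduct.map ((Bialgebra.counitAlgHom k A).comp j) (AlgHom.id k B) z) =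
          Algebra.TensorProduct.map (Bialgebra.counitAlgHom k A) (AlgHom.id k A) (Algebra.TensorProduct.map j j z) := by
        intro z
        induction z using TensorProduct.induction_on with
        | zero => simp
        | tmul x y => simp
        | add s t hs ht => simp only [map_add, hs, ht]
      simp only [AlgHom.comp_apply, AlgEquiv.coe_toAlgHom, e2, map_comulRes]
      refine (Coalgebra.rTensor_counit_comul (j b)).trans ?_
      simp)
    (by
      refine AlgHom.ext fun b => map_val_injective j (AlgHom.id k k) hj Function.injective_id ?_
      have e2 : ∀ z : B ⊗[k] B, Algebra.TensorProduct.map j (AlgHom.id k k)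
          (Algebra.TensorProduct.map (AlgHom.id k B) ((Bialgebra.counitAlgHom k A).comp j) z) =
          Algebra.TensorProduct.map (AlgHom.id k A) (Bialgebra.counitAlgHom k A) (Algebra.TensorProduct.map j j z) := by
        intro z
        induction z using TensorProduct.induction_on with
        | zero => simp
        | tmul x y => simp
        | add s t hs ht => simp only [map_add, hs, ht]
      simp only [AlgHom.comp_apply, AlgEquiv.coe_toAlgHom, e2, map_comulRes]
      refine (Coalgebra.lTensor_counit_comul (j b)).trans ?_
      simp)

/-- The Hopf algebra structure on a Hopf subalgebra. -/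
noncomputable abbrev hopf : HopfAlgebra k B :=
  letI := bialgebra j hj h1
  HopfAlgebra.ofAlgHom (antipodeRes j hj h2)
    (by
      refine AlgHom.ext fun b => hj ?_
      have e : ∀ z : B ⊗[k] B, (j ((Algebra.TensorProduct.lift (antipodeRes j hj h2) (.id k B) fun _ => Commute.all _) z)) =
          LinearMap.mul' k A ((HopfAlgebraStruct.antipode (R := k) (A := A)).rTensor A (Algebra.TensorProduct.map j j z)) := by
        intro z
        induction z using TensorProduct.induction_on with
        | zero => simp
        | tmul x y =>
          refine (congrArg j (Algebra.TensorProduct.lift_tmul _ _ _ x y)).trans ?_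
          simp [j_antipodeRes j hj h2]
        | add s t hs ht => simp [map_add, hs, ht]
      refine (e _).trans ?_
      refine (congrArg (fun z => LinearMap.mul' k A ((HopfAlgebraStruct.antipode (R := k) (A := A)).rTensor A z))
        (map_comulRes j hj h1 b)).trans ?_
      exact (HopfAlgebra.mul_antipode_rTensor_comul_apply (j b)).trans (j.commutes _).symm)
    (by
      refine AlgHom.ext fun b => hj ?_
      have e : ∀ z : B ⊗[k] B, (j ((Algebra.TensorProduct.lift (.id k B) (antipodeRes j hj h2) fun _ _ => Commute.all _ _) z)) =
          LinearMap.mul' k A ((HopfAlgebraStruct.antipode (R := k) (A := A)).lTensor A (Algebra.TensorProduct.map j j z)) := by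
        intro z
        induction z using TensorProduct.induction_on with
        | zero => simp
        | tmul x y =>
          refine (congrArg j (Algebra.TensorProduct.lift_tmul _ _ _ x y)).trans ?_
          simp [j_antipodeRes j hj h2]
        | add s t hs ht => simp [map_add, hs, ht]
      refine (e _).trans ?_
      refine (congrArg (fun z => LinearMap.mul' k A ((HopfAlgebraStruct.antipode (R := k) (A := A)).lTensor A z))
        (map_comulRes j hj h1 b)).trans ?_
      exact (HopfAlgebra.mul_antipode_lTensor_comul_apply (j b)).trans (j.commutes _).symm)

end Groth.Agent.GrpSchLib.HopfTransfer
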