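import Groth.Agent.GrpSchLib.HopfGalois
import Groth.Agent.GrpSchLib.FlatDescentFree
import Groth.Agent.GrpSchLib.HopfTransfer
import Groth.Agent.GrpSchLib.HomClosedRange
import Groth.Agent.GrpSchLib.AffineHopf
import Groth.Agent.ComodLib.Basic
import Groth.Prelude.Def_HopfRep
import Mathlib.AlgebraicGeometry.Morphisms.FiniteType
import Mathlib.RingTheory.RingHom.FaithfullyFlat

/-! A finitely generated commutative Hopf algebra over a field is faithfully flat over its Hopf subalgebras. -/

universe u v w

open CategoryTheory AlgebraicGeometry TensorProduct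

namespace Groth.Agent.GrpSchLib.HopfFlat

variable {k : Type u} [Field k]

theorem surjective_comap_small {A B : Type u} [CommRing A] [CommRing B] [HopfAlgebra k A] [HopfAlgebra k B]
    [Algebra.FiniteType k A] [Algebra.FiniteType k B] (i : A →ₐc[k] B) (hi : Function.Injective i) :
    Function.Surjective (PrimeSpectrum.comap (i : A →ₐ[k] B).toRingHom) := by
  let f := AffineHopf.spMap (i : A →ₐ[k] B)
  haveI : LocallyOfFiniteType (AffineHopf.sp k A).hom :=
    (HasRingHomProperty.Spec_iff (P := @LocallyOfFiniteType)).mpr (RingHom.finiteType_algebraMap.mpr inferInstance)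
  haveI : LocallyOfFiniteType (AffineHopf.sp k B).hom :=
    (HasRingHomProperty.Spec_iff (P := @LocallyOfFiniteType)).mpr (RingHom.finiteType_algebraMap.mpr inferInstance)
  haveI : QuasiCompact f.left := inferInstanceAs (QuasiCompact (Spec.map _))
  have hc : IsClosed (Set.range f.left) := HomClosedRange.isClosed_range f
  have hd : DenseRange (PrimeSpectrum.comap (i : A →ₐ[k] B).toRingHom) := by
    rw [PrimeSpectrum.denseRange_comap_iff_ker_le_nilRadical, (RingHom.injective_iff_ker_eq_bot _).mp]
    · exact bot_le
    · exact hi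
  exact fun p => hc.closure_eq.subset (hd p)

/-- A copy of a Hopf algebra of finite type in the universe of the field. -/
theorem exists_small (A : Type v) [CommRing A] [HopfAlgebra k A] [Algebra.FiniteType k A] :
    ∃ (A' : Type u) (_ : CommRing A') (_ : HopfAlgebra k A') (e : A' →ₐ[k] A),
      Function.Bijective e ∧ Algebra.FiniteType k A' ∧
      (∀ x, Algebra.TensorProduct.map e e (Coalgebra.comul (R := k) x) = Coalgebra.comul (R := k) (e x)) ∧
      (∀ x, (Coalgebra.counit (R := k) (e x) : k) = Coalgebra.counit (R := k) x) := by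
  obtain ⟨n, φ, hφ⟩ := Algebra.FiniteType.iff_quotient_mvPolynomial''.mp (inferInstance : Algebra.FiniteType k A)
  let e : (MvPolynomial (Fin n) k ⧸ RingHom.ker φ) ≃ₐ[k] A := Ideal.quotientKerAlgEquivOfSurjective hφ
  have h1 : ∀ b, Coalgebra.comul (R := k) (e.toAlgHom b) ∈ (Algebra.TensorProduct.map e.toAlgHom e.toAlgHom).range :=
    fun b => (AlgHom.mem_range _).mpr ((TensorProduct.map_surjective (g := e.toAlgHom.toLinearMap) (g' := e.toAlgHom.toLinearMap)
      e.surjective e.surjective) _)
  have h2 : ∀ b, HopfAlgebraStruct.antipode (R := k) (e.toAlgHom b) ∈ e.toAlgHom.range := fun b =>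
    (AlgHom.mem_range _).mpr (e.surjective _)
  letI := HopfTransfer.hopf e.toAlgHom e.injective h1 h2
  exact ⟨_, inferInstance, inferInstance, e.toAlgHom, e.bijective, inferInstance,
    fun x => HopfTransfer.map_comulRes e.toAlgHom e.injective h1 x, fun x => rfl⟩

variable {A : Type v} {B : Type w} [CommRing A] [CommRing B] [HopfAlgebra k A] [HopfAlgebra k B]
  [Algebra.FiniteType k A] [Algebra.FiniteType k B]

theorem surjective_comap (f : A →ₐc[k] B) (hf : Function.Injective f) :
    Function.Surjective (PrimeSpectrum.comap (f : A →ₐ[k] B).toRingHom) := by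
  obtain ⟨A', _, _, a, ha, _, hca, hεa⟩ := exists_small (k := k) A
  obtain ⟨B', _, _, b, hb, _, hcb, hεb⟩ := exists_small (k := k) B
  let eb := AlgEquiv.ofBijective b hb
  let i : A' →ₐ[k] B' := eb.symm.toAlgHom.comp ((f : A →ₐ[k] B).comp a)
  have hbi : ∀ x, b (i x) = f (a x) := fun x => eb.apply_symm_apply _
  let i' : A' →ₐc[k] B' := BialgHom.ofAlgHom i
    (AlgHom.ext fun x => by
      show (Coalgebra.counit (R := k) (i x) : k) = Coalgebra.counit (R := k) x
      rw [← hεb, hbi, CoalgHomClass.counit_comp_apply, hεa])
    (AlgHom.ext fun x => by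
      apply HopfTransfer.map_val_injective b b hb.1 hb.1
      show Algebra.TensorProduct.map b b (Algebra.TensorProduct.map i i (Coalgebra.comul (R := k) x)) =
        Algebra.TensorProduct.map b b (Coalgebra.comul (R := k) (i x))
      rw [hcb, hbi, ← CoalgHomClass.map_comp_comul_apply f, ← hca]
      generalize Coalgebra.comul (R := k) x = z
      induction z using TensorProduct.induction_on with
      | zero => simp
      | tmul p q => simp [hbi]
      | add s t hs ht => simp only [map_add, hs, ht])
  have hi : Function.Injective i' := fun x y h => ha.1 (hf (by rw [← hbi, ← hbi]; exact congrArg b h))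
  intro p
  obtain ⟨q, hq⟩ := surjective_comap_small i' hi (PrimeSpectrum.comap a.toRingHom p)
  refine ⟨PrimeSpectrum.comap eb.symm.toAlgHom.toRingHom q, ?_⟩
  apply PrimeSpectrum.comap_injective_of_surjective a.toRingHom ha.2
  rw [← hq]
  rfl

theorem flat (f : A →ₐc[k] B) (hf : Function.Injective f) : (f : A →ₐ[k] B).toRingHom.Flat := by
  classical
  letI : Algebra A B := (f : A →ₐ[k] B).toRingHom.toAlgebra
  haveI : IsScalarTower k A B := IsScalarTower.of_algebraMap_eq fun c => ((f : A →ₐ[k] B).commutes c).symm
  have hcomul : ∀ a : A, Algebra.TensorProduct.map (IsScalarTower.toAlgHom k A B) (IsScalarTower.toAlgHom k A B)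
      (Coalgebra.comul (R := k) a) = Coalgebra.comul (R := k) (algebraMap A B a) := fun a =>
    CoalgHomClass.map_comp_comul_apply f a
  have hS : ∀ a : A, HopfAlgebraStruct.antipode (R := k) (algebraMap A B a) =
      algebraMap A B (HopfAlgebraStruct.antipode (R := k) a) := fun a => HopfGalois.antipode_bialgHom f a
  show Module.Flat A B
  have key : ∀ s : Finset B, ∃ M : Submodule A B, ↑s ⊆ (M : Set B) ∧ Module.Flat A M := by
    intro s
    obtain ⟨W, hsW, hW, hWf⟩ : ∃ W : Submodule k B, ↑s ⊆ (W : Set B) ∧ HopfRep.IsSubcomod (k := k) (A := B) W ∧ W.FG := by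
      induction s using Finset.induction with
      | empty => exact ⟨⊥, by simp, fun w hw => by rw [(Submodule.mem_bot k).mp hw, map_zero]; exact zero_mem _, Submodule.fg_bot⟩
      | insert x s _ ih =>
        obtain ⟨W, h1, h2, h3⟩ := ih
        obtain ⟨U, -, hxU, hU, S, hUS⟩ := ComodLib.exists_fg_subcomod_mem (k := k) (C := B) x
        haveI : Module.Finite k (Submodule.span k (S : Set B)) := Module.Finite.span_of_finite k S.finite_toSet
        haveI : Module.Finite k U := Submodule.finiteDimensional_of_le hUS
        refine ⟨U ⊔ W, ?_, ComodLib.isSubcomod_sup hU h2, Submodule.FG.sup (Module.Finite.iff_fg.mp inferInstance) h3⟩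
        rw [Finset.coe_insert, Set.insert_subset_iff]
        exact ⟨le_sup_left (b := W) hxU, fun y hy => le_sup_right (a := U) (h1 hy)⟩
    obtain ⟨T, hT⟩ := hWf
    let M : Submodule A B := Submodule.span A (W : Set B)
    haveI : Module.Finite A M := Module.Finite.iff_fg.mpr ⟨T, le_antisymm
      (Submodule.span_mono fun x hx => (hT.le (Submodule.subset_span hx))) (Submodule.span_le.mpr fun x hx => by
        have h1 : Submodule.span k (T : Set B) ≤ (Submodule.span A (T : Set B)).restrictScalars k :=
          Submodule.span_le.mpr Submodule.subset_span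
        exact h1 (hT.ge hx))⟩
    have hM : ∀ m : M, Coalgebra.comul (R := k) (m : B) ∈ LinearMap.range ((M.subtype.restrictScalars k).rTensor B) := by
      rintro ⟨m, hm⟩
      induction hm using Submodule.span_induction with
      | mem x hx =>
        obtain ⟨z, hz⟩ := hW x hx
        let j : W →ₗ[k] M := (W.subtype).codRestrict (M.restrictScalars k) (fun y => Submodule.subset_span y.2)
        refine ⟨j.rTensor B z, ?_⟩
        rw [← LinearMap.comp_apply, ← LinearMap.rTensor_comp]
        exact hz
      | zero => simp
      | add x y _ _ hx hy =>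
        show Coalgebra.comul (R := k) (x + y) ∈ _
        rw [map_add]; exact add_mem hx hy
      | smul a x _ hx =>
        obtain ⟨z, hz⟩ := hx
        refine ⟨HopfGalois.act M (Coalgebra.comul (R := k) a) z, ?_⟩
        rw [HopfGalois.incl_act, hz, hcomul]
        show _ = Coalgebra.comul (R := k) (a • x)
        rw [Algebra.smul_def, Bialgebra.comul_mul]
    haveI := HopfGalois.free_baseChange M hcomul hM hS
    exact ⟨M, fun x hx => Submodule.subset_span (hsW hx),
      FlatDescentFree.flat_of_free_baseChange (B := B) (M := M) hf (surjective_comap f hf)⟩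
  rw [Module.Flat.iff_rTensor_injective]
  intro I _
  rw [injective_iff_map_eq_zero]
  intro x hx
  obtain ⟨S, rfl⟩ := TensorProduct.exists_finset x
  obtain ⟨M, hsM, hMf⟩ := key (S.image Prod.snd)
  let y : I ⊗[A] M := ∑ p ∈ S.attach, p.1.1 ⊗ₜ[A] (⟨p.1.2, hsM (Finset.mem_coe.mpr (Finset.mem_image_of_mem _ p.2))⟩ : M)
  have hy : M.subtype.lTensor I y = ∑ p ∈ S, p.1 ⊗ₜ[A] p.2 := by
    rw [map_sum, ← Finset.sum_attach S]
    exact Finset.sum_congr rfl fun p _ => rfl
  rw [← hy] at hx ⊢
  have h1 : I.subtype.rTensor M y = 0 := by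
    have h2 : M.subtype.lTensor A (I.subtype.rTensor M y) = 0 := by
      rw [← LinearMap.comp_apply, LinearMap.lTensor_comp_rTensor, ← LinearMap.rTensor_comp_lTensor, LinearMap.comp_apply, hx]
    exact Module.Flat.lTensor_preserves_injective_linearMap M.subtype Subtype.val_injective (h2.trans (map_zero _).symm)
  rw [(injective_iff_map_eq_zero _).mp (Module.Flat.rTensor_preserves_injective_linearMap I.subtype Subtype.val_injective) y h1,
    map_zero]

theorem faithfullyFlat (f : A →ₐc[k] B) (hf : Function.Injective f) : (f : A →ₐ[k] B).toRingHom.FaithfullyFlat :=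
  RingHom.FaithfullyFlat.iff_flat_and_comap_surjective.mpr ⟨flat f hf, surjective_comap f hf⟩

end Groth.Agent.GrpSchLib.HopfFlat
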