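import Groth.Prelude.Def_SGA3
import Mathlib.RingTheory.HopfAlgebra.Convolution
import Mathlib.RingTheory.Bialgebra.Hom
import Mathlib.RingTheory.Flat.Basic
import Mathlib.RingTheory.TensorProduct.Maps

/-! Hopf subalgebras over a field as Hopf algebras. -/

universe u

open TensorProduct

namespace Groth.Agent.GrpSchLib.SubHopf

variable {k : Type u} [Field k] {A : Type u} [CommRing A] [HopfAlgebra k A]

theorem map_val_injective {B C D E : Type u} [CommRing B] [CommRing C] [CommRing D] [CommRing E]
    [Algebra k B] [Algebra k C] [Algebra k D] [Algebra k E] (f : B →ₐ[k] C) (g : D →ₐ[k] E)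
    (hf : Function.Injective f) (hg : Function.Injective g) :
    Function.Injective (Algebra.TensorProduct.map f g) :=
  TensorProduct.map_injective_of_flat_flat f.toLinearMap g.toLinearMap hf hg

variable (B : Subalgebra k A) (h : SGA3.IsHopfSubalgebra k A B)

/-- The restricted comultiplication. -/
noncomputable def comulRes : B →ₐ[k] B ⊗[k] B :=
  ((AlgEquiv.ofInjective (Algebra.TensorProduct.map B.val B.val)
    (map_val_injective _ _ Subtype.val_injective Subtype.val_injective)).symm : _ →ₐ[k] B ⊗[k] B).comp
    (((Bialgebra.comulAlgHom k A).comp B.val).codRestrict (Algebra.TensorProduct.map B.val B.val).range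
      fun b => by
        obtain ⟨z, hz⟩ := h.1 b.1 b.2
        exact ⟨z, hz⟩)

theorem map_comulRes (b : B) :
    Algebra.TensorProduct.map B.val B.val (comulRes B h b) = Bialgebra.comulAlgHom k A b.1 :=
  congrArg Subtype.val (AlgEquiv.apply_symm_apply (AlgEquiv.ofInjective (Algebra.TensorProduct.map B.val B.val)
    (map_val_injective _ _ Subtype.val_injective Subtype.val_injective)) _)

/-- The restricted antipode. -/
noncomputable def antipodeRes : B →ₐ[k] B :=
  ((HopfAlgebra.antipodeAlgHom k A).comp B.val).codRestrict B fun b => h.2 b.1 b.2

/-- The bialgebra structure on a Hopf subalgebra. -/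
noncomputable abbrev bialgebra : Bialgebra k B :=
  Bialgebra.ofAlgHom (comulRes B h) ((Bialgebra.counitAlgHom k A).comp B.val)
    (by
      refine AlgHom.ext fun b => map_val_injective B.val (Algebra.TensorProduct.map B.val B.val) Subtype.val_injective
        (map_val_injective _ _ Subtype.val_injective Subtype.val_injective) ?_
      have e1 : ∀ z : (B ⊗[k] B) ⊗[k] B, Algebra.TensorProduct.map B.val (Algebra.TensorProduct.map B.val B.val)
          (Algebra.TensorProduct.assoc k k k B B B z) = Algebra.TensorProduct.assoc k k k A A A
          (Algebra.TensorProduct.map (Algebra.TensorProduct.map B.val B.val) B.val z) := by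
        intro z
        induction z using TensorProduct.induction_on with
        | zero => simp
        | tmul x y =>
          induction x using TensorProduct.induction_on with
          | zero => simp
          | tmul x x' => simp
          | add s t hs ht => simp only [add_tmul, map_add, hs, ht]
        | add s t hs ht => simp only [map_add, hs, ht]
      have e2 : ∀ z : B ⊗[k] B, Algebra.TensorProduct.map (Algebra.TensorProduct.map B.val B.val) B.val
          (Algebra.TensorProduct.map (comulRes B h) (AlgHom.id k B) z) =
          Algebra.TensorProduct.map (Bialgebra.comulAlgHom k A) (AlgHom.id k A) (Algebra.TensorProduct.map B.val B.val z) := by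
        intro z
        induction z using TensorProduct.induction_on with
        | zero => simp
        | tmul x y => simp [map_comulRes]
        | add s t hs ht => simp only [map_add, hs, ht]
      have e3 : ∀ z : B ⊗[k] B, Algebra.TensorProduct.map B.val (Algebra.TensorProduct.map B.val B.val)
          (Algebra.TensorProduct.map (AlgHom.id k B) (comulRes B h) z) =
          Algebra.TensorProduct.map (AlgHom.id k A) (Bialgebra.comulAlgHom k A) (Algebra.TensorProduct.map B.val B.val z) := by
        intro z
        induction z using TensorProduct.induction_on with
        | zero => simp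
        | tmul x y => simp [map_comulRes]
        | add s t hs ht => simp only [map_add, hs, ht]
      simp only [AlgHom.comp_apply, AlgEquiv.coe_toAlgHom, e1, e2, e3, map_comulRes]
      exact Coalgebra.coassoc_apply b.1)
    (by
      refine AlgHom.ext fun b => map_val_injective (AlgHom.id k k) B.val Function.injective_id Subtype.val_injective ?_
      have e2 : ∀ z : B ⊗[k] B, Algebra.TensorProduct.map (AlgHom.id k k) B.val
          (Algebra.TensorProduct.map ((Bialgebra.counitAlgHom k A).comp B.val) (AlgHom.id k B) z) =
          Algebra.TensorProduct.map (Bialgebra.counitAlgHom k A) (AlgHom.id k A) (Algebra.TensorProduct.map B.val B.val z) := by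
        intro z
        induction z using TensorProduct.induction_on with
        | zero => simp
        | tmul x y => simp
        | add s t hs ht => simp only [map_add, hs, ht]
      simp only [AlgHom.comp_apply, AlgEquiv.coe_toAlgHom, e2, map_comulRes]
      refine (Coalgebra.rTensor_counit_comul b.1).trans ?_
      simp)
    (by
      refine AlgHom.ext fun b => map_val_injective B.val (AlgHom.id k k) Subtype.val_injective Function.injective_id ?_
      have e2 : ∀ z : B ⊗[k] B, Algebra.TensorProduct.map B.val (AlgHom.id k k)
          (Algebra.TensorProduct.map (AlgHom.id k B) ((Bialgebra.counitAlgHom k A).comp B.val) z) =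
          Algebra.TensorProduct.map (AlgHom.id k A) (Bialgebra.counitAlgHom k A) (Algebra.TensorProduct.map B.val B.val z) := by
        intro z
        induction z using TensorProduct.induction_on with
        | zero => simp
        | tmul x y => simp
        | add s t hs ht => simp only [map_add, hs, ht]
      simp only [AlgHom.comp_apply, AlgEquiv.coe_toAlgHom, e2, map_comulRes]
      refine (Coalgebra.lTensor_counit_comul b.1).trans ?_
      simp)

/-- The Hopf algebra structure on a Hopf subalgebra. -/
noncomputable abbrev hopf : HopfAlgebra k B :=
  letI := bialgebra B h
  HopfAlgebra.ofAlgHom (antipodeRes B h)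
    (by
      refine AlgHom.ext fun b => Subtype.val_injective ?_
      have e : ∀ z : B ⊗[k] B, ((Algebra.TensorProduct.lift (antipodeRes B h) (.id k B) fun _ => Commute.all _) z).1 =
          LinearMap.mul' k A ((HopfAlgebraStruct.antipode (R := k) (A := A)).rTensor A (Algebra.TensorProduct.map B.val B.val z)) := by
        intro z
        induction z using TensorProduct.induction_on with
        | zero => simp
        | tmul x y => simp [antipodeRes, HopfAlgebra.antipodeAlgHom]
        | add s t hs ht => simp [map_add, hs, ht]
      refine (e _).trans ?_
      refine (congrArg (fun z => LinearMap.mul' k A ((HopfAlgebraStruct.antipode (R := k) (A := A)).rTensor A z))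
        (map_comulRes B h b)).trans ?_
      exact HopfAlgebra.mul_antipode_rTensor_comul_apply b.1)
    (by
      refine AlgHom.ext fun b => Subtype.val_injective ?_
      have e : ∀ z : B ⊗[k] B, ((Algebra.TensorProduct.lift (.id k B) (antipodeRes B h) fun _ _ => Commute.all _ _) z).1 =
          LinearMap.mul' k A ((HopfAlgebraStruct.antipode (R := k) (A := A)).lTensor A (Algebra.TensorProduct.map B.val B.val z)) := by
        intro z
        induction z using TensorProduct.induction_on with
        | zero => simp
        | tmul x y => simp [antipodeRes, HopfAlgebra.antipodeAlgHom]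
        | add s t hs ht => simp [map_add, hs, ht]
      refine (e _).trans ?_
      refine (congrArg (fun z => LinearMap.mul' k A ((HopfAlgebraStruct.antipode (R := k) (A := A)).lTensor A z))
        (map_comulRes B h b)).trans ?_
      exact HopfAlgebra.mul_antipode_lTensor_comul_apply b.1)

/-- The inclusion between Hopf subalgebras. -/
noncomputable def incl {B C : Subalgebra k A} (hB : SGA3.IsHopfSubalgebra k A B) (hC : SGA3.IsHopfSubalgebra k A C)
    (hle : B ≤ C) : letI := hopf B hB; letI := hopf C hC; B →ₐc[k] C :=
  letI := hopf B hB
  letI := hopf C hC
  BialgHom.ofAlgHom (Subalgebra.inclusion hle) rfl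
    (AlgHom.ext fun b => map_val_injective C.val C.val Subtype.val_injective Subtype.val_injective (by
      have e : ∀ z : B ⊗[k] B, Algebra.TensorProduct.map C.val C.val
          (Algebra.TensorProduct.map (Subalgebra.inclusion hle) (Subalgebra.inclusion hle) z) =
          Algebra.TensorProduct.map B.val B.val z := by
        intro z
        induction z using TensorProduct.induction_on with
        | zero => simp
        | tmul x y => simp
        | add s t hs ht => simp only [map_add, hs, ht]
      refine (e _).trans ?_
      exact (map_comulRes B hB b).trans (map_comulRes C hC (Subalgebra.inclusion hle b)).symm))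

end Groth.Agent.GrpSchLib.SubHopf
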