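import Groth.Agent.GrpSchLib.NormalKernel
import Groth.Agent.GrpSchLib.SubHopf
import Groth.Agent.GrpSchLib.HopfFlat
import Groth.Agent.GrpSchLib.AffineHopfClosed
import Groth.Prelude.Def_AlgGrp
import Mathlib.AlgebraicGeometry.Morphisms.Flat
import Mathlib.RingTheory.Adjoin.FG
import Mathlib.RingTheory.FiniteType
import Mathlib.CategoryTheory.Limits.Constructions.Over.Connected

/-!
# The quotient of an affine group of finite type by a normal subgroup scheme is affine
-/

universe u

open TensorProduct WithConv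

namespace Groth.Agent.ComodLib.Normal

variable {k : Type u} [Field k] {A B : Type u} [CommRing A] [CommRing B] [HopfAlgebra k A] [HopfAlgebra k B]
  [Algebra.FiniteType k A] {π : A →ₐc[k] B} (hN : IsNormalPts π) (hπ : Function.Surjective π)

theorem exists_frob_exp (k : Type u) [Field k] (A : Type u) [CommRing A] [HopfAlgebra k A] [Algebra.FiniteType k A] :
    ∃ (p n : ℕ), ExpChar k p ∧ ∀ x : AlgebraicClosure k ⊗[k] A, IsNilpotent x → x ^ p ^ n = 0 := by
  set K := AlgebraicClosure k
  haveI : Algebra.FiniteType K (K ⊗[k] A) := inferInstance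
  haveI : IsNoetherianRing (K ⊗[k] A) := Algebra.FiniteType.isNoetherianRing K _
  obtain ⟨p, hp⟩ := ExpChar.exists k
  cases hp with
  | zero =>
    haveI : CharZero K := charZero_of_injective_algebraMap (algebraMap k K).injective
    haveI : _root_.IsReduced (K ⊗[k] A) := isReduced_of_charZero' (k := K)
    exact ⟨1, 0, inferInstance, fun x hx => by rw [hx.eq_zero]; simp⟩
  | @prime p hp =>
    obtain ⟨N, hN⟩ := IsNoetherianRing.isNilpotent_nilradical (K ⊗[k] A)
    refine ⟨p, N, ExpChar.prime hp, fun x hx => ?_⟩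
    have h1 : x ^ N = 0 := by
      have := Ideal.pow_mem_pow (mem_nilradical.mpr hx) N
      rwa [hN, Ideal.zero_eq_bot, Ideal.mem_bot] at this
    exact pow_eq_zero_of_le (Nat.lt_pow_self hp.one_lt).le h1

include hN hπ in
/-- A normal subgroup is observable: inverses of occurring characters occur. -/
theorem occurs_inverse (χ : B) (hχ : IsGroupLikeElem k χ)
    (h : ∃ (V : Type u) (_ : AddCommGroup V) (_ : Module k V) (_ : HopfRep.Comod k A V) (_ : Module.Finite k V) (v : V),
      v ≠ 0 ∧ LinearMap.lTensor V π.toLinearMap (HopfRep.Comod.coact (k := k) (A := A) v) = v ⊗ₜ[k] χ) :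
    ∃ m : ℕ, 0 < m ∧ ∃ ψ : B, IsGroupLikeElem k ψ ∧ ψ * χ ^ m = 1 ∧
      ∃ (V : Type u) (_ : AddCommGroup V) (_ : Module k V) (_ : HopfRep.Comod k A V) (_ : Module.Finite k V) (v : V),
        v ≠ 0 ∧ LinearMap.lTensor V π.toLinearMap (HopfRep.Comod.coact (k := k) (A := A) v) = v ⊗ₜ[k] ψ := by
  classical
  obtain ⟨V, _, _, _, _, v, hv0, hv⟩ := h
  let b := Module.finBasis k V
  have hw := orbit_matrixOf_eq_of_lTensor b π.toLinearMap v χ hv
  obtain ⟨p, n, hp, hq⟩ := exists_frob_exp k A
  obtain ⟨a, ha0, ha⟩ := exists_inverse_occurs hN hπ p n hq (isComodMatrix_matrixOf b)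
    (v := fun x => b.repr v x) (fun h0 => hv0 (b.repr.map_eq_zero_iff.mp (Finsupp.ext fun x => congrFun h0 x))) hχ hw
  obtain ⟨U, hUf, haU, hU⟩ := exists_finite_subcomod_le (k := k) (C := A) (V := A) (Set.finite_singleton a)
  letI : HopfRep.Comod k A U := ComodSub.Comod.restr (HopfRep.Comod.regular k A) U hU
  refine ⟨p ^ n, expChar_pow_pos k p n, _, hχ.pow.antipode, hχ.pow.antipode_mul_cancel,
    U, inferInstance, inferInstance, inferInstance, hUf, ⟨a, haU rfl⟩, fun h0 => ha0 (congrArg Subtype.val h0), ?_⟩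
  apply Module.Flat.rTensor_preserves_injective_linearMap U.subtype Subtype.val_injective
  rw [LinearMap.rTensor_tmul, ← LinearMap.comp_apply, LinearMap.rTensor_comp_lTensor, ← LinearMap.lTensor_comp_rTensor,
    LinearMap.comp_apply]
  exact (congrArg (LinearMap.lTensor A π.toLinearMap)
    (ComodSub.restr_coact_coe (HopfRep.Comod.regular k A) U hU ⟨a, haU rfl⟩)).trans ha

include hN hπ in
/-- The ideal of a normal subgroup is generated by the augmentation of a finitely generated Hopf subalgebra. -/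
theorem exists_hopf_subalgebra : ∃ (C : Subalgebra k A), C.FG ∧ SGA3.IsHopfSubalgebra k A C ∧
    RingHom.ker (π : A →+* B) = Ideal.span {c : A | c ∈ C ∧ Coalgebra.counit (R := k) c = 0} := by
  classical
  obtain ⟨V, _, _, _, _, v₀, -, hrep, hfix⟩ := exists_line_stabilizer π hπ (occurs_inverse hN hπ)
  let b0 := Module.finBasis k V
  let X := Fin (Module.finrank k V)
  let M := matrixOf (A := A) b0
  have hM : IsComodMatrix k M := isComodMatrix_matrixOf b0
  let w0 : X → k := fun x => b0.repr v₀ x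
  have hw0 : ∀ x, π (orbit k M w0 x) = w0 x • (1 : B) := orbit_matrixOf_eq_of_lTensor b0 π.toLinearMap v₀ 1 hfix
  let Φ : (X → k) →ₗ[k] (X → B) := LinearMap.pi fun x =>
    ((∑ y, (LinearMap.proj y).smulRight (π (M x y))) - (LinearMap.proj x).smulRight (1 : B))
  have hΦ : ∀ u x, Φ u x = π (orbit k M u x) - u x • (1 : B) := fun u x => by
    simp [Φ, orbit, map_sum]
  let W := LinearMap.ker Φ
  have hW : ∀ u ∈ W, ∀ x, π (orbit k M u x) = u x • (1 : B) := fun u hu x =>
    sub_eq_zero.mp ((hΦ u x).symm.trans (congrFun (LinearMap.mem_ker.mp hu) x))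
  have hmemW : ∀ u, (∀ x, π (orbit k M u x) = u x • (1 : B)) → u ∈ W := fun u h =>
    LinearMap.mem_ker.mpr (funext fun x => (hΦ u x).trans (sub_eq_zero.mpr (h x)))
  have hstable : ∀ u ∈ W, ∀ f : A →ₗ[k] k, (fun y => f (orbit k M u y)) ∈ W := fun u hu f => hmemW _ fun x => by
    obtain ⟨α, hα⟩ := exists_conj hN
    have h := congrArg (fun z => TensorProduct.lid k B (LinearMap.rTensor B f z)) (orbit_eq hM hα (hW u hu) x)
    simp only [map_one, mul_one, map_sum, LinearMap.rTensor_tmul, TensorProduct.lid_tmul] at h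
    rw [← h]
    simp [orbit, map_sum]
  let b := Module.finBasis k W
  obtain ⟨ret, hret⟩ := LinearMap.exists_leftInverse_of_injective W.subtype (Submodule.ker_subtype W)
  let c : (X → k) → Fin (Module.finrank k W) → A := fun u m =>
    ∑ y, b.repr (ret (Pi.single y 1)) m • orbit k M u y
  have hexp : ∀ u ∈ W, ∀ l, orbit k M u l = ∑ m, (b m : X → k) l • c u m := by
    intro u hu l
    refine sub_eq_zero.mp ((Module.forall_dual_apply_eq_zero_iff k _).mp fun f => ?_)
    rw [map_sub, sub_eq_zero]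
    let uf : W := ⟨fun y => f (orbit k M u y), hstable u hu f⟩
    have h1 : ret (uf : X → k) = uf := LinearMap.congr_fun hret uf
    have h2 : f (orbit k M u l) = (∑ m, b.repr uf m • (b m : X → k)) l := by
      have := congrArg (fun z : W => (z : X → k) l) (b.sum_repr uf)
      simp only [Submodule.coe_sum, Submodule.coe_smul] at this
      exact this.symm
    rw [h2, Finset.sum_apply, map_sum]
    refine Finset.sum_congr rfl fun m _ => ?_
    rw [Pi.smul_apply, map_smul, smul_eq_mul, smul_eq_mul, mul_comm]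
    congr 1
    conv_lhs => rw [← h1, pi_eq_sum_univ (uf : X → k), map_sum, map_sum]
    simp only [c, map_sum, map_smul, Finsupp.coe_finsetSum, Finset.sum_apply, Finsupp.smul_apply, smul_eq_mul]
    refine Finset.sum_congr rfl fun y _ => ?_
    rw [mul_comm, show (Pi.single y (1 : k) : X → k) = fun j => if y = j then 1 else 0 from
      funext fun z => by simp [Pi.single_apply, eq_comm]]
  let S : A →ₗ[k] A := HopfAlgebra.antipode k
  let gen : Set A := Set.range fun p : Fin (Module.finrank k W) × X => orbit k M (b p.1 : X → k) p.2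
  let C := Algebra.adjoin k (gen ∪ S '' gen)
  have hgenC : ∀ u ∈ W, ∀ x, orbit k M u x ∈ C ∧ S (orbit k M u x) ∈ C := by
    intro u hu x
    have hlin : orbit k M u x = ∑ m, b.repr (⟨u, hu⟩ : W) m • orbit k M (b m : X → k) x := by
      have := congrArg (fun z : W => (z : X → k)) (b.sum_repr ⟨u, hu⟩)
      simp only [Submodule.coe_sum, Submodule.coe_smul] at this
      conv_lhs => rw [← this]
      simp only [orbit, Finset.sum_apply, Pi.smul_apply, smul_eq_mul, Finset.sum_smul, Finset.smul_sum, mul_smul]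
      exact Finset.sum_comm
    rw [hlin, map_sum]
    refine ⟨Subalgebra.sum_mem _ fun m _ => Subalgebra.smul_mem _ (Algebra.subset_adjoin (s := gen ∪ S '' gen) (Or.inl ⟨(m, x), rfl⟩)) _,
      Subalgebra.sum_mem _ fun m _ => ?_⟩
    rw [map_smul]
    exact Subalgebra.smul_mem _ (Algebra.subset_adjoin (s := gen ∪ S '' gen) (Or.inr ⟨_, ⟨(m, x), rfl⟩, rfl⟩)) _
  have hcC : ∀ u ∈ W, ∀ m, c u m ∈ C ∧ S (c u m) ∈ C := fun u hu m => by
    refine ⟨Subalgebra.sum_mem _ fun y _ => Subalgebra.smul_mem _ (hgenC u hu y).1 _, ?_⟩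
    rw [map_sum]
    refine Subalgebra.sum_mem _ fun y _ => ?_
    rw [map_smul]
    exact Subalgebra.smul_mem _ (hgenC u hu y).2 _
  let R := (Algebra.TensorProduct.map C.val C.val).range
  have htm : ∀ p q : A, p ∈ C → q ∈ C → p ⊗ₜ[k] q ∈ R := fun p q hp hq => ⟨⟨p, hp⟩ ⊗ₜ[k] ⟨q, hq⟩, rfl⟩
  have hgenR : ∀ a ∈ gen, Coalgebra.comul (R := k) a ∈ R ∧ Coalgebra.comul (R := k) (S a) ∈ R := by
    rintro _ ⟨⟨m, x⟩, rfl⟩
    have hc : Coalgebra.comul (R := k) (orbit k M (b m : X → k) x) =
        ∑ j, orbit k M (b j : X → k) x ⊗ₜ[k] c (b m : X → k) j := by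
      rw [comul_orbit hM, Finset.sum_congr rfl fun l _ => by rw [hexp _ (b m).2 l]]
      simp only [TensorProduct.tmul_sum, TensorProduct.tmul_smul, orbit, TensorProduct.sum_tmul, ← TensorProduct.smul_tmul']
      exact Finset.sum_comm
    constructor
    · show Coalgebra.comul (R := k) (orbit k M (b m : X → k) x) ∈ R
      rw [hc]
      exact Subalgebra.sum_mem _ fun j _ => htm _ _ (hgenC _ (b j).2 x).1 (hcC _ (b m).2 j).1
    · show Coalgebra.comul (R := k) (HopfAlgebra.antipode k (orbit k M (b m : X → k) x)) ∈ R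
      rw [comul_antipode, hc, map_sum, map_sum]
      exact Subalgebra.sum_mem _ fun j _ => htm _ _ (hcC _ (b m).2 j).2 (hgenC _ (b j).2 x).2
  have hcomul : C ≤ Subalgebra.comap (Bialgebra.comulAlgHom k A) R := by
    refine Algebra.adjoin_le ?_
    rintro a (ha | ⟨a, ha, rfl⟩)
    · exact (hgenR a ha).1
    · exact (hgenR a ha).2
  have hS : C ≤ Subalgebra.comap (HopfAlgebra.antipodeAlgHom k A) C := by
    refine Algebra.adjoin_le ?_
    rintro a (ha | ⟨a, ha, rfl⟩)
    · exact Algebra.subset_adjoin (s := gen ∪ S '' gen) (Or.inr ⟨a, ha, rfl⟩)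
    · show HopfAlgebra.antipode k (HopfAlgebra.antipode k a) ∈ C
      rw [antipode_antipode_apply]
      exact Algebra.subset_adjoin (s := gen ∪ S '' gen) (Or.inl ha)
  refine ⟨C, ⟨(Set.toFinite (gen ∪ S '' gen)).toFinset, by rw [Set.Finite.coe_toFinset]⟩,
    ⟨fun a ha => ?_, fun a ha => hS ha⟩, ?_⟩
  · obtain ⟨z, hz⟩ := hcomul ha
    exact ⟨z, hz⟩
  refine le_antisymm ?_ (Ideal.span_le.mpr ?_)
  · intro a ha
    set J := Ideal.span {c : A | c ∈ C ∧ Coalgebra.counit (R := k) c = 0}
    refine Ideal.Quotient.eq_zero_iff_mem.mp ?_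
    refine (hrep (A ⧸ J) (Ideal.Quotient.mkₐ k J)).mpr ⟨1, ?_⟩ a ha
    rw [coact_eq_orbit b0 v₀, map_sum]
    simp only [LinearMap.lTensor_tmul]
    conv_rhs => rw [← b0.sum_repr v₀, TensorProduct.sum_tmul]
    refine Finset.sum_congr rfl fun x _ => ?_
    rw [TensorProduct.smul_tmul]
    congr 1
    have hε : Coalgebra.counit (R := k) (orbit k M w0 x - algebraMap k A (w0 x)) = 0 := by
      rw [map_sub, Bialgebra.counit_algebraMap, sub_eq_zero]
      simp [orbit, map_sum, hM.counit]
    have := Ideal.Quotient.eq_zero_iff_mem.mpr (Ideal.subset_span (s := {c : A | c ∈ C ∧ Coalgebra.counit (R := k) c = 0})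
      ⟨Subalgebra.sub_mem _ (hgenC w0 (hmemW w0 hw0) x).1 (C.algebraMap_mem _), hε⟩)
    rw [map_sub, sub_eq_zero] at this
    exact this.trans (((Ideal.Quotient.mkₐ k J).commutes _).trans (Algebra.algebraMap_eq_smul_one _))
  · rintro a ⟨ha, hεa⟩
    show π a = 0
    have key : C ≤ AlgHom.equalizer (π : A →ₐ[k] B) ((Algebra.ofId k B).comp (Bialgebra.counitAlgHom k A)) := by
      refine Algebra.adjoin_le ?_
      have hg : ∀ g ∈ gen, π g = algebraMap k B (Coalgebra.counit (R := k) g) := by
        rintro _ ⟨⟨m, x⟩, rfl⟩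
        show π (orbit k M (b m : X → k) x) = _
        rw [hW _ (b m).2, ← Algebra.algebraMap_eq_smul_one]
        congr 1
        simp [orbit, map_sum, hM.counit]
      rintro g (hg' | ⟨g, hg', rfl⟩)
      · exact hg g hg'
      · show π (HopfAlgebra.antipode k g) = algebraMap k B (Coalgebra.counit (R := k) (HopfAlgebra.antipode k g))
        rw [← GrpSchLib.HopfGalois.antipode_bialgHom, hg g hg', HopfAlgebra.counit_antipode,
          Algebra.algebraMap_eq_smul_one, map_smul, HopfAlgebra.antipode_one]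
    have := key ha
    exact this.trans ((congrArg (algebraMap k B) hεa).trans (map_zero _))

end Groth.Agent.ComodLib.Normal

namespace Groth.Agent.GrpSchLib.NormalQuot

open CategoryTheory CategoryTheory.Limits MonoidalCategory CartesianMonoidalCategory MonObj GrpObj AlgebraicGeometry
open AffineHopf ComodLib.Normal

variable {k : Type u} [Field k]

theorem isNormalPts_of_isNormalHom {A B : Type u} [CommRing A] [CommRing B] [HopfAlgebra k A] [HopfAlgebra k B]
    (π : A →ₐc[k] B) (hN : AlgGrp.IsNormalHom (spMap (π : A →ₐ[k] B))) : IsNormalPts π := by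
  intro R _ _ g n
  obtain ⟨n', hn'⟩ := hN (sp k R) (spMap g)⁻¹ (spMap n)
  obtain ⟨m, rfl⟩ := exists_eq_spMap n'
  refine ⟨m, ?_⟩
  rw [_root_.inv_inv, spMap_comp, spMap_comp, _root_.mul_assoc, inv_mul_eq_iff_eq_mul, spMap_mul, spMap_mul] at hn'
  exact WithConv.ofConv_injective (spMap_injective hn')

/-- Affine groups: a normal subgroup is the kernel of a flat surjection onto an affine group. -/
theorem exists_quot_sp {A B : Type u} [CommRing A] [CommRing B] [HopfAlgebra k A] [HopfAlgebra k B]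
    [Algebra.FiniteType k A] (π : A →ₐc[k] B) (hπ : Function.Surjective π) (hN : IsNormalPts π) :
    ∃ (Q : Over (Spec (CommRingCat.of k))) (_ : GrpObj Q) (q : sp k A ⟶ Q), IsMonHom q ∧ IsAffine Q.left ∧
      LocallyOfFiniteType Q.hom ∧ Flat q.left ∧ Surjective q.left ∧ AlgGrp.IsKernel (spMap (π : A →ₐ[k] B)) q := by
  obtain ⟨C, hfg, hC, hker⟩ := exists_hopf_subalgebra hN hπ
  letI : HopfAlgebra k C := SubHopf.hopf C hC
  haveI : Algebra.FiniteType k C := (Subalgebra.fg_iff_finiteType C).mp hfg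
  let j : C →ₐc[k] A := BialgHom.ofAlgHom C.val rfl (AlgHom.ext fun c => SubHopf.map_comulRes C hC c)
  have hj : Function.Injective j := Subtype.val_injective
  refine ⟨sp k C, inferInstance, spMap (j : C →ₐ[k] A), inferInstance, isAffine_Spec _,
    (HasRingHomProperty.Spec_iff (P := @LocallyOfFiniteType)).mpr (RingHom.finiteType_algebraMap.mpr inferInstance), ?_, ?_, ?_⟩
  · exact (HasRingHomProperty.Spec_iff (P := @Flat)).mpr (GrpSchLib.HopfFlat.flat j hj)
  · exact ⟨GrpSchLib.HopfFlat.surjective_comap j hj⟩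
  let f : CommRingCat.of C ⟶ CommRingCat.of A := CommRingCat.ofHom (j : C →ₐ[k] A).toRingHom
  let g : CommRingCat.of C ⟶ CommRingCat.of k := CommRingCat.ofHom (Bialgebra.counitAlgHom k C).toRingHom
  let inl : CommRingCat.of A ⟶ CommRingCat.of B := CommRingCat.ofHom (π : A →ₐ[k] B).toRingHom
  let inr : CommRingCat.of k ⟶ CommRingCat.of B := CommRingCat.ofHom (algebraMap k B)
  have hπC : ∀ c : C, π (c : A) = algebraMap k B (Coalgebra.counit (R := k) (c : A)) := fun c => by
    have hmem : (c : A) - algebraMap k A (Coalgebra.counit (R := k) (c : A)) ∈ RingHom.ker (π : A →+* B) := by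
      rw [hker]
      exact Ideal.subset_span ⟨Subalgebra.sub_mem _ c.2 (C.algebraMap_mem _), by
        rw [map_sub, Bialgebra.counit_algebraMap, sub_self]⟩
    rw [RingHom.mem_ker, map_sub, sub_eq_zero] at hmem
    exact hmem.trans ((π : A →ₐ[k] B).commutes _)
  have hpo : IsPushout f g inl inr := by
    have hcomm : f ≫ inl = g ≫ inr := CommRingCat.hom_ext (RingHom.ext fun c => hπC c)
    have hle : ∀ s : PushoutCocone f g, RingHom.ker (π : A →+* B) ≤ RingHom.ker s.inl.hom := by
      intro s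
      rw [hker, Ideal.span_le]
      rintro a ⟨ha, hεa⟩
      show s.inl a = 0
      have h := congrArg (fun φ => φ (⟨a, ha⟩ : C)) s.condition
      refine h.trans ?_
      show s.inr (Bialgebra.counitAlgHom k C (⟨a, ha⟩ : C)) = 0
      rw [show Bialgebra.counitAlgHom k C (⟨a, ha⟩ : C) = 0 from hεa, map_zero]
    let d : ∀ s : PushoutCocone f g, CommRingCat.of B ⟶ s.pt := fun s =>
      CommRingCat.ofHom (RingHom.liftOfSurjective (π : A →+* B) hπ ⟨s.inl.hom, hle s⟩)
    have hd : ∀ s (a : A), d s (π a) = s.inl a := fun s a => RingHom.liftOfRightInverse_comp_apply _ _ _ _ a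
    refine ⟨⟨hcomm⟩, ⟨PushoutCocone.IsColimit.mk hcomm d (fun s => ?_) (fun s => ?_) fun s m h1 _ => ?_⟩⟩
    · exact CommRingCat.hom_ext (RingHom.ext fun a => hd s a)
    · refine CommRingCat.hom_ext (RingHom.ext fun r => ?_)
      show d s (algebraMap k B r) = s.inr r
      rw [← (π : A →ₐ[k] B).commutes r]
      refine (hd s _).trans ?_
      have h := congrArg (fun φ => φ (algebraMap k C r)) s.condition
      refine Eq.trans ?_ (h.trans ?_)
      · rfl
      · show s.inr (Bialgebra.counitAlgHom k C (algebraMap k C r)) = _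
        rw [AlgHom.commutes]
        rfl
    · refine CommRingCat.hom_ext (RingHom.ext fun x => ?_)
      obtain ⟨a, rfl⟩ := hπ x
      exact (congrArg (fun φ => φ a) h1).trans (hd s a).symm
  have h : IsPullback (spMap (π : A →ₐ[k] B)).left (Spec.map inr) (spMap (j : C →ₐ[k] A)).left (Spec.map g) :=
    isPullback_SpecMap_of_isPushout _ _ _ _ hpo
  exact IsPullback.of_map (Over.forget _)
    (Over.OverMorphism.ext h.w) h

/-- The quotient of an affine group of finite type by a normal subgroup exists as an affine group. -/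
theorem exists_quot (G N : Over (Spec (CommRingCat.of k))) [GrpObj G] [GrpObj N] [IsAffine G.left]
    [LocallyOfFiniteType G.hom] (i : N ⟶ G) [IsMonHom i] [IsClosedImmersion i.left]
    (hN : AlgGrp.IsNormalHom i) :
    ∃ (Q : Over (Spec (CommRingCat.of k))) (_ : GrpObj Q) (q : G ⟶ Q), IsMonHom q ∧ IsAffine Q.left ∧
      LocallyOfFiniteType Q.hom ∧ Flat q.left ∧ Surjective q.left ∧ AlgGrp.IsKernel i q := by
  haveI : IsAffine N.left := isAffine_of_isAffineHom i.left
  obtain ⟨A, _, _, ⟨eG⟩⟩ := exists_hopf G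
  obtain ⟨B, _, _, ⟨eN⟩⟩ := exists_hopf N
  let a : sp k A ≅ G := (Grp.forget _).mapIso eG
  let b : sp k B ≅ N := (Grp.forget _).mapIso eN
  haveI : IsMonHom a.hom := eG.hom.hom.isMonHom_hom
  haveI : IsMonHom a.inv := eG.inv.hom.isMonHom_hom
  haveI : IsMonHom b.hom := eN.hom.hom.isMonHom_hom
  haveI : IsIso a.hom.left := ((Over.forget _).mapIso a).isIso_hom
  haveI : IsIso a.inv.left := ((Over.forget _).mapIso a).isIso_inv
  haveI : IsIso b.hom.left := ((Over.forget _).mapIso b).isIso_hom
  haveI : Algebra.FiniteType k A := RingHom.finiteType_algebraMap.mp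
    ((HasRingHomProperty.Spec_iff (P := @LocallyOfFiniteType)).mp (by
      show LocallyOfFiniteType (sp k A).hom
      rw [← Over.w a.hom]; infer_instance))
  obtain ⟨π, hπ⟩ := exists_bialgHom (b.hom ≫ i ≫ a.inv)
  have hsurj : Function.Surjective π := surjective_of_isClosedImmersion (π : A →ₐ[k] B) (by
    rw [← hπ, Over.comp_left, Over.comp_left]; infer_instance)
  have hn : AlgGrp.IsNormalHom (spMap (π : A →ₐ[k] B)) := by
    intro T g n
    obtain ⟨n', hn'⟩ := hN T (g ≫ a.hom) (n ≫ b.hom)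
    refine ⟨n' ≫ b.inv, ?_⟩
    rw [← hπ]
    have h := congrArg (· ≫ a.inv) hn'
    simp only [MonObj.mul_comp, GrpObj.inv_comp, Category.assoc, Iso.hom_inv_id, Category.comp_id] at h
    simpa only [Category.assoc, Iso.inv_hom_id_assoc] using h
  obtain ⟨Q, _, q, hq, hQa, hQf, hfl, hs, hk⟩ := exists_quot_sp π hsurj (isNormalPts_of_isNormalHom π hn)
  haveI := hq; haveI := hfl; haveI := hs
  refine ⟨Q, inferInstance, a.inv ≫ q, inferInstance, hQa, hQf, ?_, ?_, ?_⟩
  · rw [Over.comp_left]; infer_instance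
  · rw [Over.comp_left]; infer_instance
  · rw [← hπ] at hk
    exact IsPullback.of_iso hk b a (Iso.refl _) (Iso.refl _) (by simp) (toUnit_unique _ _) (by simp) (by simp)

end Groth.Agent.GrpSchLib.NormalQuot
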