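import Groth.Agent.GrpSchLib.SubgroupEqLocus
import Groth.Prelude.Def_SGA3x

/-!
# Groups of multiplicative type are stable under base change

The splitting covering is pulled back; base change commutes with itself as functors of group objects.
-/

universe u

open CategoryTheory CategoryTheory.Limits MonoidalCategory CartesianMonoidalCategory MonObj AlgebraicGeometry

namespace Groth.Agent.GrpSchLib.MultTypeBC

variable {S : Scheme.{u}}

theorem bc_bc {U U' : Scheme.{u}} (t : U' ⟶ U) (g : U ⟶ S) (H : Over S) [GrpObj H] :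
    Nonempty (Grp.mk (Red.bc t (Red.bc g H)) ≅ Grp.mk (Red.bc (t ≫ g) H)) :=
  ⟨((Functor.mapGrpCompIso).symm ≪≫ Functor.mapGrpNatIso (Over.pullbackComp t g).symm).app (Grp.mk H)⟩

theorem bc_congr {U : Scheme.{u}} {a b : U ⟶ S} (h : a = b) (H : Over S) [GrpObj H] :
    Nonempty (Grp.mk (Red.bc a H) ≅ Grp.mk (Red.bc b H)) := by
  subst h
  exact ⟨Iso.refl _⟩

theorem bc_iso {U : Scheme.{u}} (t : U ⟶ S) {A B : Over S} [GrpObj A] [GrpObj B] (e : Grp.mk A ≅ Grp.mk B) :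
    Nonempty (Grp.mk (Red.bc t A) ≅ Grp.mk (Red.bc t B)) :=
  ⟨(Over.pullback t).mapGrp.mapIso e⟩

theorem bc_DS {U U' : Scheme.{u}} (t : U' ⟶ U) (M : Type) [AddCommGroup M] :
    Nonempty (Grp.mk (Red.bc t (Red.DS U M)) ≅ Grp.mk (Red.DS U' M)) := by
  obtain ⟨e₁⟩ := bc_bc t (Limits.IsTerminal.from specULiftZIsTerminal U) (Red.diag (ULift.{u} ℤ) M)
  obtain ⟨e₂⟩ := bc_congr (specULiftZIsTerminal.hom_ext (t ≫ Limits.IsTerminal.from specULiftZIsTerminal U)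
    (Limits.IsTerminal.from specULiftZIsTerminal U')) (Red.diag (ULift.{u} ℤ) M)
  exact ⟨e₁ ≪≫ e₂⟩

theorem isMultTypeFT_bc {T : Scheme.{u}} (g : T ⟶ S) {H : Over S} [GrpObj H] (hH : SGA3x.IsMultTypeFT H) :
    SGA3x.IsMultTypeFT (Red.bc g H) := by
  obtain ⟨S', f, hflat, hsurj, hqc, hloc⟩ := hH
  have hcf : FpqcDescLib.Covers f :=
    FpqcDescLib.covers_of_hcov f ⟨S', f, 𝟙 _, Category.id_comp _, hsurj, hflat, hqc⟩
  obtain ⟨Z, r, hr⟩ := hcf.pullback g (pullback.fst g f) (pullback.snd g f) (IsPullback.of_hasPullback g f)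
  obtain ⟨hfl, hcov⟩ := SubgroupEqLocus.flat_hcov_of_isCovering hr
  refine ⟨Z, r ≫ pullback.fst g f, hfl, ⟨fun x => ?_⟩, hcov, fun z => ?_⟩
  · obtain ⟨V, hV, hxV, -⟩ := exists_isAffineOpen_mem_and_subset (show x ∈ (⊤ : T.Opens) from trivial)
    obtain ⟨W, -, hW⟩ := hcov V hV
    have hx : x ∈ (V : Set T) := hxV
    rw [← hW] at hx
    obtain ⟨w, -, hw⟩ := hx
    exact ⟨w, hw⟩
  · obtain ⟨U, hzU, M, iM, hfg, ⟨e⟩⟩ := hloc ((r ≫ pullback.snd g f) z)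
    let U' : Z.Opens := (r ≫ pullback.snd g f) ⁻¹ᵁ U
    let l : (U' : Scheme.{u}) ⟶ U := (r ≫ pullback.snd g f) ∣_ U
    have hl : (U'.ι ≫ r ≫ pullback.fst g f) ≫ g = l ≫ U.ι ≫ f := by
      rw [← Category.assoc l, morphismRestrict_ι, Category.assoc, Category.assoc, Category.assoc, Category.assoc,
        pullback.condition]
    obtain ⟨e₁⟩ := bc_bc (U'.ι ≫ r ≫ pullback.fst g f) g H
    obtain ⟨e₂⟩ := bc_congr hl H
    obtain ⟨e₃⟩ := bc_bc l (U.ι ≫ f) H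
    obtain ⟨e₄⟩ := bc_iso l e
    obtain ⟨e₅⟩ := bc_DS l M
    exact ⟨U', hzU, M, iM, hfg, ⟨e₁ ≪≫ e₂ ≪≫ e₃.symm ≪≫ e₄ ≪≫ e₅⟩⟩

end Groth.Agent.GrpSchLib.MultTypeBC
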