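import Groth.Agent.GrpSchLib.HomKernelIdeal
import Groth.Agent.GrpSchLib.MultTypeLft
import Groth.Prelude.Def_SGA3x
import Mathlib.AlgebraicGeometry.Morphisms.FlatDescent

/-!
# Where a homomorphism out of a group of multiplicative type is the unit

`Triv u g`: every point of `H` over a scheme over `g` is sent to the unit by `u`. On a piece of a splitting covering this
is the vanishing of the content of the kernel ideal, which cuts out a clopen subset.
-/

universe u

open CategoryTheory CategoryTheory.Limits MonoidalCategory CartesianMonoidalCategory MonObj AlgebraicGeometry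




namespace Groth.Agent.GrpSchLib.HomUnitLocus

open DSPtsLib (CoordM)

variable {S : Scheme.{u}} {H G : Over S} [GrpObj H] [GrpObj G] (u : H ⟶ G)

/-- Every point of `H` over a scheme over `g` goes to the unit. -/
def Triv {T : Scheme.{u}} (g : T ⟶ S) : Prop :=
  ∀ (Y : Over S) (_ : Y ⟶ Over.mk g) (h : Y ⟶ H), h ≫ u = 1

variable {u}

theorem Triv.comp {T T' : Scheme.{u}} {g : T ⟶ S} (h : Triv u g) (l : T' ⟶ T) : Triv u (l ≫ g) :=
  fun Y q x => h Y (q ≫ Over.homMk l rfl) x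

theorem Triv.of_covers {T T' : Scheme.{u}} {g : T ⟶ S} (l : T' ⟶ T) (hl : FpqcDescLib.Covers l)
    (h : Triv u (l ≫ g)) : Triv u g := by
  intro Y q x
  let P : Over S := Over.mk (pullback.fst q.left l ≫ Y.hom)
  let p : P ⟶ Y := Over.homMk (pullback.fst q.left l) rfl
  have hp : FpqcDescLib.Covers p.left :=
    hl.pullback q.left p.left (pullback.snd q.left l) (IsPullback.of_hasPullback q.left l)
  haveI := hp.over_epi
  rw [← cancel_epi p, MonObj.comp_one, ← Category.assoc]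
  refine h P (Over.homMk (pullback.snd q.left l) ?_) _
  show pullback.snd q.left l ≫ l ≫ g = pullback.fst q.left l ≫ Y.hom
  rw [← Category.assoc, ← pullback.condition, Category.assoc]
  exact congrArg (_ ≫ ·) (Over.w q)

theorem theta_one {T : Scheme.{u}} (g : T ⟶ S) (Y : Over T) :
    DSPtsLib.theta g (1 : Y ⟶ Red.bc g G) = 1 := by
  have h := DSPtsLib.theta_mul g (1 : Y ⟶ Red.bc g G) 1
  rwa [_root_.one_mul, eq_comm, mul_eq_left] at h

theorem theta_comp_map {T : Scheme.{u}} (g : T ⟶ S) (Y : Over T) (a : Y ⟶ Red.bc g H) (v : H ⟶ G) :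
    DSPtsLib.theta g (a ≫ (Over.pullback g).map v) = DSPtsLib.theta g a ≫ v :=
  (Over.mapPullbackAdj g).homEquiv_naturality_right_symm a v

theorem map_eq_one_of_triv {T : Scheme.{u}} {g : T ⟶ S} (h : Triv u g) : (Over.pullback g).map u = 1 := by
  have h1 := theta_comp_map g _ (𝟙 (Red.bc g H)) u
  rw [Category.id_comp, h ((Over.map g).obj (Red.bc g H)) (Over.homMk (Red.bc g H).hom rfl) _, ← theta_one] at h1
  exact (DSPtsLib.theta_bijective g).1 h1

theorem triv_of_map_eq_one {T : Scheme.{u}} {g : T ⟶ S} (h : (Over.pullback g).map u = 1) : Triv u g := by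
  intro Y q x
  let X' : Over T := Over.mk q.left
  let e : Y ⟶ (Over.map g).obj X' := Over.homMk (𝟙 _) (by
    show 𝟙 _ ≫ q.left ≫ g = Y.hom
    rw [Category.id_comp]; exact Over.w q)
  let e' : (Over.map g).obj X' ⟶ Y := Over.homMk (𝟙 _) (by
    show 𝟙 _ ≫ Y.hom = q.left ≫ g
    rw [Category.id_comp]; exact (Over.w q).symm)
  have hee : e ≫ e' = 𝟙 _ := Over.OverMorphism.ext (Category.id_comp _)
  obtain ⟨h₁, hh₁⟩ := (DSPtsLib.theta_bijective (H := H) (Y := X') g).2 (e' ≫ x)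
  have hc := theta_comp_map g X' h₁ u
  erw [h, MonObj.comp_one, theta_one, hh₁] at hc
  have := congrArg (e ≫ ·) hc
  simp only [MonObj.comp_one, Category.assoc] at this
  rw [reassoc_of% hee] at this
  exact this.symm

section Piece

variable [IsMonHom u] [IsSeparated G.hom] {U : Scheme.{u}} (gU : U ⟶ S) {M : Type} [AddCommGroup M]

/-- On an affine piece of a splitting covering, `Triv` is the vanishing of an ideal with the properties of the content. -/
theorem exists_content (e : Grp.mk (Red.bc gU H) ≅ Grp.mk (Red.DS U M)) {V : U.Opens} (hV : IsAffineOpen V) :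
    ∃ c : Ideal Γ(U, V),
      (∀ (T : Type u) [CommRing T] [Algebra Γ(U, V) T],
        Triv u (Spec.map (CommRingCat.ofHom (algebraMap Γ(U, V) T)) ≫ hV.fromSpec ≫ gU) ↔
          ∀ r ∈ c, algebraMap Γ(U, V) T r = 0) ∧
      ((IsLocallyNoetherian S ∧ LocallyOfFiniteType H.hom) ∨ LocallyOfFiniteType G.hom →
        c.FG ∧ ∀ (p : Ideal Γ(U, V)), p.IsPrime → c ≤ p → ∃ r ∉ p, ∀ x ∈ c, r * x = 0) := by
  let ei : Red.bc gU H ≅ Red.DS U M :=
    ⟨e.hom.hom.hom, e.inv.hom.hom, congrArg (fun h => h.hom.hom) e.hom_inv_id,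
      congrArg (fun h => h.hom.hom) e.inv_hom_id⟩
  haveI : IsMonHom ei.inv := e.inv.hom.isMonHom_hom
  let v : Red.DS U M ⟶ Red.bc gU G := ei.inv ≫ (Over.pullback gU).map u
  haveI : IsMonHom v := inferInstanceAs (IsMonHom (ei.inv ≫ (Over.pullback gU).map u))
  obtain ⟨K, k, hkc, hkfp, hk⟩ := HomKernelIdeal.exists_kernel u
  let w : (Red.DS U M).left ⟶ H.left := ei.inv.left ≫ pullback.fst H.hom gU
  have hv : ∀ (Y : Over U) (g : Y ⟶ Red.DS U M),
      DSPtsLib.theta gU (g ≫ v) = DSPtsLib.theta gU (g ≫ ei.inv) ≫ u := fun Y g => by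
    show DSPtsLib.theta gU (g ≫ ei.inv ≫ (Over.pullback gU).map u) = _
    rw [← Category.assoc]
    exact theta_comp_map gU Y _ u
  have hkU : ∀ (Y : Over U) (g : Y ⟶ Red.DS U M),
      g ≫ v = 1 ↔ ∃ l : Y.left ⟶ pullback k w, l ≫ pullback.snd k w = g.left := by
    intro Y g
    rw [← (DSPtsLib.theta_bijective gU).1.eq_iff, hv, theta_one, hk, DSPtsLib.theta_left, Over.comp_left,
      Category.assoc]
    constructor
    · rintro ⟨l, hl⟩
      exact ⟨pullback.lift l g.left hl, pullback.lift_snd _ _ _⟩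
    · rintro ⟨l, hl⟩
      exact ⟨l ≫ pullback.fst k w, by rw [Category.assoc, pullback.condition, ← Category.assoc, hl]⟩
  obtain ⟨I, hIfg, hI⟩ := HomKernelIdeal.exists_ideal hV.fromSpec v (pullback.snd k w) hkU
  have hβ : ∀ r, hV.fromSpec r ∈ V := fun r => by rw [← SetLike.mem_coe, ← hV.range_fromSpec]; exact ⟨r, rfl⟩
  refine ⟨HomKernelIdeal.content I, fun T _ _ => ⟨fun hT => ?_, fun hT Y q x => ?_⟩, fun hfin => ?_⟩
  · refine HomKernelIdeal.content_eq_zero hV.fromSpec v hI ?_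
    apply (DSPtsLib.theta_bijective gU).1
    rw [hv, theta_one]
    refine hT _ (Over.homMk (Spec.map (CommRingCat.ofHom (algebraMap T (MonoidAlgebra T (Multiplicative M))))) ?_) _
    show _ ≫ Spec.map _ ≫ hV.fromSpec ≫ gU = (Spec.map _ ≫ hV.fromSpec) ≫ gU
    rw [← Spec.map_comp_assoc, ← CommRingCat.ofHom_comp, ← IsScalarTower.algebraMap_eq, Category.assoc]
  · refine Over.OverMorphism.ext (Scheme.Cover.hom_ext Y.left.affineCover _ _ fun i => ?_)
    obtain ⟨B, hB⟩ : ∃ B : CommRingCat.{u}, Y.left.affineCover.X i = Spec B := ⟨_, rfl⟩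
    obtain ⟨io, hio⟩ : ∃ io : Spec B ⟶ Y.left, Y.left.affineCover.f i = eqToHom hB ≫ io :=
      ⟨eqToHom hB.symm ≫ Y.left.affineCover.f i, by simp⟩
    rw [hio, Category.assoc, Category.assoc]
    congr 1
    obtain ⟨ψ, hψ⟩ : ∃ ψ, Spec.map ψ = io ≫ q.left := ⟨_, Spec.map_preimage _⟩
    letI : Algebra Γ(U, V) B := (ψ.hom.comp (algebraMap Γ(U, V) T)).toAlgebra
    let j : Spec (CommRingCat.of B) ⟶ U := HomKernelIdeal.str hV.fromSpec B
    let y : (Over.map gU).obj (DSPtsLib.spU j) ⟶ Y := Over.homMk io (by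
      show io ≫ Y.hom = (Spec.map (CommRingCat.ofHom (ψ.hom.comp (algebraMap Γ(U, V) T))) ≫ hV.fromSpec) ≫ gU
      rw [CommRingCat.ofHom_comp, Spec.map_comp, CommRingCat.ofHom_hom, hψ, Category.assoc, Category.assoc,
        Category.assoc, ← Over.w q]
      rfl)
    suffices h : y ≫ x ≫ u = y ≫ 1 from congrArg (fun m => Over.Hom.left m) h
    rw [MonObj.comp_one, ← Category.assoc]
    obtain ⟨a, ha⟩ := (DSPtsLib.theta_bijective gU).2 (y ≫ x)
    obtain ⟨f, hf⟩ := DSPtsLib.exists_eq_pt j (a ≫ ei.hom)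
    have h1 := HomKernelIdeal.eq_one_of_content hV.fromSpec v hI (T := B) (fun r hr => by
      show ψ.hom (algebraMap Γ(U, V) T r) = 0
      rw [hT r hr, map_zero]) f
    rw [← (DSPtsLib.theta_bijective gU).1.eq_iff, hv, theta_one] at h1
    rw [← ha]
    have h2 : a = DSPtsLib.pt j f ≫ ei.inv := by rw [← hf, Category.assoc, ei.hom_inv_id, Category.comp_id]
    rw [h2]
    exact h1
  · haveI := hkfp hfin
    have hc := HomKernelIdeal.content_fg (hIfg inferInstance)
    exact ⟨hc, fun p hp hcp => HomKernelIdeal.exists_notMem_mul_content hV.fromSpec v hI hV hβ hc hcp⟩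

end Piece

theorem covers_field {K K' : Type u} [Field K] [Field K'] (φ : CommRingCat.of K ⟶ CommRingCat.of K') :
    FpqcDescLib.Covers (Spec.map φ) := by
  haveI : Surjective (Spec.map φ) := ⟨fun x => ⟨(⟨⊥, Ideal.bot_prime⟩ : PrimeSpectrum K'), Subsingleton.elim (α := PrimeSpectrum K) _ x⟩⟩
  haveI : Flat (Spec.map φ) := by
    rw [HasRingHomProperty.Spec_iff (P := @Flat)]
    letI := φ.hom.toAlgebra
    show RingHom.Flat (algebraMap K K')
    rw [RingHom.flat_algebraMap_iff]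
    infer_instance
  exact FpqcDescLib.covers_of_isCovering (FpqcDescLib.isCovering_of_quasiCompact _)

theorem triv_iff_of_field {K : Type u} [Field K] (b : Spec (CommRingCat.of K) ⟶ S) :
    Triv u b ↔ Triv u (S.fromSpecResidueField (b (IsLocalRing.closedPoint K))) := by
  conv_lhs => rw [← Scheme.descResidueField_stalkClosedPointTo_fromSpecResidueField K S b]
  exact ⟨fun h => Triv.of_covers _ (covers_field _) h, fun h => h.comp _⟩

theorem isOpen_of_preimage {S' : Scheme.{u}} (f : S' ⟶ S) [Flat f]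
    (hcov : ∀ V : S.Opens, IsAffineOpen V → ∃ W : S'.Opens, IsCompact (W : Set S') ∧ f.base '' (W : Set S') = (V : Set S))
    {s : Set S} (hs : IsOpen (f ⁻¹' s)) : IsOpen s := by
  rw [isOpen_iff_forall_mem_open]
  intro x hx
  obtain ⟨V, hV, hxV, -⟩ := exists_isAffineOpen_mem_and_subset (show x ∈ (⊤ : S.Opens) from trivial)
  obtain ⟨W, hW, hfW⟩ := hcov V hV
  let g : (W : Scheme.{u}) ⟶ (V : Scheme.{u}) := f.resLE V W (fun z hz => by
    show f z ∈ (V : Set S)
    rw [← hfW]; exact ⟨z, hz, rfl⟩)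
  have hg : g ≫ V.ι = W.ι ≫ f := Scheme.Hom.resLE_comp_ι _ _
  have hval : ∀ z, V.ι (g z) = f (W.ι z) := fun z => by
    rw [← Scheme.Hom.comp_apply, hg, Scheme.Hom.comp_apply]
  haveI : Surjective g := ⟨fun y => by
    have hy : (V.ι y : S) ∈ (V : Set S) := y.2
    rw [← hfW] at hy
    obtain ⟨z, hz, hzy⟩ := hy
    exact ⟨⟨z, hz⟩, V.ι.isOpenEmbedding.injective ((hval _).trans hzy)⟩⟩
  haveI : CompactSpace (W : Scheme.{u}) := isCompact_iff_compactSpace.mp hW
  haveI : IsAffine (V : Scheme.{u}) := hV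
  haveI : QuasiCompact g := (HasAffineProperty.iff_of_isAffine (P := @QuasiCompact) (f := g)).mpr inferInstance
  haveI : Flat g := by dsimp only [g]; infer_instance
  refine ⟨s ∩ V, Set.inter_subset_left, ?_, hx, hxV⟩
  have h : IsOpen (V.ι ⁻¹' s) := by
    rw [← (Flat.isQuotientMap_of_surjective g).isOpen_preimage,
      show g ⁻¹' (V.ι ⁻¹' s) = W.ι ⁻¹' (f ⁻¹' s) from Set.ext fun z => by
        show V.ι (g z) ∈ s ↔ f (W.ι z) ∈ s; rw [hval]]
    exact hs.preimage W.ι.continuous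
  have h2 := V.ι.isOpenEmbedding.isOpenMap _ h
  rwa [Set.image_preimage_eq_inter_range, Scheme.Opens.range_ι] at h2

/-- The locus where `u` is the unit is clopen, and `u` is the unit over it. -/
theorem main [IsMonHom u] [IsSeparated G.hom] (hH : SGA3x.IsMultTypeFT H)
    (hfin : (IsLocallyNoetherian S ∧ LocallyOfFiniteType H.hom) ∨ LocallyOfFiniteType G.hom) :
    ∃ U : S.Opens, IsClosed (U : Set S) ∧ (∀ s : S, s ∈ U ↔ Triv u (S.fromSpecResidueField s)) ∧ Triv u U.ι := by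
  classical
  obtain ⟨S', f, hflat, hsurj, hqc, hloc⟩ := hH
  let E : Set S := {s | Triv u (S.fromSpecResidueField s)}
  -- affine pieces
  have hpiece : ∀ s' : S', ∃ (R : CommRingCat.{u}) (j : Spec R ⟶ S') (c : Ideal R), IsOpenImmersion j ∧
      s' ∈ Set.range j ∧
      (∀ (T : Type u) [CommRing T] [Algebra R T],
        Triv u (Spec.map (CommRingCat.ofHom (algebraMap R T)) ≫ j ≫ f) ↔ ∀ r ∈ c, algebraMap R T r = 0) ∧
      ∀ (p : Ideal R), p.IsPrime → c ≤ p → ∃ r ∉ p, ∀ x ∈ c, r * x = 0 := by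
    intro s'
    obtain ⟨U, hsU, M, iM, -, ⟨e⟩⟩ := hloc s'
    obtain ⟨V, hV, hsV, -⟩ := exists_isAffineOpen_mem_and_subset
      (show (⟨s', hsU⟩ : (U : Scheme.{u})) ∈ (⊤ : (U : Scheme.{u}).Opens) from trivial)
    obtain ⟨c, hc, hc'⟩ := exists_content (u := u) (U.ι ≫ f) e hV
    refine ⟨_, hV.fromSpec ≫ U.ι, c, inferInstance, ?_, fun T _ _ => ?_, (hc' hfin).2⟩
    · rw [← SetLike.mem_coe, ← hV.range_fromSpec] at hsV
      obtain ⟨p, hp⟩ := hsV
      exact ⟨p, by rw [Scheme.Hom.comp_apply, hp]; rfl⟩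
    · rw [Category.assoc]
      exact hc T
  choose R j c hj hsO hT hloc' using hpiece
  have hmem : ∀ (s' : S') (p : PrimeSpectrum (R s')),
      f ((j s') p) ∈ E ↔ c s' ≤ p.asIdeal := by
    intro s' p
    let K := p.asIdeal.ResidueField
    let b : Spec (CommRingCat.of K) ⟶ S :=
      Spec.map (CommRingCat.ofHom (algebraMap (R s') K)) ≫ (j s') ≫ f
    have hb : b (IsLocalRing.closedPoint K) = f ((j s') p) := by
      show (Spec.map _ ≫ _ ≫ _) _ = _
      rw [Scheme.Hom.comp_apply, Scheme.Hom.comp_apply]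
      congr 2
      refine PrimeSpectrum.ext ?_
      show Ideal.comap (algebraMap (R s') K) (IsLocalRing.maximalIdeal K) = p.asIdeal
      rw [IsLocalRing.maximalIdeal_eq_bot, ← RingHom.ker_eq_comap_bot, Ideal.ker_algebraMap_residueField]
    show Triv u _ ↔ _
    rw [← hb, ← triv_iff_of_field, hT]
    refine forall₂_congr fun r _ => ?_
    exact Ideal.algebraMap_residueField_eq_zero
  have hopen : ∀ s' : S', IsOpen (PrimeSpectrum.zeroLocus (R := (R s')) (c s')) := fun s' => by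
    rw [isOpen_iff_forall_mem_open]
    intro p hp
    obtain ⟨r, hr, hr'⟩ := hloc' s' p.asIdeal p.isPrime hp
    refine ⟨PrimeSpectrum.basicOpen r, fun q hq x hx => ?_, (PrimeSpectrum.basicOpen r).isOpen, hr⟩
    exact (q.isPrime.mem_or_mem (show r * x ∈ q.asIdeal by rw [hr' x hx]; exact zero_mem _)).resolve_left hq
  have himg : ∀ s' : S', f ⁻¹' E ∩ Set.range (j s') =
      (j s') '' PrimeSpectrum.zeroLocus (R := (R s')) (c s') := by
    intro s'
    ext x
    constructor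
    · rintro ⟨hx, hxO⟩
      obtain ⟨p, rfl⟩ := hxO
      exact ⟨p, (hmem s' p).mp hx, rfl⟩
    · rintro ⟨p, hp, rfl⟩
      exact ⟨(hmem s' p).mpr hp, ⟨p, rfl⟩⟩
  have himg' : ∀ s' : S', f ⁻¹' Eᶜ ∩ Set.range (j s') =
      (j s') '' (PrimeSpectrum.zeroLocus (R := (R s')) (c s'))ᶜ := by
    intro s'
    ext x
    constructor
    · rintro ⟨hx, hxO⟩
      obtain ⟨p, rfl⟩ := hxO
      exact ⟨p, fun hp => hx ((hmem s' p).mpr hp), rfl⟩
    · rintro ⟨p, hp, rfl⟩
      exact ⟨fun hx => hp ((hmem s' p).mp hx), ⟨p, rfl⟩⟩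
  have hcov : ∀ A : Set S', (∀ s', IsOpen (A ∩ Set.range (j s'))) → IsOpen A := fun A hA => by
    rw [show A = ⋃ s', A ∩ Set.range (j s') from Set.ext fun x =>
      ⟨fun hx => Set.mem_iUnion.mpr ⟨x, hx, hsO x⟩, fun hx => (Set.mem_iUnion.mp hx).choose_spec.1⟩]
    exact isOpen_iUnion hA
  have hE : IsOpen E := isOpen_of_preimage f hqc (hcov _ fun s' => by
    rw [himg]; exact (j s').isOpenEmbedding.isOpenMap _ (hopen s'))
  have hE' : IsOpen Eᶜ := isOpen_of_preimage f hqc (hcov _ fun s' => by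
    rw [himg']; exact (j s').isOpenEmbedding.isOpenMap _ (PrimeSpectrum.isClosed_zeroLocus _).isOpen_compl)
  refine ⟨⟨E, hE⟩, ⟨hE'⟩, fun s => Iff.rfl, ?_⟩
  let U0 : S.Opens := ⟨E, hE⟩
  have hcv : FpqcDescLib.Covers f :=
    FpqcDescLib.covers_of_hcov f ⟨S', f, 𝟙 _, Category.id_comp _, hsurj, hflat, hqc⟩
  refine Triv.of_covers (pullback.fst U0.ι f)
    (hcv.pullback U0.ι _ (pullback.snd U0.ι f) (IsPullback.of_hasPullback _ _)) ?_
  intro Y q x
  refine Over.OverMorphism.ext (Scheme.hom_ext_of_forall _ _ fun y => ?_)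
  let ys : S' := (q.left ≫ pullback.snd U0.ι f) y
  obtain ⟨W, hW, hyW, hWle⟩ := exists_isAffineOpen_mem_and_subset
    (show y ∈ (q.left ≫ pullback.snd U0.ι f) ⁻¹ᵁ (j ys).opensRange from hsO ys)
  refine ⟨W, hyW, ?_⟩
  suffices key : hW.fromSpec ≫ (x ≫ u).left = hW.fromSpec ≫ (1 : Y ⟶ G).left by
    rwa [← hW.isoSpec_inv_ι, Category.assoc, Category.assoc, cancel_epi] at key
  have hr : Set.range (hW.fromSpec ≫ q.left ≫ pullback.snd U0.ι f) ⊆ Set.range (j ys) := by
    rintro _ ⟨w, rfl⟩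
    exact hWle (show hW.fromSpec w ∈ W by rw [← SetLike.mem_coe, ← hW.range_fromSpec]; exact ⟨w, rfl⟩)
  obtain ⟨τ, hτ⟩ : ∃ τ, Spec.map τ = IsOpenImmersion.lift (j ys) _ hr := ⟨_, Spec.map_preimage _⟩
  letI : Algebra (R ys) Γ(Y.left, W) := τ.hom.toAlgebra
  have hb : Spec.map (CommRingCat.ofHom (algebraMap (R ys) Γ(Y.left, W))) ≫ (j ys) ≫ f =
      hW.fromSpec ≫ q.left ≫ pullback.fst U0.ι f ≫ U0.ι := by
    show Spec.map τ ≫ _ = _
    rw [hτ, IsOpenImmersion.lift_fac_assoc, Category.assoc, Category.assoc]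
    exact congrArg (fun m => hW.fromSpec ≫ q.left ≫ m) pullback.condition.symm
  have hzero : ∀ r ∈ c ys, algebraMap (R ys) Γ(Y.left, W) r = 0 := by
    intro r hr0
    refine eq_zero_of_localization _ fun J hJ => ?_
    let P : PrimeSpectrum (R ys) := Spec.map τ ⟨J, hJ.isPrime⟩
    have hPE : c ys ≤ P.asIdeal := by
      refine (hmem ys P).mp ?_
      have h := congrArg (fun m : Spec (CommRingCat.of Γ(Y.left, W)) ⟶ S => m ⟨J, hJ.isPrime⟩) hb
      simp only [Scheme.Hom.comp_apply] at h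
      erw [show f ((j ys) P) = _ from h]
      exact (pullback.fst U0.ι f (q.left (hW.fromSpec ⟨J, hJ.isPrime⟩))).2
    obtain ⟨t, ht, ht'⟩ := hloc' ys P.asIdeal P.isPrime hPE
    rw [IsLocalization.map_eq_zero_iff J.primeCompl]
    exact ⟨⟨τ.hom t, ht⟩, by
      show τ.hom t * τ.hom r = 0
      rw [← map_mul, ht' r hr0, map_zero]⟩
  have htriv := (hT ys Γ(Y.left, W)).mpr hzero
  let Y' : Over S := Over.mk (hW.fromSpec ≫ Y.hom)
  let iY : Y' ⟶ Y := Over.homMk hW.fromSpec rfl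
  have h := htriv Y' (Over.homMk (𝟙 _) (by
    show 𝟙 _ ≫ _ = hW.fromSpec ≫ Y.hom
    rw [Category.id_comp, hb]
    exact congrArg (_ ≫ ·) (Over.w q))) (iY ≫ x)
  rw [Category.assoc, ← MonObj.comp_one iY] at h
  exact congrArg (fun m => Over.Hom.left m) h

end Groth.Agent.GrpSchLib.HomUnitLocus
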