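import Groth.Agent.GrpSchLib.Action
import Groth.Prelude.Def_ChGrp
import Mathlib.AlgebraicGeometry.Morphisms.Flat
import Mathlib.AlgebraicGeometry.Sites.Fpqc

/-! The core of a subgroup: the kernel of the action on a homogeneous space. -/

open CategoryTheory AlgebraicGeometry MonoidalCategory CartesianMonoidalCategory Limits MonObj

namespace Groth.Agent.GrpSchLib

universe u

variable {S : Scheme.{u}} {G H Q : Over S} [GrpObj G] [GrpObj H]

theorem comp_orbitMap (a : AlgGrp.Action G Q) (o : 𝟙_ (Over S) ⟶ Q) {T : Over S} (g : T ⟶ G) :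
    g ≫ a.orbitMap o = lift g (toUnit T ≫ o) ≫ a.act := by
  simp only [AlgGrp.Action.orbitMap, ← Category.assoc, comp_lift, Category.comp_id,
    toUnit_unique (g ≫ toUnit G) (toUnit T)]

theorem act_stab_of_isPullback (i : H ⟶ G) (a : AlgGrp.Action G Q) (o : 𝟙_ (Over S) ⟶ Q)
    (hc : IsPullback (fst G H) ((G ◁ i) ≫ μ[G]) (a.orbitMap o) (a.orbitMap o)) {T : Over S} (h : T ⟶ H) :
    lift (h ≫ i) (toUnit T ≫ o) ≫ a.act = toUnit T ≫ o := by
  have e := congrArg (fun f => lift (1 : T ⟶ G) h ≫ f) hc.w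
  simp only [lift_fst_assoc, Category.assoc, lift_whiskerLeft_assoc] at e
  rw [← Category.assoc (lift 1 (h ≫ i)), ← Hom.mul_def, _root_.one_mul, comp_orbitMap, comp_orbitMap,
    act_one] at e
  exact e.symm

/-- The kernel of the action of `G` on `G/H` is the core of `H`. -/
theorem core_of_action_kernel (i : H ⟶ G) (a : AlgGrp.Action G Q) (o : 𝟙_ (Over S) ⟶ Q)
    (hc : IsPullback (fst G H) ((G ◁ i) ≫ μ[G]) (a.orbitMap o) (a.orbitMap o))
    (hlift : ∀ (T : Over S) (x : T ⟶ Q), ∃ (T' : Over S) (c : T' ⟶ T) (g : T' ⟶ G),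
      Epi c ∧ g ≫ a.orbitMap o = c ≫ x)
    {N : Over S} [GrpObj N] (n : N ⟶ G)
    (hN : ∀ (T : Over S) (g : T ⟶ G), (∃ m : T ⟶ N, m ≫ n = g) ↔
      ∀ (T' : Over S) (s : T' ⟶ T) (x : T' ⟶ Q), lift (s ≫ g) x ≫ a.act = x) :
    AlgGrp.IsNormalHom n ∧ (∃ f : N ⟶ H, f ≫ i = n) ∧
      ∀ (N' : Over S) [GrpObj N'] (n' : N' ⟶ G),
        AlgGrp.IsNormalHom n' → (∃ f : N' ⟶ H, f ≫ i = n') → ∃ r : N' ⟶ N, r ≫ n = n' := by
  refine ⟨fun T g m => ?_, ?_, fun N' _ n' hn' ⟨f, hf⟩ => ?_⟩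
  · have hm := (hN T (m ≫ n)).mp ⟨m, rfl⟩
    obtain ⟨m', hm'⟩ := (hN T (g * (m ≫ n) * g⁻¹)).mpr (fun T' s x => by
      rw [comp_mul, comp_mul, GrpObj.comp_inv, ← act_mul, ← act_mul, hm T' s, act_mul,
        mul_inv_cancel, act_one])
    exact ⟨m', hm'.symm⟩
  · have hn := (hN N n).mp ⟨𝟙 N, Category.id_comp _⟩ N (𝟙 N) (toUnit N ≫ o)
    rw [Category.id_comp] at hn
    have e : (1 : N ⟶ G) ≫ a.orbitMap o = n ≫ a.orbitMap o := by
      rw [comp_orbitMap, comp_orbitMap, hn, act_one]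
    refine ⟨hc.lift 1 n e ≫ snd G H, ?_⟩
    have h1 := hc.lift_fst 1 n e
    have h2 := hc.lift_snd 1 n e
    rw [show hc.lift 1 n e = lift (hc.lift 1 n e ≫ fst G H) (hc.lift 1 n e ≫ snd G H) from
      (by rw [← comp_lift, lift_fst_snd, Category.comp_id]), h1, ← Category.assoc,
      lift_whiskerLeft, ← Hom.mul_def, _root_.one_mul] at h2
    exact h2
  · refine (hN N' n').mpr fun T' s x => ?_
    obtain ⟨U, c, g, hc', hg⟩ := hlift T' x
    rw [← cancel_epi c, ← Category.assoc, comp_lift, ← Category.assoc c s n', ← hg, comp_orbitMap]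
    set m : U ⟶ G := (c ≫ s) ≫ n'
    obtain ⟨m', hm'⟩ := hn' U g⁻¹ (c ≫ s)
    rw [inv_inv] at hm'
    have hm2 : m * g = g * ((m' ≫ f) ≫ i) := by
      rw [Category.assoc, hf, ← hm', ← _root_.mul_assoc, ← _root_.mul_assoc, mul_inv_cancel, _root_.one_mul]
    rw [act_mul, hm2, ← act_mul, act_stab_of_isPullback i a o hc]

theorem exists_lift_of_fppfTrivial (o : G ⟶ Q)
    (h : NonAbH1.IsLocallyTrivialFor Scheme.fppfPrecoverage (Over.mk o.left : Over Q.left))
    (T : Over S) (x : T ⟶ Q) :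
    ∃ (T' : Over S) (c : T' ⟶ T) (g : T' ⟶ G), Epi c ∧ g ≫ o = c ≫ x := by
  obtain ⟨R, hR, hsec⟩ := h
  have hR1 := (Presieve.mem_comap_jointlySurjectivePrecoverage_iff Scheme.forget).mp hR.1
  have hex : ∀ t : T.left, ∃ (U : Scheme.{u}) (f : U ⟶ Q.left), R f ∧ x.left.base t ∈ Set.range f.base := by
    intro t
    obtain ⟨U, f, hf, z, hz⟩ := hR1 (x.left.base t)
    exact ⟨U, f, hf, z, hz⟩
  choose U f hf hran using hex
  choose s hs using fun t => hsec (f t) (hf t)
  have : ∀ t, Flat (f t) := fun t => (hR.2 (hf t)).1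
  let P : T.left → Scheme.{u} := fun t => pullback x.left (f t)
  let c : (∐ P) ⟶ T.left := Sigma.desc fun t => pullback.fst x.left (f t)
  let g : (∐ P) ⟶ G.left := Sigma.desc fun t => pullback.snd x.left (f t) ≫ s t
  have hgo : g ≫ o.left = c ≫ x.left := by
    apply Sigma.hom_ext
    intro t
    have hst : s t ≫ o.left = f t := hs t
    simp [c, g, hst, pullback.condition]
  have : Surjective c := by
    refine Surjective.sigmaDesc_of_union_range_eq_univ (Set.eq_univ_iff_forall.mpr fun t => Set.mem_iUnion.mpr ⟨t, ?_⟩)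
    obtain ⟨z, hz⟩ := hran t
    obtain ⟨w, hw, -⟩ := Scheme.Pullback.exists_preimage_pullback t z hz.symm
    exact ⟨w, hw⟩
  have : Flat c := inferInstanceAs (Flat (Sigma.desc _))
  have : Epi c := Flat.epi_of_flat_of_surjective c
  refine ⟨Over.mk (c ≫ T.hom), Over.homMk c rfl, Over.homMk g ?_, ?_, Over.OverMorphism.ext hgo⟩
  · show g ≫ G.hom = c ≫ T.hom
    rw [← Over.w o, reassoc_of% hgo, Over.w x]
  · have : Epi (Over.homMk c rfl : Over.mk (c ≫ T.hom) ⟶ T).left := ‹Epi c›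
    exact Over.epi_of_epi_left _

theorem exists_lift_of_flat (o : G ⟶ Q) [Flat o.left] [Surjective o.left] (T : Over S) (x : T ⟶ Q) :
    ∃ (T' : Over S) (c : T' ⟶ T) (g : T' ⟶ G), Epi c ∧ g ≫ o = c ≫ x := by
  have hgo : pullback.snd x.left o.left ≫ o.left = pullback.fst x.left o.left ≫ x.left := pullback.condition.symm
  have : Epi (pullback.fst x.left o.left) := Flat.epi_of_flat_of_surjective _
  refine ⟨Over.mk (pullback.fst x.left o.left ≫ T.hom), Over.homMk (pullback.fst x.left o.left) rfl,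
    Over.homMk (pullback.snd x.left o.left) ?_, ?_, Over.OverMorphism.ext hgo⟩
  · show pullback.snd x.left o.left ≫ G.hom = pullback.fst x.left o.left ≫ T.hom
    rw [← Over.w o, reassoc_of% hgo, Over.w x]
  · have : Epi (Over.homMk (pullback.fst x.left o.left) rfl : Over.mk (pullback.fst x.left o.left ≫ T.hom) ⟶ T).left :=
      ‹Epi (pullback.fst x.left o.left)›
    exact Over.epi_of_epi_left _

end Groth.Agent.GrpSchLib
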