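import Groth.Prelude.Def_Red2
import Groth.Prelude.Def_GmPts

/-! Points of the additive group over any base are global functions. -/

set_option autoImplicit false

universe u

open CategoryTheory CategoryTheory.Limits MonoidalCategory CartesianMonoidalCategory MonObj AlgebraicGeometry Opposite

noncomputable section

namespace Groth.Agent.GrpSchLib.GaPts

attribute [-instance] ULift.module ULift.module'

open scoped TensorProduct

abbrev Coord : Type u := SymmetricAlgebra (ULift.{u} ℤ) (ULift.{u} ℤ)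

abbrev toBaseZ (S : Scheme.{u}) : S ⟶ GmPts.baseZ.{u} := Limits.IsTerminal.from specULiftZIsTerminal S

abbrev gen : Coord.{u} := SymmetricAlgebra.ι (ULift.{u} ℤ) (ULift.{u} ℤ) (ULift.up 1)

abbrev coordIso : Γ(Spec (CommRingCat.of Coord.{u}), ⊤) ≅ CommRingCat.of Coord.{u} :=
  Scheme.ΓSpecIso (CommRingCat.of Coord.{u})

theorem ringHom_ext {R : Type u} [CommRing R] {f g : Coord.{u} →+* R} (h : f gen = g gen) : f = g := by
  letI : Algebra (ULift.{u} ℤ) R := ((algebraMap ℤ R).comp ULift.ringEquiv.toRingHom).toAlgebra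
  have hr : ∀ (φ : Coord.{u} →+* R) (r : ULift.{u} ℤ), φ (algebraMap _ _ r) = algebraMap _ _ r := fun φ r =>
    RingHom.congr_fun (f := φ.comp (algebraMap _ _)) (RingHom.ext fun s => by
      obtain ⟨n⟩ := s
      exact RingHom.congr_fun (RingHom.ext_int ((φ.comp (algebraMap (ULift.{u} ℤ) Coord.{u})).comp
        ULift.ringEquiv.symm.toRingHom) ((algebraMap (ULift.{u} ℤ) R).comp ULift.ringEquiv.symm.toRingHom)) n) r
  let f' : Coord.{u} →ₐ[ULift.{u} ℤ] R := ⟨f, hr f⟩
  let g' : Coord.{u} →ₐ[ULift.{u} ℤ] R := ⟨g, hr g⟩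
  have : f' = g' := by
    refine SymmetricAlgebra.algHom_ext (LinearMap.ext_ring ?_)
    exact h
  exact RingHom.ext fun x => AlgHom.congr_fun this x

def ringHomOfFn {R : Type u} [CommRing R] (v : R) : Coord.{u} →+* R :=
  letI : Algebra (ULift.{u} ℤ) R := ((algebraMap ℤ R).comp ULift.ringEquiv.toRingHom).toAlgebra
  (SymmetricAlgebra.lift (LinearMap.toSpanSingleton (ULift.{u} ℤ) R v)).toRingHom

theorem ringHomOfFn_gen {R : Type u} [CommRing R] (v : R) : ringHomOfFn v gen = v := by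
  let : Algebra (ULift.{u} ℤ) R := ((algebraMap ℤ R).comp ULift.ringEquiv.toRingHom).toAlgebra
  refine (SymmetricAlgebra.lift_ι_apply _ _).trans ?_
  exact LinearMap.toSpanSingleton_apply_one _ _ _

variable {S : Scheme.{u}} {T T' : Over S}

abbrev specPt (x : T ⟶ Red.Ga S) : T.left ⟶ Spec (CommRingCat.of Coord.{u}) :=
  x.left ≫ pullback.fst Red.GaZ.hom (toBaseZ S)

theorem gaFn_eq (x : T ⟶ Red.Ga S) : Red.gaFn x = (specPt x).appTop (coordIso.inv gen) := rfl

theorem gaFn_comp (g : T' ⟶ T) (x : T ⟶ Red.Ga S) : Red.gaFn (g ≫ x) = g.left.appTop (Red.gaFn x) := by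
  rw [gaFn_eq, gaFn_eq, specPt, Over.comp_left, Category.assoc]
  exact GmPts.appTop_comp_apply _ _ _

def specOfFn (v : Γ(T.left, ⊤)) : T.left ⟶ Spec (CommRingCat.of Coord.{u}) :=
  ΓSpec.adjunction.homEquiv T.left (op (CommRingCat.of Coord.{u})) (CommRingCat.ofHom (ringHomOfFn v)).op

def ptOfFn (v : Γ(T.left, ⊤)) : T ⟶ Red.Ga S :=
  Over.homMk (pullback.lift (specOfFn v) T.hom (specULiftZIsTerminal.hom_ext _ _)) (pullback.lift_snd _ _ _)

theorem gaFn_ptOfFn (v : Γ(T.left, ⊤)) : Red.gaFn (ptOfFn v : T ⟶ Red.Ga S) = v := by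
  rw [gaFn_eq, show specPt (ptOfFn v : T ⟶ Red.Ga S) = specOfFn v from pullback.lift_fst _ _ _]
  exact (DFunLike.congr_fun (congrArg CommRingCat.Hom.hom
    (ΓSpecIso_inv_ΓSpec_adjunction_homEquiv (CommRingCat.ofHom (ringHomOfFn v)))) gen).trans (ringHomOfFn_gen v)

theorem gaFn_injective : Function.Injective (fun x : T ⟶ Red.Ga S => Red.gaFn x) := by
  intro x y h
  ext1
  refine pullback.hom_ext ?_ ((Over.w x).trans (Over.w y).symm)
  apply (ΓSpec.adjunction.homEquiv T.left (op (CommRingCat.of Coord.{u}))).symm.injective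
  rw [Adjunction.homEquiv_counit, Adjunction.homEquiv_counit, ΓSpec.adjunction_counit_app]
  change (coordIso.inv ≫ (specPt x).appTop).op = (coordIso.inv ≫ (specPt y).appTop).op
  congr 1
  ext1
  exact ringHom_ext h

def pairPt (x y : T ⟶ Red.Ga S) : T.left ⟶ (Red.GaZ.{u} ⊗ Red.GaZ.{u}).left :=
  (lift x y).left ≫ (Functor.LaxMonoidal.μ (Over.pullback (toBaseZ S)) Red.GaZ Red.GaZ).left ≫
    pullback.fst (Red.GaZ.{u} ⊗ Red.GaZ).hom (toBaseZ S)

theorem specPt_mul (x y : T ⟶ Red.Ga S) : specPt (x * y) = pairPt x y ≫ μ[Red.GaZ.{u}].left := by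
  have h1 : x * y = lift x y ≫ μ[Red.Ga S] := Hom.mul_def x y
  have h2 : μ[Red.Ga S] = Functor.LaxMonoidal.μ (Over.pullback (toBaseZ S)) Red.GaZ Red.GaZ ≫
      (Over.pullback (toBaseZ S)).map μ[Red.GaZ.{u}] := rfl
  have h3 := GmPts.pullback_map_left_fst (S := S) μ[Red.GaZ.{u}]
  rw [specPt, pairPt, h1, h2, Over.comp_left, Over.comp_left]
  simp only [Category.assoc]
  exact _ ≫= (_ ≫= h3)

theorem pairPt_fst (x y : T ⟶ Red.Ga S) : pairPt x y ≫ pullback.fst Red.GaZ.hom Red.GaZ.hom = specPt x := by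
  rw [pairPt, Category.assoc, Category.assoc, Over.μ_pullback_left_fst_fst, ← Category.assoc]
  congr 1
  rw [← Over.fst_left, ← Over.comp_left, lift_fst]

theorem pairPt_snd (x y : T ⟶ Red.Ga S) : pairPt x y ≫ pullback.snd Red.GaZ.hom Red.GaZ.hom = specPt y := by
  rw [pairPt, Category.assoc, Category.assoc, Over.μ_pullback_left_fst_snd, ← Category.assoc]
  congr 1
  rw [← Over.snd_left, ← Over.comp_left, lift_snd]

theorem specMap_appTop {R : CommRingCat.{u}} (φ : CommRingCat.of Coord.{u} ⟶ R) (c : Coord.{u}) :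
    (Spec.map φ).appTop (coordIso.inv c) = (Scheme.ΓSpecIso R).inv (φ c) :=
  (congrArg (fun ψ => (ConcreteCategory.hom ψ) c) (Scheme.ΓSpecIso_inv_naturality φ)).symm

theorem comul_gen : Coalgebra.comul (R := ULift.{u} ℤ) (gen.{u}) =
    gen ⊗ₜ[ULift.{u} ℤ] (1 : Coord.{u}) + (1 : Coord.{u}) ⊗ₜ[ULift.{u} ℤ] gen := by
  simp

theorem mul_appTop_gen : μ[Red.GaZ.{u}].left.appTop (coordIso.inv gen.{u}) =
    (pullback.fst Red.GaZ.hom Red.GaZ.hom).appTop (coordIso.inv gen) +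
      (pullback.snd Red.GaZ.hom Red.GaZ.hom).appTop (coordIso.inv gen) := by
  let CC : Type u := TensorProduct (ULift.{u} ℤ) Coord.{u} Coord.{u}
  let iL : Coord.{u} →+* CC := Algebra.TensorProduct.includeLeftRingHom
  let iR : Coord.{u} →+* CC :=
    ((Algebra.TensorProduct.includeRight (R := ULift.{u} ℤ) (A := Coord.{u}) (B := Coord.{u}) :
      Coord.{u} →ₐ[ULift.{u} ℤ] CC) : Coord.{u} →+* CC)
  let fC : Spec (CommRingCat.of Coord.{u}) ⟶ GmPts.baseZ.{u} :=
    Spec.map (CommRingCat.ofHom (algebraMap (ULift.{u} ℤ) Coord.{u}))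
  let psi := pullbackSpecIso (ULift.{u} ℤ) Coord.{u} Coord.{u}
  have hfst : pullback.fst fC fC = psi.hom ≫ Spec.map (CommRingCat.ofHom (R := Coord.{u}) (S := CC) iL) := by
    rw [← pullbackSpecIso_inv_fst, Iso.hom_inv_id_assoc]
  have hsnd : pullback.snd fC fC = psi.hom ≫ Spec.map (CommRingCat.ofHom (R := Coord.{u}) (S := CC) iR) := by
    rw [← pullbackSpecIso_inv_snd, Iso.hom_inv_id_assoc]
  have hc : (CommRingCat.ofHom (R := Coord.{u}) (S := CC) ((Bialgebra.comulAlgHom (ULift.{u} ℤ) Coord.{u} : Coord.{u} →ₐ[ULift.{u} ℤ] CC) : Coord.{u} →+* CC)) gen.{u} =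
      (CommRingCat.ofHom (R := Coord.{u}) (S := CC) iL) gen.{u} +
        (CommRingCat.ofHom (R := Coord.{u}) (S := CC) iR) gen.{u} := comul_gen
  change (psi.hom ≫ Spec.map (CommRingCat.ofHom (R := Coord.{u}) (S := CC) ((Bialgebra.comulAlgHom (ULift.{u} ℤ) Coord.{u} : Coord.{u} →ₐ[ULift.{u} ℤ] CC) : Coord.{u} →+* CC))).appTop
      (coordIso.inv gen) =
    (pullback.fst fC fC).appTop (coordIso.inv gen) + (pullback.snd fC fC).appTop (coordIso.inv gen)
  rw [hfst, hsnd, GmPts.appTop_comp_apply, GmPts.appTop_comp_apply, GmPts.appTop_comp_apply,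
    specMap_appTop, specMap_appTop, specMap_appTop, hc, map_add, map_add]

theorem gaFn_mul (x y : T ⟶ Red.Ga S) : Red.gaFn (x * y) = Red.gaFn x + Red.gaFn y := by
  rw [gaFn_eq, specPt_mul]
  refine (GmPts.appTop_comp_apply _ _ _).trans ?_
  refine ((congrArg (pairPt x y).appTop.hom mul_appTop_gen).trans (map_add _ _ _)).trans ?_
  refine congrArg₂ (· + ·) ?_ ?_
  · refine (GmPts.appTop_comp_apply _ _ _).symm.trans ?_
    rw [pairPt_fst]; rfl
  · refine (GmPts.appTop_comp_apply _ _ _).symm.trans ?_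
    rw [pairPt_snd]; rfl

theorem gaFn_one : Red.gaFn (1 : T ⟶ Red.Ga S) = 0 := by
  have h := gaFn_mul (1 : T ⟶ Red.Ga S) 1
  exact left_eq_add.mp ((congrArg Red.gaFn (_root_.one_mul (1 : T ⟶ Red.Ga S))).symm.trans h)

end Groth.Agent.GrpSchLib.GaPts
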