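import Mathlib.Algebra.MonoidAlgebra.Basic
import Mathlib.Algebra.MonoidAlgebra.MapDomain
import Mathlib.LinearAlgebra.TensorProduct.Basic
import Mathlib.RingTheory.Flat.Domain
import Mathlib.RingTheory.Nakayama
import Mathlib.RingTheory.LocalRing.ResidueField.Ideal
import Mathlib.GroupTheory.Finiteness
import Mathlib.RingTheory.Ideal.Quotient.Operations

/-!
# Subgroups of diagonalisable groups which are trivial near a point

An ideal `I` of `R[M]` defining a subgroup: if the subgroup is trivial over the residue field at a prime `p`, it is trivial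
over a basic open neighbourhood of `p`. Over a field this is the independence of distinct group-like elements, over a ring
it is Nakayama.
-/

universe u

open scoped TensorProduct

namespace Groth.Agent.GrpSchLib.DiagSubgroupTrivial

section Indep

/-- Distinct elements with `Δ g = g ⊗ g` are independent. -/
theorem linearIndepOn_of_comul {K B : Type*} [Field K] [CommRing B] [Algebra K B] (Δ : B →ₗ[K] B ⊗[K] B)
    (s : Finset B) (hs : ∀ x ∈ s, Δ x = x ⊗ₜ[K] x) (hne : ∀ x ∈ s, IsUnit x) (hB : Nontrivial B) :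
    LinearIndepOn K id (s : Set B) := by
  classical
  induction s using Finset.induction with
  | empty => simp
  | insert a s has ih =>
    have hih := ih (fun x hx => hs x (Finset.mem_insert_of_mem hx)) (fun x hx => hne x (Finset.mem_insert_of_mem hx))
    rw [Finset.coe_insert, linearIndepOn_insert (by exact_mod_cast has)]
    refine ⟨hih, fun ha => ?_⟩
    rw [Set.image_id, Submodule.mem_span_finset] at ha
    obtain ⟨c, -, hc⟩ := ha
    simp only [id_eq] at hc
    have ht := hih.tmul_of_isDomain hih
    simp_rw [← Finset.coe_product, linearIndepOn_finset_iffₛ, id] at ht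
    have key := calc
          ∑ x ∈ s, ∑ y ∈ s, (if x = y then c x else 0) • x ⊗ₜ[K] y
      _ = ∑ x ∈ s, c x • x ⊗ₜ[K] x := by simp
      _ = Δ a := by
        rw [← hc, map_sum]
        exact Finset.sum_congr rfl fun x hx => by rw [map_smul, hs x (Finset.mem_insert_of_mem hx)]
      _ = a ⊗ₜ[K] a := hs a (Finset.mem_insert_self a s)
      _ = ∑ x ∈ s, ∑ y ∈ s, (c x * c y) • x ⊗ₜ[K] y := by
        simp only [← hc, TensorProduct.sum_tmul, TensorProduct.tmul_sum]
        rw [Finset.sum_comm]
        refine Finset.sum_congr rfl fun x _ => Finset.sum_congr rfl fun y _ => ?_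
        rw [TensorProduct.smul_tmul_smul]
    simp_rw [← Finset.sum_product'] at key
    apply ht at key
    have ha0 : a ≠ 0 := (hne a (Finset.mem_insert_self a s)).ne_zero
    obtain ⟨x, hx, hcx⟩ : ∃ x ∈ s, c x ≠ 0 := by
      by_contra! h
      exact ha0 (by rw [← hc]; exact Finset.sum_eq_zero fun x hx => by rw [h x hx, zero_smul])
    have hcy : ∀ y ∈ s, y ≠ x → c y = 0 := fun y hy hyx => by
      simpa [hyx, hcx] using (key (y, x) (by simp [hy, hx])).symm
    have h1 : c x = 1 := by
      have := key (x, x) (by simp [hx])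
      simp only [if_pos] at this
      exact (mul_left_cancel₀ hcx (by rw [_root_.mul_one]; exact this)).symm
    rw [Finset.sum_eq_single x (fun y hy hyx => by rw [hcy y hy hyx, zero_smul]) (fun h => absurd hx h), h1,
      one_smul] at hc
    exact has (hc ▸ hx)

end Indep

section Rel

variable {R : Type u} [CommRing R] {M : Type} [AddCommGroup M] (I : Ideal (MonoidAlgebra R (Multiplicative M)))

/-- Change of the coefficients. -/
noncomputable abbrev chg (T : Type u) [CommRing T] [Algebra R T] :
    MonoidAlgebra R (Multiplicative M) →+* MonoidAlgebra T (Multiplicative M) :=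
  MonoidAlgebra.mapRingHom (Multiplicative M) (algebraMap R T)

variable {I}

theorem exists_lift_residue (p : Ideal R) [p.IsPrime] (z : MonoidAlgebra p.ResidueField (Multiplicative M)) :
    ∃ r ∉ p, ∃ a : MonoidAlgebra R (Multiplicative M),
      algebraMap R (MonoidAlgebra p.ResidueField (Multiplicative M)) r * z = chg p.ResidueField a := by
  classical
  induction z using MonoidAlgebra.induction_on with
  | of m =>
    refine ⟨1, (Ideal.ne_top_iff_one p).mp Ideal.IsPrime.ne_top', MonoidAlgebra.single m 1, ?_⟩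
    rw [map_one, _root_.one_mul, MonoidAlgebra.of_apply, MonoidAlgebra.mapRingHom_single, map_one]
  | add z w hz hw =>
    obtain ⟨r, hr, a, ha⟩ := hz
    obtain ⟨s, hs, b, hb⟩ := hw
    refine ⟨r * s, fun h => (Ideal.IsPrime.mem_or_mem inferInstance h).elim hr hs,
      algebraMap R _ s * a + algebraMap R _ r * b, ?_⟩
    have hc : ∀ t : R, chg p.ResidueField (algebraMap R (MonoidAlgebra R (Multiplicative M)) t) =
        algebraMap R (MonoidAlgebra p.ResidueField (Multiplicative M)) t := fun t =>
      MonoidAlgebra.mapRingHom_single _ _ _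
    rw [map_add, map_mul, map_mul, map_mul, hc, hc, ← ha, ← hb]
    ring
  | smul k z hz =>
    obtain ⟨r, hr, a, ha⟩ := hz
    obtain ⟨x, y, hy, rfl⟩ := IsFractionRing.div_surjective (R ⧸ p) k
    obtain ⟨x, rfl⟩ := Ideal.Quotient.mk_surjective x
    obtain ⟨y, rfl⟩ := Ideal.Quotient.mk_surjective y
    have hyp : y ∉ p := fun h => nonZeroDivisors.ne_zero hy (Ideal.Quotient.eq_zero_iff_mem.mpr h)
    have hy0 : algebraMap R p.ResidueField y ≠ 0 := fun h => hyp (Ideal.algebraMap_residueField_eq_zero.mp h)
    refine ⟨y * r, fun h => (Ideal.IsPrime.mem_or_mem inferInstance h).elim hyp hr, algebraMap R _ x * a, ?_⟩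
    have hc : ∀ t : R, chg p.ResidueField (algebraMap R (MonoidAlgebra R (Multiplicative M)) t) =
        algebraMap R (MonoidAlgebra p.ResidueField (Multiplicative M)) t := fun t =>
      MonoidAlgebra.mapRingHom_single _ _ _
    rw [map_mul (chg p.ResidueField), hc, ← ha, map_mul, Algebra.smul_def]
    have he : ∀ t : R, algebraMap R (MonoidAlgebra p.ResidueField (Multiplicative M)) t =
        algebraMap p.ResidueField _ (algebraMap R p.ResidueField t) := fun t =>
      IsScalarTower.algebraMap_apply R p.ResidueField _ t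
    simp only [he]
    have hq : ∀ t : R, algebraMap (R ⧸ p) p.ResidueField (Ideal.Quotient.mk p t) = algebraMap R p.ResidueField t :=
      fun t => (IsScalarTower.algebraMap_apply R (R ⧸ p) p.ResidueField t).symm
    rw [hq, hq]
    calc _ = algebraMap p.ResidueField (MonoidAlgebra p.ResidueField (Multiplicative M))
          (algebraMap R p.ResidueField y * (algebraMap R p.ResidueField x / algebraMap R p.ResidueField y)) *
            (algebraMap p.ResidueField _ (algebraMap R p.ResidueField r) * z) := by rw [map_mul]; ring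
      _ = _ := by rw [mul_div_cancel₀ _ hy0]

theorem exists_rel (p : Ideal R) [p.IsPrime] (a : MonoidAlgebra R (Multiplicative M))
    (ha : chg p.ResidueField a ∈ I.map (chg p.ResidueField)) :
    ∃ r ∉ p, ∃ y : MonoidAlgebra R (Multiplicative M), (∀ n, y.coeff n ∈ p) ∧ algebraMap R _ r * a - y ∈ I := by
  suffices ∀ z ∈ I.map (chg p.ResidueField), ∃ r ∉ p, ∃ x ∈ I,
      algebraMap R (MonoidAlgebra p.ResidueField (Multiplicative M)) r * z = chg p.ResidueField x by
    obtain ⟨r, hr, x, hx, h⟩ := this _ ha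
    refine ⟨r, hr, algebraMap R _ r * a - x, fun n => ?_, by simpa using hx⟩
    have h0 : chg p.ResidueField (algebraMap R _ r * a - x) = 0 := by
      rw [map_sub, map_mul, ← h, sub_eq_zero]
      congr 1
      exact MonoidAlgebra.mapRingHom_single _ _ _
    have := congrArg (fun z : MonoidAlgebra p.ResidueField (Multiplicative M) => z.coeff n) h0
    simp only [MonoidAlgebra.coeff_mapRingHom] at this
    exact Ideal.algebraMap_residueField_eq_zero.mp (by simpa using this)
  intro z hz
  refine Submodule.span_induction (p := fun z _ => ∃ r ∉ p, ∃ x ∈ I,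
    algebraMap R (MonoidAlgebra p.ResidueField (Multiplicative M)) r * z = chg p.ResidueField x) ?_ ?_ ?_ ?_ hz
  · rintro _ ⟨x, hx, rfl⟩
    exact ⟨1, (Ideal.ne_top_iff_one p).mp Ideal.IsPrime.ne_top', x, hx, by rw [map_one, _root_.one_mul]⟩
  · exact ⟨1, (Ideal.ne_top_iff_one p).mp Ideal.IsPrime.ne_top', 0, zero_mem _, by simp⟩
  · rintro z w - - ⟨r, hr, x, hx, h⟩ ⟨s, hs, y, hy, h'⟩
    refine ⟨r * s, fun h => (Ideal.IsPrime.mem_or_mem inferInstance h).elim hr hs,
      algebraMap R _ s * x + algebraMap R _ r * y, add_mem (I.mul_mem_left _ hx) (I.mul_mem_left _ hy), ?_⟩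
    have hc : ∀ t : R, chg p.ResidueField (algebraMap R (MonoidAlgebra R (Multiplicative M)) t) =
        algebraMap R (MonoidAlgebra p.ResidueField (Multiplicative M)) t := fun t =>
      MonoidAlgebra.mapRingHom_single _ _ _
    rw [map_add, map_mul, map_mul, map_mul, hc, hc, ← h, ← h']
    ring
  · rintro e z - ⟨r, hr, x, hx, h⟩
    obtain ⟨s, hs, b, hb⟩ := exists_lift_residue p e
    refine ⟨s * r, fun h => (Ideal.IsPrime.mem_or_mem inferInstance h).elim hs hr, b * x, I.mul_mem_left _ hx, ?_⟩
    rw [map_mul (chg p.ResidueField), ← hb, ← h, map_mul, smul_eq_mul]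
    ring

end Rel

section Abstract

open Algebra.TensorProduct in
/-- A relation of the bad kind forces a group-like element to be one. -/
theorem eq_one_of_rel {K B : Type u} [Field K] [CommRing B] [Algebra K B] {N : Type} [CommGroup N] (g : N →* B)
    (Δ : B →ₐ[K] B ⊗[K] B) (hΔ : ∀ n, Δ (g n) = g n ⊗ₜ[K] g n) (m : N) (r : K) (s : Finset N) (y : N → K)
    (hrel : r • g m = r • (1 : B) + ∑ n ∈ s, y n • g n) (hd : ∀ E ⊆ s, r - ∑ n ∈ E, y n ≠ 0) : g m = 1 := by
  classical
  by_contra hgm
  haveI hB : Nontrivial B := ⟨⟨g m, 1, hgm⟩⟩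
  let t : Finset B := insert (g m) (insert 1 (s.image g))
  have ht : ∀ x ∈ t, ∃ n, g n = x := fun x hx => by
    simp only [t, Finset.mem_insert, Finset.mem_image] at hx
    rcases hx with rfl | rfl | ⟨n, -, rfl⟩
    exacts [⟨m, rfl⟩, ⟨1, map_one g⟩, ⟨n, rfl⟩]
  have hli : LinearIndepOn K id (t : Set B) := linearIndepOn_of_comul Δ.toLinearMap t
    (fun x hx => by obtain ⟨n, rfl⟩ := ht x hx; exact hΔ n)
    (fun x hx => by obtain ⟨n, rfl⟩ := ht x hx; exact (Group.isUnit n).map g) hB
  let c : B → K := fun x => (if x = g m then r else 0) - (if x = 1 then r else 0) - ∑ n ∈ s.filter (fun n => g n = x), y n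
  have h2 : ∑ x ∈ t, ∑ n ∈ s.filter (fun n => g n = x), y n • x = ∑ n ∈ s, y n • g n := by
    rw [← Finset.sum_fiberwise_of_maps_to (g := g) (t := t) (fun n hn => by
      simp only [t, Finset.mem_insert, Finset.mem_image]; exact Or.inr (Or.inr ⟨n, hn, rfl⟩))]
    exact Finset.sum_congr rfl fun x _ => Finset.sum_congr rfl fun n hn => by rw [(Finset.mem_filter.mp hn).2]
  have hsum : ∑ x ∈ t, c x • x = 0 := by
    simp only [c, sub_smul, Finset.sum_sub_distrib, ite_smul, zero_smul, Finset.sum_ite_eq', Finset.sum_smul]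
    rw [if_pos (by simp [t]), if_pos (by simp [t]), h2, hrel]
    abel
  have hc := linearIndepOn_finset_iff.mp hli c (by simpa using hsum) (g m) (by simp [t])
  simp only [c, if_pos, if_neg hgm, sub_zero] at hc
  exact hd _ (Finset.filter_subset _ _) hc

/-- Nakayama: a subgroup which is trivial at every maximal ideal is trivial. -/
theorem eq_one_of_local {T B : Type u} [CommRing T] [CommRing B] [Algebra T B] {N : Type} [CommGroup N] (g : N →* B)
    (G₀ : Finset N) (hG₀ : Subgroup.closure (G₀ : Set N) = ⊤) (ε : B →ₐ[T] T) (hε : ∀ n, ε (g n) = 1)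
    (hloc : ∀ (q : Ideal B), q.IsMaximal → ∀ n ∈ G₀, ∃ (s : T) (z : N →₀ T), s ∉ q.comap (algebraMap T B) ∧
      (∀ k, z k ∈ q.comap (algebraMap T B)) ∧ s • (g n - 1) = z.sum fun k v => v • g k)
    (m : N) : g m = 1 := by
  classical
  let J : Submodule B B := Submodule.span B ↑(G₀.image fun n => g n - 1)
  have hmem : ∀ k, g k - 1 ∈ J := fun k => by
    let P : Subgroup N :=
      { carrier := {k | g k - 1 ∈ J}
        one_mem' := by simp
        mul_mem' := fun {a b} ha hb => by
          show g (a * b) - 1 ∈ J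
          rw [map_mul, show g a * g b - 1 = g a • (g b - 1) + (g a - 1) by rw [smul_eq_mul]; ring]
          exact add_mem (J.smul_mem _ hb) ha
        inv_mem' := fun {a} ha => by
          show g a⁻¹ - 1 ∈ J
          have h : g a⁻¹ - 1 = (-g a⁻¹) • (g a - 1) := by
            have : g a⁻¹ * g a = 1 := by rw [← map_mul, inv_mul_cancel, map_one]
            rw [smul_eq_mul, mul_sub, neg_mul, this, _root_.mul_one]
            ring
          rw [h]
          exact J.smul_mem _ ha }
    exact ((Subgroup.closure_le P).mpr (fun k hk =>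
      show g k - 1 ∈ J from Submodule.subset_span (Finset.mem_coe.mpr (Finset.mem_image_of_mem _ hk))))
      (hG₀ ▸ Subgroup.mem_top k)
  suffices hJ : J = ⊥ by
    have h := hmem m
    rwa [hJ, Submodule.mem_bot, sub_eq_zero] at h
  by_contra hJ
  have hann : J.annihilator ≠ ⊤ := fun h => hJ (by
    rw [eq_bot_iff]; intro x hx
    simpa using Submodule.mem_annihilator.mp (h ▸ Submodule.mem_top : (1 : B) ∈ J.annihilator) x hx)
  obtain ⟨q, hq, hqle⟩ := Ideal.exists_le_maximal _ hann
  have hle : J ≤ q • J := Submodule.span_le.mpr fun x hx => by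
    obtain ⟨n, hn, rfl⟩ := Finset.mem_image.mp (Finset.mem_coe.mp hx)
    obtain ⟨s, z, hs, hz, hsz⟩ := hloc q hq n hn
    obtain ⟨w, hw⟩ : ∃ w, 1 - w * algebraMap T B s ∈ q := by
      letI := Ideal.Quotient.field q
      obtain ⟨w, hw⟩ := Ideal.Quotient.mk_surjective ((Ideal.Quotient.mk q (algebraMap T B s))⁻¹)
      refine ⟨w, ?_⟩
      rw [← Ideal.Quotient.eq_zero_iff_mem, map_sub, map_one, map_mul, hw,
        inv_mul_cancel₀ (fun h => hs (Ideal.mem_comap.mpr (Ideal.Quotient.eq_zero_iff_mem.mp h))), sub_self]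
    have hsum : z.sum (fun _ v => v) = 0 := by
      have := congrArg ε hsz
      rw [map_smul, map_sub, hε, map_one, sub_self, smul_zero, Finsupp.sum, map_sum] at this
      simpa [hε, Finsupp.sum] using this.symm
    have hzJ : s • (g n - 1) ∈ q • J := by
      have : s • (g n - 1) = ∑ k ∈ z.support, (algebraMap T B (z k)) • (g k - 1) := by
        have h0 : ∑ k ∈ z.support, algebraMap T B (z k) = 0 := by
          rw [← map_sum]; exact (congrArg (algebraMap T B) hsum).trans (map_zero _)
        rw [hsz]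
        simp only [smul_eq_mul, mul_sub, _root_.mul_one, Finset.sum_sub_distrib, h0, sub_zero]
        exact Finset.sum_congr rfl fun k _ => Algebra.smul_def _ _
      rw [this]
      exact sum_mem fun k _ => Submodule.smul_mem_smul (hz k) (hmem k)
    have hdec : g n - 1 = (1 - w * algebraMap T B s) • (g n - 1) + w • (s • (g n - 1)) := by
      simp only [smul_eq_mul, Algebra.smul_def]; ring
    show g n - 1 ∈ q • J
    rw [hdec]
    exact add_mem (Submodule.smul_mem_smul hw (hmem n)) (Submodule.smul_mem _ _ hzJ)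
  obtain ⟨e, he, hez⟩ := Submodule.exists_sub_one_mem_and_smul_eq_zero_of_fg_of_le_smul q J ⟨_, rfl⟩ hle
  exact hq.ne_top ((Ideal.eq_top_iff_one _).mpr (by
    simpa using sub_mem (hqle (Submodule.mem_annihilator.mpr hez)) he))

end Abstract

section Main

variable {R : Type u} [CommRing R] {M : Type} [AddCommGroup M] {I : Ideal (MonoidAlgebra R (Multiplicative M))}

/-- The closure property of the kernel. -/
def IsSubgroup (I : Ideal (MonoidAlgebra R (Multiplicative M))) : Prop :=
  I ≤ RingHom.ker (MonoidAlgebra.lift R R (Multiplicative M) 1) ∧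
  ∀ (T : Type u) [CommRing T] [Algebra R T] (f g h : Multiplicative M →* T), (∀ m, h m = f m * g m) →
    I ≤ RingHom.ker (MonoidAlgebra.lift R T (Multiplicative M) f) →
    I ≤ RingHom.ker (MonoidAlgebra.lift R T (Multiplicative M) g) →
      I ≤ RingHom.ker (MonoidAlgebra.lift R T (Multiplicative M) h)

theorem lift_chg {T B : Type u} [CommRing T] [Algebra R T] [CommRing B] [Algebra R B] [Algebra T B]
    [IsScalarTower R T B] (g : Multiplicative M →* B) (a : MonoidAlgebra R (Multiplicative M)) :
    MonoidAlgebra.lift T B (Multiplicative M) g (chg T a) = MonoidAlgebra.lift R B (Multiplicative M) g a := by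
  induction a using MonoidAlgebra.induction_on with
  | of n => rw [MonoidAlgebra.of_apply, MonoidAlgebra.mapRingHom_single, map_one]; simp
  | add a b ha hb => rw [map_add, map_add, map_add, ha, hb]
  | smul s a ha =>
    rw [Algebra.smul_def, map_mul, map_mul, map_mul, ha,
      show chg T (algebraMap R _ s) = algebraMap T _ (algebraMap R T s) from MonoidAlgebra.mapRingHom_single _ _ _,
      AlgHom.commutes, AlgHom.commutes, ← IsScalarTower.algebraMap_apply]

theorem exists_comul (hI : IsSubgroup I) {T B : Type u} [CommRing T] [Algebra R T] [CommRing B] [Algebra R B]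
    [Algebra T B] [IsScalarTower R T B] (g : Multiplicative M →* B)
    (hgI : I ≤ RingHom.ker (MonoidAlgebra.lift R B (Multiplicative M) g))
    (hlift : ∀ (C : Type u) [CommRing C] [Algebra R C] [Algebra T C] [IsScalarTower R T C] (f : Multiplicative M →* C),
      I ≤ RingHom.ker (MonoidAlgebra.lift R C (Multiplicative M) f) → ∃ φ : B →ₐ[T] C, ∀ n, φ (g n) = f n) :
    ∃ Δ : B →ₐ[T] B ⊗[T] B, ∀ n, Δ (g n) = g n ⊗ₜ[T] g n := by
  let jl : B →ₐ[T] B ⊗[T] B := Algebra.TensorProduct.includeLeft
  let jr : B →ₐ[T] B ⊗[T] B := Algebra.TensorProduct.includeRight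
  let g2 : Multiplicative M →* B ⊗[T] B :=
    { toFun := fun n => g n ⊗ₜ[T] g n
      map_one' := by rw [map_one]; rfl
      map_mul' := fun a b => by rw [map_mul, Algebra.TensorProduct.tmul_mul_tmul] }
  have hkey : ∀ (φ : B →ₐ[T] B ⊗[T] B), I ≤ RingHom.ker
      (MonoidAlgebra.lift R (B ⊗[T] B) (Multiplicative M) ((φ : B →* B ⊗[T] B).comp g)) := by
    intro φ a ha
    rw [RingHom.mem_ker, show MonoidAlgebra.lift R (B ⊗[T] B) (Multiplicative M) ((φ : B →* B ⊗[T] B).comp g) =
      (φ.restrictScalars R).comp (MonoidAlgebra.lift R B (Multiplicative M) g) from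
        MonoidAlgebra.algHom_ext (fun n => by simp) (Subsingleton.elim _ _), AlgHom.comp_apply,
      show MonoidAlgebra.lift R B (Multiplicative M) g a = 0 from hgI ha, map_zero]
  exact hlift (B ⊗[T] B) g2 (hI.2 (B ⊗[T] B) _ _ g2 (fun n => by
    show g n ⊗ₜ[T] g n = jl (g n) * jr (g n)
    simp [jl, jr, Algebra.TensorProduct.tmul_mul_tmul]) (hkey jl) (hkey jr))

/-- The generic point of the subgroup over `T`. -/
theorem exists_generic (hI : IsSubgroup I) (T : Type u) [CommRing T] [Algebra R T] :
    ∃ (B : Type u) (_ : CommRing B) (_ : Algebra R B) (_ : Algebra T B) (_ : IsScalarTower R T B)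
      (g : Multiplicative M →* B), I ≤ RingHom.ker (MonoidAlgebra.lift R B (Multiplicative M) g) ∧
      (∀ m, g m = 1 → MonoidAlgebra.single m 1 - 1 ∈ I.map (chg T)) ∧
      (∃ ε : B →ₐ[T] T, ∀ n, ε (g n) = 1) ∧
      ∃ Δ : B →ₐ[T] B ⊗[T] B, ∀ n, Δ (g n) = g n ⊗ₜ[T] g n := by
  let J := I.map (chg T)
  let B := MonoidAlgebra T (Multiplicative M) ⧸ J
  letI : Algebra R B := Ideal.Quotient.algebra R
  haveI : IsScalarTower R T B := Ideal.Quotient.isScalarTower R T J
  let g : Multiplicative M →* B :=
    ((Ideal.Quotient.mk J) : MonoidAlgebra T (Multiplicative M) →* B).comp (MonoidAlgebra.of T (Multiplicative M))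
  have hπ : ∀ c, MonoidAlgebra.lift T B (Multiplicative M) g c = Ideal.Quotient.mk J c := fun c => by
    rw [show MonoidAlgebra.lift T B (Multiplicative M) g = Ideal.Quotient.mkₐ T J from
      MonoidAlgebra.algHom_ext (fun n => by
        rw [MonoidAlgebra.lift_single, one_smul]; rfl) (Subsingleton.elim _ _)]
    rfl
  have hgI : I ≤ RingHom.ker (MonoidAlgebra.lift R B (Multiplicative M) g) := fun a ha => by
    rw [RingHom.mem_ker, ← lift_chg (T := T), hπ, Ideal.Quotient.eq_zero_iff_mem]
    exact Ideal.mem_map_of_mem _ ha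
  have hker : ∀ {C : Type u} [CommRing C] [Algebra R C] [Algebra T C] [IsScalarTower R T C]
      (f : Multiplicative M →* C), I ≤ RingHom.ker (MonoidAlgebra.lift R C (Multiplicative M) f) →
      ∀ a ∈ J, MonoidAlgebra.lift T C (Multiplicative M) f a = 0 := by
    intro C _ _ _ _ f hf a ha
    refine (Ideal.map_le_iff_le_comap.mpr ?_ : J ≤ RingHom.ker (MonoidAlgebra.lift T C (Multiplicative M) f)) ha
    intro b hb
    rw [Ideal.mem_comap, RingHom.mem_ker, lift_chg]
    exact hf hb
  refine ⟨B, inferInstance, inferInstance, inferInstance, inferInstance, g, hgI, fun m hm => ?_, ?_, ?_⟩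
  · rw [← Ideal.Quotient.eq_zero_iff_mem, map_sub, map_one, sub_eq_zero]
    exact hm
  · have h1 : I ≤ RingHom.ker (MonoidAlgebra.lift R T (Multiplicative M) 1) := fun a ha => by
      rw [RingHom.mem_ker]
      have : MonoidAlgebra.lift R T (Multiplicative M) 1 =
          (Algebra.ofId R T).comp (MonoidAlgebra.lift R R (Multiplicative M) 1) :=
        MonoidAlgebra.algHom_ext (fun n => by simp) (Subsingleton.elim _ _)
      rw [this, AlgHom.comp_apply, show MonoidAlgebra.lift R R (Multiplicative M) 1 a = 0 from hI.1 ha, map_zero]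
    refine ⟨Ideal.Quotient.liftₐ J (MonoidAlgebra.lift T T (Multiplicative M) 1) (hker 1 h1), fun n => ?_⟩
    show MonoidAlgebra.lift T T (Multiplicative M) 1 (MonoidAlgebra.single n 1) = 1
    simp
  · refine exists_comul hI g hgI fun C _ _ _ _ f hf => ?_
    refine ⟨Ideal.Quotient.liftₐ J (MonoidAlgebra.lift T C (Multiplicative M) f) (hker f hf), fun n => ?_⟩
    show MonoidAlgebra.lift T C (Multiplicative M) f (MonoidAlgebra.single n 1) = _
    rw [MonoidAlgebra.lift_single, one_smul]

theorem rel_eval {B : Type u} [CommRing B] [Algebra R B] (g : Multiplicative M →* B)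
    (hg : I ≤ RingHom.ker (MonoidAlgebra.lift R B (Multiplicative M) g)) {m : Multiplicative M} {r : R}
    {y : MonoidAlgebra R (Multiplicative M)} (hrel : algebraMap R _ r * (MonoidAlgebra.single m 1 - 1) - y ∈ I) :
    r • g m = r • (1 : B) + ∑ n ∈ y.coeff.support, y.coeff n • g n := by
  have h0 : MonoidAlgebra.lift R B (Multiplicative M) g
      (algebraMap R _ r * (MonoidAlgebra.single m 1 - 1) - y) = 0 := hg hrel
  rw [map_sub, map_mul, AlgHom.commutes, map_sub, map_one, MonoidAlgebra.lift_single, one_smul, sub_eq_zero,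
    MonoidAlgebra.lift_apply, ← Algebra.smul_def, smul_sub, sub_eq_iff_eq_add] at h0
  rw [h0, add_comm]
  rfl

/-- Over a field the subgroup is trivial if no combination of the bad kind vanishes. -/
theorem field_case (hI : IsSubgroup I) {K : Type u} [Field K] [Algebra R K] (m : Multiplicative M) (r : R)
    (y : MonoidAlgebra R (Multiplicative M))
    (hrel : algebraMap R _ r * (MonoidAlgebra.single m 1 - 1) - y ∈ I)
    (hd : ∀ E ⊆ y.coeff.support, algebraMap R K (r - ∑ n ∈ E, y.coeff n) ≠ 0) :
    MonoidAlgebra.single m 1 - 1 ∈ I.map (chg K) := by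
  obtain ⟨B, _, _, _, _, g, hg, hgm, -, Δ, hΔ⟩ := exists_generic hI K
  refine hgm m (eq_one_of_rel g Δ hΔ m (algebraMap R K r) y.coeff.support (fun n => algebraMap R K (y.coeff n)) ?_ ?_)
  · simp only [algebraMap_smul]
    exact rel_eval g hg hrel
  · intro E hE
    rw [← map_sum, ← map_sub]
    exact hd E hE

/-- The subgroup is trivial near a prime at whose residue field it is trivial. -/
theorem main (hI : IsSubgroup I) [AddGroup.FG M] (p : Ideal R) [p.IsPrime]
    (hp : ∀ m : Multiplicative M, MonoidAlgebra.single m 1 - 1 ∈ I.map (chg p.ResidueField)) :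
    ∃ d ∉ p, ∀ (T : Type u) [CommRing T] [Algebra R T], IsUnit (algebraMap R T d) →
      ∀ m : Multiplicative M, MonoidAlgebra.single m 1 - 1 ∈ I.map (chg T) := by
  classical
  haveI : Group.FG (Multiplicative M) := GroupFG.iff_add_fg.mpr ‹_›
  obtain ⟨G₀, hG₀⟩ := (Group.FG.out : (⊤ : Subgroup (Multiplicative M)).FG)
  have hrel : ∀ m : Multiplicative M, ∃ r ∉ p, ∃ y : MonoidAlgebra R (Multiplicative M),
      (∀ n, y.coeff n ∈ p) ∧ algebraMap R _ r * (MonoidAlgebra.single m 1 - 1) - y ∈ I := fun m =>
    exists_rel p _ (by rw [map_sub, map_one, MonoidAlgebra.mapRingHom_single, map_one]; exact hp m)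
  choose r hr y hy hrel using hrel
  refine ⟨∏ m ∈ G₀, ∏ E ∈ (y m).coeff.support.powerset, (r m - ∑ n ∈ E, (y m).coeff n), fun h => ?_, ?_⟩
  · obtain ⟨m, -, hm⟩ := Ideal.IsPrime.prod_mem_iff.mp h
    obtain ⟨E, -, hE⟩ := Ideal.IsPrime.prod_mem_iff.mp hm
    exact hr m (by simpa using add_mem hE (sum_mem fun n (_ : n ∈ E) => hy m n))
  intro T _ _ hd m
  obtain ⟨B, _, _, _, _, g, hg, hgm, ⟨ε, hε⟩, -⟩ := exists_generic hI T
  refine hgm m (eq_one_of_local g G₀ hG₀ ε hε (fun q hq n hn => ?_) m)
  let t : Ideal T := q.comap (algebraMap T B)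
  haveI : t.IsPrime := inferInstanceAs (q.comap (algebraMap T B)).IsPrime
  have hK : MonoidAlgebra.single n 1 - 1 ∈ I.map (chg (R := R) (M := M) t.ResidueField) := by
    refine field_case hI n (r n) (y n) (hrel n) fun E hE => ?_
    rw [IsScalarTower.algebraMap_apply R T t.ResidueField, Ne, Ideal.algebraMap_residueField_eq_zero]
    intro h
    refine Ideal.IsPrime.ne_top' (Ideal.eq_top_of_isUnit_mem t ?_ hd)
    rw [map_prod]
    refine Ideal.prod_mem _ hn ?_
    rw [map_prod]
    exact Ideal.prod_mem _ (Finset.mem_powerset.mpr hE) h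
  have hcomp : (chg (R := T) t.ResidueField).comp (chg (R := R) T) = chg (R := R) (M := M) t.ResidueField := by
    unfold chg
    rw [← MonoidAlgebra.mapRingHom_comp, ← IsScalarTower.algebraMap_eq R T t.ResidueField]
  obtain ⟨s, hs, z, hz, hsz⟩ := exists_rel (I := I.map (chg T)) t (MonoidAlgebra.single n 1 - 1) (by
    rw [Ideal.map_map, hcomp, map_sub, map_one, MonoidAlgebra.mapRingHom_single, map_one]
    exact hK)
  refine ⟨s, z.coeff, hs, hz, ?_⟩
  have hgT : I.map (chg T) ≤ RingHom.ker (MonoidAlgebra.lift T B (Multiplicative M) g) :=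
    Ideal.map_le_iff_le_comap.mpr fun b hb => by
      rw [Ideal.mem_comap, RingHom.mem_ker, lift_chg]
      exact hg hb
  rw [smul_sub, rel_eval (I := I.map (chg T)) g hgT hsz, add_sub_cancel_left]
  rfl

end Main

end Groth.Agent.GrpSchLib.DiagSubgroupTrivial
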