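import Groth.Agent.GrpSchLib.HomUnitLocus
import Groth.Agent.GrpSchLib.DiagSubgroupTrivial

/-!
# Where a homomorphism out of a group of multiplicative type is a monomorphism
-/

universe u

open CategoryTheory CategoryTheory.Limits MonoidalCategory CartesianMonoidalCategory MonObj AlgebraicGeometry

namespace Groth.Agent.GrpSchLib.HomMonoLocus

open DSPtsLib (CoordM)
open DiagSubgroupTrivial (chg IsSubgroup)

variable {S : Scheme.{u}} {H G : Over S} [GrpObj H] [GrpObj G] (u : H ⟶ G)

/-- The points of the kernel over schemes over `g` are units. -/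
def Inj {T : Scheme.{u}} (g : T ⟶ S) : Prop :=
  ∀ (Y : Over S) (_ : Y ⟶ Over.mk g) (h : Y ⟶ H), h ≫ u = 1 → h = 1

variable {u}

theorem Inj.comp {T T' : Scheme.{u}} {g : T ⟶ S} (h : Inj u g) (l : T' ⟶ T) : Inj u (l ≫ g) :=
  fun Y q x hx => h Y (q ≫ Over.homMk l rfl) x hx

theorem Inj.of_covers {T T' : Scheme.{u}} {g : T ⟶ S} (l : T' ⟶ T) (hl : FpqcDescLib.Covers l)
    (h : Inj u (l ≫ g)) : Inj u g := by
  intro Y q x hx
  let P : Over S := Over.mk (pullback.fst q.left l ≫ Y.hom)
  let p : P ⟶ Y := Over.homMk (pullback.fst q.left l) rfl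
  have hp : FpqcDescLib.Covers p.left :=
    hl.pullback q.left p.left (pullback.snd q.left l) (IsPullback.of_hasPullback q.left l)
  haveI := hp.over_epi
  rw [← cancel_epi p, MonObj.comp_one]
  refine h P (Over.homMk (pullback.snd q.left l) ?_) _ (by rw [Category.assoc, hx, MonObj.comp_one])
  show pullback.snd q.left l ≫ l ≫ g = pullback.fst q.left l ≫ Y.hom
  rw [← Category.assoc, ← pullback.condition, Category.assoc]
  exact congrArg (_ ≫ ·) (Over.w q)

theorem mono_of_inj [IsMonHom u] {T : Scheme.{u}} {g : T ⟶ S} (h : Inj u g) :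
    Mono ((Over.pullback g).map u).left := by
  suffices Mono ((Over.pullback g).map u) from Over.mono_left_of_mono _
  refine ⟨fun {X} a b hab => (DSPtsLib.theta_bijective g).1 ?_⟩
  have h1 : (DSPtsLib.theta g a * (DSPtsLib.theta g b)⁻¹) ≫ u = 1 := by
    rw [MonObj.mul_comp, GrpObj.inv_comp, ← HomUnitLocus.theta_comp_map, ← HomUnitLocus.theta_comp_map]
    erw [hab]
    exact mul_inv_cancel _
  exact mul_inv_eq_one.mp (h _ (Over.homMk X.hom rfl) _ h1)

theorem inj_of_mono [IsMonHom u] {T : Scheme.{u}} {g : T ⟶ S} (h : Mono ((Over.pullback g).map u).left) :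
    Inj u g := by
  haveI : Mono ((Over.pullback g).map u) := Over.mono_of_mono_left _
  intro Y q x hx
  let X' : Over T := Over.mk q.left
  let e : Y ⟶ (Over.map g).obj X' := Over.homMk (𝟙 _) (by
    show 𝟙 _ ≫ q.left ≫ g = Y.hom
    rw [Category.id_comp]; exact Over.w q)
  let e' : (Over.map g).obj X' ⟶ Y := Over.homMk (𝟙 _) (by
    show 𝟙 _ ≫ Y.hom = q.left ≫ g
    rw [Category.id_comp]; exact (Over.w q).symm)
  have hee : e ≫ e' = 𝟙 _ := Over.OverMorphism.ext (Category.id_comp _)
  obtain ⟨h₁, hh₁⟩ := (DSPtsLib.theta_bijective (H := H) (Y := X') g).2 (e' ≫ x)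
  have hc : h₁ ≫ (Over.pullback g).map u = (1 : X' ⟶ Red.bc g H) ≫ (Over.pullback g).map u := by
    apply (DSPtsLib.theta_bijective g).1
    rw [HomUnitLocus.theta_comp_map, HomUnitLocus.theta_comp_map, hh₁, Category.assoc, hx, MonObj.comp_one,
      HomUnitLocus.theta_one, MonObj.one_comp]
  rw [cancel_mono] at hc
  rw [hc, HomUnitLocus.theta_one] at hh₁
  have := congrArg (e ≫ ·) hh₁
  simp only [MonObj.comp_one] at this
  rw [reassoc_of% hee] at this
  exact this.symm

theorem pt_injective {U : Scheme.{u}} {M : Type} [AddCommGroup M] {B : Type u} [CommRing B]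
    (j : Spec (CommRingCat.of B) ⟶ U) {f f' : CoordM.{u} M →+* B} (h : DSPtsLib.pt j f = DSPtsLib.pt j f') :
    f = f' := by
  have := congrArg (fun x => (Over.Hom.left x) ≫ pullback.fst _ _) h
  simp only [DSPtsLib.pt_fst] at this
  exact congrArg CommRingCat.Hom.hom (Spec.map_injective this)

/-- A character of the coordinate ring from a monoid map. -/
noncomputable def charOf {R T : Type u} [CommRing R] [CommRing T] [Algebra R T] {M : Type} [AddCommGroup M]
    (f : Multiplicative M →* T) : CoordM.{u} M →+* T :=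
  (MonoidAlgebra.lift R T (Multiplicative M) f).toRingHom.comp (DiagActionRigid.univPt R (AddMonoidHom.id M))

theorem charOf_single {R T : Type u} [CommRing R] [CommRing T] [Algebra R T] {M : Type} [AddCommGroup M]
    (f : Multiplicative M →* T) (m : Multiplicative M) :
    charOf (R := R) f (MonoidAlgebra.single m 1) = f m := by
  show MonoidAlgebra.lift R T (Multiplicative M) f
    (DiagActionRigid.univPt R (AddMonoidHom.id M) (MonoidAlgebra.single m 1)) = f m
  rw [DiagActionRigid.univPt_single, MonoidAlgebra.lift_single, one_smul]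
  rfl

theorem evalChar_charOf {R T : Type u} [CommRing R] [CommRing T] [Algebra R T] {M : Type} [AddCommGroup M]
    (f : Multiplicative M →* T) :
    HomKernelIdeal.evalChar (R := R) (charOf (R := R) f) = MonoidAlgebra.lift R T (Multiplicative M) f :=
  MonoidAlgebra.algHom_ext (fun m => by rw [HomKernelIdeal.evalChar_single, charOf_single]; simp)
    (Subsingleton.elim _ _)

theorem pt_one {U : Scheme.{u}} {M : Type} [AddCommGroup M] {B : Type u} [CommRing B]
    (j : Spec (CommRingCat.of B) ⟶ U) (f : CoordM.{u} M →+* B)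
    (hf : ∀ m, f (MonoidAlgebra.single m 1) = 1) : DSPtsLib.pt j f = 1 := by
  have h := congrArg (fun z => (DSPtsLib.pt j f)⁻¹ * z) (DSPtsLib.pt_mul j f f f (fun m => by rw [hf, _root_.one_mul]))
  simpa only [inv_mul_cancel_left, inv_mul_cancel] using h

section Piece

variable [IsMonHom u] [IsSeparated G.hom] {U : Scheme.{u}} (gU : U ⟶ S) {M : Type} [AddCommGroup M]

theorem exists_inj_away [AddGroup.FG M] (e : Grp.mk (Red.bc gU H) ≅ Grp.mk (Red.DS U M)) {V : U.Opens}
    (hV : IsAffineOpen V) (p : Ideal Γ(U, V)) [p.IsPrime]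
    (hp : Inj u (Spec.map (CommRingCat.ofHom (algebraMap Γ(U, V) p.ResidueField)) ≫ hV.fromSpec ≫ gU)) :
    ∃ d ∉ p, Inj u (Spec.map (CommRingCat.ofHom (algebraMap Γ(U, V) (Localization.Away d))) ≫ hV.fromSpec ≫ gU) := by
  let ei : Red.bc gU H ≅ Red.DS U M :=
    ⟨e.hom.hom.hom, e.inv.hom.hom, congrArg (fun h => h.hom.hom) e.hom_inv_id,
      congrArg (fun h => h.hom.hom) e.inv_hom_id⟩
  haveI : IsMonHom ei.inv := e.inv.hom.isMonHom_hom
  let v : Red.DS U M ⟶ Red.bc gU G := ei.inv ≫ (Over.pullback gU).map u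
  haveI : IsMonHom v := inferInstanceAs (IsMonHom (ei.inv ≫ (Over.pullback gU).map u))
  obtain ⟨K, k, hkc, -, hk⟩ := HomKernelIdeal.exists_kernel u
  let w : (Red.DS U M).left ⟶ H.left := ei.inv.left ≫ pullback.fst H.hom gU
  have hv : ∀ (Y : Over U) (g : Y ⟶ Red.DS U M),
      DSPtsLib.theta gU (g ≫ v) = DSPtsLib.theta gU (g ≫ ei.inv) ≫ u := fun Y g => by
    show DSPtsLib.theta gU (g ≫ ei.inv ≫ (Over.pullback gU).map u) = _
    rw [← Category.assoc]
    exact HomUnitLocus.theta_comp_map gU Y _ u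
  have hkU : ∀ (Y : Over U) (g : Y ⟶ Red.DS U M),
      g ≫ v = 1 ↔ ∃ l : Y.left ⟶ pullback k w, l ≫ pullback.snd k w = g.left := by
    intro Y g
    rw [← (DSPtsLib.theta_bijective gU).1.eq_iff, hv, HomUnitLocus.theta_one, hk, DSPtsLib.theta_left, Over.comp_left,
      Category.assoc]
    constructor
    · rintro ⟨l, hl⟩
      exact ⟨pullback.lift l g.left hl, pullback.lift_snd _ _ _⟩
    · rintro ⟨l, hl⟩
      exact ⟨l ≫ pullback.fst k w, by rw [Category.assoc, pullback.condition, ← Category.assoc, hl]⟩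
  obtain ⟨I, -, hI⟩ := HomKernelIdeal.exists_ideal hV.fromSpec v (pullback.snd k w) hkU
  let R : Type u := Γ(U, V)
  have hI' : ∀ (T : Type u) [CommRing T] [Algebra R T] (f : Multiplicative M →* T),
      DSPtsLib.pt (HomKernelIdeal.str hV.fromSpec T) (charOf (R := R) f) ≫ v = 1 ↔
        I ≤ RingHom.ker (MonoidAlgebra.lift R T (Multiplicative M) f) := fun T _ _ f => by
    rw [hI, evalChar_charOf]
  have hsub : IsSubgroup I := by
    refine ⟨(hI' R 1).mp ?_, fun T _ _ f g h hh hf hg => (hI' T h).mp ?_⟩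
    · rw [pt_one _ _ (fun m => by rw [charOf_single]; rfl), MonObj.one_comp]
    · rw [← DSPtsLib.pt_mul _ (charOf (R := R) f) (charOf (R := R) g) _ (fun m => by
        rw [charOf_single, charOf_single, charOf_single]; exact hh m), MonObj.mul_comp, (hI' T f).mpr hf,
        (hI' T g).mpr hg, _root_.one_mul]
  -- `Inj` means that the generators of the augmentation ideal lie in the extended ideal
  have hto : ∀ (T : Type u) [CommRing T] [Algebra R T],
      Inj u (Spec.map (CommRingCat.ofHom (algebraMap R T)) ≫ hV.fromSpec ≫ gU) →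
        ∀ m : Multiplicative M, MonoidAlgebra.single m 1 - 1 ∈ I.map (chg T) := by
    intro T _ _ hT m
    obtain ⟨B, _, _, _, _, g, hg, hgm, -⟩ := DiagSubgroupTrivial.exists_generic hsub T
    refine hgm m ?_
    have h1 := (hI' B g).mpr hg
    rw [← (DSPtsLib.theta_bijective gU).1.eq_iff, hv, HomUnitLocus.theta_one] at h1
    have h2 := hT _ (Over.homMk (Spec.map (CommRingCat.ofHom (algebraMap T B))) (by
      show _ ≫ Spec.map _ ≫ hV.fromSpec ≫ gU = (Spec.map _ ≫ hV.fromSpec) ≫ gU
      rw [← Spec.map_comp_assoc, ← CommRingCat.ofHom_comp, ← IsScalarTower.algebraMap_eq, Category.assoc])) _ h1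
    rw [← HomUnitLocus.theta_one, (DSPtsLib.theta_bijective gU).1.eq_iff] at h2
    have h3 : DSPtsLib.pt (HomKernelIdeal.str hV.fromSpec B) (charOf (R := R) g) = 1 := by
      rw [← Category.comp_id (DSPtsLib.pt _ _), ← ei.inv_hom_id, ← Category.assoc, h2]
      haveI : IsMonHom ei.hom := e.hom.hom.isMonHom_hom
      exact MonObj.one_comp ei.hom
    have h4 := congrFun (congrArg DFunLike.coe (pt_injective _ (h3.trans (pt_one _ (charOf (R := R) (1 : Multiplicative M →* B))
      (fun m => by rw [charOf_single]; rfl)).symm))) (MonoidAlgebra.single m 1)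
    rwa [charOf_single, charOf_single] at h4
  obtain ⟨d, hd, hall⟩ := DiagSubgroupTrivial.main hsub p (hto p.ResidueField hp)
  refine ⟨d, hd, fun Y q x hx => ?_⟩
  have hT := hall (Localization.Away d) (IsLocalization.Away.algebraMap_isUnit d)
  refine Over.OverMorphism.ext (Scheme.Cover.hom_ext Y.left.affineCover _ _ fun i => ?_)
  obtain ⟨B, hB⟩ : ∃ B : CommRingCat.{u}, Y.left.affineCover.X i = Spec B := ⟨_, rfl⟩
  obtain ⟨io, hio⟩ : ∃ io : Spec B ⟶ Y.left, Y.left.affineCover.f i = eqToHom hB ≫ io :=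
    ⟨eqToHom hB.symm ≫ Y.left.affineCover.f i, by simp⟩
  rw [hio, Category.assoc, Category.assoc]
  congr 1
  obtain ⟨ψ, hψ⟩ : ∃ ψ, Spec.map ψ = io ≫ q.left := ⟨_, Spec.map_preimage _⟩
  letI : Algebra (Localization.Away d) B := ψ.hom.toAlgebra
  letI : Algebra R B := (ψ.hom.comp (algebraMap R (Localization.Away d))).toAlgebra
  haveI : IsScalarTower R (Localization.Away d) B := IsScalarTower.of_algebraMap_eq' rfl
  let j : Spec (CommRingCat.of B) ⟶ U := HomKernelIdeal.str hV.fromSpec B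
  let y : (Over.map gU).obj (DSPtsLib.spU j) ⟶ Y := Over.homMk io (by
    show io ≫ Y.hom = (Spec.map (CommRingCat.ofHom (ψ.hom.comp (algebraMap R (Localization.Away d)))) ≫ hV.fromSpec) ≫ gU
    rw [CommRingCat.ofHom_comp, Spec.map_comp, CommRingCat.ofHom_hom, hψ, Category.assoc, Category.assoc,
      Category.assoc, ← Over.w q]
    rfl)
  suffices h : y ≫ x = y ≫ 1 from congrArg (fun m => Over.Hom.left m) h
  rw [MonObj.comp_one]
  obtain ⟨a, ha⟩ := (DSPtsLib.theta_bijective gU).2 (y ≫ x)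
  obtain ⟨f, hf⟩ := DSPtsLib.exists_eq_pt j (a ≫ ei.hom)
  have h2 : a = DSPtsLib.pt j f ≫ ei.inv := by rw [← hf, Category.assoc, ei.hom_inv_id, Category.comp_id]
  let f' : Multiplicative M →* B :=
    ((f : CoordM.{u} M →* B)).comp (MonoidAlgebra.of (ULift.{u} ℤ) (Multiplicative M))
  have hker : I ≤ RingHom.ker (MonoidAlgebra.lift R B (Multiplicative M) f') := by
    refine (hI B f).mp ?_
    rw [← (DSPtsLib.theta_bijective gU).1.eq_iff, hv, HomUnitLocus.theta_one, ← h2, ha, Category.assoc, hx,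
      MonObj.comp_one]
  have hf1 : ∀ m, f (MonoidAlgebra.single m 1) = 1 := fun m => by
    have h := (Ideal.map_le_iff_le_comap.mpr (fun b hb => by
      rw [Ideal.mem_comap, RingHom.mem_ker, DiagSubgroupTrivial.lift_chg]
      exact hker hb) : I.map (chg (Localization.Away d)) ≤
        RingHom.ker (MonoidAlgebra.lift (Localization.Away d) B (Multiplicative M) f')) (hT m)
    rw [RingHom.mem_ker, map_sub, map_one, MonoidAlgebra.lift_single, one_smul, sub_eq_zero] at h
    exact h
  rw [← ha, h2, pt_one j f hf1, MonObj.one_comp, HomUnitLocus.theta_one]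

end Piece

/-- The locus where `u` is injective is open, and `u` is injective over it. -/
theorem main [IsMonHom u] [IsSeparated G.hom] (hH : SGA3x.IsMultTypeFT H) :
    ∃ U : S.Opens, (∀ s : S, s ∈ U ↔ Inj u (S.fromSpecResidueField s)) ∧ Inj u U.ι := by
  classical
  obtain ⟨S', f, hflat, hsurj, hqc, hloc⟩ := hH
  let E : Set S := {s | Inj u (S.fromSpecResidueField s)}
  have hfield : ∀ {K : Type u} [Field K] (b : Spec (CommRingCat.of K) ⟶ S),
      Inj u b ↔ Inj u (S.fromSpecResidueField (b (IsLocalRing.closedPoint K))) := fun {K} _ b => by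
    conv_lhs => rw [← Scheme.descResidueField_stalkClosedPointTo_fromSpecResidueField K S b]
    exact ⟨fun h => Inj.of_covers _ (HomUnitLocus.covers_field _) h, fun h => h.comp _⟩
  have hnbhd : ∀ s' ∈ f ⁻¹' E, ∃ (X : Scheme.{u}) (j : X ⟶ S'), IsOpenImmersion j ∧ s' ∈ Set.range j ∧
      Inj u (j ≫ f) := by
    intro s' hs'
    obtain ⟨U, hsU, M, iM, hfg, ⟨e⟩⟩ := hloc s'
    obtain ⟨V, hV, hsV, -⟩ := exists_isAffineOpen_mem_and_subset
      (show (⟨s', hsU⟩ : (U : Scheme.{u})) ∈ (⊤ : (U : Scheme.{u}).Opens) from trivial)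
    rw [← SetLike.mem_coe, ← hV.range_fromSpec] at hsV
    obtain ⟨p, hp⟩ := hsV
    let b : Spec (CommRingCat.of p.asIdeal.ResidueField) ⟶ S :=
      Spec.map (CommRingCat.ofHom (algebraMap Γ((U : Scheme.{u}), V) p.asIdeal.ResidueField)) ≫ hV.fromSpec ≫ U.ι ≫ f
    have hb : b (IsLocalRing.closedPoint _) = f s' := by
      show (Spec.map _ ≫ _ ≫ _ ≫ _) _ = _
      rw [Scheme.Hom.comp_apply, Scheme.Hom.comp_apply, Scheme.Hom.comp_apply]
      congr 1
      show U.ι (hV.fromSpec _) = U.ι ⟨s', hsU⟩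
      rw [← hp]
      congr 2
      refine PrimeSpectrum.ext ?_
      show Ideal.comap (algebraMap Γ((U : Scheme.{u}), V) p.asIdeal.ResidueField) (IsLocalRing.maximalIdeal _) = p.asIdeal
      rw [IsLocalRing.maximalIdeal_eq_bot, ← RingHom.ker_eq_comap_bot, Ideal.ker_algebraMap_residueField]
    haveI : p.asIdeal.IsPrime := p.isPrime
    obtain ⟨d, hd, hinj⟩ := exists_inj_away (u := u) (U.ι ≫ f) e hV p.asIdeal (by
      refine (hfield b).mpr ?_
      rw [hb]
      exact hs')
    refine ⟨_, Spec.map (CommRingCat.ofHom (algebraMap Γ((U : Scheme.{u}), V) (Localization.Away d))) ≫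
      hV.fromSpec ≫ U.ι, inferInstance, ?_, by simpa only [Category.assoc] using hinj⟩
    have hpd : p ∈ Set.range (PrimeSpectrum.comap (algebraMap Γ((U : Scheme.{u}), V) (Localization.Away d))) := by
      rw [PrimeSpectrum.localization_away_comap_range (Localization.Away d) d]
      exact hd
    obtain ⟨p', hp'⟩ := hpd
    refine ⟨p', ?_⟩
    rw [Scheme.Hom.comp_apply, Scheme.Hom.comp_apply]
    show U.ι (hV.fromSpec _) = U.ι ⟨s', hsU⟩
    rw [← hp, ← hp']
    rfl
  choose X j hj hsj hinj using hnbhd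
  have hsub : ∀ s' hs', Set.range (j s' hs') ⊆ f ⁻¹' E := by
    rintro s' hs' _ ⟨x, rfl⟩
    show Inj u _
    let b := (X s' hs').fromSpecResidueField x ≫ j s' hs' ≫ f
    have hb : b (IsLocalRing.closedPoint _) = f (j s' hs' x) := by
      show ((X s' hs').fromSpecResidueField x ≫ j s' hs' ≫ f) (IsLocalRing.closedPoint _) = _
      rw [Scheme.Hom.comp_apply, Scheme.Hom.comp_apply, Scheme.fromSpecResidueField_apply]
    rw [← hb]
    exact (hfield b).mp ((hinj s' hs').comp _)
  have hE : IsOpen E := HomUnitLocus.isOpen_of_preimage f hqc (by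
    rw [isOpen_iff_forall_mem_open]
    exact fun s' hs' => ⟨_, hsub s' hs', (j s' hs').isOpenEmbedding.isOpen_range, hsj s' hs'⟩)
  refine ⟨⟨E, hE⟩, fun s => Iff.rfl, ?_⟩
  let U0 : S.Opens := ⟨E, hE⟩
  have hcv : FpqcDescLib.Covers f :=
    FpqcDescLib.covers_of_hcov f ⟨S', f, 𝟙 _, Category.id_comp _, hsurj, hflat, hqc⟩
  refine Inj.of_covers (pullback.fst U0.ι f)
    (hcv.pullback U0.ι _ (pullback.snd U0.ι f) (IsPullback.of_hasPullback _ _)) ?_
  intro Y q x hx
  let r : Y.left ⟶ S' := q.left ≫ pullback.snd U0.ι f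
  refine Over.OverMorphism.ext (Scheme.hom_ext_of_forall _ _ fun y => ?_)
  have hy : r y ∈ f ⁻¹' E := by
    show f (r y) ∈ E
    have h : U0.ι (pullback.fst U0.ι f (q.left y)) = f (r y) := by
      simp only [r, ← Scheme.Hom.comp_apply, Category.assoc, pullback.condition]
    rw [← h]
    exact (pullback.fst U0.ι f (q.left y)).2
  refine ⟨r ⁻¹ᵁ (j _ hy).opensRange, hsj _ hy, ?_⟩
  let W : Y.left.Opens := r ⁻¹ᵁ (j _ hy).opensRange
  let iY : Over.mk (W.ι ≫ Y.hom) ⟶ Y := Over.homMk W.ι rfl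
  have hr : Set.range (W.ι ≫ r) ⊆ Set.range (j _ hy) := by
    rintro _ ⟨z, rfl⟩; exact z.2
  have h := hinj _ hy (Over.mk (W.ι ≫ Y.hom)) (Over.homMk (IsOpenImmersion.lift (j _ hy) (W.ι ≫ r) hr) (by
    show IsOpenImmersion.lift (j _ hy) (W.ι ≫ r) hr ≫ j _ hy ≫ f = W.ι ≫ Y.hom
    rw [IsOpenImmersion.lift_fac_assoc, Category.assoc, Category.assoc, ← pullback.condition]
    exact congrArg (_ ≫ ·) (Over.w q))) (iY ≫ x) (by rw [Category.assoc, hx, MonObj.comp_one])
  rw [← MonObj.comp_one iY] at h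
  exact congrArg (fun m => Over.Hom.left m) h

end Groth.Agent.GrpSchLib.HomMonoLocus
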