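import Groth.Agent.GrpSchLib.DiagActionRigid
import Groth.Agent.GrpSchLib.HomMonoLocus
import Groth.Agent.FpqcDescLib.Basic
import Groth.Prelude.Def_TwC
import Mathlib.AlgebraicGeometry.IdealSheaf.Functorial

/-!
# Subgroups of multiplicative type agreeing modulo a nilpotent ideal

Two homomorphisms `iA : A ⟶ G` (an immersion) and `iB : B ⟶ G` out of groups of multiplicative type with commuting images:
if `iB` factors through `iA` modulo a nilpotent ideal it factors through `iA`.
-/

universe u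

open CategoryTheory CategoryTheory.Limits MonoidalCategory CartesianMonoidalCategory MonObj AlgebraicGeometry

namespace Groth.Agent.GrpSchLib.SubgroupFactor

open DSPtsLib (CoordM)
open DiagActionRigid (sp spm)

/-- Factorisation through an immersion is tested on the stalks. -/
theorem exists_lift_of_stalks {X Y Z : Scheme.{u}} (j : Z ⟶ X) [IsImmersion j] (g : Y ⟶ X)
    (h : ∀ y, ∃ l, l ≫ j = Y.fromSpecStalk y ≫ g) : ∃ l, l ≫ j = g := by
  let q := pullback.snd j g
  have hsec : ∀ y, ∃ s, s ≫ q = Y.fromSpecStalk y := fun y => by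
    obtain ⟨l, hl⟩ := h y
    exact ⟨pullback.lift l _ hl, pullback.lift_snd _ _ _⟩
  have hrange : Set.range q = Set.univ := Set.eq_univ_of_forall fun y => by
    obtain ⟨s, hs⟩ := hsec y
    exact ⟨s (IsLocalRing.closedPoint _), by rw [← Scheme.Hom.comp_apply, hs, Scheme.fromSpecStalk_closedPoint]⟩
  haveI : IsClosedImmersion q := IsClosedImmersion.of_isPreimmersion q (by rw [hrange]; exact isClosed_univ)
  have hker : q.ker = ⊥ := by
    refine eq_bot_iff.mpr fun U x hx => ?_
    rw [Scheme.Hom.ker_apply, RingHom.mem_ker] at hx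
    show x ∈ (⊥ : Ideal _)
    rw [Ideal.mem_bot]
    refine TopCat.Presheaf.section_ext Y.sheaf U.1 x 0 fun y hy => ?_
    rw [map_zero]
    obtain ⟨s, hs⟩ := hsec y
    have h1 : ((s ≫ q).app U.1).hom x = 0 := by
      rw [Scheme.Hom.comp_app]
      show (s.app _).hom ((q.app U.1).hom x) = 0
      rw [hx, map_zero]
    rw [Scheme.Hom.congr_app hs U.1, Scheme.fromSpecStalk_app hy] at h1
    have htop : Y.fromSpecStalk y ⁻¹ᵁ U.1 = ⊤ := by
      refine eq_top_iff.mpr fun z _ => ?_
      have hz : Y.fromSpecStalk y z ⤳ y := by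
        have : Y.fromSpecStalk y z ∈ Set.range (Y.fromSpecStalk y) := ⟨z, rfl⟩
        rwa [Scheme.range_fromSpecStalk] at this
      exact hz.mem_open U.1.isOpen hy
    simp only [CommRingCat.hom_comp, RingHom.comp_apply] at h1
    haveI : IsIso ((Spec (Y.presheaf.stalk y)).presheaf.map
        (homOfLE (le_top : Y.fromSpecStalk y ⁻¹ᵁ U.1 ≤ ⊤)).op) := by
      haveI : IsIso (homOfLE (le_top : Y.fromSpecStalk y ⁻¹ᵁ U.1 ≤ ⊤)) :=
        ⟨homOfLE htop.ge, rfl, rfl⟩
      infer_instance
    have inj : ∀ {A B : CommRingCat.{u}} (f : A ⟶ B) [IsIso f], Function.Injective f.hom := fun f _ => by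
      exact (ConcreteCategory.bijective_of_isIso f).1
    replace h1 := inj _ (h1.trans (map_zero _).symm)
    replace h1 := inj _ (h1.trans (map_zero _).symm)
    exact inj _ (h1.trans (map_zero _).symm)
  refine ⟨IsClosedImmersion.lift q (𝟙 Y) (by rw [hker]; exact bot_le) ≫ pullback.fst j g, ?_⟩
  rw [Category.assoc, pullback.condition]
  exact (IsClosedImmersion.lift_fac_assoc q (𝟙 Y) (by rw [hker]; exact bot_le) g).trans (Category.id_comp g)

/-- The points of a split group as characters. -/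
theorem exists_char {S : Scheme.{u}} {A : Over S} [GrpObj A] {R : Type u} [CommRing R]
    {β : Spec (CommRingCat.of R) ⟶ S} {U : Scheme.{u}} (gU : U ⟶ S) {M : Type} [AddCommGroup M]
    (e : Grp.mk (Red.bc gU A) ≅ Grp.mk (Red.DS U M)) (jR : Spec (CommRingCat.of R) ⟶ U) (hjR : jR ≫ gU = β) :
    ∃ χ : ∀ (T : Type u) [CommRing T] [Algebra R T], (CoordM.{u} M →+* T) → (sp β T ⟶ A),
      (∀ {T T' : Type u} [CommRing T] [Algebra R T] [CommRing T'] [Algebra R T'] (φ : T →ₐ[R] T')
        (c : CoordM.{u} M →+* T), spm β φ ≫ χ T c = χ T' (φ.toRingHom.comp c)) ∧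
      (∀ {T : Type u} [CommRing T] [Algebra R T] (c c' d : CoordM.{u} M →+* T),
        (∀ m, d (MonoidAlgebra.single m 1) = c (MonoidAlgebra.single m 1) * c' (MonoidAlgebra.single m 1)) →
          χ T c * χ T c' = χ T d) ∧
      ∀ (T : Type u) [CommRing T] [Algebra R T], Function.Bijective (χ T) := by
  let ei : Red.bc gU A ≅ Red.DS U M :=
    ⟨e.hom.hom.hom, e.inv.hom.hom, congrArg (fun h => h.hom.hom) e.hom_inv_id,
      congrArg (fun h => h.hom.hom) e.inv_hom_id⟩
  haveI : IsMonHom ei.inv := e.inv.hom.isMonHom_hom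
  let tr : ∀ (T : Type u) [CommRing T] [Algebra R T],
      sp β T ⟶ (Over.map gU).obj (DSPtsLib.spU (Spec.map (CommRingCat.ofHom (algebraMap R T)) ≫ jR)) :=
    fun T _ _ => Over.homMk (𝟙 _) (by
      show 𝟙 _ ≫ (_ ≫ jR) ≫ gU = _ ≫ β
      rw [Category.id_comp, Category.assoc, hjR])
  refine ⟨fun T _ _ c => tr T ≫ DSPtsLib.theta gU
      (DSPtsLib.pt (Spec.map (CommRingCat.ofHom (algebraMap R T)) ≫ jR) c ≫ ei.inv), ?_, ?_, ?_⟩
  · intro T T' _ _ _ _ φ c
    have hj : Spec.map (CommRingCat.ofHom φ.toRingHom) ≫ Spec.map (CommRingCat.ofHom (algebraMap R T)) ≫ jR =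
        Spec.map (CommRingCat.ofHom (algebraMap R T')) ≫ jR := by
      rw [← Spec.map_comp_assoc, ← CommRingCat.ofHom_comp]
      congr 3
      exact φ.comp_algebraMap
    have htrn : spm β φ ≫ tr T = tr T' ≫ (Over.map gU).map (Over.homMk (Spec.map (CommRingCat.ofHom φ.toRingHom)) hj :
        DSPtsLib.spU (Spec.map (CommRingCat.ofHom (algebraMap R T')) ≫ jR) ⟶
          DSPtsLib.spU (Spec.map (CommRingCat.ofHom (algebraMap R T)) ≫ jR)) := by
      refine Over.OverMorphism.ext ?_
      show Spec.map _ ≫ 𝟙 _ = 𝟙 _ ≫ Spec.map _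
      rw [Category.id_comp, Category.comp_id]
    show spm β φ ≫ tr T ≫ _ = tr T' ≫ _
    rw [← DSPtsLib.pt_comp _ c φ.toRingHom _ hj, ← Category.assoc, htrn, Category.assoc]
    simp only [DSPtsLib.theta_comp, Category.assoc]
  · intro T _ _ c c' d h
    show (tr T ≫ _) * (tr T ≫ _) = tr T ≫ _
    have e2 := MonObj.mul_comp (DSPtsLib.pt (Spec.map (CommRingCat.ofHom (algebraMap R T)) ≫ jR) c)
      (DSPtsLib.pt (Spec.map (CommRingCat.ofHom (algebraMap R T)) ≫ jR) c') ei.inv
    rw [← MonObj.comp_mul, ← DSPtsLib.theta_mul, ← e2, DSPtsLib.pt_mul _ c c' d h]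
  · intro T _ _
    have htr : IsIso (tr T) := by
      haveI : IsIso ((Over.forget S).map (tr T)) := inferInstanceAs (IsIso (𝟙 _))
      exact isIso_of_reflects_iso _ (Over.forget S)
    refine ⟨fun c c' h => ?_, fun g => ?_⟩
    · have h1 := (DSPtsLib.theta_bijective (H := A) gU).1 ((cancel_epi (tr T)).mp h)
      rw [cancel_mono] at h1
      exact HomMonoLocus.pt_injective _ h1
    · obtain ⟨w, hw⟩ := (DSPtsLib.theta_bijective (H := A) gU).2 (inv (tr T) ≫ g)
      obtain ⟨c, hc⟩ := DSPtsLib.exists_eq_pt _ (w ≫ ei.hom)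
      refine ⟨c, ?_⟩
      show tr T ≫ DSPtsLib.theta gU (DSPtsLib.pt _ c ≫ ei.inv) = g
      rw [← hc, Category.assoc, Iso.hom_inv_id, Category.comp_id, hw, IsIso.hom_inv_id_assoc]

/-- The character obtained by moving the indices. -/
noncomputable def pull {M N : Type} [AddCommGroup M] [AddCommGroup N] {T : Type u} [CommRing T] (φ : M →+ N)
    (c : CoordM.{u} N →+* T) : CoordM.{u} M →+* T :=
  c.comp (MonoidAlgebra.mapDomainRingHom (ULift.{u} ℤ) (AddMonoidHom.toMultiplicative φ))

theorem pull_single {M N : Type} [AddCommGroup M] [AddCommGroup N] {T : Type u} [CommRing T] (φ : M →+ N)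
    (c : CoordM.{u} N →+* T) (m : Multiplicative M) :
    pull φ c (MonoidAlgebra.single m 1) = c (MonoidAlgebra.single (AddMonoidHom.toMultiplicative φ m) 1) := by
  simp [pull]

/-- Over a connected base a character with values in a group algebra which is multiplicative is a monomial. -/
theorem exists_monomial {T : Type u} [CommRing T] [IsLocalRing T] {M N : Type} [AddCommGroup M] [AddCommGroup N]
    (u : Multiplicative M →* MonoidAlgebra T (Multiplicative N))
    (hu : ∀ m, MonoidAlgebra.mapDomainRingHom T (MonoidHom.inl (Multiplicative N) (Multiplicative N)) (u m) *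
        MonoidAlgebra.mapDomainRingHom T (MonoidHom.inr (Multiplicative N) (Multiplicative N)) (u m) =
      MonoidAlgebra.mapDomainRingHom T ((MonoidHom.id (Multiplicative N)).prod (MonoidHom.id _)) (u m)) :
    ∃ φ : M →+ N, ∀ m, u m = MonoidAlgebra.single (AddMonoidHom.toMultiplicative φ m) 1 := by
  classical
  have hone : ∀ m, ∃ n, u m = MonoidAlgebra.single n 1 := by
    intro m
    set v := u m
    have hmul : ∀ n k, v.coeff n * v.coeff k = if n = k then v.coeff n else 0 := by
      intro n k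
      have h := congrArg (fun z : MonoidAlgebra T (Multiplicative N × Multiplicative N) => z.coeff (n, k)) (hu m)
      change (MonoidAlgebra.mapDomain (MonoidHom.inl (Multiplicative N) (Multiplicative N)) v *
        MonoidAlgebra.mapDomain (MonoidHom.inr (Multiplicative N) (Multiplicative N)) v).coeff (n, k) = _ at h
      have hl : (MonoidAlgebra.mapDomain (MonoidHom.inl (Multiplicative N) (Multiplicative N)) v *
          MonoidAlgebra.mapDomain (MonoidHom.inr (Multiplicative N) (Multiplicative N)) v).coeff (n, k) =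
          v.coeff n * v.coeff k := by
        suffices ∀ v w : MonoidAlgebra T (Multiplicative N),
            (MonoidAlgebra.mapDomain (MonoidHom.inl (Multiplicative N) (Multiplicative N)) v *
              MonoidAlgebra.mapDomain (MonoidHom.inr (Multiplicative N) (Multiplicative N)) w).coeff (n, k) =
            v.coeff n * w.coeff k from this v v
        intro v w
        induction v using MonoidAlgebra.induction_linear with
        | zero => simp
        | add x y hx hy => simp [MonoidAlgebra.mapDomain_add, add_mul, hx, hy]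
        | single a r =>
          induction w using MonoidAlgebra.induction_linear with
          | zero => simp
          | add x y hx hy =>
            simp only [MonoidAlgebra.mapDomain_add, mul_add, MonoidAlgebra.coeff_add, Finsupp.add_apply, hx, hy]
          | single b t =>
            simp only [MonoidAlgebra.mapDomain_single, MonoidAlgebra.single_mul_single, MonoidAlgebra.coeff_single,
              MonoidHom.inl_apply, MonoidHom.inr_apply, Prod.mk_mul_mk, _root_.mul_one, _root_.one_mul,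
              Finsupp.single_apply, Prod.mk.injEq]
            by_cases h1 : a = n <;> by_cases h2 : b = k <;> simp [h1, h2]
      rw [hl] at h
      rw [h]
      split_ifs with hnk
      · subst hnk
        exact Finsupp.mapDomain_apply (f := ((MonoidHom.id (Multiplicative N)).prod (MonoidHom.id _)))
          (fun a b h => congrArg Prod.fst h) _ _
      · exact Finsupp.mapDomain_of_notMem_range _ _ fun ⟨a, ha⟩ =>
          hnk ((congrArg Prod.fst ha).symm.trans (congrArg Prod.snd ha))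
    have hv0 : v ≠ 0 := ((Group.isUnit m).map u).ne_zero
    obtain ⟨n, hn⟩ : ∃ n, v.coeff n ≠ 0 := by
      by_contra! h
      exact hv0 (MonoidAlgebra.ext (Finsupp.ext fun n => h n))
    have hn1 : v.coeff n = 1 := by
      have h := hmul n n
      rw [if_pos rfl] at h
      rcases IsLocalRing.isUnit_or_isUnit_one_sub_self (v.coeff n) with hu' | hu'
      · exact hu'.mul_left_cancel (h.trans (_root_.mul_one _).symm)
      · exact absurd ((IsUnit.mul_right_eq_zero hu').mp (by rw [sub_mul, _root_.one_mul, h, sub_self])) hn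
    refine ⟨n, MonoidAlgebra.ext (Finsupp.ext fun k => ?_)⟩
    rw [MonoidAlgebra.coeff_single, Finsupp.single_apply]
    split_ifs with hnk
    · rw [← hnk, hn1]
    · have h := hmul n k
      rw [if_neg hnk, hn1, _root_.one_mul] at h
      exact h
  choose n hn using hone
  have hinj : ∀ a b : Multiplicative N, MonoidAlgebra.single a (1 : T) = MonoidAlgebra.single b 1 → a = b :=
    fun a b h => by
      by_contra hab
      have := congrArg (fun z : MonoidAlgebra T (Multiplicative N) => z.coeff a) h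
      simp [Ne.symm hab] at this
  let ψ : Multiplicative M →* Multiplicative N :=
    { toFun := n
      map_one' := hinj _ _ (by rw [← hn, map_one]; rfl)
      map_mul' := fun a b => hinj _ _ (by
        rw [← hn, map_mul, hn, hn, MonoidAlgebra.single_mul_single, _root_.mul_one]) }
  exact ⟨AddMonoidHom.toMultiplicative.symm ψ, fun m => hn m⟩

section Local

variable {S : Scheme.{u}} {G A B : Over S} [GrpObj G] [GrpObj A] [GrpObj B] (iA : A ⟶ G) [IsMonHom iA] [Mono iA]
  (iB : B ⟶ G) [IsMonHom iB]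
  (hcent : (∀ (Y : Over S) (g : Y ⟶ G) (a : Y ⟶ A), g * (a ≫ iA) = (a ≫ iA) * g) ∨
    ∀ (Y : Over S) (g : Y ⟶ G) (b : Y ⟶ B), g * (b ≫ iB) = (b ≫ iB) * g)
include hcent

theorem local_lift {T : Type u} [CommRing T] [IsLocalRing T] {β : Spec (CommRingCat.of T) ⟶ S}
    {V : S.Opens} (hV : IsAffineOpen V) (hβ : ∀ r, β r ∈ V) {MA MB : Type} [AddCommGroup MA] [AddCommGroup MB]
    (χA : ∀ (B' : Type u) [CommRing B'] [Algebra T B'], (CoordM.{u} MA →+* B') → (sp β B' ⟶ A))
    (hAnat : ∀ {T₁ T₂ : Type u} [CommRing T₁] [Algebra T T₁] [CommRing T₂] [Algebra T T₂] (φ : T₁ →ₐ[T] T₂)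
        (c : CoordM.{u} MA →+* T₁), spm β φ ≫ χA T₁ c = χA T₂ (φ.toRingHom.comp c))
    (hAmul : ∀ {T₁ : Type u} [CommRing T₁] [Algebra T T₁] (c c' d : CoordM.{u} MA →+* T₁),
        (∀ m, d (MonoidAlgebra.single m 1) = c (MonoidAlgebra.single m 1) * c' (MonoidAlgebra.single m 1)) →
          χA T₁ c * χA T₁ c' = χA T₁ d)
    (hAbij : ∀ (T₁ : Type u) [CommRing T₁] [Algebra T T₁], Function.Bijective (χA T₁))
    (χB : ∀ (B' : Type u) [CommRing B'] [Algebra T B'], (CoordM.{u} MB →+* B') → (sp β B' ⟶ B))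
    (hBnat : ∀ {T₁ T₂ : Type u} [CommRing T₁] [Algebra T T₁] [CommRing T₂] [Algebra T T₂] (φ : T₁ →ₐ[T] T₂)
        (c : CoordM.{u} MB →+* T₁), spm β φ ≫ χB T₁ c = χB T₂ (φ.toRingHom.comp c))
    (hBmul : ∀ {T₁ : Type u} [CommRing T₁] [Algebra T T₁] (c c' d : CoordM.{u} MB →+* T₁),
        (∀ m, d (MonoidAlgebra.single m 1) = c (MonoidAlgebra.single m 1) * c' (MonoidAlgebra.single m 1)) →
          χB T₁ c * χB T₁ c' = χB T₁ d)
    (hBbij : ∀ (T₁ : Type u) [CommRing T₁] [Algebra T T₁], Function.Bijective (χB T₁))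
    (J : Ideal T) (hJ : IsNilpotent J)
    (h0 : ∀ (T₁ : Type u) [CommRing T₁] [Algebra T T₁], (∀ r ∈ J, algebraMap T T₁ r = 0) →
      ∀ x : sp β T₁ ⟶ B, ∃ a : sp β T₁ ⟶ A, a ≫ iA = x ≫ iB)
    (x : sp β T ⟶ B) : ∃ a : sp β T ⟶ A, a ≫ iA = x ≫ iB := by
  have hJ1 : J ≠ ⊤ := by
    rintro rfl
    obtain ⟨n, hn⟩ := hJ
    rw [Ideal.top_pow, Ideal.zero_eq_bot] at hn
    exact top_ne_bot hn
  let Tb : Type u := T ⧸ J
  haveI : Nontrivial Tb := Ideal.Quotient.nontrivial_iff.mpr hJ1
  haveI : IsLocalRing Tb := IsLocalRing.of_surjective' (Ideal.Quotient.mk J) Ideal.Quotient.mk_surjective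
  let C1 := MonoidAlgebra Tb (Multiplicative MB)
  let C2 := MonoidAlgebra Tb (Multiplicative MB × Multiplicative MB)
  have hkill : ∀ r ∈ J, algebraMap T C1 r = 0 := fun r hr => by
    rw [IsScalarTower.algebraMap_apply T Tb C1, show algebraMap T Tb r = 0 from Ideal.Quotient.eq_zero_iff_mem.mpr hr,
      map_zero]
  -- the universal point of `B` modulo `J` comes from `A`
  let cB : CoordM.{u} MB →+* C1 := DiagActionRigid.univPt Tb (AddMonoidHom.id MB)
  obtain ⟨a₀, ha₀⟩ := h0 C1 hkill (χB C1 cB)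
  obtain ⟨cA, rfl⟩ := (hAbij C1).2 a₀
  let u : Multiplicative MA →* C1 := (cA : CoordM.{u} MA →* C1).comp (MonoidAlgebra.of (ULift.{u} ℤ) (Multiplicative MA))
  let σ : (Multiplicative MB →* Multiplicative MB × Multiplicative MB) → (C1 →ₐ[T] C2) := fun τ =>
    AlgHom.restrictScalars T (MonoidAlgebra.mapDomainAlgHom Tb Tb τ)
  let τ₁ := MonoidHom.inl (Multiplicative MB) (Multiplicative MB)
  let τ₂ := MonoidHom.inr (Multiplicative MB) (Multiplicative MB)
  let τ₃ := (MonoidHom.id (Multiplicative MB)).prod (MonoidHom.id (Multiplicative MB))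
  have hσB : ∀ τ m, ((σ τ).toRingHom.comp cB) (MonoidAlgebra.single m 1) = MonoidAlgebra.single (τ m) 1 := by
    intro τ m
    show σ τ (cB (MonoidAlgebra.single m 1)) = _
    rw [DiagActionRigid.univPt_single]
    exact MonoidAlgebra.mapDomain_single
  have hu : ∀ m, MonoidAlgebra.mapDomainRingHom Tb τ₁ (u m) * MonoidAlgebra.mapDomainRingHom Tb τ₂ (u m) =
      MonoidAlgebra.mapDomainRingHom Tb τ₃ (u m) := by
    have hA3 : χA C2 ((σ τ₁).toRingHom.comp cA) * χA C2 ((σ τ₂).toRingHom.comp cA) =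
        χA C2 ((σ τ₃).toRingHom.comp cA) := by
      rw [← cancel_mono iA, MonObj.mul_comp, ← hAnat, ← hAnat, ← hAnat, Category.assoc, Category.assoc,
        Category.assoc, ha₀, ← Category.assoc, ← Category.assoc, ← Category.assoc, hBnat, hBnat, hBnat,
        ← MonObj.mul_comp]
      congr 1
      refine hBmul _ _ _ fun m => ?_
      rw [hσB, hσB, hσB, MonoidAlgebra.single_mul_single, _root_.mul_one]
      congr 1
      simp [τ₁, τ₂, τ₃]
    let d : Multiplicative MA →* C2 :=
      ((σ τ₁ : C1 →* C2).comp u) * ((σ τ₂ : C1 →* C2).comp u)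
    have hd : ∀ m, HomMonoLocus.charOf (R := T) d (MonoidAlgebra.single m 1) =
        ((σ τ₁).toRingHom.comp cA) (MonoidAlgebra.single m 1) *
          ((σ τ₂).toRingHom.comp cA) (MonoidAlgebra.single m 1) := fun m => HomMonoLocus.charOf_single d m
    rw [hAmul _ _ _ hd] at hA3
    intro m
    have h := congrFun (congrArg DFunLike.coe ((hAbij C2).1 hA3)) (MonoidAlgebra.single m 1)
    rw [hd] at h
    exact h
  obtain ⟨φ, hφ⟩ := exists_monomial u hu
  -- `(a, b) · z = a z b⁻¹` is an action, trivial modulo `J`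
  let act : AlgGrp.Action (A ⊗ B) G :=
    { act := (fst (A ⊗ B) G ≫ fst A B ≫ iA) * snd (A ⊗ B) G * (fst (A ⊗ B) G ≫ snd A B ≫ iB)⁻¹
      one_act := by
        have h1 : η[A ⊗ B] ≫ fst A B ≫ iA = 1 := by
          rw [← Category.assoc, show η[A ⊗ B] ≫ fst A B = η[A] from IsMonHom.one_hom (f := fst A B), IsMonHom.one_hom,
            Hom.one_def, toUnit_unique (toUnit _) (𝟙 _), Category.id_comp]
        have h2 : η[A ⊗ B] ≫ snd A B ≫ iB = 1 := by
          rw [← Category.assoc, show η[A ⊗ B] ≫ snd A B = η[B] from IsMonHom.one_hom (f := snd A B), IsMonHom.one_hom,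
            Hom.one_def, toUnit_unique (toUnit _) (𝟙 _), Category.id_comp]
        rw [MonObj.comp_mul, MonObj.comp_mul, GrpObj.comp_inv, whiskerRight_fst_assoc, whiskerRight_fst_assoc,
          whiskerRight_snd, h1, h2, MonObj.comp_one, inv_one, _root_.mul_one, _root_.one_mul, leftUnitor_hom]
      mul_act := by
        have h1 : μ[A ⊗ B] ≫ fst A B ≫ iA =
            (fst (A ⊗ B) (A ⊗ B) ≫ fst A B ≫ iA) * (snd (A ⊗ B) (A ⊗ B) ≫ fst A B ≫ iA) := by
          rw [IsMonHom.mul_hom (f := fst A B ≫ iA), Hom.mul_def]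
          congr 1
        have h2 : μ[A ⊗ B] ≫ snd A B ≫ iB =
            (fst (A ⊗ B) (A ⊗ B) ≫ snd A B ≫ iB) * (snd (A ⊗ B) (A ⊗ B) ≫ snd A B ≫ iB) := by
          rw [IsMonHom.mul_hom (f := snd A B ≫ iB), Hom.mul_def]
          congr 1
        simp only [MonObj.comp_mul, GrpObj.comp_inv, whiskerRight_fst_assoc, whiskerRight_snd, whiskerLeft_fst_assoc,
          whiskerLeft_snd, whiskerLeft_snd_assoc, associator_hom_fst_assoc, associator_hom_snd_fst_assoc,
          associator_hom_snd_snd, h1, h2, _root_.mul_inv_rev, _root_.mul_assoc] }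
  have ha : ∀ {Y : Over S} (g : Y ⟶ A ⊗ B) (z : Y ⟶ G),
      lift g z ≫ act.act = (g ≫ fst A B ≫ iA) * z * (g ≫ snd A B ≫ iB)⁻¹ := fun g z => by
    show lift g z ≫ ((fst (A ⊗ B) G ≫ fst A B ≫ iA) * snd (A ⊗ B) G * (fst (A ⊗ B) G ≫ snd A B ≫ iB)⁻¹) = _
    rw [MonObj.comp_mul, MonObj.comp_mul, GrpObj.comp_inv, lift_fst_assoc, lift_fst_assoc, lift_snd]
  let χ : ∀ (T₁ : Type u) [CommRing T₁] [Algebra T T₁], (CoordM.{u} MB →+* T₁) → (sp β T₁ ⟶ A ⊗ B) :=
    fun T₁ _ _ c => lift (χA T₁ (pull φ c)) (χB T₁ c)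
  have hnat : ∀ {T₁ T₂ : Type u} [CommRing T₁] [Algebra T T₁] [CommRing T₂] [Algebra T T₂] (f : T₁ →ₐ[T] T₂)
      (c : CoordM.{u} MB →+* T₁), spm β f ≫ χ T₁ c = χ T₂ (f.toRingHom.comp c) := by
    intro T₁ T₂ _ _ _ _ f c
    show spm β f ≫ lift _ _ = _
    rw [comp_lift, hAnat, hBnat]
    rfl
  have hmul : ∀ {T₁ : Type u} [CommRing T₁] [Algebra T T₁] (c c' d : CoordM.{u} MB →+* T₁),
      (∀ m, d (MonoidAlgebra.single m 1) = c (MonoidAlgebra.single m 1) * c' (MonoidAlgebra.single m 1)) →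
        χ T₁ c * χ T₁ c' = χ T₁ d := by
    intro T₁ _ _ c c' d hd
    refine CartesianMonoidalCategory.hom_ext _ _ ?_ ?_
    · rw [MonObj.mul_comp, lift_fst, lift_fst, lift_fst]
      exact hAmul _ _ _ fun m => by rw [pull_single, pull_single, pull_single, hd]
    · rw [MonObj.mul_comp, lift_snd, lift_snd, lift_snd]
      exact hBmul _ _ _ hd
  obtain ⟨c, rfl⟩ := (hBbij T).2 x
  have hmain := DiagActionRigid.main act χ hnat hmul hV hβ J hJ (fun T₁ _ _ hT₁ c z => by
    letI : Algebra Tb T₁ := (Ideal.Quotient.lift J (algebraMap T T₁) hT₁).toAlgebra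
    haveI : IsScalarTower T Tb T₁ := IsScalarTower.of_algebraMap_eq' rfl
    let f : C1 →ₐ[T] T₁ := AlgHom.restrictScalars T (MonoidAlgebra.lift Tb T₁ (Multiplicative MB)
      ((c : CoordM.{u} MB →* T₁).comp (MonoidAlgebra.of (ULift.{u} ℤ) (Multiplicative MB))))
    have hfs : ∀ n, f (MonoidAlgebra.single n 1) = c (MonoidAlgebra.single n 1) := fun n => by
      show MonoidAlgebra.lift Tb T₁ (Multiplicative MB) _ (MonoidAlgebra.single n 1) = _
      rw [MonoidAlgebra.lift_single, one_smul]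
      rfl
    have hfB : f.toRingHom.comp cB = c := DiagActionRigid.coord_ext fun m => by
      show f (cB (MonoidAlgebra.single m 1)) = _
      rw [DiagActionRigid.univPt_single]
      exact hfs m
    have hfA : f.toRingHom.comp cA = pull φ c := DiagActionRigid.coord_ext fun m => by
      show f (u m) = _
      rw [hφ, pull_single, hfs]
    have he : χA T₁ (pull φ c) ≫ iA = χB T₁ c ≫ iB := by
      rw [← hfA, ← hAnat, Category.assoc, ha₀, ← Category.assoc, hBnat, hfB]
    rw [ha]
    show (lift _ _ ≫ fst A B ≫ iA) * z * (lift _ _ ≫ snd A B ≫ iB)⁻¹ = z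
    rw [lift_fst_assoc, lift_snd_assoc]
    rcases hcent with h | h
    · rw [← h _ z, he, mul_inv_cancel_right]
    · rw [he, ← h _ z, mul_inv_cancel_right]) 1 c
  rw [ha] at hmain
  change (lift _ _ ≫ fst A B ≫ iA) * 1 * (lift _ _ ≫ snd A B ≫ iB)⁻¹ = 1 at hmain
  rw [lift_fst_assoc, lift_snd_assoc, _root_.mul_one, mul_inv_eq_one] at hmain
  exact ⟨_, hmain⟩

end Local

section Global

variable {R : Type u} [CommRing R] (J : Ideal R) (hJ : IsNilpotent J)
  {G A B : Over (Spec (CommRingCat.of R))} [GrpObj G] [GrpObj A] [GrpObj B]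
include hJ

/-- A homomorphism which factors through a subgroup of multiplicative type modulo a nilpotent ideal factors through it. -/
theorem exists_factor
    (hA : TwC.Locally (Spec (CommRingCat.of R)) TwC.Topology.fpqc (fun S' f => ∃ (M : Type) (_ : AddCommGroup M),
      Nonempty (Grp.mk (Red.bc f A) ≅ Grp.mk (Red.DS S' M))))
    (hB : TwC.Locally (Spec (CommRingCat.of R)) TwC.Topology.fpqc (fun S' f => ∃ (M : Type) (_ : AddCommGroup M),
      Nonempty (Grp.mk (Red.bc f B) ≅ Grp.mk (Red.DS S' M))))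
    (iA : A ⟶ G) [IsMonHom iA] [IsImmersion iA.left] (iB : B ⟶ G) [IsMonHom iB]
    (hcent : (∀ (Y : Over (Spec (CommRingCat.of R))) (g : Y ⟶ G) (a : Y ⟶ A), g * (a ≫ iA) = (a ≫ iA) * g) ∨
      ∀ (Y : Over (Spec (CommRingCat.of R))) (g : Y ⟶ G) (b : Y ⟶ B), g * (b ≫ iB) = (b ≫ iB) * g)
    (h0 : ∀ (Y : Over (Spec (CommRingCat.of R))) (_ : Y ⟶ Over.mk (Spec.map (CommRingCat.ofHom (Ideal.Quotient.mk J))))
      (b : Y ⟶ B), ∃ a : Y ⟶ A, a ≫ iA = b ≫ iB) :
    ∃ θ : B ⟶ A, θ ≫ iA = iB := by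
  haveI : Mono iA := Over.mono_of_mono_left _
  obtain ⟨SA, fA, hAflat, hAsurj, hAqc, hAloc⟩ := hA
  obtain ⟨SB, fB, hBflat, hBsurj, hBqc, hBloc⟩ := hB
  let P1 : Over (Spec (CommRingCat.of R)) := Over.mk (pullback.fst B.hom fA ≫ B.hom)
  let p1 : P1 ⟶ B := Over.homMk (pullback.fst B.hom fA) rfl
  let P : Over (Spec (CommRingCat.of R)) := Over.mk (pullback.fst P1.hom fB ≫ P1.hom)
  let p : P ⟶ P1 := Over.homMk (pullback.fst P1.hom fB) rfl
  have hp1 : FpqcDescLib.Covers p1.left :=
    (FpqcDescLib.covers_of_hcov fA ⟨SA, fA, 𝟙 _, Category.id_comp _, hAsurj, hAflat, hAqc⟩).pullback B.hom p1.left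
      (pullback.snd B.hom fA) (IsPullback.of_hasPullback B.hom fA)
  have hp : FpqcDescLib.Covers p.left :=
    (FpqcDescLib.covers_of_hcov fB ⟨SB, fB, 𝟙 _, Category.id_comp _, hBsurj, hBflat, hBqc⟩).pullback P1.hom p.left
      (pullback.snd P1.hom fB) (IsPullback.of_hasPullback P1.hom fB)
  let rA : P.left ⟶ SA := pullback.fst P1.hom fB ≫ pullback.snd B.hom fA
  let rB : P.left ⟶ SB := pullback.snd P1.hom fB
  have hrA : rA ≫ fA = P.hom := by
    show (pullback.fst P1.hom fB ≫ pullback.snd B.hom fA) ≫ fA = pullback.fst P1.hom fB ≫ pullback.fst B.hom fA ≫ B.hom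
    rw [Category.assoc, pullback.condition]
  have hrB : rB ≫ fB = P.hom := pullback.condition.symm
  obtain ⟨l, hl⟩ := exists_lift_of_stalks iA.left (p ≫ p1 ≫ iB).left fun z => by
    obtain ⟨UA, hzA, MA, iMA, ⟨eA⟩⟩ := hAloc (rA z)
    obtain ⟨UB, hzB, MB, iMB, ⟨eB⟩⟩ := hBloc (rB z)
    let T : Type u := P.left.presheaf.stalk z
    haveI : IsLocalRing T := inferInstanceAs (IsLocalRing (P.left.presheaf.stalk z))
    let β : Spec (CommRingCat.of T) ⟶ Spec (CommRingCat.of R) := P.left.fromSpecStalk z ≫ P.hom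
    have hgen : ∀ q, P.left.fromSpecStalk z q ⤳ z := fun q => by
      have : P.left.fromSpecStalk z q ∈ Set.range (P.left.fromSpecStalk z) := ⟨q, rfl⟩
      rwa [Scheme.range_fromSpecStalk] at this
    have hrangeA : Set.range (P.left.fromSpecStalk z ≫ rA) ⊆ Set.range UA.ι := by
      rintro _ ⟨q, rfl⟩
      rw [Scheme.Opens.range_ι]
      exact ((hgen q).map rA.base.hom.continuous).mem_open UA.isOpen hzA
    have hrangeB : Set.range (P.left.fromSpecStalk z ≫ rB) ⊆ Set.range UB.ι := by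
      rintro _ ⟨q, rfl⟩
      rw [Scheme.Opens.range_ι]
      exact ((hgen q).map rB.base.hom.continuous).mem_open UB.isOpen hzB
    obtain ⟨χA, hAnat, hAmul, hAbij⟩ := exists_char (β := β) (UA.ι ≫ fA) eA
      (IsOpenImmersion.lift UA.ι _ hrangeA) (by
        rw [IsOpenImmersion.lift_fac_assoc, Category.assoc, hrA])
    obtain ⟨χB, hBnat, hBmul, hBbij⟩ := exists_char (β := β) (UB.ι ≫ fB) eB
      (IsOpenImmersion.lift UB.ι _ hrangeB) (by
        rw [IsOpenImmersion.lift_fac_assoc, Category.assoc, hrB])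
    obtain ⟨ρ, hρ⟩ : ∃ ρ, Spec.map ρ = β := ⟨_, Spec.map_preimage β⟩
    let t : sp β T ⟶ P := Over.homMk (P.left.fromSpecStalk z) (by
      show P.left.fromSpecStalk z ≫ P.hom = Spec.map (CommRingCat.ofHom (algebraMap T T)) ≫ β
      rw [show Spec.map (CommRingCat.ofHom (algebraMap T T)) = 𝟙 _ from Spec.map_id _, Category.id_comp])
    obtain ⟨a, ha⟩ := local_lift iA iB hcent (isAffineOpen_top (Spec (CommRingCat.of R))) (fun _ => trivial)
      χA hAnat hAmul hAbij χB hBnat hBmul hBbij (J.map ρ.hom)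
      (by obtain ⟨n, hn⟩ := hJ
          exact ⟨n, by rw [← Ideal.map_pow, hn, Ideal.zero_eq_bot, Ideal.map_bot]; rfl⟩)
      (fun T₁ _ _ hT₁ x => by
        refine h0 _ (Over.homMk (Spec.map (CommRingCat.ofHom (Ideal.Quotient.lift J ((algebraMap T T₁).comp ρ.hom)
          (fun r hr => hT₁ _ (Ideal.mem_map_of_mem _ hr))))) ?_) x
        show _ ≫ Spec.map _ = Spec.map (CommRingCat.ofHom (algebraMap T T₁)) ≫ β
        rw [← hρ, ← Spec.map_comp, ← Spec.map_comp]
        congr 1)
      (t ≫ p ≫ p1)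
    refine ⟨a.left, ?_⟩
    rw [← Over.comp_left, ha, Category.assoc, Category.assoc, Over.comp_left]
    rfl
  have hw : l ≫ A.hom = P.hom := by
    have h := congrArg (fun m => m ≫ G.hom) hl
    simp only [Category.assoc, Over.w] at h
    exact h
  let l' : P ⟶ A := Over.homMk l hw
  have hl' : l' ≫ iA = p ≫ p1 ≫ iB := Over.OverMorphism.ext hl
  obtain ⟨l1, hl1, -⟩ := hp.over_desc l' fun T a b hab => by
    rw [← cancel_mono iA, Category.assoc, Category.assoc, hl', reassoc_of% hab]
  haveI := hp.over_epi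
  have hl1' : l1 ≫ iA = p1 ≫ iB := by rw [← cancel_epi p, reassoc_of% hl1, hl']
  obtain ⟨θ, hθ, -⟩ := hp1.over_desc l1 fun T a b hab => by
    rw [← cancel_mono iA, Category.assoc, Category.assoc, hl1', reassoc_of% hab]
  haveI := hp1.over_epi
  exact ⟨θ, by rw [← cancel_epi p1, reassoc_of% hθ, hl1']⟩

end Global

end Groth.Agent.GrpSchLib.SubgroupFactor
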