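import Groth.Agent.GrpSchLib.HomMonoLocus
import Groth.Agent.GrpSchLib.SubgroupFactor
import Groth.Agent.QuotMapLib.Basic
import Mathlib.RingTheory.Flat.FaithfullyFlat.Basic
import Mathlib.AlgebraicGeometry.Morphisms.FlatMono

/-!
# Homomorphisms of groups of multiplicative type are locally given by maps of character groups

For `u : H ⟶ Q` with both groups split over a piece and `M_Q` finitely generated, near each prime `u` is `D(φ)` for a map
`φ : M_Q → M_H`; `D(φ)` is a monomorphism when `φ` is surjective and flat and surjective when `φ` is injective.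
-/

universe u

open CategoryTheory CategoryTheory.Limits MonoidalCategory CartesianMonoidalCategory MonObj AlgebraicGeometry

namespace Groth.Agent.GrpSchLib.HomSplitLocal

open DSPtsLib (CoordM)
open DiagActionRigid (sp spm)
open SubgroupFactor (pull pull_single)

section Algebra

/-- A group algebra is free over the algebra of a subgroup. -/
theorem flat_surjective_of_injective (R : Type u) [CommRing R] {M N : Type} [AddCommGroup M] [AddCommGroup N]
    (φ : M →+ N) (hφ : Function.Injective φ) :
    Flat (Spec.map (CommRingCat.ofHom (MonoidAlgebra.mapDomainRingHom R (AddMonoidHom.toMultiplicative φ)))) ∧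
      Surjective (Spec.map (CommRingCat.ofHom (MonoidAlgebra.mapDomainRingHom R (AddMonoidHom.toMultiplicative φ)))) := by
  classical
  rcases subsingleton_or_nontrivial R with hR | hR
  · haveI : IsEmpty (Spec (CommRingCat.of (MonoidAlgebra R (Multiplicative M)))) :=
      inferInstanceAs (IsEmpty (PrimeSpectrum (MonoidAlgebra R (Multiplicative M))))
    haveI : IsEmpty (Spec (CommRingCat.of (MonoidAlgebra R (Multiplicative N)))) :=
      inferInstanceAs (IsEmpty (PrimeSpectrum (MonoidAlgebra R (Multiplicative N))))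
    exact ⟨inferInstance, ⟨fun y => isEmptyElim y⟩⟩
  set g := AddMonoidHom.toMultiplicative φ with hgdef
  have hg : Function.Injective g := fun a b h => Multiplicative.toAdd.injective (hφ (congrArg Multiplicative.toAdd h))
  let A := MonoidAlgebra R (Multiplicative M)
  let B := MonoidAlgebra R (Multiplicative N)
  letI : Algebra A B := (MonoidAlgebra.mapDomainRingHom R g).toAlgebra
  let Q := Multiplicative N ⧸ g.range
  let L : (Q →₀ A) →ₗ[A] B := Finsupp.linearCombination A fun q : Q => (MonoidAlgebra.single q.out (1 : R) : B)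
  have hsmul : ∀ (a : Multiplicative M) (r : R) (q : Q),
      (MonoidAlgebra.single a r : A) • (MonoidAlgebra.single q.out (1 : R) : B) = MonoidAlgebra.single (g a * q.out) r := by
    intro a r q
    rw [Algebra.smul_def]
    show MonoidAlgebra.mapDomainRingHom R g (MonoidAlgebra.single a r) * _ = _
    rw [MonoidAlgebra.mapDomainRingHom_apply, MonoidAlgebra.mapDomain_single, MonoidAlgebra.single_mul_single,
      _root_.mul_one]
  have hcoeff : ∀ (x : Q →₀ A) (q : Q) (a : Multiplicative M), (L x).coeff (g a * q.out) = (x q).coeff a := by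
    intro x q a
    induction x using Finsupp.induction_linear with
    | zero => simp
    | add p r hp hr =>
      rw [map_add, MonoidAlgebra.coeff_add, Finsupp.add_apply, hp, hr, Finsupp.add_apply, MonoidAlgebra.coeff_add,
        Finsupp.add_apply]
    | single q' z =>
      simp only [L, Finsupp.linearCombination_single]
      induction z using MonoidAlgebra.induction_linear with
      | zero => simp
      | add p r hp hr =>
        rw [add_smul, MonoidAlgebra.coeff_add, Finsupp.add_apply, hp, hr, Finsupp.single_add, Finsupp.add_apply,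
          MonoidAlgebra.coeff_add, Finsupp.add_apply]
      | single b r =>
        rw [hsmul, MonoidAlgebra.coeff_single]
        by_cases hq : q' = q
        · subst hq
          rw [Finsupp.single_eq_same, MonoidAlgebra.coeff_single, Finsupp.single_apply, Finsupp.single_apply]
          by_cases hb : b = a
          · rw [hb, if_pos rfl, if_pos rfl]
          · rw [if_neg hb, if_neg fun h => hb (hg (mul_right_cancel h))]
        · rw [Finsupp.single_eq_of_ne (Ne.symm hq), MonoidAlgebra.coeff_zero, Finsupp.zero_apply, Finsupp.single_apply,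
            if_neg]
          intro h
          apply hq
          have := congrArg (QuotientGroup.mk (s := g.range)) h
          simp only [QuotientGroup.mk_mul] at this
          rwa [(QuotientGroup.eq_one_iff (g b)).mpr (MonoidHom.mem_range.mpr ⟨b, rfl⟩), (QuotientGroup.eq_one_iff (g a)).mpr (MonoidHom.mem_range.mpr ⟨a, rfl⟩),
            _root_.one_mul, _root_.one_mul, QuotientGroup.out_eq', QuotientGroup.out_eq'] at this
  have hinj : Function.Injective L := by
    intro x y h
    ext q a
    rw [← hcoeff x q a, ← hcoeff y q a, h]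
  have hsurj : Function.Surjective L := by
    intro z
    induction z using MonoidAlgebra.induction_linear with
    | zero => exact ⟨0, map_zero _⟩
    | add p r hp hr =>
      obtain ⟨p', rfl⟩ := hp
      obtain ⟨r', rfl⟩ := hr
      exact ⟨p' + r', map_add _ _ _⟩
    | single n r =>
      have hmem : n * ((QuotientGroup.mk n : Q).out)⁻¹ ∈ g.range := by
        rw [← QuotientGroup.eq_one_iff, QuotientGroup.mk_mul, QuotientGroup.mk_inv, QuotientGroup.out_eq',
          mul_inv_cancel]
      obtain ⟨a, ha⟩ := hmem
      refine ⟨Finsupp.single (QuotientGroup.mk n) (MonoidAlgebra.single a r), ?_⟩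
      rw [Finsupp.linearCombination_single, hsmul, ha, inv_mul_cancel_right]
  haveI : Module.Free A B := Module.Free.of_equiv (LinearEquiv.ofBijective L ⟨hinj, hsurj⟩)
  haveI : Module.FaithfullyFlat A B := inferInstance
  constructor
  · rw [HasRingHomProperty.Spec_iff (P := @Flat)]
    show RingHom.Flat (algebraMap A B)
    rw [RingHom.flat_algebraMap_iff]
    infer_instance
  · exact ⟨PrimeSpectrum.comap_surjective_of_faithfullyFlat (A := A) (B := B)⟩

end Algebra

section Square

variable {S : Scheme.{u}} {H Q : Over S} (u : H ⟶ Q)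

theorem map_fst {T : Scheme.{u}} (g : T ⟶ S) :
    ((Over.pullback g).map u).left ≫ pullback.fst Q.hom g = pullback.fst H.hom g ≫ u.left := by
  simp only [Over.pullback_map_left]
  exact pullback.lift_fst _ _ _

theorem map_snd {T : Scheme.{u}} (g : T ⟶ S) :
    ((Over.pullback g).map u).left ≫ pullback.snd Q.hom g = pullback.snd H.hom g := by
  simp only [Over.pullback_map_left]
  exact pullback.lift_snd _ _ _

theorem isPullback_map {T : Scheme.{u}} (g : T ⟶ S) :
    IsPullback (pullback.fst H.hom g) ((Over.pullback g).map u).left u.left (pullback.fst Q.hom g) := by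
  have h1 := map_fst u g
  have h2 := map_snd u g
  refine IsPullback.of_bot ?_ h1.symm (IsPullback.of_hasPullback Q.hom g)
  rw [h2, Over.w u]
  exact IsPullback.of_hasPullback H.hom g

/-- Flat and surjective after base change along `g`. -/
def Ff {T : Scheme.{u}} (g : T ⟶ S) : Prop :=
  Flat ((Over.pullback g).map u).left ∧ Surjective ((Over.pullback g).map u).left

/-- The map of base changes along `l`. -/
noncomputable def baseMap (X : Over S) {T T' : Scheme.{u}} (l : T' ⟶ T) (g : T ⟶ S) :
    pullback X.hom (l ≫ g) ⟶ pullback X.hom g :=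
  pullback.lift (pullback.fst X.hom (l ≫ g)) (pullback.snd X.hom (l ≫ g) ≫ l)
    (by rw [pullback.condition, Category.assoc])

theorem isPullback_baseMap (X : Over S) {T T' : Scheme.{u}} (l : T' ⟶ T) (g : T ⟶ S) :
    IsPullback (baseMap X l g) (pullback.snd X.hom (l ≫ g)) (pullback.snd X.hom g) l := by
  refine IsPullback.of_right ?_ (pullback.lift_snd _ _ _) (IsPullback.of_hasPullback X.hom g)
  rw [show baseMap X l g ≫ pullback.fst X.hom g = pullback.fst X.hom (l ≫ g) from pullback.lift_fst _ _ _]
  exact IsPullback.of_hasPullback X.hom (l ≫ g)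

theorem isPullback_comp {T T' : Scheme.{u}} (l : T' ⟶ T) (g : T ⟶ S) :
    IsPullback (baseMap H l g) ((Over.pullback (l ≫ g)).map u).left ((Over.pullback g).map u).left (baseMap Q l g) := by
  refine IsPullback.of_right ?_ ?_ (isPullback_map u g)
  · rw [show baseMap H l g ≫ pullback.fst H.hom g = pullback.fst H.hom (l ≫ g) from pullback.lift_fst _ _ _,
      show baseMap Q l g ≫ pullback.fst Q.hom g = pullback.fst Q.hom (l ≫ g) from pullback.lift_fst _ _ _]
    exact isPullback_map u (l ≫ g)
  · apply pullback.hom_ext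
    · rw [Category.assoc, Category.assoc, map_fst, show baseMap Q l g ≫ pullback.fst Q.hom g = pullback.fst Q.hom (l ≫ g)
        from pullback.lift_fst _ _ _, map_fst, ← Category.assoc,
        show baseMap H l g ≫ pullback.fst H.hom g = pullback.fst H.hom (l ≫ g) from pullback.lift_fst _ _ _]
    · rw [Category.assoc, Category.assoc, map_snd, show baseMap Q l g ≫ pullback.snd Q.hom g = pullback.snd Q.hom (l ≫ g) ≫ l
        from pullback.lift_snd _ _ _, ← Category.assoc, map_snd]
      exact pullback.lift_snd _ _ _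

variable {u}

theorem Ff.comp {T T' : Scheme.{u}} {g : T ⟶ S} (h : Ff u g) (l : T' ⟶ T) : Ff u (l ≫ g) :=
  ⟨MorphismProperty.of_isPullback (P := @Flat) (isPullback_comp u l g) h.1,
    MorphismProperty.of_isPullback (P := @Surjective) (isPullback_comp u l g) h.2⟩

theorem Ff.of_flat_surjective {T T' : Scheme.{u}} {g : T ⟶ S} (l : T' ⟶ T) [Flat l] [Surjective l]
    (h : Ff u (l ≫ g)) : Ff u g := by
  haveI hbf : Flat (baseMap Q l g) :=
    MorphismProperty.of_isPullback (P := @Flat) (isPullback_baseMap Q l g).flip inferInstance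
  haveI hbs : Surjective (baseMap Q l g) :=
    MorphismProperty.of_isPullback (P := @Surjective) (isPullback_baseMap Q l g).flip inferInstance
  haveI := h.1
  haveI := h.2
  refine ⟨?_, ?_⟩
  · haveI : Flat (𝟙 _ ≫ baseMap Q l g) := by rwa [Category.id_comp]
    haveI : Surjective (𝟙 _ ≫ baseMap Q l g) := by rwa [Category.id_comp]
    exact QuotMapLib.flat_of_isPullback (baseMap Q l g) (𝟙 _) ((Over.pullback g).map u).left
      ((Over.pullback (l ≫ g)).map u).left (baseMap H l g) (isPullback_comp u l g).flip
  · have h2 : Surjective (baseMap H l g ≫ ((Over.pullback g).map u).left) := by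
      rw [(isPullback_comp u l g).w]; infer_instance
    exact Surjective.of_comp (baseMap H l g) _

end Square

theorem isIso_of_affine_points {X Y : Scheme.{u}} (f : X ⟶ Y)
    (h : ∀ (B : CommRingCat.{u}) (y : Spec B ⟶ Y), ∃! x, x ≫ f = y) : IsIso f := by
  have hmono : Mono f := ⟨fun {Z} a b hab => Scheme.Cover.hom_ext Z.affineCover _ _ fun i => by
    obtain ⟨B, hB⟩ : ∃ B : CommRingCat.{u}, Z.affineCover.X i = Spec B := ⟨_, rfl⟩
    rw [← cancel_epi (eqToHom hB.symm)]
    exact (h B (eqToHom hB.symm ≫ Z.affineCover.f i ≫ a ≫ f)).unique (by simp) (by simp [hab])⟩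
  have hex : ∀ i, ∃ x : Y.affineCover.X i ⟶ X, x ≫ f = Y.affineCover.f i := fun i => by
    obtain ⟨B, hB⟩ : ∃ B : CommRingCat.{u}, Y.affineCover.X i = Spec B := ⟨_, rfl⟩
    obtain ⟨x, hx, -⟩ := h B (eqToHom hB.symm ≫ Y.affineCover.f i)
    exact ⟨eqToHom hB ≫ x, by rw [Category.assoc, hx]; simp⟩
  choose x hx using hex
  let s : Y ⟶ X := Y.affineCover.glueMorphisms x fun i k => by
    rw [← cancel_mono f, Category.assoc, Category.assoc, hx, hx, pullback.condition]
  have hs : s ≫ f = 𝟙 Y := Scheme.Cover.hom_ext Y.affineCover _ _ fun i => by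
    rw [← Category.assoc, Scheme.Cover.ι_glueMorphisms, hx, Category.comp_id]
  exact ⟨s, by rw [← cancel_mono f, Category.assoc, hs, Category.comp_id, Category.id_comp], hs⟩

section Piece

variable {S : Scheme.{u}} {H Q : Over S} [GrpObj H] [GrpObj Q] (u : H ⟶ Q) [IsMonHom u]
  {R : Type u} [CommRing R] {β : Spec (CommRingCat.of R) ⟶ S} {MH MQ : Type} [AddCommGroup MH] [AddCommGroup MQ]
  (χH : ∀ (T : Type u) [CommRing T] [Algebra R T], (CoordM.{u} MH →+* T) → (sp β T ⟶ H))
  (hHnat : ∀ {T₁ T₂ : Type u} [CommRing T₁] [Algebra R T₁] [CommRing T₂] [Algebra R T₂] (φ : T₁ →ₐ[R] T₂)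
      (c : CoordM.{u} MH →+* T₁), spm β φ ≫ χH T₁ c = χH T₂ (φ.toRingHom.comp c))
  (hHmul : ∀ {T₁ : Type u} [CommRing T₁] [Algebra R T₁] (c c' d : CoordM.{u} MH →+* T₁),
      (∀ m, d (MonoidAlgebra.single m 1) = c (MonoidAlgebra.single m 1) * c' (MonoidAlgebra.single m 1)) →
        χH T₁ c * χH T₁ c' = χH T₁ d)
  (hHbij : ∀ (T₁ : Type u) [CommRing T₁] [Algebra R T₁], Function.Bijective (χH T₁))
  (χQ : ∀ (T : Type u) [CommRing T] [Algebra R T], (CoordM.{u} MQ →+* T) → (sp β T ⟶ Q))
  (hQnat : ∀ {T₁ T₂ : Type u} [CommRing T₁] [Algebra R T₁] [CommRing T₂] [Algebra R T₂] (φ : T₁ →ₐ[R] T₂)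
      (c : CoordM.{u} MQ →+* T₁), spm β φ ≫ χQ T₁ c = χQ T₂ (φ.toRingHom.comp c))
  (hQmul : ∀ {T₁ : Type u} [CommRing T₁] [Algebra R T₁] (c c' d : CoordM.{u} MQ →+* T₁),
      (∀ m, d (MonoidAlgebra.single m 1) = c (MonoidAlgebra.single m 1) * c' (MonoidAlgebra.single m 1)) →
        χQ T₁ c * χQ T₁ c' = χQ T₁ d)
  (hQbij : ∀ (T₁ : Type u) [CommRing T₁] [Algebra R T₁], Function.Bijective (χQ T₁))

include hHnat hHmul hQnat hQmul hQbij in
/-- Near each prime `u` comes from a map of character groups. -/
theorem exists_phi_near [AddGroup.FG MQ] (p : Ideal R) [p.IsPrime] :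
    ∃ d ∉ p, ∃ φ : MQ →+ MH, ∀ (T : Type u) [CommRing T] [Algebra R T], IsUnit (algebraMap R T d) →
      ∀ c : CoordM.{u} MH →+* T, χH T c ≫ u = χQ T (pull φ c) := by
  classical
  let C1 := MonoidAlgebra R (Multiplicative MH)
  let C2 := MonoidAlgebra R (Multiplicative MH × Multiplicative MH)
  let cH : CoordM.{u} MH →+* C1 := DiagActionRigid.univPt R (AddMonoidHom.id MH)
  obtain ⟨cQ, hcQ⟩ := (hQbij C1).2 (χH C1 cH ≫ u)
  let v : Multiplicative MQ →* C1 := (cQ : CoordM.{u} MQ →* C1).comp (MonoidAlgebra.of (ULift.{u} ℤ) (Multiplicative MQ))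
  let σ : (Multiplicative MH →* Multiplicative MH × Multiplicative MH) → (C1 →ₐ[R] C2) := fun τ =>
    MonoidAlgebra.mapDomainAlgHom R R τ
  let τ₁ := MonoidHom.inl (Multiplicative MH) (Multiplicative MH)
  let τ₂ := MonoidHom.inr (Multiplicative MH) (Multiplicative MH)
  let τ₃ := (MonoidHom.id (Multiplicative MH)).prod (MonoidHom.id (Multiplicative MH))
  have hσH : ∀ τ m, ((σ τ).toRingHom.comp cH) (MonoidAlgebra.single m 1) = MonoidAlgebra.single (τ m) 1 := by
    intro τ m
    show σ τ (cH (MonoidAlgebra.single m 1)) = _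
    rw [DiagActionRigid.univPt_single]
    exact MonoidAlgebra.mapDomain_single
  have hv : ∀ m, MonoidAlgebra.mapDomainRingHom R τ₁ (v m) * MonoidAlgebra.mapDomainRingHom R τ₂ (v m) =
      MonoidAlgebra.mapDomainRingHom R τ₃ (v m) := by
    have hQ3 : χQ C2 ((σ τ₁).toRingHom.comp cQ) * χQ C2 ((σ τ₂).toRingHom.comp cQ) =
        χQ C2 ((σ τ₃).toRingHom.comp cQ) := by
      rw [← hQnat, ← hQnat, ← hQnat, hcQ, ← Category.assoc, ← Category.assoc, ← Category.assoc, hHnat, hHnat, hHnat,
        ← MonObj.mul_comp]
      congr 1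
      refine hHmul _ _ _ fun m => ?_
      rw [hσH, hσH, hσH, MonoidAlgebra.single_mul_single, _root_.mul_one]
      congr 1
      simp [τ₁, τ₂, τ₃]
    let d : Multiplicative MQ →* C2 := ((σ τ₁ : C1 →* C2).comp v) * ((σ τ₂ : C1 →* C2).comp v)
    have hd : ∀ m, HomMonoLocus.charOf (R := R) d (MonoidAlgebra.single m 1) =
        ((σ τ₁).toRingHom.comp cQ) (MonoidAlgebra.single m 1) *
          ((σ τ₂).toRingHom.comp cQ) (MonoidAlgebra.single m 1) := fun m => HomMonoLocus.charOf_single d m
    rw [hQmul _ _ _ hd] at hQ3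
    intro m
    have h := congrFun (congrArg DFunLike.coe ((hQbij C2).1 hQ3)) (MonoidAlgebra.single m 1)
    rw [hd] at h
    exact h
  -- at the local ring the image characters are monomials
  let Rp := Localization.AtPrime p
  let ψ : C1 →+* MonoidAlgebra Rp (Multiplicative MH) := MonoidAlgebra.mapRingHom _ (algebraMap R Rp)
  have hcomm : ∀ (τ : Multiplicative MH →* Multiplicative MH × Multiplicative MH) (z : C1),
      MonoidAlgebra.mapDomainRingHom Rp τ (ψ z) =
        MonoidAlgebra.mapRingHom _ (algebraMap R Rp) (MonoidAlgebra.mapDomainRingHom R τ z) := fun τ z => by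
    induction z using MonoidAlgebra.induction_linear with
    | zero => simp
    | add a b ha hb => rw [map_add, map_add, map_add, map_add, ha, hb]
    | single a r =>
      simp only [ψ, MonoidAlgebra.mapDomainRingHom_apply, MonoidAlgebra.mapRingHom_single, MonoidAlgebra.mapDomain_single]
      erw [MonoidAlgebra.mapRingHom_single]
      exact MonoidAlgebra.mapDomain_single
  obtain ⟨φ, hφ⟩ := SubgroupFactor.exists_monomial ((ψ : C1 →* MonoidAlgebra Rp (Multiplicative MH)).comp v) fun m => by
    show MonoidAlgebra.mapDomainRingHom Rp τ₁ (ψ (v m)) * MonoidAlgebra.mapDomainRingHom Rp τ₂ (ψ (v m)) = _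
    rw [hcomm, hcomm, ← map_mul, hv]
    exact (hcomm τ₃ (v m)).symm
  haveI : Group.FG (Multiplicative MQ) := GroupFG.iff_add_fg.mpr ‹_›
  obtain ⟨G₀, hG₀⟩ := (Group.FG.out : (⊤ : Subgroup (Multiplicative MQ)).FG)
  let e : Multiplicative MQ → R := fun m => (v m).coeff (AddMonoidHom.toMultiplicative φ m)
  refine ⟨∏ m ∈ G₀, e m, fun h => ?_, φ, fun T _ _ hd c => ?_⟩
  · obtain ⟨m, -, hm⟩ := Ideal.IsPrime.prod_mem_iff.mp h
    have h1 := congrArg (fun z : MonoidAlgebra Rp (Multiplicative MH) => z.coeff (AddMonoidHom.toMultiplicative φ m)) (hφ m)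
    change (MonoidAlgebra.mapRingHom _ (algebraMap R Rp) (v m)).coeff (AddMonoidHom.toMultiplicative φ m) = _ at h1
    rw [MonoidAlgebra.coeff_mapRingHom, MonoidAlgebra.coeff_single, Finsupp.single_eq_same] at h1
    have h2 : e m ∈ p.primeCompl := by
      rw [← IsLocalization.AtPrime.isUnit_to_map_iff Rp p]
      rw [show algebraMap R Rp (e m) = 1 from h1]
      exact isUnit_one
    exact h2 hm
  -- over `T` the coefficient is a unit idempotent
  let ψT : C1 →ₐ[R] MonoidAlgebra T (Multiplicative MH) :=
    { MonoidAlgebra.mapRingHom (Multiplicative MH) (algebraMap R T) with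
      commutes' := fun s => MonoidAlgebra.mapRingHom_single _ _ _ }
  have hgen : ∀ m ∈ G₀, ψT (v m) = MonoidAlgebra.single (AddMonoidHom.toMultiplicative φ m) 1 := by
    intro m hm
    set n := AddMonoidHom.toMultiplicative φ m
    have hu : IsUnit (algebraMap R T (e m)) := by
      rw [map_prod] at hd
      exact isUnit_of_dvd_unit (Finset.dvd_prod_of_mem (fun i => algebraMap R T (e i)) hm) hd
    have hmul : ∀ k, (v m).coeff n * (v m).coeff k = if n = k then (v m).coeff n else 0 := by
      intro k
      have h := congrArg (fun z : MonoidAlgebra R (Multiplicative MH × Multiplicative MH) => z.coeff (n, k)) (hv m)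
      have hl : ∀ a b : C1, (MonoidAlgebra.mapDomainRingHom R τ₁ a * MonoidAlgebra.mapDomainRingHom R τ₂ b).coeff (n, k) =
          a.coeff n * b.coeff k := by
        intro a b
        induction a using MonoidAlgebra.induction_linear with
        | zero => simp
        | add x y hx hy =>
          simp only [map_add, add_mul, MonoidAlgebra.coeff_add, Finsupp.add_apply, hx, hy]
        | single a r =>
          induction b using MonoidAlgebra.induction_linear with
          | zero => simp
          | add x y hx hy =>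
            simp only [map_add, mul_add, MonoidAlgebra.coeff_add, Finsupp.add_apply, hx, hy]
          | single b t =>
            simp only [MonoidAlgebra.mapDomainRingHom_apply, MonoidAlgebra.mapDomain_single,
              MonoidAlgebra.single_mul_single, MonoidAlgebra.coeff_single, τ₁, τ₂, MonoidHom.inl_apply,
              MonoidHom.inr_apply, Prod.mk_mul_mk, _root_.mul_one, _root_.one_mul, Finsupp.single_apply, Prod.mk.injEq]
            by_cases h1 : a = n <;> by_cases h2 : b = k <;> simp [h1, h2]
      simp only [hl] at h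
      rw [h]
      split_ifs with hnk
      · subst hnk
        exact Finsupp.mapDomain_apply (f := τ₃) (fun a b h => congrArg Prod.fst h) _ _
      · exact Finsupp.mapDomain_of_notMem_range _ _ fun ⟨a, ha⟩ =>
          hnk ((congrArg Prod.fst ha).symm.trans (congrArg Prod.snd ha))
    have h1 : algebraMap R T ((v m).coeff n) = 1 := by
      have h := congrArg (algebraMap R T) (hmul n)
      rw [if_pos rfl, map_mul] at h
      exact hu.mul_left_cancel (h.trans (_root_.mul_one _).symm)
    refine MonoidAlgebra.ext (Finsupp.ext fun k => ?_)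
    show (MonoidAlgebra.mapRingHom _ (algebraMap R T) (v m)).coeff k = _
    rw [MonoidAlgebra.coeff_mapRingHom, MonoidAlgebra.coeff_single, Finsupp.single_apply]
    split_ifs with hk
    · rw [← hk]; exact h1
    · have h := congrArg (algebraMap R T) (hmul k)
      rw [if_neg hk, map_mul, h1, _root_.one_mul, map_zero] at h
      exact h
  let w₁ : Multiplicative MQ →* MonoidAlgebra T (Multiplicative MH) := (ψT : C1 →* _).comp v
  let w₂ : Multiplicative MQ →* MonoidAlgebra T (Multiplicative MH) :=
    (MonoidAlgebra.of T (Multiplicative MH)).comp (AddMonoidHom.toMultiplicative φ)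
  have hw : w₁ = w₂ := MonoidHom.eq_of_eqOn_dense hG₀ fun m hm => hgen m hm
  let ev : C1 →ₐ[R] T := (AlgHom.restrictScalars R (MonoidAlgebra.lift T T (Multiplicative MH)
    ((c : CoordM.{u} MH →* T).comp (MonoidAlgebra.of (ULift.{u} ℤ) (Multiplicative MH))))).comp ψT
  have hev : ∀ n, ev (MonoidAlgebra.single n 1) = c (MonoidAlgebra.single n 1) := fun n => by
    show MonoidAlgebra.lift T T (Multiplicative MH) _ (MonoidAlgebra.mapRingHom _ (algebraMap R T) (MonoidAlgebra.single n 1)) = _
    rw [MonoidAlgebra.mapRingHom_single, map_one, MonoidAlgebra.lift_single, one_smul]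
    rfl
  have hevH : ev.toRingHom.comp cH = c := DiagActionRigid.coord_ext fun m => by
    show ev (cH (MonoidAlgebra.single m 1)) = _
    rw [DiagActionRigid.univPt_single]
    exact hev m
  have hevQ : ev.toRingHom.comp cQ = pull φ c := DiagActionRigid.coord_ext fun m => by
    show MonoidAlgebra.lift T T (Multiplicative MH) _ (w₁ m) = _
    rw [hw, pull_single]
    show MonoidAlgebra.lift T T (Multiplicative MH) _ (MonoidAlgebra.single (AddMonoidHom.toMultiplicative φ m) 1) = _
    rw [MonoidAlgebra.lift_single, one_smul]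
    rfl
  rw [← hevH, ← hHnat, Category.assoc, ← hcQ, hQnat, hevQ, hevH]

/-- The universal point, as a map to the base change. -/
noncomputable def univMap {X : Over S} {M : Type} [AddCommGroup M]
    (χ : ∀ (T : Type u) [CommRing T] [Algebra R T], (CoordM.{u} M →+* T) → (sp β T ⟶ X)) :
    Spec (CommRingCat.of (MonoidAlgebra R (Multiplicative M))) ⟶ pullback X.hom β :=
  pullback.lift (χ _ (DiagActionRigid.univPt R (AddMonoidHom.id M))).left
    (Spec.map (CommRingCat.ofHom (algebraMap R _)))
    (Over.w (χ _ (DiagActionRigid.univPt R (AddMonoidHom.id M))))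

theorem isIso_univMap {X : Over S} {M : Type} [AddCommGroup M]
    (χ : ∀ (T : Type u) [CommRing T] [Algebra R T], (CoordM.{u} M →+* T) → (sp β T ⟶ X))
    (hnat : ∀ {T₁ T₂ : Type u} [CommRing T₁] [Algebra R T₁] [CommRing T₂] [Algebra R T₂] (φ : T₁ →ₐ[R] T₂)
      (c : CoordM.{u} M →+* T₁), spm β φ ≫ χ T₁ c = χ T₂ (φ.toRingHom.comp c))
    (hbij : ∀ (T₁ : Type u) [CommRing T₁] [Algebra R T₁], Function.Bijective (χ T₁)) :
    IsIso (univMap χ) := by
  refine isIso_of_affine_points _ fun B y => ?_
  obtain ⟨τ, hτ⟩ : ∃ τ, Spec.map τ = y ≫ pullback.snd X.hom β := ⟨_, Spec.map_preimage _⟩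
  letI : Algebra R B := τ.hom.toAlgebra
  let pB : sp β B ⟶ X := Over.homMk (y ≫ pullback.fst X.hom β) (by
    show (y ≫ _) ≫ X.hom = Spec.map τ ≫ β
    rw [hτ, Category.assoc, Category.assoc, pullback.condition])
  obtain ⟨c, hc⟩ := (hbij B).2 pB
  have hfst : ∀ f : MonoidAlgebra R (Multiplicative M) →ₐ[R] B,
      Spec.map (CommRingCat.ofHom f.toRingHom) ≫ univMap χ ≫ pullback.fst X.hom β =
        (χ B (f.toRingHom.comp (DiagActionRigid.univPt R (AddMonoidHom.id M)))).left := fun f => by
    rw [univMap, pullback.lift_fst, ← hnat]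
    rfl
  refine ⟨Spec.map (CommRingCat.ofHom (HomKernelIdeal.evalChar (R := R) c).toRingHom), ?_, ?_⟩
  · refine pullback.hom_ext ?_ ?_
    · rw [Category.assoc, hfst, HomKernelIdeal.evalChar_univ, hc]
      rfl
    · rw [Category.assoc, univMap, pullback.lift_snd, ← hτ, ← Spec.map_comp]
      congr 1
      exact CommRingCat.hom_ext (HomKernelIdeal.evalChar (R := R) c).comp_algebraMap
  · intro x hx
    obtain ⟨ρ, rfl⟩ : ∃ ρ, Spec.map ρ = x := ⟨_, Spec.map_preimage x⟩
    have h2 := congrArg (· ≫ pullback.snd X.hom β) hx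
    simp only [Category.assoc, univMap, pullback.lift_snd, ← hτ, ← Spec.map_comp] at h2
    let f : MonoidAlgebra R (Multiplicative M) →ₐ[R] B :=
      { ρ.hom with commutes' := fun r => congr($(Spec.map_injective h2) r) }
    have h1 := congrArg (· ≫ pullback.fst X.hom β) hx
    simp only [Category.assoc] at h1
    have h3 : χ B (f.toRingHom.comp (DiagActionRigid.univPt R (AddMonoidHom.id M))) = χ B c := by
      rw [hc]
      refine Over.OverMorphism.ext ?_
      rw [← hfst f]
      exact h1
    have hf : f = HomKernelIdeal.evalChar (R := R) c := MonoidAlgebra.algHom_ext (fun m => by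
      rw [HomKernelIdeal.evalChar_single]
      have h4 := congrFun (congrArg DFunLike.coe ((hbij B).1 h3)) (MonoidAlgebra.single m 1)
      change f (DiagActionRigid.univPt R (AddMonoidHom.id M) (MonoidAlgebra.single m 1)) = _ at h4
      rw [DiagActionRigid.univPt_single] at h4
      exact h4) (Subsingleton.elim _ _)
    rw [← hf]
    rfl

variable {u}

include hHnat hHbij hQnat hQbij in
/-- Where `u` is `D(φ)` its base change is `Spec` of the map of group algebras. -/
theorem arrow_iso {φ : MQ →+ MH}
    (hφ : ∀ (T : Type u) [CommRing T] [Algebra R T] (c : CoordM.{u} MH →+* T), χH T c ≫ u = χQ T (pull φ c)) :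
    ∀ (P : MorphismProperty Scheme.{u}) [P.RespectsIso],
      P ((Over.pullback β).map u).left ↔
        P (Spec.map (CommRingCat.ofHom (MonoidAlgebra.mapDomainRingHom R (AddMonoidHom.toMultiplicative φ)))) := by
  intro P _
  haveI := isIso_univMap χH hHnat hHbij
  haveI := isIso_univMap χQ hQnat hQbij
  let F : MonoidAlgebra R (Multiplicative MQ) →ₐ[R] MonoidAlgebra R (Multiplicative MH) :=
    MonoidAlgebra.mapDomainAlgHom R R (AddMonoidHom.toMultiplicative φ)
  have hsq : univMap χH ≫ ((Over.pullback β).map u).left =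
      Spec.map (CommRingCat.ofHom (MonoidAlgebra.mapDomainRingHom R (AddMonoidHom.toMultiplicative φ))) ≫ univMap χQ := by
    refine pullback.hom_ext ?_ ?_
    · have h : (χH _ (DiagActionRigid.univPt R (AddMonoidHom.id MH)) ≫ u).left =
          (spm β F ≫ χQ _ (DiagActionRigid.univPt R (AddMonoidHom.id MQ))).left := by
        rw [hφ, hQnat]
        congr 2
        refine DiagActionRigid.coord_ext fun m => ?_
        rw [pull_single]
        show _ = F (DiagActionRigid.univPt R (AddMonoidHom.id MQ) (MonoidAlgebra.single m 1))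
        rw [DiagActionRigid.univPt_single, DiagActionRigid.univPt_single]
        exact (MonoidAlgebra.mapDomain_single (f := AddMonoidHom.toMultiplicative φ) (r := (1 : R))).symm
      rw [Category.assoc, map_fst, Category.assoc,
        show univMap χQ ≫ pullback.fst Q.hom β = (χQ (MonoidAlgebra R (Multiplicative MQ)) (DiagActionRigid.univPt R (AddMonoidHom.id MQ))).left from
          pullback.lift_fst _ _ _, ← Category.assoc,
        show univMap χH ≫ pullback.fst H.hom β = (χH (MonoidAlgebra R (Multiplicative MH)) (DiagActionRigid.univPt R (AddMonoidHom.id MH))).left from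
          pullback.lift_fst _ _ _]
      exact h
    · rw [Category.assoc, map_snd, Category.assoc,
        show univMap χQ ≫ pullback.snd Q.hom β = Spec.map (CommRingCat.ofHom (algebraMap R (MonoidAlgebra R (Multiplicative MQ)))) from
          pullback.lift_snd _ _ _,
        show univMap χH ≫ pullback.snd H.hom β = Spec.map (CommRingCat.ofHom (algebraMap R (MonoidAlgebra R (Multiplicative MH)))) from
          pullback.lift_snd _ _ _]
      rw [← Spec.map_comp]
      congr 1
      exact CommRingCat.hom_ext (F.comp_algebraMap).symm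
  rw [← P.cancel_left_of_respectsIso (univMap χH), hsq, P.cancel_right_of_respectsIso]

end Piece

end Groth.Agent.GrpSchLib.HomSplitLocal
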