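import Groth.Agent.GrpSchLib.IsogSub
import Groth.Agent.GrpSchLib.AntiAffineHom
import Groth.Agent.GrpSchLib.HomSplitLocal
import Groth.Agent.DSPtsLib.Basic
import Groth.Prelude.Def_AGF

/-! Properties of groups and of their subgroups invariant under isogenies over a field. -/

set_option autoImplicit false
set_option backward.isDefEq.respectTransparency.types false
set_option linter.style.haveILetI false
set_option maxHeartbeats 1000000

universe u

open CategoryTheory CategoryTheory.Limits MonoidalCategory CartesianMonoidalCategory MonObj AlgebraicGeometry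
open scoped commutatorElement

namespace Groth.Agent.GrpSchLib.IsogProps

open SolvGrp

variable {k : Type u} [Field k]

/-- The structure map of the algebraic closure. -/
noncomputable abbrev σ (k : Type u) [Field k] : Spec (CommRingCat.of (AlgebraicClosure k)) ⟶ Spec (CommRingCat.of k) :=
  Spec.map (CommRingCat.ofHom (algebraMap k (AlgebraicClosure k)))

local notation "Pt" => 𝟙_ (Over (Spec (CommRingCat.of (AlgebraicClosure k))))

/-- Points of the base change as geometric points. -/
theorem exists_equiv (G : Over (Spec (CommRingCat.of k))) [GrpObj G] :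
    Nonempty ((Pt ⟶ Red.bc (σ k) G) ≃* (Over.mk (σ k) ⟶ G)) := by
  let e : (Over.map (σ k)).obj Pt ≅ Over.mk (σ k) := Over.isoMk (Iso.refl _) (by
    show 𝟙 _ ≫ σ k = 𝟙 _ ≫ σ k
    rfl)
  exact ⟨(MulEquiv.ofBijective (MonoidHom.mk' (DSPtsLib.theta (σ k)) (DSPtsLib.theta_mul (σ k)))
    (DSPtsLib.theta_bijective (σ k))).trans
      { toFun := fun x => e.inv ≫ x
        invFun := fun x => e.hom ≫ x
        left_inv := fun x => by simp
        right_inv := fun x => by simp
        map_mul' := fun x y => MonObj.comp_mul e.inv x y }⟩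

theorem map_low_eq {A B : Type*} [Group A] [Group B] (φ : A →* B) (hφ : Function.Surjective φ) (n : ℕ) :
    (Subgroup.lowerCentralSeries (⊤ : Subgroup A) n).map φ = Subgroup.lowerCentralSeries (⊤ : Subgroup B) n := by
  rw [Subgroup.map_lowerCentralSeries, Subgroup.map_top_of_surjective _ hφ]

theorem solvable_iff (G : Over (Spec (CommRingCat.of k))) [GrpObj G] [Smooth G.hom] (n : ℕ) :
    (∀ X : Over (Spec (CommRingCat.of k)), derivedSeries (X ⟶ G) n = ⊥) ↔
      derivedSeries (Pt ⟶ Red.bc (σ k) G) n = ⊥ := by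
  obtain ⟨E⟩ := exists_equiv G
  rw [(WordSeries.series_iff (G := G) (AlgebraicClosure k) n).1]
  constructor <;> intro h
  · rw [← map_derivedSeries_eq E.symm.surjective n (f := E.symm.toMonoidHom), h, Subgroup.map_bot]
  · rw [← map_derivedSeries_eq E.surjective n (f := E.toMonoidHom), h, Subgroup.map_bot]

theorem nilpotent_iff (G : Over (Spec (CommRingCat.of k))) [GrpObj G] [Smooth G.hom] (n : ℕ) :
    (∀ X : Over (Spec (CommRingCat.of k)), Subgroup.upperCentralSeries (X ⟶ G) n = ⊤) ↔
      Subgroup.lowerCentralSeries (⊤ : Subgroup (Pt ⟶ Red.bc (σ k) G)) n = ⊥ := by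
  obtain ⟨E⟩ := exists_equiv G
  simp only [← Subgroup.lowerCentralSeries_eq_bot_iff_upperCentralSeries_eq_top]
  rw [(WordSeries.series_iff (G := G) (AlgebraicClosure k) n).2]
  constructor <;> intro h
  · rw [← map_low_eq E.symm.toMonoidHom E.symm.surjective n, h, Subgroup.map_bot]
  · rw [← map_low_eq E.toMonoidHom E.surjective n, h, Subgroup.map_bot]

theorem comm_iff {S : Scheme.{u}} (G : Over S) [GrpObj G] :
    IsCommMonObj G ↔ ∀ X : Over S, derivedSeries (X ⟶ G) 1 = ⊥ := by
  constructor
  · intro _ X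
    rw [derivedSeries_one, commutator_def, eq_bot_iff]
    exact Subgroup.commutator_le.mpr fun a _ b _ =>
      Subgroup.mem_bot.mpr (commutatorElement_eq_one_iff_commute.mpr (_root_.mul_comm a b))
  · intro h
    have hc : Commute (snd G G) (fst G G) := commutatorElement_eq_one_iff_commute.mp (Subgroup.mem_bot.mp (by
      rw [← h (G ⊗ G), derivedSeries_one, commutator_def]
      exact Subgroup.commutator_mem_commutator (Subgroup.mem_top _) (Subgroup.mem_top _)))
    refine ⟨?_⟩
    have hμ : fst G G * snd G G = μ[G] := by rw [Hom.mul_def, lift_fst_snd, Category.id_comp]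
    rw [← hμ, MonObj.comp_mul, braiding_hom_fst, braiding_hom_snd]
    exact hc.eq

section Bc

variable {G H : Over (Spec (CommRingCat.of k))} [GrpObj G] [GrpObj H] (f : G ⟶ H) [IsMonHom f]

theorem map_props [IsFinite f.left] [Surjective f.left] :
    IsFinite ((Over.pullback (σ k)).map f).left ∧ Surjective ((Over.pullback (σ k)).map f).left :=
  ⟨MorphismProperty.of_isPullback (P := @IsFinite) (HomSplitLocal.isPullback_map f (σ k)) inferInstance,
    MorphismProperty.of_isPullback (P := @Surjective) (HomSplitLocal.isPullback_map f (σ k)) inferInstance⟩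

variable [Smooth G.hom] [IsAffine G.left] [ConnectedSpace G.left] [Smooth H.hom] [IsAffine H.left]
  [ConnectedSpace H.left] [IsFinite f.left] [Surjective f.left]

include f in
/-- Unipotence, solvability, nilpotence and commutativity are isogeny invariant. -/
theorem props_iff :
    (Red.HasNoSubtorus (AlgebraicClosure k) (Red.bc (σ k) G) ↔ Red.HasNoSubtorus (AlgebraicClosure k) (Red.bc (σ k) H)) ∧
    (Red.IsSolvableGrp G ↔ Red.IsSolvableGrp H) ∧ (AGF.IsNilpotentGrp G ↔ AGF.IsNilpotentGrp H) ∧
    (IsCommMonObj G ↔ IsCommMonObj H) := by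
  obtain ⟨hF1, hF2⟩ := map_props f
  let F := (Over.pullback (σ k)).map f
  haveI : IsFinite F.left := hF1
  haveI : Surjective F.left := hF2
  haveI : IsAffine (Red.bc (σ k) G).left := inferInstanceAs (IsAffine (pullback G.hom (σ k)))
  haveI : IsAffine (Red.bc (σ k) H).left := inferInstanceAs (IsAffine (pullback H.hom (σ k)))
  haveI : Smooth (Red.bc (σ k) G).hom := inferInstanceAs (Smooth (pullback.snd G.hom (σ k)))
  haveI : Smooth (Red.bc (σ k) H).hom := inferInstanceAs (Smooth (pullback.snd H.hom (σ k)))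
  haveI : ConnectedSpace (Red.bc (σ k) G).left := AntiAffine.connectedSpace_bc G (algebraMap k (AlgebraicClosure k))
  haveI : ConnectedSpace (Red.bc (σ k) H).left := AntiAffine.connectedSpace_bc H (algebraMap k (AlgebraicClosure k))
  haveI := AntiAffine.isSeparated_grp (Red.bc (σ k) H)
  let φ : (Pt ⟶ Red.bc (σ k) G) →* (Pt ⟶ Red.bc (σ k) H) := MonoidHom.mk' (· ≫ F) fun x y => MonObj.mul_comp x y F
  have hφ : Function.Surjective φ := fun v => AGFLib.Gen.exists_of_mem_range F v (F.left.surjective _)
  have hd : ∀ n, derivedSeries (Pt ⟶ Red.bc (σ k) G) n = ⊥ ↔ derivedSeries (Pt ⟶ Red.bc (σ k) H) n = ⊥ := fun n =>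
    ⟨fun h => by rw [← map_derivedSeries_eq hφ n, h, Subgroup.map_bot], (IsogSub.series_source F n).1⟩
  have hl : ∀ n, Subgroup.lowerCentralSeries (⊤ : Subgroup (Pt ⟶ Red.bc (σ k) G)) n = ⊥ ↔
      Subgroup.lowerCentralSeries (⊤ : Subgroup (Pt ⟶ Red.bc (σ k) H)) n = ⊥ := fun n =>
    ⟨fun h => by rw [← map_low_eq φ hφ n, h, Subgroup.map_bot], (IsogSub.series_source F n).2⟩
  refine ⟨⟨IsogSub.hasNoSubtorus_target F, IsogSub.hasNoSubtorus_source F⟩, ?_, ?_, ?_⟩
  · exact exists_congr fun n => ((solvable_iff G n).trans (hd n)).trans (solvable_iff H n).symm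
  · exact exists_congr fun n => ((nilpotent_iff G n).trans (hl n)).trans (nilpotent_iff H n).symm
  · rw [comm_iff, comm_iff, solvable_iff, hd, ← solvable_iff]

end Bc

section Sub

variable {G H : Over (Spec (CommRingCat.of k))} [GrpObj G] [GrpObj H] [LocallyOfFiniteType G.hom] [QuasiCompact G.hom]
  [LocallyOfFiniteType H.hom] [QuasiCompact H.hom] (f : G ⟶ H) [IsMonHom f] [Surjective f.left] [IsFinite f.left]

include f in
/-- Transfer of the existence of a connected subgroup with a property along an isogeny. -/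
theorem exists_sub_iff
    (P : ∀ (U : Over (Spec (CommRingCat.of (AlgebraicClosure k)))), GrpObj U → Prop)
    (hdown : ∀ (U V : Over (Spec (CommRingCat.of (AlgebraicClosure k)))) [GrpObj U] [GrpObj V] [Smooth U.hom]
      [Smooth V.hom] [ConnectedSpace U.left] [ConnectedSpace V.left] (p : U ⟶ V) [IsMonHom p] [IsFinite p.left]
      [Surjective p.left], (P U inferInstance ↔ P V inferInstance)) (d : ℕ) :
    (∃ (U : Over (Spec (CommRingCat.of (AlgebraicClosure k)))) (h : GrpObj U) (i : U ⟶ Red.bc (σ k) G), IsMonHom i ∧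
        IsClosedImmersion i.left ∧ Smooth U.hom ∧ ConnectedSpace ↥U.left ∧ P U h ∧
        (d : WithBot ℕ∞) ≤ topologicalKrullDim ↥U.left) ↔
    (∃ (U : Over (Spec (CommRingCat.of (AlgebraicClosure k)))) (h : GrpObj U) (i : U ⟶ Red.bc (σ k) H), IsMonHom i ∧
        IsClosedImmersion i.left ∧ Smooth U.hom ∧ ConnectedSpace ↥U.left ∧ P U h ∧
        (d : WithBot ℕ∞) ≤ topologicalKrullDim ↥U.left) := by
  obtain ⟨hF1, hF2⟩ := map_props f
  let F := (Over.pullback (σ k)).map f
  haveI : IsFinite F.left := hF1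
  haveI : Surjective F.left := hF2
  haveI : LocallyOfFiniteType (Red.bc (σ k) G).hom := inferInstanceAs (LocallyOfFiniteType (pullback.snd G.hom (σ k)))
  haveI : LocallyOfFiniteType (Red.bc (σ k) H).hom := inferInstanceAs (LocallyOfFiniteType (pullback.snd H.hom (σ k)))
  haveI : QuasiCompact (Red.bc (σ k) G).hom := inferInstanceAs (QuasiCompact (pullback.snd G.hom (σ k)))
  haveI : QuasiCompact (Red.bc (σ k) H).hom := inferInstanceAs (QuasiCompact (pullback.snd H.hom (σ k)))
  constructor
  · rintro ⟨U, _, i, hi, hic, hs, hc, hP, hd⟩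
    obtain ⟨V, hV, j, p, hj, hjc, hsV, hcV, hp, hpf, hps, -⟩ := IsogSub.exists_image F i
    exact ⟨V, hV, j, hj, hjc, hsV, hcV, (hdown U V p).1 hP,
      hd.trans (IsogSub.topologicalKrullDim_eq_of_isIntegralHom p.left).le⟩
  · rintro ⟨V, _, j, hj, hjc, hs, hc, hP, hd⟩
    obtain ⟨U, hU, i, p, hi, hic, hsU, hcU, hp, hpf, hps, -⟩ := IsogSub.exists_preimage F j
    exact ⟨U, hU, i, hi, hic, hsU, hcU, (hdown U V p).2 hP,
      hd.trans (IsogSub.topologicalKrullDim_eq_of_isIntegralHom p.left).ge⟩

end Sub

/-- Affineness is invariant under finite surjections. -/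
theorem isAffine_iff {K : Type u} [Field K] {U V : Over (Spec (CommRingCat.of K))} [Smooth V.hom]
    [GrpObj V] [Smooth U.hom] [ConnectedSpace V.left] (p : U ⟶ V) [IsFinite p.left] [Surjective p.left] :
    IsAffine U.left ↔ IsAffine V.left := by
  refine ⟨fun _ => ?_, fun _ => isAffine_of_isAffineHom p.left⟩
  haveI : IsLocallyNoetherian V.left := LocallyOfFiniteType.isLocallyNoetherian V.hom
  haveI : CompactSpace V.left :=
    ⟨by rw [← p.left.surjective.range_eq]; exact isCompact_range p.left.continuous⟩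
  haveI : IsNoetherian V.left := ⟨⟩
  exact ChevAffine.isAffine_of_finite_surjective p.left

end Groth.Agent.GrpSchLib.IsogProps
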