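import Mathlib.RingTheory.HopfAlgebra.Convolution
import Mathlib.RingTheory.Bialgebra.Convolution
import Mathlib.RingTheory.Norm.Basic
import Mathlib.RingTheory.Spectrum.Prime.FreeLocus
import Mathlib.RingTheory.LocalRing.Module
import Mathlib.RingTheory.Flat.Stability

/-! A finite locally free commutative group scheme is killed by its rank (Deligne). -/

open TensorProduct WithConv

namespace Groth.Agent.GrpSchLib

universe u v w

variable {R : Type u} [CommRing R] {A : Type v} [CommRing A] [HopfAlgebra R A] [Coalgebra.IsCocomm R A]

theorem antipode_comp_mul {C : Type w} [CommRing C] [Algebra R C] (g : WithConv (A →ₐ[R] C)) :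
    toConv (g.ofConv.comp (HopfAlgebra.antipodeAlgHom R A)) * g = 1 := by
  apply WithConv.ofConv_injective
  have h := AlgHom.comp_convMul_distrib g.ofConv (toConv (HopfAlgebra.antipodeAlgHom R A)) (toConv (AlgHom.id R A))
  rw [AlgHom.antipode_id_cancel] at h
  refine h.symm.trans ?_
  ext a
  exact g.ofConv.commutes _

theorem mul_antipode_comp {C : Type w} [CommRing C] [Algebra R C] (g : WithConv (A →ₐ[R] C)) :
    g * toConv (g.ofConv.comp (HopfAlgebra.antipodeAlgHom R A)) = 1 :=
  (mul_comm _ _).trans (antipode_comp_mul g)

/-- Deligne's norm argument, over a test algebra over which the Hopf algebra becomes free. -/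
theorem pow_eq_one_of_basis {C : Type w} [CommRing C] [Algebra R C] {ι : Type*} [Fintype ι]
    (b : Module.Basis ι C (C ⊗[R] A)) (g : WithConv (A →ₐ[R] C)) : g ^ Fintype.card ι = 1 := by
  classical
  let inc : C →ₐ[R] C ⊗[R] A := Algebra.TensorProduct.includeLeft
  let u : WithConv (A →ₐ[R] C ⊗[R] A) := toConv Algebra.TensorProduct.includeRight
  let up : WithConv (A →ₐ[R] C) → WithConv (A →ₐ[R] C ⊗[R] A) := fun f => toConv (inc.comp f.ofConv)
  have hup : ∀ f f', up (f * f') = up f * up f' := fun f f' => by
    apply WithConv.ofConv_injective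
    exact AlgHom.comp_convMul_distrib inc f f'
  have hup1 : up 1 = 1 := by
    apply WithConv.ofConv_injective
    ext a
    exact inc.commutes _
  -- the translations
  let tr : WithConv (A →ₐ[R] C) → (C ⊗[R] A →ₐ[C] C ⊗[R] A) := fun f =>
    Algebra.TensorProduct.lift (Algebra.ofId C _) (up f * u).ofConv (fun _ _ => .all ..)
  have htru : ∀ f, ((tr f).restrictScalars R).comp u.ofConv = (up f * u).ofConv := fun f => by
    ext a; simp [tr, u]
  have htrinc : ∀ f f', ((tr f).restrictScalars R).comp (up f').ofConv = (up f').ofConv := fun f f' => by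
    ext a
    show tr f (algebraMap C (C ⊗[R] A) (f'.ofConv a)) = _
    rw [AlgHom.commutes]
    rfl
  have htrtr : ∀ f f', f' * f = 1 → (tr f).comp (tr f') = AlgHom.id C _ := fun f f' h => by
    apply Algebra.TensorProduct.ext
    · ext
    have e : ((tr f).restrictScalars R).comp (up f' * u).ofConv = u.ofConv := by
      rw [AlgHom.comp_convMul_distrib, htrinc, htru, toConv_ofConv, toConv_ofConv, ← mul_assoc, ← hup, h, hup1,
        one_mul]
    ext a
    have := AlgHom.congr_fun e a
    simpa [tr, u, ← Algebra.TensorProduct.one_def] using this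
  let e : C ⊗[R] A ≃ₐ[C] C ⊗[R] A :=
    AlgEquiv.ofAlgHom (tr g) (tr (toConv (g.ofConv.comp (HopfAlgebra.antipodeAlgHom R A))))
      (htrtr _ _ (antipode_comp_mul g)) (htrtr _ _ (mul_antipode_comp g))
  -- the two convolution algebras of forms
  let B := WithConv (A →ₗ[R] C)
  let M := WithConv (A →ₗ[R] C ⊗[R] A)
  let Ψ : B →+* M :=
    { toFun := fun f => toConv (inc.toLinearMap ∘ₗ f.ofConv)
      map_one' := by
        apply WithConv.ofConv_injective
        ext a
        exact inc.commutes _
      map_mul' := fun f f' => WithConv.ofConv_injective (LinearMap.algHom_comp_convMul_distrib inc f f')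
      map_zero' := by apply WithConv.ofConv_injective; ext a; exact map_zero inc
      map_add' := fun f f' => by apply WithConv.ofConv_injective; ext a; exact map_add inc _ _ }
  let : Algebra B M := Ψ.toAlgebra
  have hcoord : ∀ (i : ι) (f : B) (y : M),
      (b.coord i).restrictScalars R ∘ₗ (Ψ f * y).ofConv =
        (f * toConv ((b.coord i).restrictScalars R ∘ₗ y.ofConv)).ofConv := by
    intro i f y
    apply LinearMap.ext
    intro a
    rw [LinearMap.comp_apply, LinearMap.convMul_apply, LinearMap.convMul_apply]
    generalize Coalgebra.comul (R := R) a = t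
    induction t using TensorProduct.induction_on with
    | zero => simp
    | tmul p q =>
      show b.coord i (algebraMap C (C ⊗[R] A) (f.ofConv p) * y.ofConv q) = f.ofConv p * b.coord i (y.ofConv q)
      rw [← Algebra.smul_def, map_smul, smul_eq_mul]
    | add t t' ht ht' => simp only [map_add, ht, ht']
  let L : M →ₗ[B] (ι → B) :=
    { toFun := fun y i => toConv ((b.coord i).restrictScalars R ∘ₗ y.ofConv)
      map_add' := fun y y' => by
        funext i; apply WithConv.ofConv_injective; ext a; exact map_add (b.coord i) _ _
      map_smul' := fun f y => by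
        funext i
        apply WithConv.ofConv_injective
        exact hcoord i f y }
  let Linv : (ι → B) → M := fun x =>
    toConv ((b.equivFun.symm.restrictScalars R).toLinearMap ∘ₗ LinearMap.pi fun i => (x i).ofConv)
  have hL : Function.Bijective L := by
    constructor
    · intro y y' h
      apply WithConv.ofConv_injective
      ext a
      apply b.ext_elem
      intro i
      exact congrArg (fun x : ι → B => (x i).ofConv a) h
    · intro x
      refine ⟨Linv x, ?_⟩
      funext i
      apply WithConv.ofConv_injective
      ext a
      show b.repr (b.equivFun.symm fun j => (x j).ofConv a) i = _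
      rw [← b.equivFun_apply, LinearEquiv.apply_symm_apply]
  let bM : Module.Basis ι B M := .ofEquivFun (LinearEquiv.ofBijective L hL)
  let eM : M ≃ₐ[B] M :=
    { toFun := fun y => toConv (e.toLinearMap.restrictScalars R ∘ₗ y.ofConv)
      invFun := fun y => toConv (e.symm.toLinearMap.restrictScalars R ∘ₗ y.ofConv)
      left_inv := fun y => by
        apply WithConv.ofConv_injective
        apply LinearMap.ext
        intro a
        exact e.symm_apply_apply (y.ofConv a)
      right_inv := fun y => by
        apply WithConv.ofConv_injective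
        apply LinearMap.ext
        intro a
        exact e.apply_symm_apply (y.ofConv a)
      map_mul' := fun y y' =>
        WithConv.ofConv_injective (LinearMap.algHom_comp_convMul_distrib (e.toAlgHom.restrictScalars R) y y')
      map_add' := fun y y' => by apply WithConv.ofConv_injective; ext a; exact map_add e _ _
      commutes' := fun f => by
        apply WithConv.ofConv_injective
        ext a
        exact e.commutes (f.ofConv a) }
  let gl : B := toConv g.ofConv.toLinearMap
  let ul : M := toConv u.ofConv.toLinearMap
  have hu : IsUnit ul := by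
    let u' : WithConv (A →ₐ[R] C ⊗[R] A) := toConv (u.ofConv.comp (HopfAlgebra.antipodeAlgHom R A))
    refine IsUnit.of_mul_eq_one (toConv u'.ofConv.toLinearMap) ?_
    show toConv u.ofConv.toLinearMap * toConv u'.ofConv.toLinearMap = 1
    rw [← AlgHom.toLinearMap_convMul, mul_antipode_comp u, AlgHom.toLinearMap_convOne]
  have heu : eM ul = algebraMap B M gl * ul := by
    show toConv (e.toLinearMap.restrictScalars R ∘ₗ u.ofConv.toLinearMap) = _
    rw [show e.toLinearMap.restrictScalars R ∘ₗ u.ofConv.toLinearMap = (up g * u).ofConv.toLinearMap from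
      congrArg AlgHom.toLinearMap (htru g), AlgHom.toLinearMap_convMul]
    rfl
  have hN := congrArg (Algebra.norm B) heu
  rw [Algebra.norm_eq_of_algEquiv, map_mul, Algebra.norm_algebraMap_of_basis bM] at hN
  have hgl : gl ^ Fintype.card ι = 1 :=
    (hu.map (Algebra.norm B)).mul_right_cancel (hN.symm.trans (one_mul _).symm)
  apply WithConv.ofConv_injective
  apply AlgHom.toLinearMap_injective
  exact congrArg WithConv.ofConv ((AlgHom.toLinearMap_convPow g _).trans (hgl.trans AlgHom.toLinearMap_convOne.symm))

variable [Module.Finite R A] [Module.Projective R A]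

theorem pow_rank_eq_one {n : ℕ} (hn : ∀ p : PrimeSpectrum R, Module.rankAtStalk A p = n)
    {C : Type w} [CommRing C] [Algebra R C] (g : WithConv (A →ₐ[R] C)) : g ^ n = 1 := by
  apply WithConv.ofConv_injective
  ext a
  rw [← sub_eq_zero]
  refine eq_zero_of_localization _ fun m hm => ?_
  let Cm := Localization.AtPrime m
  let h : C →ₐ[R] Cm := IsScalarTower.toAlgHom R C Cm
  have : Module.Free Cm (Cm ⊗[R] A) := Module.free_of_flat_of_isLocalRing
  have hr : Module.finrank Cm (Cm ⊗[R] A) = n := by
    have h1 := congrFun (Module.rankAtStalk_eq_finrank_of_free (R := Cm) (M := Cm ⊗[R] A))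
      (IsLocalRing.closedPoint Cm)
    rw [Module.rankAtStalk_baseChange, hn] at h1
    exact h1.symm
  have key := pow_eq_one_of_basis (Module.finBasisOfFinrankEq Cm (Cm ⊗[R] A) hr) (toConv (h.comp g.ofConv))
  rw [Fintype.card_fin] at key
  have hpow : ∀ k : ℕ, toConv (h.comp (g ^ k).ofConv) = toConv (h.comp g.ofConv) ^ k := by
    intro k
    induction k with
    | zero =>
      apply WithConv.ofConv_injective
      ext c
      exact h.commutes _
    | succ k ih =>
      rw [pow_succ, pow_succ, ← ih]
      exact WithConv.ofConv_injective (AlgHom.comp_convMul_distrib h _ _)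
  have := congrArg (fun f : WithConv (A →ₐ[R] Cm) => f.ofConv a) ((hpow n).trans key)
  show algebraMap C Cm _ = 0
  rw [map_sub, sub_eq_zero]
  exact this.trans (h.commutes _).symm

end Groth.Agent.GrpSchLib
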