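import Groth.Agent.GrpSchLib.SubgroupFactor
import Groth.Agent.GrpSchLib.HomUnitLocus
import Groth.Agent.GrpSchLib.DiagSubgroupTrivial

/-!
# Where one subgroup of multiplicative type lies in another

For `iA : A ⟶ G` (an immersion) and `iB : B ⟶ G` of multiplicative type and finite type, one of them central and `G`
separated: the set of points over which `iB` factors through `iA` is open and closed, and it factors over it. On a piece
where both are split this set is a finite union over homomorphisms `φ : M_A → M_B` of clopen loci: the possible kernels of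
`M_A × M_B → characters of A ∩ B` are generated by differences of exponents of the equations of `A ∩ B`.
-/

universe u

open CategoryTheory CategoryTheory.Limits MonoidalCategory CartesianMonoidalCategory MonObj AlgebraicGeometry

namespace Groth.Agent.GrpSchLib.SubgroupEqLocus

open DSPtsLib (CoordM)
open DiagActionRigid (sp spm)
open DiagSubgroupTrivial (chg IsSubgroup)
open SubgroupFactor (pull pull_single)

section Ker

variable {R : Type u} [CommRing R] {M : Type} [AddCommGroup M] {I : Ideal (MonoidAlgebra R (Multiplicative M))}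

/-- Over a field the characters killed on the subgroup are generated by differences of exponents of equations. -/
theorem exists_finite_gen (hI : IsSubgroup I) (hfg : I.FG) :
    ∃ D : Finset (Multiplicative M), ∀ (K : Type u) [Field K] [Algebra R K], ∃ D' ⊆ D, ∀ n,
      MonoidAlgebra.single n 1 - 1 ∈ I.map (chg K) ↔ n ∈ Subgroup.closure (D' : Set (Multiplicative M)) := by
  classical
  obtain ⟨G, hG⟩ := hfg
  refine ⟨G.biUnion fun x => Finset.image₂ (fun a b => a / b) x.coeff.support x.coeff.support, fun K _ _ => ?_⟩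
  set D := G.biUnion fun x => Finset.image₂ (fun a b => a / b) x.coeff.support x.coeff.support
  refine ⟨D.filter (fun d => MonoidAlgebra.single d 1 - 1 ∈ I.map (chg K)), Finset.filter_subset _ _, fun n => ?_⟩
  obtain ⟨B, _, _, _, _, g, hg, hgm, ⟨ε, -⟩, Δ, hΔ⟩ := DiagSubgroupTrivial.exists_generic hI K
  have hB : Nontrivial B := ε.toRingHom.domain_nontrivial
  have hgen : ∀ m, MonoidAlgebra.single m 1 - 1 ∈ I.map (chg K) → g m = 1 := fun m hm => by
    have h := (Ideal.map_le_iff_le_comap.mpr fun b hb => by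
      rw [Ideal.mem_comap, RingHom.mem_ker, DiagSubgroupTrivial.lift_chg]
      exact hg hb : I.map (chg K) ≤ RingHom.ker (MonoidAlgebra.lift K B (Multiplicative M) g)) hm
    rwa [RingHom.mem_ker, map_sub, map_one, MonoidAlgebra.lift_single, one_smul, sub_eq_zero] at h
  set N' := Subgroup.closure ((D.filter fun d => MonoidAlgebra.single d 1 - 1 ∈ I.map (chg K) : Finset _) :
    Set (Multiplicative M))
  constructor
  · intro hn
    let π : Multiplicative M →* MonoidAlgebra K (Multiplicative M ⧸ N') :=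
      (MonoidAlgebra.of K (Multiplicative M ⧸ N')).comp (QuotientGroup.mk' N')
    have hπ : I ≤ RingHom.ker (MonoidAlgebra.lift R (MonoidAlgebra K (Multiplicative M ⧸ N')) (Multiplicative M) π) := by
      rw [← hG]
      refine Ideal.span_le.mpr fun x hx => ?_
      show MonoidAlgebra.lift R _ (Multiplicative M) π x = 0
      have hxI : x ∈ I := hG ▸ Ideal.subset_span hx
      have h0 : MonoidAlgebra.lift R B (Multiplicative M) g x = 0 := hg hxI
      rw [MonoidAlgebra.lift_apply, Finsupp.sum] at h0 ⊢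
      have hli := DiagSubgroupTrivial.linearIndepOn_of_comul Δ.toLinearMap (x.coeff.support.image g)
        (fun y hy => by obtain ⟨m, -, rfl⟩ := Finset.mem_image.mp hy; exact hΔ m)
        (fun y hy => by obtain ⟨m, -, rfl⟩ := Finset.mem_image.mp hy; exact (Group.isUnit m).map g) hB
      have hsum : ∀ y ∈ x.coeff.support.image g,
          ∑ m ∈ x.coeff.support with g m = y, algebraMap R K (x.coeff m) = 0 := by
        refine linearIndepOn_finset_iff.mp hli _ ?_
        simp only [id_eq, Finset.sum_smul]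
        rw [← h0, ← Finset.sum_fiberwise_of_maps_to (g := g) (fun m hm => Finset.mem_image_of_mem g hm)]
        refine Finset.sum_congr rfl fun y _ => Finset.sum_congr rfl fun m hm => ?_
        rw [(Finset.mem_filter.mp hm).2, algebraMap_smul]
      rw [← Finset.sum_fiberwise_of_maps_to (g := g) (fun m hm => Finset.mem_image_of_mem g hm)]
      refine Finset.sum_eq_zero fun y hy => ?_
      obtain ⟨m₀, hm₀, rfl⟩ := Finset.mem_image.mp hy
      have hπeq : ∀ m ∈ x.coeff.support, g m = g m₀ → π m = π m₀ := by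
        intro m hm he
        show MonoidAlgebra.of K _ _ = MonoidAlgebra.of K _ _
        congr 1
        refine (QuotientGroup.mk'_eq_mk' N').mpr ⟨(m / m₀)⁻¹, ?_, ?_⟩
        · refine inv_mem (Subgroup.subset_closure (Finset.mem_coe.mpr (Finset.mem_filter.mpr
            ⟨Finset.mem_biUnion.mpr ⟨x, hx, Finset.mem_image₂_of_mem hm hm₀⟩, hgm _ ?_⟩)))
          have h2 : g (m / m₀) * g m₀ = g m₀ := by rw [← map_mul, div_mul_cancel, he]
          exact ((Group.isUnit m₀).map g).mul_left_injective (h2.trans (_root_.one_mul _).symm)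
        · simp [div_eq_mul_inv, mul_comm, mul_left_comm]
      calc ∑ m ∈ x.coeff.support with g m = g m₀, x.coeff m • π m
          = ∑ m ∈ x.coeff.support with g m = g m₀, algebraMap R K (x.coeff m) • π m₀ :=
            Finset.sum_congr rfl fun m hm => by
              obtain ⟨hm1, hm2⟩ := Finset.mem_filter.mp hm
              rw [hπeq m hm1 hm2, algebraMap_smul]
        _ = 0 := by rw [← Finset.sum_smul, hsum _ hy, zero_smul]
    have h := (Ideal.map_le_iff_le_comap.mpr fun b hb => by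
      rw [Ideal.mem_comap, RingHom.mem_ker, DiagSubgroupTrivial.lift_chg]
      exact hπ hb : I.map (chg K) ≤ RingHom.ker (MonoidAlgebra.lift K _ (Multiplicative M) π)) hn
    rw [RingHom.mem_ker, map_sub, map_one, MonoidAlgebra.lift_single, one_smul, sub_eq_zero] at h
    exact (QuotientGroup.eq_one_iff n).mp (MonoidAlgebra.of_injective (h.trans (map_one _).symm))
  · intro hn
    refine hgm n ?_
    have : N' ≤ g.ker := (Subgroup.closure_le _).mpr fun d hd => hgen d (Finset.mem_filter.mp (Finset.mem_coe.mp hd)).2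
    exact this hn

end Ker

section Content

variable {R : Type u} [CommRing R] {M : Type} [AddCommGroup M] {J : Ideal (MonoidAlgebra R (Multiplicative M))}

theorem le_ker_of_content {T : Type u} [CommRing T] [Algebra R T]
    (hT : ∀ r ∈ HomKernelIdeal.content J, algebraMap R T r = 0) (f : CoordM.{u} M →+* T) :
    J ≤ RingHom.ker (HomKernelIdeal.evalChar (R := R) f) := by
  intro x hx
  rw [RingHom.mem_ker, ← MonoidAlgebra.sum_coeff_single x, Finsupp.sum, map_sum]
  refine Finset.sum_eq_zero fun m _ => ?_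
  unfold HomKernelIdeal.evalChar
  erw [MonoidAlgebra.lift_single]
  rw [Algebra.smul_def, hT _ (Ideal.subset_span ⟨x, hx, m, rfl⟩), zero_mul]

theorem content_of_le_ker {T : Type u} [CommRing T] [Algebra R T]
    (hT : J ≤ RingHom.ker (HomKernelIdeal.evalChar (R := R) (DiagActionRigid.univPt T (AddMonoidHom.id M)))) :
    ∀ r ∈ HomKernelIdeal.content J, algebraMap R T r = 0 := by
  classical
  intro r hr
  refine Submodule.span_induction (p := fun r _ => algebraMap R T r = 0) ?_ ?_ ?_ ?_ hr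
  · rintro _ ⟨x, hx, m, rfl⟩
    have h := hT hx
    have hev : HomKernelIdeal.evalChar (R := R) (DiagActionRigid.univPt T (AddMonoidHom.id M)) =
        { MonoidAlgebra.mapRingHom (Multiplicative M) (algebraMap R T) with
          commutes' := fun s => MonoidAlgebra.mapRingHom_single _ _ _ } :=
      MonoidAlgebra.algHom_ext (fun a => by
        rw [HomKernelIdeal.evalChar_single, DiagActionRigid.univPt_single]
        show _ = MonoidAlgebra.mapRingHom (Multiplicative M) (algebraMap R T) (MonoidAlgebra.single a 1)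
        rw [MonoidAlgebra.mapRingHom_single, map_one]
        rfl) (Subsingleton.elim _ _)
    rw [RingHom.mem_ker, hev] at h
    have := congrArg (fun z : MonoidAlgebra T (Multiplicative M) => z.coeff m) h
    change (MonoidAlgebra.mapRingHom (Multiplicative M) (algebraMap R T) x).coeff m = (0 : MonoidAlgebra T (Multiplicative M)).coeff m at this
    simpa [MonoidAlgebra.coeff_mapRingHom] using this
  · exact map_zero _
  · intro a b _ _ ha hb; rw [map_add, ha, hb, add_zero]
  · intro a b _ hb; rw [smul_eq_mul, map_mul, hb, mul_zero]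

/-- A finitely generated ideal which vanishes as soon as its square does is killed off each prime containing it. -/
theorem exists_notMem_mul {c : Ideal R} (hc : c.FG)
    (hrig : ∀ (T : Type u) [CommRing T] [Algebra R T], (∀ r ∈ c, ∀ r' ∈ c, algebraMap R T (r * r') = 0) →
      ∀ r ∈ c, algebraMap R T r = 0) (p : Ideal R) [p.IsPrime] (hp : c ≤ p) :
    ∃ r ∉ p, ∀ x ∈ c, r * x = 0 := by
  classical
  let Rp := Localization.AtPrime p
  let L := c.map (algebraMap R Rp)
  let m := IsLocalRing.maximalIdeal Rp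
  have hLm : L ≤ m := Ideal.map_le_iff_le_comap.mpr (hp.trans (fun x hx =>
    (IsLocalization.AtPrime.to_map_mem_maximal_iff Rp p x).mpr hx))
  let T := Rp ⧸ (m * L)
  have hLz : L ≤ m • L := by
    refine Ideal.map_le_iff_le_comap.mpr fun r hr => ?_
    have h := hrig T (fun a ha b hb => by
      rw [map_mul, IsScalarTower.algebraMap_apply R Rp T, IsScalarTower.algebraMap_apply R Rp T b,
        Ideal.Quotient.algebraMap_eq, ← map_mul]
      exact Ideal.Quotient.eq_zero_iff_mem.mpr
        (Ideal.mul_mem_mul (hLm (Ideal.mem_map_of_mem _ ha)) (Ideal.mem_map_of_mem _ hb))) r hr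
    rw [IsScalarTower.algebraMap_apply R Rp T, Ideal.Quotient.algebraMap_eq, Ideal.Quotient.eq_zero_iff_mem] at h
    exact h
  have hL : L = ⊥ := Submodule.eq_bot_of_le_smul_of_le_jacobson_bot m L (hc.map _) hLz
    (IsLocalRing.jacobson_eq_maximalIdeal ⊥ bot_ne_top).ge
  obtain ⟨T₀, hT₀⟩ := hc
  have hx : ∀ x ∈ c, ∃ r : R, r ∉ p ∧ r * x = 0 := fun x hx => by
    have h0 : algebraMap R Rp x = 0 := by
      rw [← Ideal.mem_bot, ← hL]; exact Ideal.mem_map_of_mem _ hx
    obtain ⟨r, hr⟩ := (IsLocalization.map_eq_zero_iff p.primeCompl Rp x).mp h0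
    exact ⟨r, r.2, hr⟩
  choose r hr using hx
  let rT : T₀ → R := fun x => r x.1 (hT₀ ▸ Ideal.subset_span x.2)
  refine ⟨∏ x, rT x, fun h => ?_, fun x hx => ?_⟩
  · obtain ⟨x, -, hxp⟩ := Ideal.IsPrime.prod_mem_iff.mp h
    exact (hr x.1 _).1 hxp
  · rw [← hT₀] at hx
    refine Submodule.span_induction (p := fun y _ => (∏ x, rT x) * y = 0) ?_ ?_ ?_ ?_ hx
    · intro y hy
      rw [← Finset.mul_prod_erase _ _ (Finset.mem_univ (⟨y, hy⟩ : T₀)), mul_right_comm]
      show rT ⟨y, hy⟩ * y * _ = 0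
      rw [show rT ⟨y, hy⟩ * y = 0 from (hr y _).2, zero_mul]
    · exact mul_zero _
    · intro a b _ _ ha hb; rw [mul_add, ha, hb, add_zero]
    · intro a b _ hb; rw [smul_eq_mul, mul_left_comm, hb, mul_zero]

end Content

section Piece

variable {S : Scheme.{u}} {G A B : Over S} [GrpObj G] [GrpObj A] [GrpObj B] (iA : A ⟶ G) [IsMonHom iA] [Mono iA]
  (iB : B ⟶ G) [IsMonHom iB]
  (hcent : (∀ (Y : Over S) (g : Y ⟶ G) (a : Y ⟶ A), g * (a ≫ iA) = (a ≫ iA) * g) ∨
    ∀ (Y : Over S) (g : Y ⟶ G) (b : Y ⟶ B), g * (b ≫ iB) = (b ≫ iB) * g)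
  {R : Type u} [CommRing R] {β : Spec (CommRingCat.of R) ⟶ S} {MA MB : Type} [AddCommGroup MA] [AddCommGroup MB]
  (χA : ∀ (T : Type u) [CommRing T] [Algebra R T], (CoordM.{u} MA →+* T) → (sp β T ⟶ A))
  (hAnat : ∀ {T₁ T₂ : Type u} [CommRing T₁] [Algebra R T₁] [CommRing T₂] [Algebra R T₂] (φ : T₁ →ₐ[R] T₂)
      (c : CoordM.{u} MA →+* T₁), spm β φ ≫ χA T₁ c = χA T₂ (φ.toRingHom.comp c))
  (hAmul : ∀ {T₁ : Type u} [CommRing T₁] [Algebra R T₁] (c c' d : CoordM.{u} MA →+* T₁),
      (∀ m, d (MonoidAlgebra.single m 1) = c (MonoidAlgebra.single m 1) * c' (MonoidAlgebra.single m 1)) →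
        χA T₁ c * χA T₁ c' = χA T₁ d)
  (hAbij : ∀ (T₁ : Type u) [CommRing T₁] [Algebra R T₁], Function.Bijective (χA T₁))
  (χB : ∀ (T : Type u) [CommRing T] [Algebra R T], (CoordM.{u} MB →+* T) → (sp β T ⟶ B))
  (hBnat : ∀ {T₁ T₂ : Type u} [CommRing T₁] [Algebra R T₁] [CommRing T₂] [Algebra R T₂] (φ : T₁ →ₐ[R] T₂)
      (c : CoordM.{u} MB →+* T₁), spm β φ ≫ χB T₁ c = χB T₂ (φ.toRingHom.comp c))
  (hBmul : ∀ {T₁ : Type u} [CommRing T₁] [Algebra R T₁] (c c' d : CoordM.{u} MB →+* T₁),
      (∀ m, d (MonoidAlgebra.single m 1) = c (MonoidAlgebra.single m 1) * c' (MonoidAlgebra.single m 1)) →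
        χB T₁ c * χB T₁ c' = χB T₁ d)
  (hBbij : ∀ (T₁ : Type u) [CommRing T₁] [Algebra R T₁], Function.Bijective (χB T₁))

/-- The image in `G` of the point of `A` equals that of the point of `B`. -/
def EqPt {T : Type u} [CommRing T] [Algebra R T] (c : CoordM.{u} (MA × MB) →+* T) : Prop :=
  χA T (pull (AddMonoidHom.inl MA MB) c) ≫ iA = χB T (pull (AddMonoidHom.inr MA MB) c) ≫ iB

theorem pull_pull {M N P : Type} [AddCommGroup M] [AddCommGroup N] [AddCommGroup P] {T : Type u} [CommRing T]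
    (φ : M →+ N) (ψ : N →+ P) (c : CoordM.{u} P →+* T) : pull φ (pull ψ c) = pull (ψ.comp φ) c :=
  DiagActionRigid.coord_ext fun m => by simp only [pull_single]; rfl

theorem eqPt_graph (φ : MA →+ MB) {T : Type u} [CommRing T] [Algebra R T] (c : CoordM.{u} MB →+* T) :
    EqPt iA iB χA χB (pull (φ.coprod (AddMonoidHom.id MB)) c) ↔ χA T (pull φ c) ≫ iA = χB T c ≫ iB := by
  rw [EqPt, pull_pull, pull_pull, AddMonoidHom.coprod_comp_inl, AddMonoidHom.coprod_comp_inr,
    show pull (AddMonoidHom.id MB) c = c from DiagActionRigid.coord_ext fun m => by rw [pull_single]; rfl]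

include hAnat hAmul hBnat hBmul in
/-- The equations of `A ∩ B`. -/
theorem exists_eqn {K : Scheme.{u}} (k : K ⟶ (A ⊗ B).left) [IsClosedImmersion k] [LocallyOfFinitePresentation k]
    (hk : ∀ (Y : Over S) (g : Y ⟶ A ⊗ B), g ≫ fst A B ≫ iA = g ≫ snd A B ≫ iB ↔ ∃ l, l ≫ k = g.left) :
    ∃ I : Ideal (MonoidAlgebra R (Multiplicative (MA × MB))), I.FG ∧ IsSubgroup I ∧
      ∀ (T : Type u) [CommRing T] [Algebra R T] (c : CoordM.{u} (MA × MB) →+* T),
        EqPt iA iB χA χB c ↔ I ≤ RingHom.ker (HomKernelIdeal.evalChar (R := R) c) := by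
  let Q := MonoidAlgebra R (Multiplicative (MA × MB))
  let pr : ∀ (T : Type u) [CommRing T] [Algebra R T], (CoordM.{u} (MA × MB) →+* T) → (sp β T ⟶ A ⊗ B) :=
    fun T _ _ c => lift (χA T (pull (AddMonoidHom.inl MA MB) c)) (χB T (pull (AddMonoidHom.inr MA MB) c))
  let t : Spec (CommRingCat.of Q) ⟶ (A ⊗ B).left :=
    (pr Q (DiagActionRigid.univPt R (AddMonoidHom.id (MA × MB)))).left
  obtain ⟨I, e, he⟩ := (IsClosedImmersion.Spec_iff (f := pullback.snd k t)).mp inferInstance
  have hIfg : I.FG := by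
    have h1 : LocallyOfFinitePresentation (e.hom ≫ Spec.map (CommRingCat.ofHom (Ideal.Quotient.mk I))) := by
      rw [← he]; infer_instance
    have h2 : LocallyOfFinitePresentation (Spec.map (CommRingCat.ofHom (Ideal.Quotient.mk I))) :=
      (MorphismProperty.cancel_left_of_respectsIso @LocallyOfFinitePresentation e.hom _).mp h1
    rw [LocallyOfFinitePresentation.SpecMap_iff] at h2
    haveI : Algebra.FinitePresentation Q (Q ⧸ I) := RingHom.finitePresentation_algebraMap.mp h2
    have h3 := Algebra.FinitePresentation.ker_fG_of_surjective (Ideal.Quotient.mkₐ Q I) Ideal.Quotient.mk_surjective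
    change (RingHom.ker (Ideal.Quotient.mk I)).FG at h3
    rwa [Ideal.mk_ker] at h3
  have hI : ∀ (T : Type u) [CommRing T] [Algebra R T] (c : CoordM.{u} (MA × MB) →+* T),
      EqPt iA iB χA χB c ↔ I ≤ RingHom.ker (HomKernelIdeal.evalChar (R := R) c) := by
    intro T _ _ c
    have hpt : (pr T c).left = Spec.map (CommRingCat.ofHom (HomKernelIdeal.evalChar (R := R) c).toRingHom) ≫ t := by
      have h : spm β (HomKernelIdeal.evalChar (R := R) c) ≫ pr Q (DiagActionRigid.univPt R (AddMonoidHom.id (MA × MB))) =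
          pr T c := by
        show spm β _ ≫ lift _ _ = _
        rw [comp_lift, hAnat, hBnat]
        congr 2 <;> (refine DiagActionRigid.coord_ext fun m => ?_
                     simp only [RingHom.comp_apply, pull_single]
                     exact RingHom.congr_fun (HomKernelIdeal.evalChar_univ (R := R) c) _)
      rw [← h]
      rfl
    have he' : EqPt iA iB χA χB c ↔ pr T c ≫ fst A B ≫ iA = pr T c ≫ snd A B ≫ iB := by
      show _ ↔ lift _ _ ≫ fst A B ≫ iA = lift _ _ ≫ snd A B ≫ iB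
      rw [lift_fst_assoc, lift_snd_assoc]
      rfl
    rw [he', hk, hpt]
    constructor
    · rintro ⟨l, hl⟩
      let l' : Spec (CommRingCat.of T) ⟶ Spec (CommRingCat.of (Q ⧸ I)) := pullback.lift l _ hl ≫ e.hom
      have h : l' ≫ Spec.map (CommRingCat.ofHom (Ideal.Quotient.mk I)) =
          Spec.map (CommRingCat.ofHom (HomKernelIdeal.evalChar (R := R) c).toRingHom) := by
        rw [Category.assoc, ← he, pullback.lift_snd]
      obtain ⟨ψ, hψ⟩ : ∃ ψ, Spec.map ψ = l' := ⟨_, Spec.map_preimage l'⟩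
      rw [← hψ, ← Spec.map_comp] at h
      intro x hx
      have := congrArg (fun m => m.hom x) (Spec.map_injective h)
      simp only [CommRingCat.hom_comp, RingHom.comp_apply, CommRingCat.hom_ofHom] at this
      rw [Ideal.Quotient.eq_zero_iff_mem.mpr hx, map_zero] at this
      exact this.symm
    · intro hI
      refine ⟨Spec.map (CommRingCat.ofHom (Ideal.Quotient.lift I (HomKernelIdeal.evalChar (R := R) c).toRingHom hI)) ≫
        e.inv ≫ pullback.fst k t, ?_⟩
      simp only [Category.assoc]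
      rw [pullback.condition, he, Category.assoc, e.inv_hom_id_assoc, ← Spec.map_comp_assoc]
      congr 2
  refine ⟨I, hIfg, ⟨?_, fun T _ _ f g h hh hf hg => ?_⟩, hI⟩
  · rw [← HomMonoLocus.evalChar_charOf, ← hI]
    have h1 : ∀ {M : Type} [AddCommGroup M] (c : CoordM.{u} (MA × MB) →+* R) (φ : M →+ MA × MB),
        (∀ n, c (MonoidAlgebra.single n 1) = 1) → ∀ m, pull φ c (MonoidAlgebra.single m 1) = 1 :=
      fun c φ hc m => by rw [pull_single, hc]
    have hone : ∀ n, HomMonoLocus.charOf (R := R) (1 : Multiplicative (MA × MB) →* R) (MonoidAlgebra.single n 1) = 1 :=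
      fun n => by rw [HomMonoLocus.charOf_single]; rfl
    have hA1 : χA R (pull (AddMonoidHom.inl MA MB) (HomMonoLocus.charOf (R := R) (1 : Multiplicative (MA × MB) →* R))) = 1 := by
      have h := congrArg (fun z => (χA R (pull (AddMonoidHom.inl MA MB)
        (HomMonoLocus.charOf (R := R) (1 : Multiplicative (MA × MB) →* R))))⁻¹ * z)
        (hAmul _ _ _ (fun m => by rw [h1 _ (AddMonoidHom.inl MA MB) hone m, _root_.one_mul]))
      simpa only [inv_mul_cancel_left, inv_mul_cancel] using h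
    have hB1 : χB R (pull (AddMonoidHom.inr MA MB) (HomMonoLocus.charOf (R := R) (1 : Multiplicative (MA × MB) →* R))) = 1 := by
      have h := congrArg (fun z => (χB R (pull (AddMonoidHom.inr MA MB)
        (HomMonoLocus.charOf (R := R) (1 : Multiplicative (MA × MB) →* R))))⁻¹ * z)
        (hBmul _ _ _ (fun m => by rw [h1 _ (AddMonoidHom.inr MA MB) hone m, _root_.one_mul]))
      simpa only [inv_mul_cancel_left, inv_mul_cancel] using h
    rw [EqPt, hA1, hB1, MonObj.one_comp, MonObj.one_comp]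
  · rw [← HomMonoLocus.evalChar_charOf, ← hI] at hf hg ⊢
    have hc : ∀ {M : Type} [AddCommGroup M] (φ : M →+ MA × MB) (m : Multiplicative M),
        pull φ (HomMonoLocus.charOf (R := R) h) (MonoidAlgebra.single m 1) =
          pull φ (HomMonoLocus.charOf (R := R) f) (MonoidAlgebra.single m 1) *
            pull φ (HomMonoLocus.charOf (R := R) g) (MonoidAlgebra.single m 1) := fun φ m => by
      simp only [pull_single, HomMonoLocus.charOf_single]
      exact hh _
    rw [EqPt, ← hAmul _ _ _ (hc (AddMonoidHom.inl MA MB)), ← hBmul _ _ _ (hc (AddMonoidHom.inr MA MB)),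
      MonObj.mul_comp, MonObj.mul_comp, hf, hg]

include hcent hAnat hAmul hBnat hBmul in
/-- Rigidity: equality on the graph of `φ` extends across nilpotent ideals. -/
theorem graph_rigid {V : S.Opens} (hV : IsAffineOpen V) (hβ : ∀ r, β r ∈ V) (φ : MA →+ MB)
    {T : Type u} [CommRing T] [Algebra R T] (L : Ideal T) (hL : IsNilpotent L)
    (h0 : ∀ (T₁ : Type u) [CommRing T₁] [Algebra R T₁] (f : T →ₐ[R] T₁), (∀ l ∈ L, f l = 0) →
      ∀ c : CoordM.{u} MB →+* T₁, χA T₁ (pull φ c) ≫ iA = χB T₁ c ≫ iB)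
    (c : CoordM.{u} MB →+* T) : χA T (pull φ c) ≫ iA = χB T c ≫ iB := by
  let βT : Spec (CommRingCat.of T) ⟶ S := Spec.map (CommRingCat.ofHom (algebraMap R T)) ≫ β
  let tr : ∀ (T₁ : Type u) [CommRing T₁] [Algebra T T₁] [Algebra R T₁] [IsScalarTower R T T₁], sp βT T₁ ⟶ sp β T₁ :=
    fun T₁ _ _ _ _ => Over.homMk (U := sp βT T₁) (V := sp β T₁) (𝟙 (Spec (CommRingCat.of T₁))) (by
      show 𝟙 _ ≫ Spec.map (CommRingCat.ofHom (algebraMap R T₁)) ≫ β =
        Spec.map (CommRingCat.ofHom (algebraMap T T₁)) ≫ Spec.map _ ≫ β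
      rw [Category.id_comp, ← Spec.map_comp_assoc, ← CommRingCat.ofHom_comp, ← IsScalarTower.algebraMap_eq])
  let act : AlgGrp.Action (A ⊗ B) G :=
    { act := (fst (A ⊗ B) G ≫ fst A B ≫ iA) * snd (A ⊗ B) G * (fst (A ⊗ B) G ≫ snd A B ≫ iB)⁻¹
      one_act := by
        have h1 : η[A ⊗ B] ≫ fst A B ≫ iA = 1 := by
          rw [← Category.assoc, show η[A ⊗ B] ≫ fst A B = η[A] from IsMonHom.one_hom (f := fst A B), IsMonHom.one_hom,
            Hom.one_def, toUnit_unique (toUnit _) (𝟙 _), Category.id_comp]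
        have h2 : η[A ⊗ B] ≫ snd A B ≫ iB = 1 := by
          rw [← Category.assoc, show η[A ⊗ B] ≫ snd A B = η[B] from IsMonHom.one_hom (f := snd A B), IsMonHom.one_hom,
            Hom.one_def, toUnit_unique (toUnit _) (𝟙 _), Category.id_comp]
        rw [MonObj.comp_mul, MonObj.comp_mul, GrpObj.comp_inv, whiskerRight_fst_assoc, whiskerRight_fst_assoc,
          whiskerRight_snd, h1, h2, MonObj.comp_one, inv_one, _root_.mul_one, _root_.one_mul, leftUnitor_hom]
      mul_act := by
        have h1 : μ[A ⊗ B] ≫ fst A B ≫ iA =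
            (fst (A ⊗ B) (A ⊗ B) ≫ fst A B ≫ iA) * (snd (A ⊗ B) (A ⊗ B) ≫ fst A B ≫ iA) := by
          rw [IsMonHom.mul_hom (f := fst A B ≫ iA), Hom.mul_def]
          congr 1
        have h2 : μ[A ⊗ B] ≫ snd A B ≫ iB =
            (fst (A ⊗ B) (A ⊗ B) ≫ snd A B ≫ iB) * (snd (A ⊗ B) (A ⊗ B) ≫ snd A B ≫ iB) := by
          rw [IsMonHom.mul_hom (f := snd A B ≫ iB), Hom.mul_def]
          congr 1
        simp only [MonObj.comp_mul, GrpObj.comp_inv, whiskerRight_fst_assoc, whiskerRight_snd, whiskerLeft_fst_assoc,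
          whiskerLeft_snd, whiskerLeft_snd_assoc, associator_hom_fst_assoc, associator_hom_snd_fst_assoc,
          associator_hom_snd_snd, h1, h2, _root_.mul_inv_rev, _root_.mul_assoc] }
  have ha : ∀ {Y : Over S} (g : Y ⟶ A ⊗ B) (z : Y ⟶ G),
      lift g z ≫ act.act = (g ≫ fst A B ≫ iA) * z * (g ≫ snd A B ≫ iB)⁻¹ := fun g z => by
    show lift g z ≫ ((fst (A ⊗ B) G ≫ fst A B ≫ iA) * snd (A ⊗ B) G * (fst (A ⊗ B) G ≫ snd A B ≫ iB)⁻¹) = _
    rw [MonObj.comp_mul, MonObj.comp_mul, GrpObj.comp_inv, lift_fst_assoc, lift_fst_assoc, lift_snd]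
  let χ : ∀ (T₁ : Type u) [CommRing T₁] [Algebra T T₁], (CoordM.{u} MB →+* T₁) → (sp βT T₁ ⟶ A ⊗ B) :=
    fun T₁ _ _ d =>
      letI : Algebra R T₁ := ((algebraMap T T₁).comp (algebraMap R T)).toAlgebra
      haveI : IsScalarTower R T T₁ := IsScalarTower.of_algebraMap_eq' rfl
      tr T₁ ≫ lift (χA T₁ (pull φ d)) (χB T₁ d)
  have hnat : ∀ {T₁ T₂ : Type u} [CommRing T₁] [Algebra T T₁] [CommRing T₂] [Algebra T T₂] (f : T₁ →ₐ[T] T₂)
      (d : CoordM.{u} MB →+* T₁), spm βT f ≫ χ T₁ d = χ T₂ (f.toRingHom.comp d) := by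
    intro T₁ T₂ _ _ _ _ f d
    letI : Algebra R T₁ := ((algebraMap T T₁).comp (algebraMap R T)).toAlgebra
    haveI : IsScalarTower R T T₁ := IsScalarTower.of_algebraMap_eq' rfl
    letI : Algebra R T₂ := ((algebraMap T T₂).comp (algebraMap R T)).toAlgebra
    haveI : IsScalarTower R T T₂ := IsScalarTower.of_algebraMap_eq' rfl
    have h : spm βT f ≫ tr T₁ = tr T₂ ≫ spm β (f.restrictScalars R) := by
      refine Over.OverMorphism.ext ?_
      show Spec.map _ ≫ 𝟙 _ = 𝟙 _ ≫ Spec.map _
      rw [Category.comp_id, Category.id_comp]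
      rfl
    show spm βT f ≫ tr T₁ ≫ lift _ _ = tr T₂ ≫ lift _ _
    rw [← Category.assoc, h, Category.assoc, comp_lift, hAnat, hBnat]
    rfl
  have hmul : ∀ {T₁ : Type u} [CommRing T₁] [Algebra T T₁] (d d' e : CoordM.{u} MB →+* T₁),
      (∀ m, e (MonoidAlgebra.single m 1) = d (MonoidAlgebra.single m 1) * d' (MonoidAlgebra.single m 1)) →
        χ T₁ d * χ T₁ d' = χ T₁ e := by
    intro T₁ _ _ d d' e he
    letI : Algebra R T₁ := ((algebraMap T T₁).comp (algebraMap R T)).toAlgebra
    haveI : IsScalarTower R T T₁ := IsScalarTower.of_algebraMap_eq' rfl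
    show (tr T₁ ≫ lift _ _) * (tr T₁ ≫ lift _ _) = tr T₁ ≫ lift _ _
    rw [← MonObj.comp_mul]
    congr 1
    refine CartesianMonoidalCategory.hom_ext _ _ ?_ ?_
    · rw [MonObj.mul_comp, lift_fst, lift_fst, lift_fst]
      exact hAmul _ _ _ fun m => by rw [pull_single, pull_single, pull_single, he]
    · rw [MonObj.mul_comp, lift_snd, lift_snd, lift_snd]
      exact hBmul _ _ _ he
  have hmain := DiagActionRigid.main act χ hnat hmul hV (fun r => hβ _) L hL (fun T₁ _ _ hT₁ d z => by
    letI : Algebra R T₁ := ((algebraMap T T₁).comp (algebraMap R T)).toAlgebra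
    haveI : IsScalarTower R T T₁ := IsScalarTower.of_algebraMap_eq' rfl
    have he := h0 T₁ (IsScalarTower.toAlgHom R T T₁) hT₁ d
    rw [ha]
    show ((tr T₁ ≫ lift _ _) ≫ fst A B ≫ iA) * z * ((tr T₁ ≫ lift _ _) ≫ snd A B ≫ iB)⁻¹ = z
    rw [Category.assoc, Category.assoc, lift_fst_assoc, lift_snd_assoc]
    rcases hcent with h | h
    · rw [← Category.assoc (tr T₁) (χA T₁ (pull φ d)) iA, ← h _ z, Category.assoc, he, mul_inv_cancel_right]
    · rw [he, ← Category.assoc (tr T₁) (χB T₁ d) iB, ← h _ z, mul_inv_cancel_right]) 1 c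
  rw [ha] at hmain
  letI algRT : Algebra R T := ‹_›
  let back : sp β T ⟶ sp βT T := Over.homMk (U := sp β T) (V := sp βT T) (𝟙 (Spec (CommRingCat.of T))) (by
    show 𝟙 _ ≫ Spec.map (CommRingCat.ofHom (algebraMap T T)) ≫ Spec.map _ ≫ β = Spec.map _ ≫ β
    rw [Category.id_comp, show Spec.map (CommRingCat.ofHom (algebraMap T T)) = 𝟙 _ from Spec.map_id _, Category.id_comp])
  have hχ : back ≫ χ T c = lift (χA T (pull φ c)) (χB T c) := by
    have hbt : back ≫ tr T = 𝟙 _ := Over.OverMorphism.ext (Category.id_comp _)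
    show back ≫ tr T ≫ lift _ _ = _
    have halg : ((algebraMap T T).comp (algebraMap R T)).toAlgebra = (inferInstance : Algebra R T) :=
      Algebra.algebra_ext _ _ fun r => rfl
    rw [reassoc_of% hbt]
    congr! 2 <;> exact halg
  rw [_root_.mul_one, mul_inv_eq_one] at hmain
  have h := congrArg (back ≫ ·) hmain
  simp only [← Category.assoc] at h
  rw [hχ] at h
  simpa only [lift_fst, lift_snd] using h

include hAnat hAbij hBnat hBmul hAmul in
/-- Over a local ring a factorisation at the universal point comes from a map of character groups. -/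
theorem exists_phi {T : Type u} [CommRing T] [IsLocalRing T] [Algebra R T]
    (h0 : ∃ a : sp β (MonoidAlgebra T (Multiplicative MB)) ⟶ A, a ≫ iA =
      χB (MonoidAlgebra T (Multiplicative MB)) (DiagActionRigid.univPt T (AddMonoidHom.id MB)) ≫ iB) :
    ∃ φ : MA →+ MB, ∀ (T₁ : Type u) [CommRing T₁] [Algebra R T₁] (_ : T →ₐ[R] T₁) (c : CoordM.{u} MB →+* T₁),
      χA T₁ (pull φ c) ≫ iA = χB T₁ c ≫ iB := by
  let C1 := MonoidAlgebra T (Multiplicative MB)
  let C2 := MonoidAlgebra T (Multiplicative MB × Multiplicative MB)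
  let cB : CoordM.{u} MB →+* C1 := DiagActionRigid.univPt T (AddMonoidHom.id MB)
  obtain ⟨a₀, ha₀⟩ := h0
  obtain ⟨cA, rfl⟩ := (hAbij C1).2 a₀
  let u : Multiplicative MA →* C1 := (cA : CoordM.{u} MA →* C1).comp (MonoidAlgebra.of (ULift.{u} ℤ) (Multiplicative MA))
  let σ : (Multiplicative MB →* Multiplicative MB × Multiplicative MB) → (C1 →ₐ[R] C2) := fun τ =>
    AlgHom.restrictScalars R (MonoidAlgebra.mapDomainAlgHom T T τ)
  let τ₁ := MonoidHom.inl (Multiplicative MB) (Multiplicative MB)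
  let τ₂ := MonoidHom.inr (Multiplicative MB) (Multiplicative MB)
  let τ₃ := (MonoidHom.id (Multiplicative MB)).prod (MonoidHom.id (Multiplicative MB))
  have hσB : ∀ τ m, ((σ τ).toRingHom.comp cB) (MonoidAlgebra.single m 1) = MonoidAlgebra.single (τ m) 1 := by
    intro τ m
    show σ τ (cB (MonoidAlgebra.single m 1)) = _
    rw [DiagActionRigid.univPt_single]
    exact MonoidAlgebra.mapDomain_single
  have hu : ∀ m, MonoidAlgebra.mapDomainRingHom T τ₁ (u m) * MonoidAlgebra.mapDomainRingHom T τ₂ (u m) =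
      MonoidAlgebra.mapDomainRingHom T τ₃ (u m) := by
    have hA3 : χA C2 ((σ τ₁).toRingHom.comp cA) * χA C2 ((σ τ₂).toRingHom.comp cA) =
        χA C2 ((σ τ₃).toRingHom.comp cA) := by
      rw [← cancel_mono iA, MonObj.mul_comp, ← hAnat, ← hAnat, ← hAnat, Category.assoc, Category.assoc,
        Category.assoc, ha₀, ← Category.assoc, ← Category.assoc, ← Category.assoc, hBnat, hBnat, hBnat,
        ← MonObj.mul_comp]
      congr 1
      refine hBmul _ _ _ fun m => ?_
      rw [hσB, hσB, hσB, MonoidAlgebra.single_mul_single, _root_.mul_one]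
      congr 1
      simp [τ₁, τ₂, τ₃]
    let d : Multiplicative MA →* C2 :=
      ((σ τ₁ : C1 →* C2).comp u) * ((σ τ₂ : C1 →* C2).comp u)
    have hd : ∀ m, HomMonoLocus.charOf (R := R) d (MonoidAlgebra.single m 1) =
        ((σ τ₁).toRingHom.comp cA) (MonoidAlgebra.single m 1) *
          ((σ τ₂).toRingHom.comp cA) (MonoidAlgebra.single m 1) := fun m => HomMonoLocus.charOf_single d m
    rw [hAmul _ _ _ hd] at hA3
    intro m
    have h := congrFun (congrArg DFunLike.coe ((hAbij C2).1 hA3)) (MonoidAlgebra.single m 1)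
    rw [hd] at h
    exact h
  obtain ⟨φ, hφ⟩ := SubgroupFactor.exists_monomial u hu
  refine ⟨φ, fun T₁ _ _ ψ c => ?_⟩
  letI : Algebra T T₁ := ψ.toRingHom.toAlgebra
  haveI : IsScalarTower R T T₁ := IsScalarTower.of_algebraMap_eq' ψ.comp_algebraMap.symm
  let f : C1 →ₐ[R] T₁ := AlgHom.restrictScalars R (MonoidAlgebra.lift T T₁ (Multiplicative MB)
    ((c : CoordM.{u} MB →* T₁).comp (MonoidAlgebra.of (ULift.{u} ℤ) (Multiplicative MB))))
  have hfs : ∀ n, f (MonoidAlgebra.single n 1) = c (MonoidAlgebra.single n 1) := fun n => by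
    show MonoidAlgebra.lift T T₁ (Multiplicative MB) _ (MonoidAlgebra.single n 1) = _
    rw [MonoidAlgebra.lift_single, one_smul]
    rfl
  have hfB : f.toRingHom.comp cB = c := DiagActionRigid.coord_ext fun m => by
    show f (cB (MonoidAlgebra.single m 1)) = _
    rw [DiagActionRigid.univPt_single]
    exact hfs m
  have hfA : f.toRingHom.comp cA = pull φ c := DiagActionRigid.coord_ext fun m => by
    show f (u m) = _
    rw [hφ, pull_single, hfs]
  rw [← hfA, ← hAnat, Category.assoc, ha₀, ← Category.assoc, hBnat, hfB]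

include hcent hAnat hAmul hAbij hBnat hBmul hBbij in
/-- On a piece where both groups are split the locus is clopen. -/
theorem exists_piece {V : S.Opens} (hV : IsAffineOpen V) (hβ : ∀ r, β r ∈ V)
    {K : Scheme.{u}} (k : K ⟶ (A ⊗ B).left) [IsClosedImmersion k] [LocallyOfFinitePresentation k]
    (hk : ∀ (Y : Over S) (g : Y ⟶ A ⊗ B), g ≫ fst A B ≫ iA = g ≫ snd A B ≫ iB ↔ ∃ l, l ≫ k = g.left) :
    ∃ E : Set (PrimeSpectrum R), IsClopen E ∧
      (∀ p : PrimeSpectrum R, (∀ (T : Type u) [CommRing T] [Algebra R T] (_ : p.asIdeal.ResidueField →ₐ[R] T)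
          (b : sp β T ⟶ B), ∃ a : sp β T ⟶ A, a ≫ iA = b ≫ iB) → p ∈ E) ∧
      (∀ (T : Type u) [CommRing T] [IsLocalRing T] [Algebra R T],
        PrimeSpectrum.comap (algebraMap R T) (IsLocalRing.closedPoint T) ∈ E →
        ∀ b : sp β T ⟶ B, ∃ a : sp β T ⟶ A, a ≫ iA = b ≫ iB) := by
  classical
  obtain ⟨I, hIfg, hsub, hI⟩ := exists_eqn iA iB χA hAnat hAmul χB hBnat hBmul k hk
  obtain ⟨D, hD⟩ := exists_finite_gen hsub hIfg
  let gr : (MA →+ MB) → (Multiplicative (MA × MB) →* Multiplicative MB) := fun φ =>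
    AddMonoidHom.toMultiplicative (φ.coprod (AddMonoidHom.id MB))
  let J : (MA →+ MB) → Ideal (MonoidAlgebra R (Multiplicative MB)) := fun φ =>
    I.map (MonoidAlgebra.mapDomainRingHom R (gr φ))
  have hJ : ∀ φ {T : Type u} [CommRing T] [Algebra R T] (c : CoordM.{u} MB →+* T),
      χA T (pull φ c) ≫ iA = χB T c ≫ iB ↔ J φ ≤ RingHom.ker (HomKernelIdeal.evalChar (R := R) c) := by
    intro φ T _ _ c
    rw [← eqPt_graph, hI, Ideal.map_le_iff_le_comap]
    have h : (HomKernelIdeal.evalChar (R := R) c).toRingHom.comp (MonoidAlgebra.mapDomainRingHom R (gr φ)) =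
        (HomKernelIdeal.evalChar (R := R) (pull (φ.coprod (AddMonoidHom.id MB)) c)).toRingHom := by
      refine MonoidAlgebra.ringHom_ext (fun r => ?_) (fun n => ?_)
      · simp [HomKernelIdeal.evalChar, MonoidAlgebra.lift_single, ← MonoidAlgebra.one_def]
      · show HomKernelIdeal.evalChar c (MonoidAlgebra.mapDomainRingHom R (gr φ) (MonoidAlgebra.single n 1)) =
          HomKernelIdeal.evalChar (pull _ c) (MonoidAlgebra.single n 1)
        rw [HomKernelIdeal.evalChar_single, pull_single, MonoidAlgebra.mapDomainRingHom_apply, MonoidAlgebra.mapDomain_single,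
          HomKernelIdeal.evalChar_single]
    refine forall₂_congr fun x _ => ?_
    show HomKernelIdeal.evalChar (R := R) _ x = 0 ↔ HomKernelIdeal.evalChar (R := R) c (MonoidAlgebra.mapDomainRingHom R (gr φ) x) = 0
    exact Iff.of_eq (congrArg (· = 0) (RingHom.congr_fun h x).symm)
  let cφ : (MA →+ MB) → Ideal R := fun φ => HomKernelIdeal.content (J φ)
  have hrig : ∀ φ (T : Type u) [CommRing T] [Algebra R T],
      (∀ r ∈ cφ φ, ∀ r' ∈ cφ φ, algebraMap R T (r * r') = 0) → ∀ r ∈ cφ φ, algebraMap R T r = 0 := by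
    intro φ T _ _ hT
    refine content_of_le_ker ((hJ φ _).mp ?_)
    let T' := MonoidAlgebra T (Multiplicative MB)
    refine graph_rigid iA iB hcent χA hAnat hAmul χB hBnat hBmul hV hβ φ ((cφ φ).map (algebraMap R T')) ⟨2, ?_⟩ ?_ _
    · rw [sq, ← Ideal.map_mul, Ideal.zero_eq_bot, eq_bot_iff, Ideal.map_le_iff_le_comap]
      refine Ideal.mul_le.mpr fun r hr r' hr' => ?_
      rw [Ideal.mem_comap, Ideal.mem_bot, IsScalarTower.algebraMap_apply R T T', hT r hr r' hr', map_zero]
    · intro T₁ _ _ f hf d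
      refine (hJ φ d).mpr (le_ker_of_content (fun r hr => ?_) d)
      rw [← f.commutes]
      exact hf _ (Ideal.mem_map_of_mem _ hr)
  have hfgφ : ∀ φ, (cφ φ).FG := fun φ => HomKernelIdeal.content_fg (hIfg.map _)
  have hclopen : ∀ φ, IsClopen (PrimeSpectrum.zeroLocus (cφ φ : Set R)) := by
    intro φ
    refine ⟨PrimeSpectrum.isClosed_zeroLocus _, ?_⟩
    rw [isOpen_iff_forall_mem_open]
    intro p hp
    haveI : p.asIdeal.IsPrime := p.isPrime
    obtain ⟨r, hr, hr'⟩ := exists_notMem_mul (hfgφ φ) (hrig φ) p.asIdeal hp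
    refine ⟨PrimeSpectrum.basicOpen r, fun q hq x hx => ?_, (PrimeSpectrum.basicOpen r).isOpen, hr⟩
    exact (q.isPrime.mem_or_mem (show r * x ∈ q.asIdeal by rw [hr' x hx]; exact zero_mem _)).resolve_left hq
  -- finitely many `φ` occur
  let good : Finset (Multiplicative (MA × MB)) → (MA →+ MB) → Prop := fun D' φ =>
    (∀ m, Multiplicative.ofAdd ((m, -φ m) : MA × MB) ∈ Subgroup.closure (D' : Set (Multiplicative (MA × MB)))) ∧
    ∀ x, Multiplicative.ofAdd ((0, x) : MA × MB) ∈ Subgroup.closure (D' : Set (Multiplicative (MA × MB))) → x = 0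
  let sel : Finset (Multiplicative (MA × MB)) → (MA →+ MB) := fun D' => if h : ∃ φ, good D' φ then h.choose else 0
  have hsel : ∀ D' φ, good D' φ → sel D' = φ := by
    intro D' φ hφ
    have h : ∃ φ, good D' φ := ⟨φ, hφ⟩
    simp only [sel, dif_pos h]
    refine AddMonoidHom.ext fun m => sub_eq_zero.mp (hφ.2 _ ?_)
    have hm := mul_mem (hφ.1 m) (inv_mem (h.choose_spec.1 m))
    convert hm using 1
    rw [← ofAdd_neg, ← ofAdd_add]
    congr 1
    ext <;> simp [sub_eq_add_neg, add_comm]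
  refine ⟨⋃ D' ∈ D.powerset, PrimeSpectrum.zeroLocus (cφ (sel D') : Set R),
    isClopen_biUnion_finset fun D' _ => hclopen _, ?_, ?_⟩
  · intro p hp
    let K := p.asIdeal.ResidueField
    let iK : K →ₐ[R] MonoidAlgebra K (Multiplicative MB) := IsScalarTower.toAlgHom R K _
    obtain ⟨φ, hφ⟩ := exists_phi iA iB χA hAnat hAmul hAbij χB hBnat hBmul (T := K)
      (hp _ iK (χB _ (DiagActionRigid.univPt K (AddMonoidHom.id MB))))
    have hφJ : J φ ≤ RingHom.ker (HomKernelIdeal.evalChar (R := R) (DiagActionRigid.univPt K (AddMonoidHom.id MB))) :=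
      (hJ φ _).mp (hφ _ iK _)
    have hcK : ∀ r ∈ cφ φ, algebraMap R K r = 0 := content_of_le_ker hφJ
    obtain ⟨D', hD'D, hD'⟩ := hD K
    have hgood : good D' φ := by
      refine ⟨fun m => (hD' _).mp ?_, fun x hx => ?_⟩
      · obtain ⟨B', _, _, _, _, g, hg, hgm, -, -⟩ := DiagSubgroupTrivial.exists_generic hsub K
        refine hgm _ ?_
        have h1 : EqPt iA iB χA χB (HomMonoLocus.charOf (R := R) g) := by
          rw [hI, HomMonoLocus.evalChar_charOf]; exact hg
        have h2 := hφ B' (IsScalarTower.toAlgHom R K B') (pull (AddMonoidHom.inr MA MB) (HomMonoLocus.charOf (R := R) g))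
        rw [EqPt, ← h2, cancel_mono] at h1
        have h3 := congrFun (congrArg DFunLike.coe ((hAbij B').1 h1)) (MonoidAlgebra.single (Multiplicative.ofAdd m) 1)
        simp only [pull_single, HomMonoLocus.charOf_single] at h3
        have e : Multiplicative.ofAdd ((m, -φ m) : MA × MB) =
            AddMonoidHom.toMultiplicative (AddMonoidHom.inl MA MB) (Multiplicative.ofAdd m) *
              (AddMonoidHom.toMultiplicative (AddMonoidHom.inr MA MB)
                (AddMonoidHom.toMultiplicative φ (Multiplicative.ofAdd m)))⁻¹ := by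
          apply Multiplicative.toAdd.injective
          simp
        rw [e, map_mul, h3, ← map_mul, mul_inv_cancel, map_one]
      · have hmem := (hD' _).mpr hx
        let gφ : Multiplicative (MA × MB) →* MonoidAlgebra K (Multiplicative MB) :=
          (MonoidAlgebra.of K (Multiplicative MB)).comp (gr φ)
        have hker : I ≤ RingHom.ker (MonoidAlgebra.lift R (MonoidAlgebra K (Multiplicative MB)) _ gφ) := by
          rw [← HomMonoLocus.evalChar_charOf, ← hI]
          have h := (eqPt_graph iA iB χA χB φ _).mpr (hφ _ iK (DiagActionRigid.univPt K (AddMonoidHom.id MB)))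
          convert h using 1
          refine DiagActionRigid.coord_ext fun n => ?_
          rw [HomMonoLocus.charOf_single, pull_single, DiagActionRigid.univPt_single]
          rfl
        have h := (Ideal.map_le_iff_le_comap.mpr fun b hb => by
          rw [Ideal.mem_comap, RingHom.mem_ker, DiagSubgroupTrivial.lift_chg]
          exact hker hb : I.map (chg K) ≤ RingHom.ker (MonoidAlgebra.lift K _ _ gφ)) hmem
        rw [RingHom.mem_ker, map_sub, map_one, MonoidAlgebra.lift_single, one_smul, sub_eq_zero] at h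
        have h' := MonoidAlgebra.of_injective (h.trans (map_one (MonoidAlgebra.of K (Multiplicative MB))).symm)
        have := congrArg Multiplicative.toAdd h'
        simpa [gr] using this
    refine Set.mem_biUnion (Finset.mem_powerset.mpr hD'D) ?_
    rw [hsel D' φ hgood]
    exact fun r hr => Ideal.algebraMap_residueField_eq_zero.mp (hcK r hr)
  · intro T _ _ _ hT b
    obtain ⟨D', -, hD'⟩ := Set.mem_iUnion₂.mp hT
    haveI : (PrimeSpectrum.comap (algebraMap R T) (IsLocalRing.closedPoint T)).asIdeal.IsPrime := PrimeSpectrum.isPrime _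
    obtain ⟨r, hr, hr'⟩ := exists_notMem_mul (hfgφ (sel D')) (hrig (sel D')) _ hD'
    have hu : IsUnit (algebraMap R T r) := by
      by_contra h
      exact hr ((IsLocalRing.mem_maximalIdeal _).mpr h)
    obtain ⟨c, rfl⟩ := (hBbij T).2 b
    refine ⟨χA T (pull (sel D') c), (hJ _ c).mpr (le_ker_of_content (fun x hx => ?_) c)⟩
    refine hu.mul_right_eq_zero.mp ?_
    rw [← map_mul, hr' x hx, map_zero]

end Piece

section Topology

theorem flat_hcov_of_isCovering {Y Z : Scheme.{u}} {q : Z ⟶ Y} (h : FpqcDescLib.IsCovering q) :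
    Flat q ∧ ∀ V : Y.Opens, IsAffineOpen V → ∃ W : Z.Opens, IsCompact (W : Set Z) ∧ q.base '' (W : Set Z) = (V : Set Y) := by
  classical
  obtain ⟨h1, h2⟩ := h
  refine ⟨(Scheme.singleton_mem_precoverage_iff @Flat q).mp h2 |>.2, fun V hV => ?_⟩
  rw [← PreZeroHypercover.presieve₀_singleton.{_, _, u}] at h1
  haveI := Scheme.presieve₀_mem_qcPrecoverage_iff.mp h1
  obtain ⟨s, hs, W, hW, hU⟩ := hV.isCompactOpenCovered (PreZeroHypercover.singleton.{u} q)
  by_cases hp : PUnit.unit ∈ s
  · refine ⟨W _ hp, hW _ hp, ?_⟩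
    rw [← hU]
    ext y
    simp only [Set.mem_iUnion]
    exact ⟨fun hy => ⟨⟨⟩, hp, hy⟩, fun ⟨⟨⟩, _, hy⟩ => hy⟩
  · refine ⟨⊥, isCompact_empty, ?_⟩
    rw [← hU]
    ext y
    simp only [Set.mem_iUnion]
    exact ⟨fun ⟨_, hz, _⟩ => hz.elim, fun ⟨⟨⟩, h, _⟩ => absurd h hp⟩

theorem isOpen_of_covers {X Y : Scheme.{u}} {p : X ⟶ Y} (h : FpqcDescLib.Covers p) {s : Set Y}
    (hs : IsOpen (p ⁻¹' s)) : IsOpen s := by
  obtain ⟨Z, r, hr⟩ := h
  obtain ⟨hf, hcov⟩ := flat_hcov_of_isCovering hr
  refine HomUnitLocus.isOpen_of_preimage (r ≫ p) hcov ?_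
  have he : (r ≫ p) ⁻¹' s = r ⁻¹' (p ⁻¹' s) := Set.ext fun z => by
    show (r ≫ p) z ∈ s ↔ p (r z) ∈ s
    rw [Scheme.Hom.comp_apply]
  rw [he]
  exact hs.preimage r.continuous

end Topology

section Global

variable {S : Scheme.{u}} {G A B : Over S} [GrpObj G] [GrpObj A] [GrpObj B] (iA : A ⟶ G) [IsMonHom iA]
  (iB : B ⟶ G) [IsMonHom iB]

/-- Over `g` every point of `B` comes from `A`. -/
def Le {T : Scheme.{u}} (g : T ⟶ S) : Prop :=
  ∀ (Y : Over S) (_ : Y ⟶ Over.mk g) (b : Y ⟶ B), ∃ a : Y ⟶ A, a ≫ iA = b ≫ iB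

variable {iA iB}

theorem Le.comp {T T' : Scheme.{u}} {g : T ⟶ S} (h : Le iA iB g) (l : T' ⟶ T) : Le iA iB (l ≫ g) :=
  fun Y q b => h Y (q ≫ Over.homMk l rfl) b

theorem Le.of_covers' [Mono iA] {T T' : Scheme.{u}} {g : T ⟶ S} (l : T' ⟶ T) (hl : FpqcDescLib.Covers l)
    (h : Le iA iB (l ≫ g)) : Le iA iB g := by
  intro Y q b
  let P : Over S := Over.mk (pullback.fst q.left l ≫ Y.hom)
  let p : P ⟶ Y := Over.homMk (pullback.fst q.left l) rfl
  have hp : FpqcDescLib.Covers p.left :=
    hl.pullback q.left p.left (pullback.snd q.left l) (IsPullback.of_hasPullback q.left l)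
  obtain ⟨a, ha⟩ := h P (Over.homMk (pullback.snd q.left l) (by
    show pullback.snd q.left l ≫ l ≫ g = pullback.fst q.left l ≫ Y.hom
    rw [← Category.assoc, ← pullback.condition, Category.assoc]
    exact congrArg (_ ≫ ·) (Over.w q))) (p ≫ b)
  obtain ⟨a', ha', -⟩ := hp.over_desc a fun T x y hxy => by
    rw [← cancel_mono iA, Category.assoc, Category.assoc, ha, Category.assoc, reassoc_of% hxy]
  haveI := hp.over_epi
  exact ⟨a', by rw [← cancel_epi p, reassoc_of% ha', ha, Category.assoc]⟩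

theorem Le.of_covers [IsImmersion iA.left] {T T' : Scheme.{u}} {g : T ⟶ S} (l : T' ⟶ T) (hl : FpqcDescLib.Covers l)
    (h : Le iA iB (l ≫ g)) : Le iA iB g := by
  haveI : Mono iA := Over.mono_of_mono_left _
  exact h.of_covers' l hl

theorem exists_factor_of_stalks [IsImmersion iA.left] {Y : Over S} (b : Y ⟶ B)
    (h : ∀ z : Y.left, ∃ l, l ≫ iA.left = Y.left.fromSpecStalk z ≫ (b ≫ iB).left) :
    ∃ a : Y ⟶ A, a ≫ iA = b ≫ iB := by
  obtain ⟨l, hl⟩ := SubgroupFactor.exists_lift_of_stalks iA.left (b ≫ iB).left h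
  have hw : l ≫ A.hom = Y.hom := by
    have h := congrArg (fun m => m ≫ G.hom) hl
    simp only [Category.assoc, Over.w] at h
    exact h
  exact ⟨Over.homMk l hw, Over.OverMorphism.ext hl⟩

variable (iA iB)

/-- The locus where two maps to a separated group agree, as a closed subscheme. -/
theorem exists_agree [IsSeparated G.hom] :
    ∃ (K : Scheme.{u}) (k : K ⟶ (A ⊗ B).left), IsClosedImmersion k ∧
      ((IsLocallyNoetherian S ∧ LocallyOfFiniteType A.hom ∧ LocallyOfFiniteType B.hom) ∨ LocallyOfFiniteType G.hom →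
        LocallyOfFinitePresentation k) ∧
      ∀ (Y : Over S) (g : Y ⟶ A ⊗ B), g ≫ fst A B ≫ iA = g ≫ snd A B ≫ iB ↔ ∃ l, l ≫ k = g.left := by
  let L : A ⊗ B ⟶ G ⊗ G := lift (fst A B ≫ iA) (snd A B ≫ iB)
  let Δ : G ⟶ G ⊗ G := lift (𝟙 G) (𝟙 G)
  haveI hsepG : IsSeparated (fst G G).left := inferInstanceAs (IsSeparated (pullback.fst G.hom G.hom))
  have hΔ : Δ.left ≫ (fst G G).left = 𝟙 _ := by rw [← Over.comp_left, lift_fst]; rfl
  haveI : IsClosedImmersion Δ.left := by
    haveI : IsClosedImmersion (Δ.left ≫ (fst G G).left) := by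
      rw [hΔ]; exact inferInstanceAs (IsClosedImmersion (𝟙 G.left))
    exact IsClosedImmersion.of_comp Δ.left (fst G G).left
  refine ⟨_, pullback.fst L.left Δ.left, inferInstance, ?_, fun Y g => ?_⟩
  · rintro (⟨hS, hA, hB⟩ | hG)
    · haveI : LocallyOfFiniteType (A ⊗ B).hom := by
        rw [← Over.w (fst A B)]
        haveI : LocallyOfFiniteType (fst A B).left := inferInstanceAs (LocallyOfFiniteType (pullback.fst A.hom B.hom))
        infer_instance
      haveI := LocallyOfFiniteType.isLocallyNoetherian (A ⊗ B).hom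
      exact LocallyOfFinitePresentation.iff_locallyOfFiniteType.mpr inferInstance
    · haveI : LocallyOfFiniteType (fst G G).left := inferInstanceAs (LocallyOfFiniteType (pullback.fst G.hom G.hom))
      haveI : LocallyOfFinitePresentation (Δ.left ≫ (fst G G).left) := by
        rw [hΔ]; exact inferInstanceAs (LocallyOfFinitePresentation (𝟙 G.left))
      haveI := Groth.Agent.AlgSpPts.locallyOfFinitePresentation_of_comp Δ.left (fst G G).left
      infer_instance
  · constructor
    · intro h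
      refine ⟨pullback.lift g.left (g ≫ fst A B ≫ iA).left ?_, pullback.lift_fst _ _ _⟩
      rw [← Over.comp_left, ← Over.comp_left, comp_lift, comp_lift, Category.comp_id, h]
    · rintro ⟨l, hl⟩
      let z : Y ⟶ G := Over.homMk (l ≫ pullback.snd L.left Δ.left) (by
        have h := congrArg (fun m => m ≫ (A ⊗ B).hom) hl
        simp only [Category.assoc, Over.w] at h
        rw [← h, ← Over.w L, pullback.condition_assoc, Over.w Δ, Category.assoc])
      have h2 : g ≫ L = z ≫ Δ := by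
        refine Over.OverMorphism.ext ?_
        show g.left ≫ L.left = (l ≫ pullback.snd L.left Δ.left) ≫ Δ.left
        rw [← hl, Category.assoc, Category.assoc, pullback.condition]
      have ha := congrArg (· ≫ fst G G) h2
      have hb := congrArg (· ≫ snd G G) h2
      simp only [L, Δ, Category.assoc, lift_fst, lift_snd, Category.comp_id] at ha hb
      rw [ha, hb]

/-- The locus where `B` lies in `A` is clopen, and `B` lies in `A` over it. -/
theorem main [IsImmersion iA.left] [IsSeparated G.hom]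
    (hA : SGA3x.IsMultTypeFT A) (hB : SGA3x.IsMultTypeFT B)
    (hcent : (∀ (Y : Over S) (g : Y ⟶ G) (a : Y ⟶ A), g * (a ≫ iA) = (a ≫ iA) * g) ∨
      ∀ (Y : Over S) (g : Y ⟶ G) (b : Y ⟶ B), g * (b ≫ iB) = (b ≫ iB) * g)
    (hfin : IsLocallyNoetherian S ∨ LocallyOfFiniteType G.hom) :
    ∃ U : S.Opens, IsClosed (U : Set S) ∧ (∀ s : S, s ∈ U ↔ Le iA iB (S.fromSpecResidueField s)) ∧
      Le iA iB U.ι := by
  classical
  haveI : Mono iA := Over.mono_of_mono_left _
  obtain ⟨K, k, hkc, hkfp, hk⟩ := exists_agree iA iB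
  haveI : LocallyOfFinitePresentation k := hkfp (hfin.imp
    (fun h => ⟨h, MultTypeLft.lft hA, MultTypeLft.lft hB⟩) id)
  obtain ⟨SA, fA, hAflat, hAsurj, hAqc, hAloc⟩ := hA
  obtain ⟨SB, fB, hBflat, hBsurj, hBqc, hBloc⟩ := hB
  have hcA : FpqcDescLib.Covers fA :=
    FpqcDescLib.covers_of_hcov fA ⟨SA, fA, 𝟙 _, Category.id_comp _, hAsurj, hAflat, hAqc⟩
  have hcB : FpqcDescLib.Covers fB :=
    FpqcDescLib.covers_of_hcov fB ⟨SB, fB, 𝟙 _, Category.id_comp _, hBsurj, hBflat, hBqc⟩
  let P := pullback fA fB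
  let f : P ⟶ S := pullback.fst fA fB ≫ fA
  have hcP : FpqcDescLib.Covers (pullback.fst fA fB) :=
    hcB.pullback fA _ (pullback.snd fA fB) (IsPullback.of_hasPullback fA fB)
  have hopen : ∀ s : Set S, IsOpen (f ⁻¹' s) → IsOpen s := fun s hs =>
    isOpen_of_covers hcA (isOpen_of_covers hcP (by
      have he : pullback.fst fA fB ⁻¹' (fA ⁻¹' s) = f ⁻¹' s := Set.ext fun z => by
        show fA (pullback.fst fA fB z) ∈ s ↔ f z ∈ s
        rw [← Scheme.Hom.comp_apply]
      rw [he]; exact hs))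
  -- pieces
  have hpiece : ∀ z : P, ∃ (R : CommRingCat.{u}) (j : Spec R ⟶ P) (E : Set (PrimeSpectrum R)),
      IsOpenImmersion j ∧ z ∈ Set.range j ∧ IsClopen E ∧
      (∀ p : PrimeSpectrum R, (∀ (T : Type u) [CommRing T] [Algebra R T] (_ : p.asIdeal.ResidueField →ₐ[R] T)
          (b : sp (j ≫ f) T ⟶ B), ∃ a : sp (j ≫ f) T ⟶ A, a ≫ iA = b ≫ iB) → p ∈ E) ∧
      (∀ (T : Type u) [CommRing T] [IsLocalRing T] [Algebra R T],
        PrimeSpectrum.comap (algebraMap R T) (IsLocalRing.closedPoint T) ∈ E →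
        ∀ b : sp (j ≫ f) T ⟶ B, ∃ a : sp (j ≫ f) T ⟶ A, a ≫ iA = b ≫ iB) := by
    intro z
    obtain ⟨UA, hzA, MA, iMA, -, ⟨eA⟩⟩ := hAloc (pullback.fst fA fB z)
    obtain ⟨UB, hzB, MB, iMB, -, ⟨eB⟩⟩ := hBloc (pullback.snd fA fB z)
    obtain ⟨V, hV, hzV, -⟩ := exists_isAffineOpen_mem_and_subset (show f z ∈ (⊤ : S.Opens) from trivial)
    obtain ⟨W, hW, hzW, hWle⟩ := exists_isAffineOpen_mem_and_subset
      (show z ∈ pullback.fst fA fB ⁻¹ᵁ UA ⊓ pullback.snd fA fB ⁻¹ᵁ UB ⊓ f ⁻¹ᵁ V from ⟨⟨hzA, hzB⟩, hzV⟩)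
    have hmem : ∀ r, hW.fromSpec r ∈ W := fun r => by rw [← SetLike.mem_coe, ← hW.range_fromSpec]; exact ⟨r, rfl⟩
    have hrA : Set.range (hW.fromSpec ≫ pullback.fst fA fB) ⊆ Set.range UA.ι := by
      rintro _ ⟨r, rfl⟩
      rw [Scheme.Opens.range_ι]
      exact (hWle (hmem r)).1.1
    have hrB : Set.range (hW.fromSpec ≫ pullback.snd fA fB) ⊆ Set.range UB.ι := by
      rintro _ ⟨r, rfl⟩
      rw [Scheme.Opens.range_ι]
      exact (hWle (hmem r)).1.2
    obtain ⟨χA, hAnat, hAmul, hAbij⟩ := SubgroupFactor.exists_char (β := hW.fromSpec ≫ f) (UA.ι ≫ fA) eA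
      (IsOpenImmersion.lift UA.ι _ hrA) (by rw [IsOpenImmersion.lift_fac_assoc, Category.assoc])
    obtain ⟨χB, hBnat, hBmul, hBbij⟩ := SubgroupFactor.exists_char (β := hW.fromSpec ≫ f) (UB.ι ≫ fB) eB
      (IsOpenImmersion.lift UB.ι _ hrB) (by
        rw [IsOpenImmersion.lift_fac_assoc, Category.assoc]
        exact congrArg (hW.fromSpec ≫ ·) pullback.condition.symm)
    obtain ⟨E, hE, h1, h2⟩ := exists_piece iA iB hcent χA hAnat hAmul hAbij χB hBnat hBmul hBbij hV
      (fun r => (hWle (hmem r)).2) k hk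
    refine ⟨_, hW.fromSpec, E, inferInstance, ?_, hE, h1, h2⟩
    rw [← SetLike.mem_coe, ← hW.range_fromSpec] at hzW
    exact hzW
  choose R j E hj hzj hE hE1 hE2 using hpiece
  -- stalkwise criterion
  have hle : ∀ {T : Scheme.{u}} (g : T ⟶ S),
      (∀ t : T, ∃ (z : P) (r : Spec (T.presheaf.stalk t) ⟶ Spec (R z)),
        r ≫ j z ≫ f = T.fromSpecStalk t ≫ g ∧ r (IsLocalRing.closedPoint (T.presheaf.stalk t)) ∈ E z) →
      Le iA iB g := by
    intro T g hg Y q b
    refine exists_factor_of_stalks b fun y => ?_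
    let O : Type u := Y.left.presheaf.stalk y
    haveI : IsLocalRing O := inferInstanceAs (IsLocalRing (Y.left.presheaf.stalk y))
    obtain ⟨z, r, hr, hrE⟩ := hg (q.left y)
    obtain ⟨τ, hτ⟩ : ∃ τ, Spec.map τ = Spec.map (q.left.stalkMap y) ≫ r := ⟨_, Spec.map_preimage _⟩
    letI : Algebra (R z) O := τ.hom.toAlgebra
    let t : sp (j z ≫ f) O ⟶ Y := Over.homMk (Y.left.fromSpecStalk y) (by
      show _ = Spec.map τ ≫ j z ≫ f
      have hs : Spec.map (q.left.stalkMap y) ≫ T.fromSpecStalk (q.left y) = Y.left.fromSpecStalk y ≫ q.left :=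
        Scheme.SpecMap_stalkMap_fromSpecStalk (x := y) q.left
      rw [hτ, Category.assoc, hr, ← Category.assoc]
      refine Eq.trans ?_ (congrArg (fun m => m ≫ g) hs).symm
      exact (congrArg (Y.left.fromSpecStalk y ≫ ·) (Over.w q).symm).trans (Category.assoc _ _ _).symm)
    obtain ⟨a, ha⟩ := hE2 z O (by
      show (Spec.map τ) (IsLocalRing.closedPoint O) ∈ E z
      rw [hτ, Scheme.Hom.comp_apply]
      have hcl : (Spec.map (q.left.stalkMap y)) (IsLocalRing.closedPoint O) = IsLocalRing.closedPoint _ :=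
        IsLocalRing.comap_closedPoint (q.left.stalkMap y).hom
      rw [hcl]
      exact hrE) (t ≫ b)
    refine ⟨a.left, ?_⟩
    rw [← Over.comp_left, ha, Category.assoc, Over.comp_left]
    rfl
  let L : Set S := {s | Le iA iB (S.fromSpecResidueField s)}
  have hfield : ∀ {F : Type u} [Field F] (b : Spec (CommRingCat.of F) ⟶ S),
      Le iA iB b ↔ Le iA iB (S.fromSpecResidueField (b (IsLocalRing.closedPoint F))) := fun {F} _ b => by
    conv_lhs => rw [← Scheme.descResidueField_stalkClosedPointTo_fromSpecResidueField F S b]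
    exact ⟨fun h => Le.of_covers _ (HomUnitLocus.covers_field _) h, fun h => h.comp _⟩
  have hmem : ∀ z (p : PrimeSpectrum (R z)), f (j z p) ∈ L ↔ p ∈ E z := by
    intro z p
    let κ := p.asIdeal.ResidueField
    let r : Spec (CommRingCat.of κ) ⟶ P := Spec.map (CommRingCat.ofHom (algebraMap (R z) κ)) ≫ j z
    have hpt : ∀ w : Spec (CommRingCat.of κ), r w = j z p := fun w => by
      rw [Scheme.Hom.comp_apply]
      congr 1
      refine PrimeSpectrum.ext ?_
      show Ideal.comap (algebraMap (R z) κ) w.asIdeal = p.asIdeal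
      have hw : w.asIdeal = ⊥ := (Ideal.eq_bot_or_top w.asIdeal).resolve_right w.isPrime.ne_top
      rw [hw, ← RingHom.ker_eq_comap_bot, Ideal.ker_algebraMap_residueField]
    have hb : (r ≫ f) (IsLocalRing.closedPoint κ) = f (j z p) := by rw [Scheme.Hom.comp_apply, hpt]
    show Le iA iB _ ↔ _
    rw [← hb, ← hfield (r ≫ f)]
    constructor
    · intro h
      refine hE1 z p fun T _ _ ψ b => ?_
      letI : Algebra κ T := ψ.toRingHom.toAlgebra
      refine h _ (Over.homMk (Spec.map (CommRingCat.ofHom ψ.toRingHom)) ?_) b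
      show Spec.map _ ≫ (Spec.map _ ≫ j z) ≫ f = Spec.map _ ≫ j z ≫ f
      rw [Category.assoc, ← Spec.map_comp_assoc, ← CommRingCat.ofHom_comp]
      congr 3
      exact ψ.comp_algebraMap
    · intro hp
      refine hle _ fun t => ⟨z, (Spec (CommRingCat.of κ)).fromSpecStalk t ≫
        Spec.map (CommRingCat.ofHom (algebraMap (R z) κ)), by simp only [r, Category.assoc], ?_⟩
      rw [Scheme.Hom.comp_apply, Scheme.fromSpecStalk_closedPoint]
      exact (congrArg (· ∈ E z) ((j z).isOpenEmbedding.injective (hpt t))).mpr hp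
  have hpre : ∀ z, f ⁻¹' L ∩ Set.range (j z) = j z '' E z := fun z => by
    ext x
    constructor
    · rintro ⟨hx, p, rfl⟩; exact ⟨p, (hmem z p).mp hx, rfl⟩
    · rintro ⟨p, hp, rfl⟩; exact ⟨(hmem z p).mpr hp, p, rfl⟩
  have hpre' : ∀ z, f ⁻¹' Lᶜ ∩ Set.range (j z) = j z '' (E z)ᶜ := fun z => by
    ext x
    constructor
    · rintro ⟨hx, p, rfl⟩; exact ⟨p, fun h => hx ((hmem z p).mpr h), rfl⟩
    · rintro ⟨p, hp, rfl⟩; exact ⟨fun h => hp ((hmem z p).mp h), p, rfl⟩
  have hcov : ∀ X : Set P, (∀ z, IsOpen (X ∩ Set.range (j z))) → IsOpen X := fun X hX => by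
    rw [show X = ⋃ z, X ∩ Set.range (j z) from Set.ext fun x =>
      ⟨fun hx => Set.mem_iUnion.mpr ⟨x, hx, hzj x⟩, fun hx => (Set.mem_iUnion.mp hx).choose_spec.1⟩]
    exact isOpen_iUnion hX
  have hL : IsOpen L := hopen L (hcov _ fun z => by
    rw [hpre]; exact (j z).isOpenEmbedding.isOpenMap _ (hE z).2)
  have hL' : IsOpen Lᶜ := hopen Lᶜ (hcov _ fun z => by
    rw [hpre']; exact (j z).isOpenEmbedding.isOpenMap _ (hE z).1.isOpen_compl)
  refine ⟨⟨L, hL⟩, ⟨hL'⟩, fun s => Iff.rfl, ?_⟩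
  let U0 : S.Opens := ⟨L, hL⟩
  refine Le.of_covers (pullback.fst U0.ι fA)
    (hcA.pullback U0.ι _ (pullback.snd U0.ι fA) (IsPullback.of_hasPullback _ _)) ?_
  refine Le.of_covers (pullback.fst (pullback.snd U0.ι fA) (pullback.fst fA fB))
    (hcP.pullback _ _ (pullback.snd _ _) (IsPullback.of_hasPullback _ _)) ?_
  let T := pullback (pullback.snd U0.ι fA) (pullback.fst fA fB)
  let pr : T ⟶ P := pullback.snd _ _
  have hg : pullback.fst (pullback.snd U0.ι fA) (pullback.fst fA fB) ≫ pullback.fst U0.ι fA ≫ U0.ι = pr ≫ f := by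
    rw [pullback.condition, pullback.condition_assoc]
  rw [hg]
  refine hle _ fun t => ?_
  have hrange : Set.range (T.fromSpecStalk t ≫ pr) ⊆ Set.range (j (pr t)) := by
    rintro _ ⟨w, rfl⟩
    have hw : T.fromSpecStalk t w ⤳ t := by
      have : T.fromSpecStalk t w ∈ Set.range (T.fromSpecStalk t) := ⟨w, rfl⟩
      rwa [Scheme.range_fromSpecStalk] at this
    exact (hw.map pr.continuous).mem_open (j (pr t)).isOpenEmbedding.isOpen_range (hzj (pr t))
  refine ⟨pr t, IsOpenImmersion.lift (j (pr t)) _ hrange, by rw [IsOpenImmersion.lift_fac_assoc, Category.assoc], ?_⟩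
  refine (hmem _ _).mp ?_
  have h := congrArg (fun m : Spec (T.presheaf.stalk t) ⟶ P => f (m (IsLocalRing.closedPoint (T.presheaf.stalk t))))
    (IsOpenImmersion.lift_fac (j (pr t)) _ hrange)
  simp only [Scheme.Hom.comp_apply, Scheme.fromSpecStalk_closedPoint] at h
  rw [h, ← Scheme.Hom.comp_apply, ← hg, Scheme.Hom.comp_apply, Scheme.Hom.comp_apply]
  exact Subtype.coe_prop _

end Global

end Groth.Agent.GrpSchLib.SubgroupEqLocus
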