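import Groth.Agent.DescLib.IdealDescent
import Groth.Agent.FpqcDescLib.Basic
import Groth.Agent.FpqcDescLib.Closed
import Groth.Agent.GrpSchLib.SubgroupEqLocus
import Mathlib.AlgebraicGeometry.IdealSheaf.Functorial
import Mathlib.AlgebraicGeometry.Morphisms.Immersion

/-!
# fpqc descent of subschemes

A subscheme of `X'` whose two pullbacks to `X' ×_X X'` agree comes from `X`, provided the closure of its range is
saturated; the ideal sheaf descends on the open coborder.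
-/

universe u

open CategoryTheory CategoryTheory.Limits AlgebraicGeometry

namespace Groth.Agent.GrpSchLib.SubschemeDescent

theorem mem_closure_range_exists {A Y : Scheme.{u}} (g : A ⟶ Y) [QuasiCompact g] {z : Y}
    (hz : z ∈ closure (Set.range g)) : ∃ a, g a ⤳ z := by
  obtain ⟨O, hO, hzO, -⟩ := exists_isAffineOpen_mem_and_subset (show z ∈ (⊤ : Y.Opens) from trivial)
  have hc : IsCompact ((g ⁻¹ᵁ O : A.Opens) : Set A) := g.isCompact_preimage hO.isCompact
  have hB : ∀ a : (g ⁻¹ᵁ O : A.Opens), ∃ B : A.Opens, IsAffineOpen B ∧ (a : A) ∈ B ∧ B ≤ g ⁻¹ᵁ O := fun a => by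
    obtain ⟨B, hB, haB, hle⟩ := exists_isAffineOpen_mem_and_subset (show (a : A) ∈ g ⁻¹ᵁ O from a.2)
    exact ⟨B, hB, haB, hle⟩
  choose B hBa haB hBO using hB
  obtain ⟨t, ht⟩ := hc.elim_finite_subcover (fun a => (B a : Set A)) (fun a => (B a).2)
    fun a ha => Set.mem_iUnion.mpr ⟨⟨a, ha⟩, haB _⟩
  have hz2 : z ∈ closure (⋃ i ∈ t, g '' (B i : Set A)) := by
    refine closure_mono ?_ (O.2.inter_closure ⟨hzO, hz⟩)
    rintro _ ⟨haO, a, rfl⟩
    obtain ⟨i, hi, hai⟩ := Set.mem_iUnion₂.mp (ht haO)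
    exact Set.mem_iUnion₂.mpr ⟨i, hi, a, hai, rfl⟩
  rw [Finset.closure_biUnion] at hz2
  obtain ⟨i, hi, hzi⟩ := Set.mem_iUnion₂.mp hz2
  haveI : IsAffine (B i : Scheme.{u}) := hBa i
  let φ := g.appLE O (B i) (hBO i)
  have hφ : Spec.map φ ≫ hO.fromSpec = (hBa i).fromSpec ≫ g := IsAffineOpen.SpecMap_appLE_fromSpec g hO (hBa i) (hBO i)
  obtain ⟨q, hq⟩ : z ∈ Set.range hO.fromSpec := by rw [hO.range_fromSpec]; exact hzO
  subst hq
  have himg : g '' (B i : Set A) = hO.fromSpec '' Set.range (Spec.map φ) := by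
    rw [← (hBa i).range_fromSpec, ← Set.range_comp, ← Set.range_comp]
    refine congrArg Set.range (funext fun w => ?_)
    show g ((hBa i).fromSpec w) = hO.fromSpec (Spec.map φ w)
    rw [← Scheme.Hom.comp_apply, ← hφ, Scheme.Hom.comp_apply]
  have hq' : q ∈ closure (Set.range (Spec.map φ)) := by
    rw [hO.fromSpec.isOpenEmbedding.isInducing.closure_eq_preimage_closure_image, ← himg]
    exact hzi
  have hker : RingHom.ker φ.hom ≤ PrimeSpectrum.asIdeal q := by
    have h1 : closure (Set.range (PrimeSpectrum.comap φ.hom)) = PrimeSpectrum.zeroLocus (RingHom.ker φ.hom : Set _) :=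
      PrimeSpectrum.closure_range_comap φ.hom
    have h2 : (q : PrimeSpectrum _) ∈ closure (Set.range (PrimeSpectrum.comap φ.hom)) := hq'
    rw [h1] at h2
    exact h2
  haveI := (q : PrimeSpectrum _).isPrime
  obtain ⟨p, -, hp, hle⟩ := (PrimeSpectrum.asIdeal q).exists_ideal_comap_le_prime (f := φ.hom) ⊥
    (by rw [← RingHom.ker_eq_comap_bot]; exact hker)
  refine ⟨(hBa i).fromSpec ⟨p, hp⟩, ?_⟩
  rw [← Scheme.Hom.comp_apply, ← hφ, Scheme.Hom.comp_apply]
  exact ((PrimeSpectrum.le_iff_specializes ⟨p.comap φ.hom, inferInstance⟩ q).mp hle).map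
    hO.fromSpec.base.hom.continuous

theorem isClosedImmersion_lift {Z X : Scheme.{u}} (j : Z ⟶ X) [IsImmersion j] (U : X.Opens)
    (hU : Set.range j ⊆ U) (hcl : (U : Set X) ∩ closure (Set.range j) ⊆ Set.range j) :
    IsClosedImmersion (IsOpenImmersion.lift U.ι j (by rw [Scheme.Opens.range_ι]; exact hU)) := by
  set l := IsOpenImmersion.lift U.ι j (by rw [Scheme.Opens.range_ι]; exact hU)
  haveI : IsImmersion (l ≫ U.ι) := by rw [IsOpenImmersion.lift_fac]; infer_instance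
  haveI : IsImmersion l := IsImmersion.of_comp l U.ι
  refine IsClosedImmersion.of_isPreimmersion _ ?_
  have he : Set.range l = U.ι ⁻¹' Set.range j := by
    have hj : l ≫ U.ι = j := IsOpenImmersion.lift_fac _ _ _
    rw [← hj]
    ext x
    constructor
    · rintro ⟨w, rfl⟩; exact ⟨w, Scheme.Hom.comp_apply _ _ _⟩
    · rintro ⟨w, hw⟩
      exact ⟨w, U.ι.isOpenEmbedding.injective (by rw [← hw, Scheme.Hom.comp_apply])⟩
  have hcl' : U.ι ⁻¹' Set.range j = U.ι ⁻¹' closure (Set.range j) :=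
    Set.Subset.antisymm (Set.preimage_mono subset_closure) fun x hx => hcl ⟨x.2, hx⟩
  rw [he, hcl']
  exact isClosed_closure.preimage U.ι.continuous

theorem exists_descend {X X' Z : Scheme.{u}} (g : X' ⟶ X) (hg : FpqcDescLib.IsCovering g) (j : Z ⟶ X') [IsImmersion j]
    (key : ∀ (T : Scheme.{u}) (a b : T ⟶ X'), a ≫ g = b ≫ g → (∃ l, l ≫ j = a) → ∃ l, l ≫ j = b)
    (hcl : g ⁻¹' (g '' Set.range j) = Set.range j → g ⁻¹' closure (g '' Set.range j) ⊆ closure (Set.range j)) :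
    ∃ (Z₀ : Scheme.{u}) (i : Z₀ ⟶ X), IsImmersion i ∧
      ∀ (T : Scheme.{u}) (a : T ⟶ X'), (∃ l, l ≫ j = a) ↔ ∃ l, l ≫ i = a ≫ g := by
  haveI : Flat g := (SubgroupEqLocus.flat_hcov_of_isCovering (q := g) hg).1
  have hcov : FpqcDescLib.Covers g := FpqcDescLib.covers_of_isCovering hg
  let R : Set X := g '' Set.range j
  have hpre : g ⁻¹' R = Set.range j := by
    refine Set.Subset.antisymm ?_ fun x hx => ⟨x, hx, rfl⟩
    rintro y ⟨x, ⟨z, rfl⟩, hxy⟩
    obtain ⟨q, hq1, hq2⟩ := Scheme.Pullback.exists_preimage_pullback (f := g) (g := g) (j z) y hxy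
    let κ := (pullback g g).fromSpecResidueField q
    have h1 : (κ ≫ pullback.fst g g) (IsLocalRing.closedPoint _) = j z := by
      rw [Scheme.Hom.comp_apply, Scheme.fromSpecResidueField_apply, hq1]
    have h2 : (κ ≫ pullback.snd g g) (IsLocalRing.closedPoint _) = y := by
      rw [Scheme.Hom.comp_apply, Scheme.fromSpecResidueField_apply, hq2]
    let zz := pullback.snd (κ ≫ pullback.fst g g) j
    obtain ⟨p, hp1, -⟩ := Scheme.Pullback.exists_preimage_pullback (f := κ ≫ pullback.fst g g) (g := j)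
      (IsLocalRing.closedPoint _) z h1
    obtain ⟨l, hl⟩ := key _ (pullback.fst (κ ≫ pullback.fst g g) j ≫ κ ≫ pullback.fst g g)
      (pullback.fst (κ ≫ pullback.fst g g) j ≫ κ ≫ pullback.snd g g) (by simp only [Category.assoc]; congr 2; exact pullback.condition)
      ⟨pullback.snd _ _, pullback.condition.symm⟩
    refine ⟨l p, ?_⟩
    rw [← Scheme.Hom.comp_apply, hl, Scheme.Hom.comp_apply, hp1]
    exact h2
  have hpcl : g ⁻¹' closure R = closure (Set.range j) := by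
    refine Set.Subset.antisymm (hcl hpre) ?_
    rw [← hpre]
    exact g.continuous.closure_preimage_subset R
  have hcob : g ⁻¹' coborder R = coborder (Set.range j) := by
    rw [coborder, coborder, Set.preimage_compl, Set.preimage_diff, hpcl, hpre]
  have hopen : IsOpen (coborder R) := SubgroupEqLocus.isOpen_of_covers hcov (by
    rw [hcob]; exact j.isLocallyClosed_range.isOpen_coborder)
  let U : X.Opens := ⟨coborder R, hopen⟩
  let g₁ : ((g ⁻¹ᵁ U : X'.Opens) : Scheme.{u}) ⟶ U := g ∣_ U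
  have hg₁ : FpqcDescLib.IsCovering g₁ :=
    hg.pullback U.ι g₁ (g ⁻¹ᵁ U).ι (isPullback_morphismRestrict g U)
  have hjU : Set.range j ⊆ (g ⁻¹ᵁ U : X'.Opens) := fun x hx => by
    show x ∈ g ⁻¹' coborder R
    rw [hcob]; exact subset_coborder hx
  let jU : Z ⟶ ((g ⁻¹ᵁ U : X'.Opens) : Scheme.{u}) :=
    IsOpenImmersion.lift (g ⁻¹ᵁ U).ι j (by rw [Scheme.Opens.range_ι]; exact hjU)
  haveI : IsClosedImmersion jU := isClosedImmersion_lift j (g ⁻¹ᵁ U) hjU fun x ⟨hxU, hxc⟩ => by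
    by_contra hxj
    have : x ∈ coborder (Set.range j) := by rw [← hcob]; exact hxU
    exact this ⟨hxc, hxj⟩
  have hjU' : jU ≫ (g ⁻¹ᵁ U).ι = j := IsOpenImmersion.lift_fac _ _ _
  have key₁ : ∀ (T : Scheme.{u}) (a b : T ⟶ ((g ⁻¹ᵁ U : X'.Opens) : Scheme.{u})), a ≫ g₁ = b ≫ g₁ →
      (∃ l, l ≫ jU = a) → ∃ l, l ≫ jU = b := by
    rintro T a b e ⟨l, hl⟩
    obtain ⟨m, hm⟩ := key T (a ≫ (g ⁻¹ᵁ U).ι) (b ≫ (g ⁻¹ᵁ U).ι) (by
      rw [Category.assoc, Category.assoc, ← morphismRestrict_ι]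
      show a ≫ g₁ ≫ U.ι = b ≫ g₁ ≫ U.ι
      rw [reassoc_of% e]) ⟨l, by rw [← hl, Category.assoc, hjU']⟩
    exact ⟨m, by rw [← cancel_mono (g ⁻¹ᵁ U).ι, Category.assoc, hjU', hm]⟩
  have hcomp : jU.ker.comap (pullback.fst g₁ g₁) = jU.ker.comap (pullback.snd g₁ g₁) := by
    rw [← Scheme.IdealSheafData.ker_fst_of_isClosedImmersion, ← Scheme.IdealSheafData.ker_fst_of_isClosedImmersion]
    obtain ⟨l, hl⟩ := key₁ _ (pullback.fst (pullback.fst g₁ g₁) jU ≫ pullback.fst g₁ g₁)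
      (pullback.fst (pullback.fst g₁ g₁) jU ≫ pullback.snd g₁ g₁) (by rw [Category.assoc, Category.assoc, pullback.condition])
      ⟨pullback.snd _ _, pullback.condition.symm⟩
    obtain ⟨l', hl'⟩ := key₁ _ (pullback.fst (pullback.snd g₁ g₁) jU ≫ pullback.snd g₁ g₁)
      (pullback.fst (pullback.snd g₁ g₁) jU ≫ pullback.fst g₁ g₁) (by rw [Category.assoc, Category.assoc, pullback.condition])
      ⟨pullback.snd _ _, pullback.condition.symm⟩
    let A : pullback (pullback.fst g₁ g₁) jU ≅ pullback (pullback.snd g₁ g₁) jU :=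
      { hom := pullback.lift (pullback.fst _ _) l hl.symm
        inv := pullback.lift (pullback.fst _ _) l' hl'.symm
        hom_inv_id := by rw [← cancel_mono (pullback.fst (pullback.fst g₁ g₁) jU), Category.assoc, pullback.lift_fst, pullback.lift_fst, Category.id_comp]
        inv_hom_id := by rw [← cancel_mono (pullback.fst (pullback.snd g₁ g₁) jU), Category.assoc, pullback.lift_fst, pullback.lift_fst, Category.id_comp] }
    haveI := A.isIso_hom
    rw [← Scheme.Hom.ker_comp_of_isIso A.hom (pullback.fst (pullback.snd g₁ g₁) jU)]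
    congr 1
    exact (pullback.lift_fst _ _ _).symm
  obtain ⟨J, hJ, -⟩ := DescLib.existsUnique_descend_fpqc (ι := PUnit.{u + 1})
    (Q := fun _ => ((g ⁻¹ᵁ U : X'.Opens) : Scheme.{u})) (fun _ => g₁)
    (by rw [Presieve.ofArrows_pUnit]; exact hg₁) (fun _ => jU.ker) fun _ _ => hcomp
  have hle : J.subschemeι.ker ≤ (jU ≫ g₁).ker := by
    rw [Scheme.IdealSheafData.ker_subschemeι, ← Scheme.IdealSheafData.map_ker jU g₁,
      Scheme.IdealSheafData.le_map_iff_comap_le]
    exact (hJ PUnit.unit).le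
  have hpb : IsPullback jU (IsClosedImmersion.lift J.subschemeι (jU ≫ g₁) hle) g₁ J.subschemeι :=
    isPullback_of_isClosedImmersion _ _ _ _ (IsClosedImmersion.lift_fac _ _ _).symm
      (by rw [Scheme.IdealSheafData.ker_subschemeι]; exact hJ PUnit.unit)
  refine ⟨J.subscheme, J.subschemeι ≫ U.ι, inferInstance, fun T a => ⟨?_, ?_⟩⟩
  · rintro ⟨l, hl⟩
    refine ⟨l ≫ IsClosedImmersion.lift J.subschemeι (jU ≫ g₁) hle, ?_⟩
    rw [Category.assoc, ← Category.assoc (IsClosedImmersion.lift _ _ _), ← hpb.w, Category.assoc,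
      morphismRestrict_ι, reassoc_of% hjU', reassoc_of% hl]
  · rintro ⟨l, hl⟩
    have hr : Set.range a ⊆ Set.range (g ⁻¹ᵁ U).ι := by
      rintro _ ⟨t, rfl⟩
      rw [Scheme.Opens.range_ι]
      show g (a t) ∈ U
      rw [← Scheme.Hom.comp_apply, ← hl, Scheme.Hom.comp_apply, Scheme.Hom.comp_apply]
      exact (J.subschemeι (l t)).2
    let a₁ := IsOpenImmersion.lift (g ⁻¹ᵁ U).ι a hr
    have ha₁ : a₁ ≫ (g ⁻¹ᵁ U).ι = a := IsOpenImmersion.lift_fac _ _ _
    have hsq : a₁ ≫ g₁ = l ≫ J.subschemeι := by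
      rw [← cancel_mono U.ι, Category.assoc, Category.assoc, hl]
      show a₁ ≫ (g ∣_ U) ≫ U.ι = a ≫ g
      rw [morphismRestrict_ι, reassoc_of% ha₁]
    refine ⟨hpb.lift a₁ l hsq, ?_⟩
    calc hpb.lift a₁ l hsq ≫ j = (hpb.lift a₁ l hsq ≫ jU) ≫ (g ⁻¹ᵁ U).ι := by rw [Category.assoc, hjU']
      _ = a := by rw [hpb.lift_fst]; exact ha₁

end Groth.Agent.GrpSchLib.SubschemeDescent
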