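import Groth.Agent.GrpSchLib.SemiabExt
import Groth.Agent.GrpSchLib.IsogProps
import Groth.Agent.TorusQI.TorsionChar
import Groth.Agent.GrpSchLib.HomFinite
import Groth.Agent.AGFLib.QuotProper
import Groth.Agent.EtFound.Descent
import Groth.Agent.S7782
import Groth.Agent.S3030

/-! A group isogenous to a semi-abelian variety is semi-abelian. -/

set_option autoImplicit false
set_option backward.isDefEq.respectTransparency false
set_option backward.isDefEq.respectTransparency.types false
set_option linter.style.haveILetI false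
set_option maxHeartbeats 1600000
set_option synthInstance.maxHeartbeats 400000

universe u

open CategoryTheory CategoryTheory.Limits MonoidalCategory CartesianMonoidalCategory MonObj AlgebraicGeometry WithConv

namespace Groth.Agent.GrpSchLib.SemiabIsog

open GrpSchLib LineInUnip SemiabLine SemiabExt AGFLib AGFLib.Gen

section Closed

variable {K : Type u} [Field K] [IsAlgClosed K]

local notation "PT" => 𝟙_ (Over (Spec (CommRingCat.of K)))

/-- A finite group receives only constant maps from the affine line. -/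
theorem lineConst_of_finite (N : Over (Spec (CommRingCat.of K))) [GrpObj N] [IsFinite N.hom] : LineConst N := by
  haveI : IsReduced (A1 K).left := inferInstanceAs (IsReduced 𝔸(PUnit.{u + 1}; Spec (CommRingCat.of K)))
  haveI : IrreducibleSpace (A1 K).left := inferInstanceAs (IrreducibleSpace 𝔸(PUnit.{u + 1}; Spec (CommRingCat.of K)))
  haveI : LocallyOfFiniteType (A1 K).hom :=
    inferInstanceAs (LocallyOfFiniteType (𝔸(PUnit.{u + 1}; Spec (CommRingCat.of K)) ↘ Spec (CommRingCat.of K)))
  haveI : ConnectedSpace (A1 K).left := inferInstance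
  haveI := IsogTorus.finite_pts N
  intro f
  let p : PT ⟶ A1 K := Over.homMk
    (AffineSpace.homOfVector (PT : Over (Spec (CommRingCat.of K))).hom fun _ => algebraMap K (Kunneth.Fn PT) 0)
    (AffineSpace.homOfVector_over _ _)
  refine ⟨p ≫ f, AGFLib.BorelFixed.hom_ext_pts fun t => ?_⟩
  rw [pt_toUnit]
  exact IsogSub.const_of_finite f Set.finite_univ (fun _ => trivial) p t

/-- The points of a torus are divisible. -/
theorem exists_root {T : Over (Spec (CommRingCat.of K))} [GrpObj T] (hT : Red.IsTorus T) {n : ℕ} (hn : n ≠ 0)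
    (t : PT ⟶ T) : ∃ s : PT ⟶ T, s ^ n = t := by
  obtain ⟨r, ⟨e⟩⟩ := SolvGrp.exists_iso_sp hT
  let a : T ≅ AffineHopf.sp K (MonoidAlgebra K (Multiplicative (Fin r → ℤ))) := (Grp.forget _).mapIso e
  haveI : IsMonHom a.hom := e.hom.hom.isMonHom_hom
  haveI : IsMonHom a.inv := e.inv.hom.isMonHom_hom
  let f := LineVec.fn (t ≫ a.hom)
  let v : Fin r → K := fun i =>
    ProjAct.toK (f (MonoidAlgebra.single (Multiplicative.ofAdd (Pi.single i (1 : ℤ))) 1))
  let c₀ : Multiplicative (Fin r → ℤ) →* K :=
    ((ProjAct.toK (k := K)).toAlgHom.comp f : MonoidAlgebra K (Multiplicative (Fin r → ℤ)) →* K).comp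
      (MonoidAlgebra.of K (Multiplicative (Fin r → ℤ)))
  let c : Multiplicative (Fin r → ℤ) →* Kˣ := c₀.toHomUnits
  have hroot : ∀ u : Kˣ, ∃ d : Kˣ, d ^ n = u := fun u => by
    obtain ⟨z, hz⟩ := IsAlgClosed.exists_pow_nat_eq (u : K) (Nat.pos_of_ne_zero hn)
    have hz0 : z ≠ 0 := fun h => u.ne_zero (by rw [← hz, h, zero_pow hn])
    exact ⟨Units.mk0 z hz0, Units.ext hz⟩
  choose d hd using hroot
  let θ : (Fin r → ℤ) →ₗ[ℤ] Additive Kˣ :=
    (Pi.basisFun ℤ (Fin r)).constr ℤ fun i => Additive.ofMul (d (c (Multiplicative.ofAdd (Pi.single i 1))))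
  let θ' : Multiplicative (Fin r → ℤ) →* Kˣ := AddMonoidHom.toMultiplicativeLeft θ.toAddMonoidHom
  have hθ : ∀ m, θ' m ^ n = c m := by
    have key : ((n : ℤ) • θ : (Fin r → ℤ) →ₗ[ℤ] Additive Kˣ) = (MonoidHom.toAdditiveRight c).toIntLinearMap := by
      refine (Pi.basisFun ℤ (Fin r)).ext fun i => ?_
      rw [LinearMap.smul_apply, Module.Basis.constr_basis, Pi.basisFun_apply, natCast_zsmul, ← ofMul_pow, hd]
      rfl
    intro m
    have h := DFunLike.congr_fun key m.toAdd
    rw [LinearMap.smul_apply, natCast_zsmul] at h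
    exact congrArg Additive.toMul h
  let g : MonoidAlgebra K (Multiplicative (Fin r → ℤ)) →ₐ[K] Kunneth.Fn PT :=
    (Algebra.ofId K (Kunneth.Fn PT)).comp (MonoidAlgebra.lift K K _ ((Units.coeHom K).comp θ'))
  let s := LineVec.aff PT ≫ AffineHopf.spMap g
  have hmul : ∀ (x y : PT ⟶ AffineHopf.sp K (MonoidAlgebra K (Multiplicative (Fin r → ℤ)))) m,
      LineVec.fn (x * y) (MonoidAlgebra.single m 1) =
        LineVec.fn x (MonoidAlgebra.single m 1) * LineVec.fn y (MonoidAlgebra.single m 1) := fun x y m => by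
    rw [LineVec.fn_mul]
    show (toConv (LineVec.fn x) * toConv (LineVec.fn y)) (MonoidAlgebra.single m 1) = _
    rw [AlgHom.convMul_apply, MonoidAlgebra.comul_single, CommSemiring.comul_apply, TensorProduct.map_tmul]
    simp only [MonoidAlgebra.lsingle_apply, Algebra.TensorProduct.lift_tmul]
  have hpow : ∀ (j : ℕ) m, LineVec.fn (s ^ (j + 1)) (MonoidAlgebra.single m 1) =
      algebraMap K (Kunneth.Fn PT) ((θ' m : K) ^ (j + 1)) := by
    intro j m
    induction j with
    | zero =>
      rw [pow_one, pow_one]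
      show LineVec.fn (LineVec.aff PT ≫ AffineHopf.spMap g) _ = _
      rw [LineVec.fn_aff]
      simp [g]
    | succ j ih =>
      rw [pow_succ, hmul, ih, pow_succ _ (j + 1), map_mul]
      congr 1
      show LineVec.fn (LineVec.aff PT ≫ AffineHopf.spMap g) _ = _
      rw [LineVec.fn_aff]
      simp [g]
  have hs : s ^ n = t ≫ a.hom := by
    refine LineVec.fn_injective (MonoidAlgebra.algHom_ext (fun m => ?_) (AlgHom.ext fun z => ?_))
    · obtain ⟨j, rfl⟩ := Nat.exists_eq_succ_of_ne_zero hn
      rw [hpow, ← Units.val_pow_eq_pow_val, hθ]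
      show algebraMap K _ (ProjAct.toK (f (MonoidAlgebra.single m 1))) = _
      rw [ProjAct.algebraMap_toK]
    · show LineVec.fn (s ^ n) (algebraMap K _ z) = LineVec.fn (t ≫ a.hom) (algebraMap K _ z)
      rw [AlgHom.commutes, AlgHom.commutes]
  refine ⟨s ≫ a.inv, ?_⟩
  let φ : (PT ⟶ AffineHopf.sp K (MonoidAlgebra K (Multiplicative (Fin r → ℤ)))) →* (PT ⟶ T) :=
    MonoidHom.mk' (· ≫ a.inv) fun x y => MonObj.mul_comp x y a.inv
  show φ s ^ n = t
  rw [← map_pow, hs]
  show (t ≫ a.hom) ≫ a.inv = t
  simp

/-- Finitely many rational points in the kernel make a homomorphism finite. -/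
theorem isFinite_of_finite_kernel {A B : Over (Spec (CommRingCat.of K))} [GrpObj A] [GrpObj B]
    [LocallyOfFiniteType A.hom] [QuasiCompact A.hom] [LocallyOfFiniteType B.hom]
    (q : A ⟶ B) [IsMonHom q] (h : ({a : PT ⟶ A | a ≫ q = 1}).Finite) : IsFinite q.left := by
  haveI := AntiAffine.isSeparated_grp A
  haveI := AntiAffine.isSeparated_grp B
  haveI : QuasiCompact q.left := by
    haveI : QuasiCompact (q.left ≫ B.hom) := by rw [Over.w q]; infer_instance
    exact QuasiCompact.of_comp q.left B.hom
  haveI : LocallyQuasiFinite q.left := by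
    refine GrpSchLib.HomFinite.locallyQuasiFinite_of_finite_preimage q ?_
    obtain ⟨NK, _, kq, -, hkqc, -, hkq⟩ := GrpSchLib.exists_kernel q
    haveI := hkqc
    haveI : LocallyOfFiniteType NK.hom := by rw [← Over.w kq]; infer_instance
    haveI : QuasiCompact NK.hom := by rw [← Over.w kq]; infer_instance
    haveI : IsSeparated NK.hom := by rw [← Over.w kq]; infer_instance
    haveI : Mono kq := AGFLib.BorelExist.mono_of_closedImmersion kq
    haveI : IsFinite NK.hom := AGFLib.QuotProper.isFinite_of_finite_pts ((fun t : PT ⟶ NK => t ≫ kq) ⁻¹' {y | y ≫ q = 1})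
      (h.preimage fun a _ b _ hab => (cancel_mono kq).1 hab)
      (fun t => by
        show (t ≫ kq) ≫ q = 1
        rw [Category.assoc, hkq.w, ← Category.assoc, comp_toUnit]; rfl)
    haveI : Finite NK.left := Set.finite_univ_iff.1
      ((NK.hom.finite_preimage_singleton (IsLocalRing.closedPoint K)).subset
        fun x _ => Subsingleton.elim (α := Spec (CommRingCat.of K)) _ _)
    refine (Set.finite_range kq.left).subset fun x hx => ?_
    obtain ⟨w, hw, -⟩ := Scheme.exists_preimage_of_isPullback (hkq.map (Over.forget _)) x (IsLocalRing.closedPoint K) hx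
    exact ⟨w, hw⟩
  exact GrpSchLib.HomFinite.isFinite_of_isAlgClosed q

end Closed

theorem mono_ci {S : Scheme.{u}} {X Y : Over S} (i : X ⟶ Y) [IsClosedImmersion i.left] : Mono i :=
  (Over.forget _).mono_of_mono_map (inferInstanceAs (Mono i.left))

theorem isMonHom_powMap {S : Scheme.{u}} {P : Over S} [GrpObj P] [IsCommMonObj P] (r : ℕ) :
    IsMonHom ((𝟙 P) ^ r) where
  one_hom := by rw [MonObj.one_eq_one, TorusQI.comp_npow, Category.comp_id, one_pow]
  mul_hom := by
    have hμ : μ[P] = fst P P * snd P P := by rw [Hom.mul_def, lift_fst_snd, Category.id_comp]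
    rw [TorusQI.comp_npow, Category.comp_id, ← CartesianMonoidalCategory.lift_fst_comp_snd_comp, ← Hom.mul_def, TorusQI.comp_npow,
      TorusQI.comp_npow, Category.comp_id, Category.comp_id, hμ, _root_.mul_pow]

theorem isCommMonObj_of_mono {S : Scheme.{u}} {N P : Over S} [GrpObj N] [GrpObj P] [IsCommMonObj P] (n : N ⟶ P)
    [IsMonHom n] [Mono n] : IsCommMonObj N := by
  refine ⟨?_⟩
  rw [← cancel_mono n, Category.assoc, IsMonHom.mul_hom n, ← Category.assoc,
    ← BraidedCategory.braiding_naturality, Category.assoc, IsCommMonObj.mul_comm]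

theorem rank_ne_zero {k : Type u} [Field k] (N : Over (Spec (CommRingCat.of k))) [IsFinite N.hom] [Flat N.hom]
    [LocallyOfFinitePresentation N.hom] [Nonempty N.left]
    {r : ℕ} (hr : ∀ s : Spec (CommRingCat.of k), Scheme.Hom.finrank N.hom s = r) : r ≠ 0 := by
  haveI : Surjective N.hom := ⟨fun y => ⟨Classical.arbitrary N.left, @Subsingleton.elim (PrimeSpectrum k) _ _ _⟩⟩
  have h := (Scheme.Hom.one_le_finrank_iff_surjective (f := N.hom)).mpr inferInstance (IsLocalRing.closedPoint k)
  rw [hr] at h
  exact Nat.one_le_iff_ne_zero.mp h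

variable {k : Type u} [Field k] {G H : Over (Spec (CommRingCat.of k))} [GrpObj G] [GrpObj H] [Smooth G.hom]
  [QuasiCompact G.hom] [ConnectedSpace G.left] [LocallyOfFiniteType H.hom] [QuasiCompact H.hom]

local notation "σk" => Spec.map (CommRingCat.ofHom (algebraMap k (AlgebraicClosure k)))

/-- The descent of semi-abelianness along an isogeny. -/
theorem exists_semiab (f : G ⟶ H) [IsMonHom f] [Surjective f.left]
    {N : Over (Spec (CommRingCat.of k))} [GrpObj N] (n : N ⟶ G) [IsMonHom n] [IsClosedImmersion n.left]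
    [IsFinite N.hom] (hker : AlgGrp.IsKernel n f)
    {T A : Over (Spec (CommRingCat.of k))} [GrpObj T] [GrpObj A] (i : T ⟶ H) [IsMonHom i] [IsClosedImmersion i.left]
    (hT : Red.IsTorus T) (q : H ⟶ A) [IsMonHom q] [Surjective q.left] [Flat q.left] (hk : AlgGrp.IsKernel i q)
    [IsProper A.hom] [Smooth A.hom] [ConnectedSpace A.left] :
    ∃ (T : Over (Spec (CommRingCat.of k))) (_ : GrpObj T) (i : T ⟶ G) (A : Over (Spec (CommRingCat.of k)))
      (_ : GrpObj A) (q : G ⟶ A), IsMonHom i ∧ IsClosedImmersion i.left ∧ Red.IsTorus T ∧ IsMonHom q ∧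
        Surjective q.left ∧ Flat q.left ∧ AlgGrp.IsKernel i q ∧ IsProper A.hom ∧ Smooth A.hom ∧
        ConnectedSpace ↥A.left := by
  haveI : IsFinite (Red.bc σk N).hom := inferInstanceAs (IsFinite (pullback.snd N.hom σk))
  haveI : Smooth (Red.bc σk G).hom := inferInstanceAs (Smooth (pullback.snd G.hom σk))
  haveI : Smooth (Red.bc σk A).hom := inferInstanceAs (Smooth (pullback.snd A.hom σk))
  haveI : IsProper (Red.bc σk A).hom := inferInstanceAs (IsProper (pullback.snd A.hom σk))
  haveI : QuasiCompact (Red.bc σk G).hom := inferInstanceAs (QuasiCompact (pullback.snd G.hom σk))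
  haveI : ConnectedSpace (Red.bc σk G).left := AntiAffine.connectedSpace_bc G (algebraMap k (AlgebraicClosure k))
  haveI : ConnectedSpace (Red.bc σk A).left := AntiAffine.connectedSpace_bc A (algebraMap k (AlgebraicClosure k))
  haveI hσs : Surjective σk := ⟨fun y => ⟨IsLocalRing.closedPoint (AlgebraicClosure k), @Subsingleton.elim (PrimeSpectrum k) _ _ _⟩⟩
  haveI hσf : Flat σk := (HasRingHomProperty.Spec_iff (P := @Flat)).2 (RingHom.flat_algebraMap_iff.2 inferInstance)
  have hTb : Red.IsTorus (Red.bc σk T) := SolvGrp.isTorus_bc σk hT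
  -- semi-abelian over the closure, hence commutative
  have hGb : IsSemiab (Red.bc σk G) := by
    refine semiab_iff.2 (lineConst_ext ((Over.pullback σk).map n) ((Over.pullback σk).map f) (NIsog.isKernel_bc σk hker)
      (lineConst_of_finite _) fun g => ?_)
    haveI : LocallyOfFiniteType (Red.bc σk H).hom := inferInstanceAs (LocallyOfFiniteType (pullback.snd H.hom σk))
    exact const_of_semiab ((Over.pullback σk).map i) hTb ((Over.pullback σk).map q) (NIsog.isKernel_bc σk hk) g
  haveI hcomm : IsCommMonObj G := by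
    obtain ⟨T', _, i', A', _, q', hi', hic', hT', hq', hqs', hqf', hk', hA', hAs', hAc'⟩ := hGb
    haveI := hi'; haveI := hic'; haveI := hq'; haveI := hqs'; haveI := hqf'; haveI := hA'; haveI := hAs'; haveI := hAc'
    haveI := AGFLib.QuasiComp.comm_of_semiabelian i' hT' q' hk'
    rw [IsogProps.comm_iff, IsogProps.solvable_iff]
    exact (IsogProps.comm_iff _).1 inferInstance _
  haveI : IsSeparated A.hom := AntiAffine.isSeparated_grp A
  haveI : LocallyOfFiniteType T.hom := by rw [← Over.w i]; infer_instance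
  haveI : QuasiCompact T.hom := by rw [← Over.w i]; infer_instance
  obtain ⟨hTa, hTs, hTc, -⟩ := SolvGrp.torus_props hTb
  haveI := hTa; haveI := hTs; haveI := hTc
  haveI : IsReduced (Red.bc σk T).left := isReduced_of_smooth_field (Red.bc σk T).hom
  haveI : IsReduced T.left := by
    haveI : IsReduced (pullback T.hom σk) := ‹IsReduced (Red.bc σk T).left›
    exact FBaseLib.isReduced_of_flat_surjective (pullback.fst T.hom σk)
  obtain ⟨P, _, iP, hiP, hiPc, -, hkP⟩ := exists_kernel (f ≫ q)
  haveI := hiP; haveI := hiPc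
  haveI := mono_ci iP
  haveI := mono_ci i
  haveI := mono_ci n
  haveI : LocallyOfFiniteType P.hom := by rw [← Over.w iP]; infer_instance
  haveI : QuasiCompact P.hom := by rw [← Over.w iP]; infer_instance
  haveI : IsCommMonObj P := isCommMonObj_of_mono iP
  haveI : IsCommMonObj N := isCommMonObj_of_mono n
  have hP0 : (iP ≫ f) ≫ q = toUnit P ≫ η[A] := by rw [Category.assoc]; exact hkP.w
  let u : P ⟶ T := hk.lift (iP ≫ f) (toUnit P) hP0
  have hu : u ≫ i = iP ≫ f := hk.lift_fst _ _ _
  haveI : IsMonHom u := AGFLib.GeomBC.isMonHom_of_comp u i (iP ≫ f) hu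
  have hsq : IsPullback iP u f i := IsPullback.of_bot (v₂₁ := toUnit T) (v₂₂ := q) (h₃₁ := η[A])
    (by rw [toUnit_unique (u ≫ toUnit T) (toUnit P)]; exact hkP) hu.symm hk
  have hn0 : n ≫ f ≫ q = toUnit N ≫ η[A] := by
    rw [← Category.assoc, hker.w, Category.assoc, IsMonHom.one_hom q]
  let nP : N ⟶ P := hkP.lift n (toUnit N) hn0
  have hnP : nP ≫ iP = n := hkP.lift_fst _ _ _
  haveI : IsMonHom nP := AGFLib.GeomBC.isMonHom_of_comp nP iP n hnP
  have hnu : nP ≫ u = toUnit N ≫ η[T] := by
    rw [← cancel_mono i, Category.assoc, hu, ← Category.assoc, hnP, hker.w, Category.assoc, IsMonHom.one_hom i]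
  have hkN : AlgGrp.IsKernel nP u := IsPullback.of_right
    (by rw [hnP, IsMonHom.one_hom i]; exact hker) hnu hsq
  haveI hus : Surjective u.left :=
    MorphismProperty.of_isPullback (P := @Surjective) (hsq.map (Over.forget _)) ‹Surjective f.left›
  haveI : QuasiCompact u.left := by
    haveI : QuasiCompact (u.left ≫ T.hom) := by rw [Over.w u]; infer_instance
    haveI := AntiAffine.isSeparated_grp T
    exact QuasiCompact.of_comp u.left T.hom
  haveI : Flat u.left := flat_of_surjective_hom u
  -- the exponent of the kernel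
  haveI : LocallyOfFinitePresentation N.hom := inferInstance
  let r := Scheme.Hom.finrank N.hom (IsLocalRing.closedPoint k)
  have hr : ∀ s : Spec (CommRingCat.of k), Scheme.Hom.finrank N.hom s = r := fun s =>
    congrArg _ (@Subsingleton.elim (PrimeSpectrum k) _ _ _)
  have hN1 : (𝟙 N) ^ r = 1 := S7782.result N r hr N (𝟙 N)
  have hr0 : r ≠ 0 := fun e => by
    haveI : Nonempty N.left := ⟨η[N].left (IsLocalRing.closedPoint k)⟩
    exact rank_ne_zero N hr e
  haveI := isMonHom_powMap (P := P) r
  have hφ0 : nP ≫ ((𝟙 P) ^ r) = toUnit N ≫ η[P] := by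
    rw [TorusQI.comp_npow, Category.comp_id, ← Category.id_comp nP, ← TorusQI.npow_comp, hN1, MonObj.one_comp]
    rfl
  obtain ⟨ψ, hψ, huψ, -⟩ := S3280.result k P N T P u nP hkN ((𝟙 P) ^ r) hφ0
  haveI := hψ
  have hψu : ψ ≫ u = (𝟙 T) ^ r := by
    obtain ⟨χ, -, -, huniq⟩ := S3280.result k P N T T u nP hkN (((𝟙 P) ^ r) ≫ u)
      (by rw [← Category.assoc, hφ0, Category.assoc, IsMonHom.one_hom u])
    refine (huniq (ψ ≫ u) (by rw [← Category.assoc, huψ])).trans (huniq ((𝟙 T) ^ r) ?_).symm
    rw [TorusQI.comp_npow, Category.comp_id, TorusQI.npow_comp, Category.id_comp]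
  -- the torus of G
  obtain ⟨I, _, rI, j, hrI, hj, hrj, hjc, hrf, hrs, hIl, hIq⟩ := ImageFactor.exists_image (ψ ≫ iP)
  haveI := hrI; haveI := hj; haveI := hjc; haveI := hrf; haveI := hrs; haveI := hIl; haveI := hIq
  haveI : Flat ((Over.pullback σk).map rI).left :=
    MorphismProperty.of_isPullback (P := @Flat) (HomSplitLocal.isPullback_map rI σk) inferInstance
  haveI : Surjective ((Over.pullback σk).map rI).left :=
    MorphismProperty.of_isPullback (P := @Surjective) (HomSplitLocal.isPullback_map rI σk) inferInstance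
  haveI : LocallyOfFiniteType (Red.bc σk I).hom := inferInstanceAs (LocallyOfFiniteType (pullback.snd I.hom σk))
  haveI : QuasiCompact (Red.bc σk I).hom := inferInstanceAs (QuasiCompact (pullback.snd I.hom σk))
  haveI : IsAffine (Red.bc σk I).left := isAffine_of_quotient ((Over.pullback σk).map rI)
  haveI : IsReduced (Red.bc σk I).left :=
    FBaseLib.isReduced_of_flat_surjective ((Over.pullback σk).map rI).left
  haveI : Smooth (Red.bc σk I).hom := smooth_of_isReduced_of_isAlgClosed _
  haveI : ConnectedSpace (Red.bc σk I).left :=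
    ((Over.pullback σk).map rI).left.surjective.connectedSpace ((Over.pullback σk).map rI).left.continuous
  have hI : Red.IsTorus I :=
    IsogTorus.isTorus_of_bc _ (IsogTorus.isTorus_target ((Over.pullback σk).map rI) hTb)
  -- the quotient
  have hn : AlgGrp.IsNormalHom j := fun X g x => ⟨x, by rw [_root_.mul_comm g (x ≫ j), mul_inv_cancel_right]⟩
  haveI := mono_ci j
  obtain ⟨R, _, s, hs, hsf, hss, -, hsk, hRsep, -, hRsm⟩ := S3030.result k I G j hn
  haveI := hs; haveI := hss; haveI := hsf; haveI := hRsep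
  haveI : Smooth R.hom := hRsm inferInstance
  haveI : CompactSpace G.left := (quasiCompact_iff_compactSpace G.hom).mp inferInstance
  haveI : QuasiCompact R.hom :=
    (quasiCompact_iff_compactSpace R.hom).mpr (s.left.surjective.compactSpace s.left.continuous)
  haveI : ConnectedSpace R.left := s.left.surjective.connectedSpace s.left.continuous
  have hjs : j ≫ s = 1 := by rw [hsk.w]; rfl
  obtain ⟨φA, hφA, hsφ, -⟩ := S3280.result k G I R A s j hsk (f ≫ q) (by
    haveI : Epi rI.left := Flat.epi_of_flat_of_surjective _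
    haveI : Epi rI := (Over.forget _).epi_of_epi_map (inferInstanceAs (Epi rI.left))
    rw [← cancel_epi rI, ← Category.assoc, hrj, Category.assoc, hkP.w, ← Category.assoc, ← Category.assoc,
      toUnit_unique (ψ ≫ toUnit P) (rI ≫ toUnit I)])
  haveI := hφA
  haveI : Surjective (s.left ≫ φA.left) := by
    rw [← Over.comp_left, hsφ]; exact inferInstanceAs (Surjective (f.left ≫ q.left))
  haveI : Surjective φA.left := Surjective.of_comp s.left φA.left
  -- it is finite over the closure
  haveI : LocallyOfFiniteType (Red.bc σk R).hom := inferInstanceAs (LocallyOfFiniteType (pullback.snd R.hom σk))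
  haveI : QuasiCompact (Red.bc σk R).hom := inferInstanceAs (QuasiCompact (pullback.snd R.hom σk))
  haveI : Surjective ((Over.pullback σk).map s).left :=
    MorphismProperty.of_isPullback (P := @Surjective) (HomSplitLocal.isPullback_map s σk) inferInstance
  let Pb := Red.bc σk P
  haveI : IsFinite ((Over.pullback σk).map φA).left := by
    refine isFinite_of_finite_kernel _ ?_
    haveI := IsogTorus.finite_pts (Red.bc σk N)
    let PK : Over (Spec (CommRingCat.of (AlgebraicClosure k))) := 𝟙_ _
    refine (Set.finite_range fun z : PK ⟶ Red.bc σk N =>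
      z ≫ (Over.pullback σk).map n ≫ (Over.pullback σk).map s).subset fun y hy => ?_
    haveI := AntiAffine.isSeparated_grp (Red.bc σk R)
    haveI : LocallyOfFiniteType ((Over.pullback σk).map s).left := by
      haveI : LocallyOfFiniteType (((Over.pullback σk).map s).left ≫ (Red.bc σk R).hom) := by
        rw [Over.w ((Over.pullback σk).map s)]; infer_instance
      exact locallyOfFiniteType_of_comp _ (Red.bc σk R).hom
    obtain ⟨a, rfl⟩ := Gen.exists_of_mem_range ((Over.pullback σk).map s) y
      (((Over.pullback σk).map s).left.surjective _)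
    have hy' : a ≫ (Over.pullback σk).map (f ≫ q) = 1 := by
      rw [← hsφ, Functor.map_comp, ← Category.assoc]; exact hy
    obtain ⟨p, rfl⟩ : ∃ p : PK ⟶ Pb, p ≫ (Over.pullback σk).map iP = a :=
      ⟨(NIsog.isKernel_bc σk hkP).lift a (toUnit _) hy', (NIsog.isKernel_bc σk hkP).lift_fst _ _ _⟩
    obtain ⟨t', ht'⟩ := exists_root hTb hr0 (p ≫ (Over.pullback σk).map u)
    have hpow : t' ≫ (Over.pullback σk).map ψ ≫ (Over.pullback σk).map u = t' ^ r := by
      rw [← Functor.map_comp, hψu]
      have e := map_pow (Functor.homMonoidHom (F := Over.pullback σk) (X := T) (M := T)) (𝟙 T) r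
      simp only [Functor.homMonoidHom_apply, CategoryTheory.Functor.map_id] at e
      rw [e, TorusQI.comp_npow, Category.comp_id]
    obtain ⟨z, hz⟩ : ∃ z : PK ⟶ Red.bc σk N,
        z ≫ (Over.pullback σk).map nP = (t' ≫ (Over.pullback σk).map ψ)⁻¹ * p :=
      ⟨(NIsog.isKernel_bc σk hkN).lift _ (toUnit _) (by
        rw [MonObj.mul_comp, GrpObj.inv_comp, Category.assoc, hpow, ht', inv_mul_cancel]; rfl),
        (NIsog.isKernel_bc σk hkN).lift_fst _ _ _⟩
    refine ⟨z, ?_⟩
    show z ≫ (Over.pullback σk).map n ≫ (Over.pullback σk).map s =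
      (p ≫ (Over.pullback σk).map iP) ≫ (Over.pullback σk).map s
    rw [← hnP, Functor.map_comp, Category.assoc, ← Category.assoc z, hz, MonObj.mul_comp, GrpObj.inv_comp,
      Category.assoc, Category.assoc]
    have h0 : (Over.pullback σk).map ψ ≫ (Over.pullback σk).map iP ≫ (Over.pullback σk).map s = 1 := by
      rw [← Functor.map_comp, ← Functor.map_comp, ← Category.assoc, ← hrj, Category.assoc, hjs, MonObj.comp_one,
        Functor.map_one]
    rw [h0, MonObj.comp_one, inv_one, _root_.one_mul]
  haveI : IsProper (Red.bc σk R).hom := by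
    rw [← Over.w ((Over.pullback σk).map φA)]; infer_instance
  haveI : IsProper R.hom := by
    haveI := EtFound.fpqc_isProper.{u}
    exact MorphismProperty.of_isPullback_of_descendsAlong (P := @IsProper)
      (Q := @Surjective ⊓ @Flat ⊓ @QuasiCompact) (f := σk) (g := R.hom)
      (IsPullback.of_hasPullback R.hom σk).flip ⟨⟨inferInstance, inferInstance⟩, inferInstance⟩
      ‹IsProper (Red.bc σk R).hom›
  exact ⟨I, inferInstance, j, R, inferInstance, s, hj, hjc, hI, hs, hss, hsf, hsk, inferInstance, inferInstance,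
    inferInstance⟩

end Groth.Agent.GrpSchLib.SemiabIsog
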