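import Groth.Prelude.Def_AlgGrp
import Mathlib.CategoryTheory.Monoidal.Cartesian.Grp
import Mathlib.AlgebraicGeometry.Pullbacks
import Mathlib.CategoryTheory.Limits.Constructions.Over.Connected

/-! Point-wise formulas for actions and the shearing isomorphism of an action. -/

open CategoryTheory MonoidalCategory CartesianMonoidalCategory MonObj AlgebraicGeometry

namespace Groth.Agent.GrpSchLib

universe u

variable {S : Scheme.{u}} {G X T : Over S} [GrpObj G] (a : AlgGrp.Action G X)

@[reassoc]
theorem act_one (x : T ⟶ X) : lift 1 x ≫ a.act = x := by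
  have h : lift (toUnit T) x ≫ ((η[G] ▷ X) ≫ a.act) = lift (toUnit T) x ≫ (λ_ X).hom := by
    rw [a.one_act]
  rw [← Category.assoc, lift_whiskerRight] at h
  simpa [MonObj.one_eq_one, MonObj.comp_one] using h

theorem act_mul (g h : T ⟶ G) (x : T ⟶ X) :
    lift g (lift h x ≫ a.act) ≫ a.act = lift (g * h) x ≫ a.act := by
  have e : lift (lift g h) x ≫ ((μ[G] ▷ X) ≫ a.act) =
      lift (lift g h) x ≫ ((α_ G G X).hom ≫ (G ◁ a.act) ≫ a.act) := by
    rw [a.mul_act]
  rw [← Category.assoc, lift_whiskerRight, ← Category.assoc, lift_lift_associator_hom,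
    ← Category.assoc, lift_whiskerLeft] at e
  rw [← e]
  rfl

/-- `(g, x) ↦ (g, g x)`. -/
noncomputable def actShear : G ⊗ X ≅ G ⊗ X where
  hom := lift (fst G X) a.act
  inv := lift (fst G X) (lift (fst G X)⁻¹ (snd G X) ≫ a.act)
  hom_inv_id := by
    apply CartesianMonoidalCategory.hom_ext
    · simp
    · rw [Category.assoc, lift_snd, ← Category.assoc, comp_lift, GrpObj.comp_inv, lift_fst, lift_snd,
        Category.id_comp]
      have h := act_mul a (fst G X)⁻¹ (fst G X) (snd G X)
      rw [lift_fst_snd, Category.id_comp, inv_mul_cancel, act_one] at h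
      exact h
  inv_hom_id := by
    apply CartesianMonoidalCategory.hom_ext
    · simp
    · rw [Category.assoc, lift_snd, act_mul, mul_inv_cancel, act_one, Category.id_comp]

theorem actShear_hom_snd : (actShear a).hom ≫ snd G X = a.act := by simp [actShear]

instance : IsIso (actShear a).hom.left := ((Over.forget S).mapIso (actShear a)).isIso_hom

theorem property_act (P : MorphismProperty Scheme.{u}) [P.IsStableUnderBaseChange]
    (h : P G.hom) : P a.act.left := by
  have : P.RespectsIso := MorphismProperty.IsStableUnderBaseChange.respectsIso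
  rw [← actShear_hom_snd a, Over.comp_left, MorphismProperty.cancel_left_of_respectsIso P]
  exact MorphismProperty.pullback_snd _ _ h

theorem isPullback_act_pairs :
    IsPullback (G ◁ a.act) (snd G (G ⊗ X)) (snd G X) a.act :=
  IsPullback.of_isLimit' ⟨by simp⟩ (Limits.PullbackCone.IsLimit.mk _
    (fun s => lift (s.fst ≫ fst G X) s.snd)
    (fun s => by
      apply CartesianMonoidalCategory.hom_ext
      · simp
      · simpa using s.condition.symm)
    (fun s => by simp)
    (fun s m h1 h2 => by
      apply CartesianMonoidalCategory.hom_ext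
      · rw [lift_fst, ← h1]; simp
      · simpa using h2))

end Groth.Agent.GrpSchLib
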