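import Groth.Agent.AlgStLib.MonoQuotGrp
import Groth.Agent.AlgStLib.MonoFactorLft
import Groth.Prelude.Def_RedSub

/-! Quotients by flat stabilisers: the target is locally of finite type or the base is locally Noetherian. -/

set_option backward.isDefEq.respectTransparency false
set_option backward.isDefEq.respectTransparency.types false

universe u

open CategoryTheory CategoryTheory.Limits AlgebraicGeometry MonoidalCategory CartesianMonoidalCategory MonObj

namespace Groth.Agent.GrpSchLib.QuotStabGen

open AlgStLib.MonoFactor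

theorem exists_quot {S : Scheme.{u}} {G X H : Over S} [GrpObj G] [LocallyOfFinitePresentation G.hom]
    (a : AlgGrp.Action G X) (ξ : 𝟙_ (Over S) ⟶ X) (h : H ⟶ G) (hH : IsPullback h (toUnit H) (a.orbitMap ξ) ξ)
    [Flat H.hom] (hX : LocallyOfFiniteType X.hom ∨ IsLocallyNoetherian S) :
    ∃ (Q : Over S) (q : G ⟶ Q) (m : Q ⟶ X), RedSub.IsQuotient h q ∧ LocallyOfFinitePresentation Q.hom ∧
      Mono m ∧ q ≫ m = a.orbitMap ξ := by
  set φ := a.orbitMap ξ with hφ
  let e : H ≅ pullback φ ξ := hH.isoPullback
  have he : e.hom ≫ pullback.fst φ ξ = h := hH.isoPullback_hom_fst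
  have sq0 : IsPullback ((G ◁ h) ≫ μ[G]) (fst G H) φ φ := by
    refine (isPullback_orbitMap a ξ).of_iso (whiskerLeftIso G e.symm) (Iso.refl _) (Iso.refl _) (Iso.refl _)
      ?_ ?_ ?_ ?_
    · simp only [Iso.refl_hom, Category.comp_id, whiskerLeftIso_hom, Iso.symm_hom]
      rw [← MonoidalCategory.whiskerLeft_comp_assoc, ← he, Iso.inv_hom_id_assoc]
    · simp [hφ]
    · simp [hφ]
    · simp [hφ]
  have sq : IsPullback ((G ◁ h) ≫ μ[G]).left (fst G H).left φ.left φ.left := sq0.map (Over.forget S)
  haveI : LocallyOfFiniteType (φ.left ≫ X.hom) := by rw [Over.w φ]; infer_instance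
  haveI : LocallyOfFiniteType φ.left := locallyOfFiniteType_of_comp φ.left X.hom
  haveI hfst : Flat (fst G H).left := MorphismProperty.pullback_fst G.hom H.hom inferInstance
  haveI : Flat (pullback.fst φ.left φ.left) := by
    refine flat_fst_of_flat_snd ?_
    rw [← sq.isoPullback_inv_snd]
    infer_instance
  have hlfp : LocallyOfFinitePresentation (pullback.fst φ.left φ.left) ∧
      LocallyOfFinitePresentation (pullback.snd φ.left φ.left) := by
    rcases hX with hX | hS
    · haveI := hX
      haveI : LocallyOfFinitePresentation (φ.left ≫ X.hom) := by rw [Over.w φ]; infer_instance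
      haveI : LocallyOfFinitePresentation φ.left :=
        Groth.Agent.AlgSpPts.locallyOfFinitePresentation_of_comp φ.left X.hom
      exact ⟨inferInstance, inferInstance⟩
    · haveI := hS
      haveI : LocallyOfFiniteType ξ.left := by
        haveI : IsImmersion (ξ.left ≫ X.hom) := by
          rw [Over.w ξ]; exact inferInstanceAs (IsImmersion (𝟙 _))
        haveI : IsImmersion ξ.left := IsImmersion.of_comp ξ.left X.hom
        infer_instance
      haveI : LocallyOfFiniteType h.left :=
        MorphismProperty.of_isPullback (hH.map (Over.forget S)).flip ‹LocallyOfFiniteType ξ.left›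
      haveI : LocallyOfFiniteType H.hom := by rw [← Over.w h]; infer_instance
      haveI : LocallyOfFinitePresentation H.hom := inferInstance
      haveI : LocallyOfFinitePresentation (fst G H).left := MorphismProperty.pullback_fst G.hom H.hom inferInstance
      have h2 : LocallyOfFinitePresentation (pullback.snd φ.left φ.left) := by
        rw [← sq.isoPullback_inv_snd]; infer_instance
      haveI := h2
      refine ⟨?_, h2⟩
      rw [← pullbackSymmetry_hom_comp_snd]
      infer_instance
  haveI := hlfp.1
  haveI := hlfp.2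
  obtain ⟨X', f', f'', h₁, h₂, h₃, h₄, hf⟩ := AlgStLib.MonoFactorLft.exists_factor φ.left
  let Q : Over S := Over.mk (f'' ≫ X.hom)
  let p : G ⟶ Q := CategoryTheory.Over.homMk f' (by show f' ≫ f'' ≫ X.hom = _; rw [reassoc_of% hf, Over.w φ])
  let i : Q ⟶ X := CategoryTheory.Over.homMk f'' rfl
  have : Mono i := Over.mono_of_mono_left i
  have hpi : p ≫ i = φ := Over.OverMorphism.ext hf
  refine ⟨Q, p, i, ⟨h₁, h₂, h₃, (isPullback_of_mono hpi hpi sq0).flip⟩, ?_, inferInstance, hpi⟩
  have : LocallyOfFinitePresentation (f' ≫ Q.hom) := by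
    show LocallyOfFinitePresentation (f' ≫ f'' ≫ X.hom)
    rw [reassoc_of% hf, Over.w φ]; infer_instance
  exact Groth.Agent.SrcDescent.locallyOfFinitePresentation_of_fppf_comp f' Q.hom

end Groth.Agent.GrpSchLib.QuotStabGen
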