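import Groth.Agent.GrpSchLib.Cartier
import Groth.Agent.GrpSchLib.Reduced
import Mathlib.AlgebraicGeometry.Morphisms.SmoothFiber

/-! Reduced group schemes over perfect fields are smooth. -/

open CategoryTheory AlgebraicGeometry MonoidalCategory CartesianMonoidalCategory MonObj

namespace Groth.Agent.GrpSchLib

universe u

theorem isReduced_pullback_spec {K : Type u} [Field K] [PerfectField K] (B : CommRingCat.{u})
    (f : Spec B ⟶ Spec (CommRingCat.of K)) [IsReduced (Spec B)] :
    IsReduced (Limits.pullback f (Spec.map (CommRingCat.ofHom (algebraMap K (AlgebraicClosure K))))) := by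
  obtain ⟨s, rfl⟩ := Spec.map_surjective f
  let : Algebra K B := s.hom.toAlgebra
  have : _root_.IsReduced B := affine_isReduced_iff _ |>.mp ‹_›
  have := isReduced_tensor_of_isSeparable K (AlgebraicClosure K) B
  show IsReduced (Limits.pullback (Spec.map (CommRingCat.ofHom (algebraMap K B)))
    (Spec.map (CommRingCat.ofHom (algebraMap K (AlgebraicClosure K)))))
  exact isReduced_of_isOpenImmersion (pullbackSpecIso K B (AlgebraicClosure K)).hom

theorem isReduced_pullback_algClosure {K : Type u} [Field K] [PerfectField K] {X : Scheme.{u}}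
    (f : X ⟶ Spec (CommRingCat.of K)) [IsReduced X] :
    IsReduced (Limits.pullback f (Spec.map (CommRingCat.ofHom (algebraMap K (AlgebraicClosure K))))) := by
  refine @IsReduced.of_openCover _ (Scheme.Pullback.openCoverOfLeft X.affineOpenCover.openCover f _) fun i => ?_
  let j : X.affineOpenCover.I₀ := i
  have : IsOpenImmersion (X.affineOpenCover.f j) := X.affineOpenCover.map_prop j
  have : IsReduced (Spec (X.affineOpenCover.X j)) := isReduced_of_isOpenImmersion (X.affineOpenCover.f j)
  exact isReduced_pullback_spec (X.affineOpenCover.X j) (X.affineOpenCover.f j ≫ f)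

theorem smooth_of_perfectField_of_isReduced {K : Type u} [Field K] [PerfectField K]
    (G : Over (Spec (CommRingCat.of K))) [GrpObj G] [LocallyOfFiniteType G.hom] [IsReduced G.left] :
    Smooth G.hom :=
  smooth_of_isReduced_baseChange G (isReduced_pullback_algClosure G.hom)

theorem smooth_of_fibres_charZero {S : Scheme.{u}} (hS : ∀ s : S, CharZero (S.residueField s))
    (G : Over S) [GrpObj G] [Flat G.hom] [LocallyOfFinitePresentation G.hom] : Smooth G.hom := by
  let : GrpObj (Over.mk G.hom) := ‹GrpObj G›
  refine Smooth.of_smooth_fiberToSpecResidueField G.hom fun s => ?_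
  let : GrpObj (Over.mk (Limits.pullback.snd G.hom (S.fromSpecResidueField s))) := Over.grpObjMkPullbackSnd
  have : LocallyOfFiniteType (Over.mk (Limits.pullback.snd G.hom (S.fromSpecResidueField s))).hom :=
    inferInstanceAs (LocallyOfFiniteType (Limits.pullback.snd G.hom (S.fromSpecResidueField s)))
  exact @smooth_of_charZero (S.residueField s) _ (hS s)
    (Over.mk (Limits.pullback.snd G.hom (S.fromSpecResidueField s))) Over.grpObjMkPullbackSnd this

end Groth.Agent.GrpSchLib
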