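import Groth.Agent.GrpSchLib.SubgroupEqLocus
import Groth.Prelude.Def_SGA3x

/-!
# Groups of multiplicative type are commutative on points

Over a piece of a splitting covering a point is a character, and characters multiply pointwise.
-/

universe u

open CategoryTheory CategoryTheory.Limits MonoidalCategory CartesianMonoidalCategory MonObj AlgebraicGeometry

namespace Groth.Agent.GrpSchLib.MultTypeComm

open DSPtsLib (CoordM)
open DiagActionRigid (sp spm)

theorem points_comm {S : Scheme.{u}} {H : Over S} [GrpObj H] (hH : SGA3x.IsMultTypeFT H) {Y : Over S}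
    (a b : Y ⟶ H) : a * b = b * a := by
  obtain ⟨S', f, hflat, hsurj, hqc, hloc⟩ := hH
  let P : Over S := Over.mk (pullback.fst Y.hom f ≫ Y.hom)
  let p : P ⟶ Y := Over.homMk (pullback.fst Y.hom f) rfl
  have hcf : FpqcDescLib.Covers f :=
    FpqcDescLib.covers_of_hcov f ⟨S', f, 𝟙 _, Category.id_comp _, hsurj, hflat, hqc⟩
  have hp : FpqcDescLib.Covers p.left :=
    hcf.pullback Y.hom p.left (pullback.snd Y.hom f) (IsPullback.of_hasPullback Y.hom f)
  haveI := hp.over_epi
  rw [← cancel_epi p, MonObj.comp_mul, MonObj.comp_mul]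
  generalize p ≫ a = a'
  generalize p ≫ b = b'
  clear hp
  have hW : ∀ z : (pullback Y.hom f : Scheme.{u}), ∃ (W : (pullback Y.hom f).Opens) (hW : IsAffineOpen W),
      z ∈ W ∧ hW.fromSpec ≫ (a' * b').left = hW.fromSpec ≫ (b' * a').left := by
    intro z
    obtain ⟨U, hzU, M, iM, -, ⟨e⟩⟩ := hloc (pullback.snd Y.hom f z)
    obtain ⟨W, hW, hzW, hWle⟩ := exists_isAffineOpen_mem_and_subset
      (show z ∈ pullback.snd Y.hom f ⁻¹ᵁ U from hzU)
    refine ⟨W, hW, hzW, ?_⟩
    have hr : Set.range (hW.fromSpec ≫ pullback.snd Y.hom f) ⊆ Set.range U.ι := by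
      rintro _ ⟨r, rfl⟩
      rw [Scheme.Opens.range_ι]
      exact hWle (show hW.fromSpec r ∈ W by rw [← SetLike.mem_coe, ← hW.range_fromSpec]; exact ⟨r, rfl⟩)
    obtain ⟨χ, -, hmul, hbij⟩ := SubgroupFactor.exists_char (β := hW.fromSpec ≫ pullback.fst Y.hom f ≫ Y.hom)
      (U.ι ≫ f) e (IsOpenImmersion.lift U.ι _ hr) (by
        rw [IsOpenImmersion.lift_fac_assoc, Category.assoc, ← pullback.condition])
    let R := Γ(pullback Y.hom f, W)
    have hid : Spec.map (CommRingCat.ofHom (algebraMap R R)) = 𝟙 (Spec R) := by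
      rw [Algebra.algebraMap_self, CommRingCat.ofHom_id, Spec.map_id]
      rfl
    let t : sp (hW.fromSpec ≫ pullback.fst Y.hom f ≫ Y.hom) R ⟶ P := Over.homMk hW.fromSpec (by
      show hW.fromSpec ≫ _ = Spec.map (CommRingCat.ofHom (algebraMap R R)) ≫ _
      rw [hid]
      exact (Category.id_comp _).symm)
    obtain ⟨c, hc⟩ := (hbij R).2 (t ≫ a')
    obtain ⟨c', hc'⟩ := (hbij R).2 (t ≫ b')
    let m : Multiplicative M →* R :=
      (c.toMonoidHom.comp (MonoidAlgebra.of _ _)) * (c'.toMonoidHom.comp (MonoidAlgebra.of _ _))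
    have h : t ≫ (a' * b') = t ≫ (b' * a') := by
      rw [MonObj.comp_mul, MonObj.comp_mul, ← hc, ← hc']
      rw [hmul c c' (HomMonoLocus.charOf (R := R) m) (fun n => by rw [HomMonoLocus.charOf_single]; rfl),
        hmul c' c (HomMonoLocus.charOf (R := R) m) (fun n => by rw [HomMonoLocus.charOf_single]; exact mul_comm _ _)]
    exact congrArg (fun k => Over.Hom.left k) h
  choose W hWa hzW heq using hW
  refine Over.OverMorphism.ext (Scheme.Cover.hom_ext (Scheme.openCoverOfIsOpenCover _ W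
    (TopologicalSpace.Opens.ext (Set.eq_univ_of_forall fun z => by
      simp only [TopologicalSpace.Opens.coe_iSup, Set.mem_iUnion]
      exact ⟨z, hzW z⟩))) _ _ fun z => ?_)
  show (W z).ι ≫ _ = (W z).ι ≫ _
  rw [← cancel_epi (hWa z).isoSpec.inv, ← Category.assoc, ← Category.assoc]
  rw [show (hWa z).isoSpec.inv ≫ (W z).ι = (hWa z).fromSpec from (hWa z).isoSpec_inv_ι]
  exact heq z

end Groth.Agent.GrpSchLib.MultTypeComm
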