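import Groth.Agent.GrpSchLib.SubgroupDescentKey
import Groth.Agent.GrpSchLib.SemiabIsog
import Groth.Agent.GrpSchLib.KernelPair
import Groth.Agent.GrpSchLib.AVSubgroup
import Groth.Agent.AVTors.TorusHom
import Groth.Agent.S17451
import Groth.Agent.AVTors.TateInj

/-! Semi-abelianness descends from the algebraic closure. -/

set_option autoImplicit false
set_option backward.isDefEq.respectTransparency false
set_option backward.isDefEq.respectTransparency.types false
set_option linter.style.haveILetI false
set_option maxHeartbeats 1600000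
set_option synthInstance.maxHeartbeats 400000

universe u

open CategoryTheory CategoryTheory.Limits MonoidalCategory CartesianMonoidalCategory MonObj AlgebraicGeometry

namespace Groth.Agent.GrpSchLib.SemiabDescent

open GrpSchLib AGFLib AGFLib.Gen

section Ext

variable {K : Type u} [Field K] [IsAlgClosed K] {G T A : Over (Spec (CommRingCat.of K))} [GrpObj G] [GrpObj T] [GrpObj A]
  [LocallyOfFiniteType G.hom] [QuasiCompact G.hom] (i : T ⟶ G) [IsMonHom i] (q : G ⟶ A) [IsMonHom q]
  [Surjective q.left] [Flat q.left]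

/-- An extension of smooth connected groups is smooth and connected. -/
theorem smooth_connected (hk : AlgGrp.IsKernel i q) [Smooth T.hom] [ConnectedSpace T.left] [Smooth A.hom]
    [ConnectedSpace A.left] : Smooth G.hom ∧ ConnectedSpace G.left := by
  haveI := AntiAffine.isSeparated_grp A
  haveI := AntiAffine.isSeparated_grp G
  haveI : LocallyOfFiniteType (q.left ≫ A.hom) := by rw [Over.w]; infer_instance
  haveI : LocallyOfFiniteType q.left := locallyOfFiniteType_of_comp q.left A.hom
  haveI : IsLocallyNoetherian A.left := LocallyOfFiniteType.isLocallyNoetherian A.hom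
  haveI : LocallyOfFinitePresentation q.left := LocallyOfFinitePresentation.iff_locallyOfFiniteType.2 inferInstance
  haveI : QuasiCompact (q.left ≫ A.hom) := by rw [Over.w]; infer_instance
  haveI : QuasiCompact q.left := QuasiCompact.of_comp q.left A.hom
  obtain ⟨e, he, hsnd⟩ := exists_kernelPair_iso i q hk
  haveI : Smooth (snd T G).left := inferInstanceAs (Smooth (pullback.snd T.hom G.hom))
  haveI : Smooth (pullback.snd q.left q.left) := by
    haveI := he
    rw [show pullback.snd q.left q.left = inv e ≫ (snd T G).left by rw [IsIso.eq_inv_comp]; exact hsnd]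
    infer_instance
  haveI : Smooth q.left := MorphismProperty.of_isPullback_of_descendsAlong (P := @Smooth)
    (Q := @Surjective ⊓ @Flat ⊓ @QuasiCompact) (f := q.left) (g := q.left)
    (IsPullback.of_hasPullback q.left q.left).flip ⟨⟨inferInstance, inferInstance⟩, inferInstance⟩ ‹_›
  haveI hG : Smooth G.hom := by rw [← Over.w q]; infer_instance
  refine ⟨hG, ?_⟩
  haveI : Nonempty G.left := ⟨η[G].left (IsLocalRing.closedPoint K)⟩
  refine connectedSpace_iff_clopen.mpr ⟨inferInstance, fun U hU => ?_⟩
  haveI : JacobsonSpace G.left := LocallyOfFiniteType.jacobsonSpace G.hom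
  haveI : JacobsonSpace A.left := LocallyOfFiniteType.jacobsonSpace A.hom
  by_contra hne
  push Not at hne
  -- the fibres over rational points are connected
  have hsat : ∀ x z : 𝟙_ (Over (Spec (CommRingCat.of K))) ⟶ G, x ≫ q = z ≫ q → cp z ∈ U → cp x ∈ U := by
    intro x z hxz hz
    have hd : (x * z⁻¹) ≫ q = toUnit _ ≫ η[A] := by
      rw [MonObj.mul_comp, GrpObj.inv_comp, hxz, mul_inv_cancel]
      exact Hom.one_def
    let c : T ⟶ G := i * (toUnit T ≫ z)
    have hcl := hU.preimage c.left.continuous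
    have hc : ∀ n : 𝟙_ (Over (Spec (CommRingCat.of K))) ⟶ T, c.left (cp n) = cp ((n ≫ i) * z) := fun n => by
      rw [← cp_comp, MonObj.comp_mul, ← Category.assoc n (toUnit T), toUnit_unique (n ≫ toUnit T) (𝟙 _),
        Category.id_comp]
    have h1 : cp (1 : 𝟙_ (Over (Spec (CommRingCat.of K))) ⟶ T) ∈ c.left ⁻¹' U := by
      show c.left _ ∈ U
      rwa [hc, MonObj.one_comp, _root_.one_mul]
    have hall := hcl.eq_univ ⟨_, h1⟩
    have h2 : cp (hk.lift _ _ hd) ∈ c.left ⁻¹' U := hall ▸ Set.mem_univ _
    change c.left _ ∈ U at h2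
    rwa [hc, hk.lift_fst, inv_mul_cancel_right] at h2
  have hopen : ∀ W : Set G.left, IsOpen W → IsOpen (q.left '' W) := fun W hW =>
    q.left.isOpenMap W hW
  have hdisj : Disjoint (q.left '' U) (q.left '' Uᶜ) := by
    by_contra hnd
    obtain ⟨y₀, hy₀⟩ := Set.not_disjoint_iff_nonempty_inter.mp hnd
    obtain ⟨y, hy, hyc⟩ := nonempty_inter_closedPoints ⟨y₀, hy₀⟩
      ((hopen _ hU.2).inter (hopen _ hU.1.isOpen_compl)).isLocallyClosed
    have hl : ∀ W : Set G.left, IsClosed W → y ∈ q.left '' W →
        ∃ x : 𝟙_ (Over (Spec (CommRingCat.of K))) ⟶ G, cp x ∈ W ∧ q.left (cp x) = y := by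
      intro W hW hyW
      obtain ⟨w, hw, hwy⟩ := hyW
      obtain ⟨v, ⟨hv, hvy⟩, hvc⟩ := nonempty_inter_closedPoints (Z := W ∩ q.left ⁻¹' {y}) ⟨w, hw, hwy⟩
        (hW.inter ((hyc : IsClosed {y}).preimage q.left.continuous)).isLocallyClosed
      obtain ⟨x, rfl⟩ := exists_cp (hvc : IsClosed {v})
      exact ⟨x, hv, hvy⟩
    obtain ⟨z, hz, hzy⟩ := hl U hU.1 hy.1
    obtain ⟨x, hx, hxy⟩ := hl Uᶜ hU.2.isClosed_compl hy.2
    refine hx (hsat x z (cp_injective ?_) hz)
    rw [cp_comp, cp_comp, hxy, hzy]
  have hcov : q.left '' U ∪ q.left '' Uᶜ = Set.univ := by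
    rw [← Set.image_union, Set.union_compl_self, Set.image_univ, q.left.surjective.range_eq]
  have hclo : IsClosed (q.left '' U) := by
    rw [show q.left '' U = (q.left '' Uᶜ)ᶜ from
      (IsCompl.of_eq (disjoint_iff.mp hdisj) hcov).eq_compl]
    exact (hopen _ hU.1.isOpen_compl).isClosed_compl
  rcases isClopen_iff.mp (⟨hclo, hopen _ hU.2⟩ : IsClopen (q.left '' U)) with h | h
  · exact hne.1.ne_empty (Set.image_eq_empty.mp h)
  · rw [h] at hdisj
    exact hne.2 (Set.compl_empty_iff.mp (Set.image_eq_empty.mp (disjoint_top.mp hdisj.symm)))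

end Ext

section Quot

variable {S : Scheme.{u}} {N H Q X : Over S} [GrpObj H] [GrpObj Q]

theorem eq_of_epi_quot (p : H ⟶ Q) [Flat p.left] [Surjective p.left] [LocallyOfFinitePresentation p.left] {a b : Q ⟶ X}
    (h : p ≫ a = p ≫ b) : a = b := by
  have : EffectiveEpi p.left := inferInstance
  exact Over.OverMorphism.ext ((cancel_epi p.left).mp (congrArg CommaMorphism.left h))

/-- A homomorphism killing the kernel factors through a quotient. -/
theorem exists_factor_quot [GrpObj X] {i : N ⟶ H} (p : H ⟶ Q) [IsMonHom p] [Flat p.left] [Surjective p.left]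
    [LocallyOfFinitePresentation p.left] (hk : AlgGrp.IsKernel i p) (q : H ⟶ X) [IsMonHom q] (hq : i ≫ q = 1) :
    ∃ e : Q ⟶ X, p ≫ e = q := by
  have h : ∀ {W : Over S} (w₁ w₂ : W ⟶ H), w₁ ≫ p = w₂ ≫ p → w₁ ≫ q = w₂ ≫ q := fun {W} w₁ w₂ hw => by
    have hd : (w₁ * w₂⁻¹) ≫ p = toUnit W ≫ η[Q] := by
      rw [MonObj.mul_comp, GrpObj.inv_comp, hw, mul_inv_cancel]
      exact Hom.one_def
    have h1 : (w₁ * w₂⁻¹) ≫ q = 1 := by rw [← hk.lift_fst _ _ hd, Category.assoc, hq, MonObj.comp_one]
    rwa [MonObj.mul_comp, GrpObj.inv_comp, mul_inv_eq_one] at h1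
  have : EffectiveEpi p.left := inferInstance
  have hh : ∀ {W : Scheme.{u}} (g₁ g₂ : W ⟶ H.left), g₁ ≫ p.left = g₂ ≫ p.left → g₁ ≫ q.left = g₂ ≫ q.left := by
    intro W g₁ g₂ hg
    have hw : g₂ ≫ H.hom = g₁ ≫ H.hom := by rw [← Over.w p, ← Category.assoc, ← hg, Category.assoc]
    exact congrArg CommaMorphism.left (h (W := Over.mk (g₁ ≫ H.hom)) (Over.homMk g₁ rfl) (Over.homMk g₂ hw)
      (Over.OverMorphism.ext hg))
  let l := EffectiveEpi.desc p.left q.left fun g₁ g₂ hg => hh g₁ g₂ hg
  have hl : p.left ≫ l = q.left := EffectiveEpi.fac _ _ _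
  exact ⟨Over.homMk l (by rw [← cancel_epi p.left, ← Category.assoc, hl, Over.w q, Over.w p]),
    Over.OverMorphism.ext hl⟩

end Quot

variable {k : Type u} [Field k]

local notation "σk" => Spec.map (CommRingCat.ofHom (algebraMap k (AlgebraicClosure k)))

/-- A group becoming semi-abelian over the algebraic closure is semi-abelian. -/
theorem exists_semiab (G : Over (Spec (CommRingCat.of k))) [GrpObj G] [LocallyOfFiniteType G.hom] [QuasiCompact G.hom]
    {T A : Over (Spec (CommRingCat.of (AlgebraicClosure k)))} [GrpObj T] [GrpObj A] (i : T ⟶ Red.bc σk G) [IsMonHom i]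
    [IsClosedImmersion i.left] (hT : Red.IsTorus T) (q : Red.bc σk G ⟶ A) [IsMonHom q] [Surjective q.left]
    [Flat q.left] (hk : AlgGrp.IsKernel i q) [IsProper A.hom] [Smooth A.hom] [ConnectedSpace A.left] :
    ∃ (T : Over (Spec (CommRingCat.of k))) (_ : GrpObj T) (i : T ⟶ G) (A : Over (Spec (CommRingCat.of k)))
      (_ : GrpObj A) (q : G ⟶ A), IsMonHom i ∧ IsClosedImmersion i.left ∧ Red.IsTorus T ∧ IsMonHom q ∧
        Surjective q.left ∧ Flat q.left ∧ AlgGrp.IsKernel i q ∧ IsProper A.hom ∧ Smooth A.hom ∧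
        ConnectedSpace ↥A.left := by
  let σ : Spec (CommRingCat.of (AlgebraicClosure k)) ⟶ Spec (CommRingCat.of k) := σk
  haveI hσs : Surjective σk := ⟨fun y => ⟨IsLocalRing.closedPoint (AlgebraicClosure k), @Subsingleton.elim (PrimeSpectrum k) _ _ _⟩⟩
  haveI hσf : Flat σk := (HasRingHomProperty.Spec_iff (P := @Flat)).2 (RingHom.flat_algebraMap_iff.2 inferInstance)
  have hQ : (@Surjective ⊓ @Flat ⊓ @QuasiCompact : MorphismProperty Scheme.{u}) σk :=
    ⟨⟨hσs, hσf⟩, inferInstance⟩
  haveI : LocallyOfFiniteType (Red.bc σk G).hom := inferInstanceAs (LocallyOfFiniteType (pullback.snd G.hom σk))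
  haveI : QuasiCompact (Red.bc σk G).hom := inferInstanceAs (QuasiCompact (pullback.snd G.hom σk))
  obtain ⟨-, hTs, hTc⟩ := SolvGrp.torus_props hT |> fun h => (⟨h.1, h.2.1, h.2.2.1⟩ : _ ∧ _ ∧ _)
  obtain ⟨hGs, hGc⟩ := smooth_connected i q hk
  haveI : Smooth G.hom := MorphismProperty.of_isPullback_of_descendsAlong (P := @Smooth)
    (Q := @Surjective ⊓ @Flat ⊓ @QuasiCompact) (f := σk) (g := G.hom)
    (IsPullback.of_hasPullback G.hom σk).flip hQ hGs
  haveI : ConnectedSpace G.left :=
    haveI : ConnectedSpace (pullback G.hom σk : Scheme.{u}) := hGc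
    { toPreconnectedSpace := ⟨by
        rw [← (pullback.fst G.hom σk).surjective.range_eq]
        exact isPreconnected_range (pullback.fst G.hom σk).continuous⟩
      toNonempty := ⟨η[G].left (IsLocalRing.closedPoint k)⟩ }
  haveI : IsCommMonObj G := S17451.result k G ⟨T, _, i, A, _, q, inferInstance, inferInstance, hT, inferInstance,
    inferInstance, inferInstance, hk, inferInstance, inferInstance, inferInstance⟩
  haveI := AntiAffine.isSeparated_grp G
  haveI : IsSeparated (Red.bc σk G).hom := inferInstanceAs (IsSeparated (pullback.snd G.hom σk))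
  haveI hcK : IsCommMonObj (Red.bc σk G) := inferInstance
  have hc : ∀ (X : Over (Spec (CommRingCat.of (AlgebraicClosure k)))) (g : X ⟶ Red.bc σk G) (a : X ⟶ T),
      g * (a ≫ i) = (a ≫ i) * g := fun X g a => _root_.mul_comm _ _
  have hA : ∀ s : (Spec (CommRingCat.of (AlgebraicClosure k)) : Scheme.{u}), ConnectedSpace ↥(A.hom.fiber s) := by
    haveI : GeometricallyConnected A.hom := H23.GeomConn.of_point (AlgebraicClosure k) A.hom η[A].left (Over.w η[A])
    exact fun s => inferInstance
  haveI : GeometricallyConnected A.hom := H23.GeomConn.of_point (AlgebraicClosure k) A.hom η[A].left (Over.w η[A])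
  -- the two pullbacks of the torus agree
  have hkey : ∀ (W : Scheme.{u}) (a b : W ⟶ pullback G.hom σk), a ≫ pullback.fst G.hom σk = b ≫ pullback.fst G.hom σk →
      (∃ l, l ≫ i.left = a) → ∃ l, l ≫ i.left = b := by
    rintro W a b hab ⟨l, hl⟩
    let p₁ := pullback.fst σk σk
    let p₂ := pullback.snd σk σk
    obtain ⟨i₁, h₁m, -, h₁f, -⟩ := SubgroupDescent.exists_hom i p₁ (p₁ ≫ σk) rfl hc
    haveI := h₁m
    haveI : GeometricallyConnected (Red.bc p₂ A).hom := inferInstanceAs (GeometricallyConnected (pullback.snd A.hom p₂))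
    haveI : IsProper (Red.bc p₂ A).hom := inferInstanceAs (IsProper (pullback.snd A.hom p₂))
    haveI : Smooth (Red.bc p₂ A).hom := inferInstanceAs (Smooth (pullback.snd A.hom p₂))
    let gam := ActBC.bcCompIso p₂ σk G (d := p₁ ≫ σk) pullback.condition.symm
    let ψ : Red.bc p₁ T ⟶ Red.bc p₂ A := i₁ ≫ gam.inv ≫ (Over.pullback p₂).map q
    haveI : IsMonHom ψ := inferInstance
    have hψ : ψ = 1 := AVTors.torus_hom_eq_one (SolvGrp.isTorus_bc p₁ hT) (fun _ => inferInstance) ψ
    have hw : (a ≫ pullback.snd G.hom σk) ≫ σk = (b ≫ pullback.snd G.hom σk) ≫ σk := by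
      rw [Category.assoc, Category.assoc, ← pullback.condition, reassoc_of% hab]
    let t : W ⟶ pullback σk σk := pullback.lift _ _ hw
    let Y : Over (pullback σk σk) := Over.mk t
    let y : Y ⟶ Red.bc p₁ T := Over.homMk (pullback.lift l t (by
      rw [← Over.w i, reassoc_of% hl]
      exact (pullback.lift_fst _ _ _).symm)) (pullback.lift_snd _ _ _)
    have hz : (y ≫ i₁ ≫ gam.inv).left ≫ pullback.fst _ p₂ = b := by
      apply pullback.hom_ext
      · have h1 : gam.inv.left ≫ pullback.fst _ p₂ ≫ pullback.fst G.hom σk = pullback.fst G.hom (p₁ ≫ σk) := by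
          rw [← ActBC.bcCompIso_hom_left_fst p₂ σk G pullback.condition.symm, ← Category.assoc, ← Over.comp_left,
            Iso.inv_hom_id, Over.id_left, Category.id_comp]
        simp only [Over.comp_left, Category.assoc, h1, h₁f]
        show pullback.lift l t _ ≫ _ = _
        rw [pullback.lift_fst_assoc, reassoc_of% hl, hab]
      · rw [Category.assoc]
        show (y ≫ i₁ ≫ gam.inv).left ≫ pullback.fst _ p₂ ≫ (Red.bc σk G).hom = _
        refine (congrArg ((y ≫ i₁ ≫ gam.inv).left ≫ ·) (pullback.condition (f := (Red.bc σk G).hom) (g := p₂))).trans ?_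
        rw [← Category.assoc]
        show ((y ≫ i₁ ≫ gam.inv).left ≫ (Red.bc p₂ (Red.bc σk G)).hom) ≫ p₂ = _
        rw [Over.w (y ≫ i₁ ≫ gam.inv)]
        exact pullback.lift_snd _ _ _
    let Yb : Over (Spec (CommRingCat.of (AlgebraicClosure k))) := Over.mk (b ≫ pullback.snd G.hom σk)
    let b' : Yb ⟶ Red.bc σk G := Over.homMk b rfl
    have hb : b' ≫ q = toUnit Yb ≫ η[A] := by
      refine Over.OverMorphism.ext ?_
      have h := congrArg (fun m : Y ⟶ Red.bc p₂ A => m.left ≫ pullback.fst A.hom p₂)
        (show y ≫ ψ = 1 by rw [hψ, MonObj.comp_one])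
      simp only [ψ, ← Category.assoc, Over.comp_left] at h
      simp only [Category.assoc] at h
      rw [ActBC.pullback_map_left_fst] at h
      simp only [Over.comp_left, Category.assoc] at hz
      rw [← Category.assoc, ← Category.assoc, ← Category.assoc] at h
      simp only [Category.assoc] at h
      have e1 : (1 : Y ⟶ Red.bc p₂ A).left ≫ pullback.fst A.hom p₂ = (t ≫ p₂) ≫ η[A].left := by
        have e := congrArg CommaMorphism.left (show DSPtsLib.theta p₂ (1 : Y ⟶ Red.bc p₂ A) = 1 from
          map_one (AVTors.bcPts p₂ Y A).symm)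
        exact e
      rw [e1] at h
      show b ≫ q.left = (b ≫ pullback.snd G.hom σk) ≫ η[A].left
      have e2 : t ≫ p₂ = b ≫ pullback.snd G.hom σk := pullback.lift_snd _ _ _
      rw [e2] at h
      rw [← h, ← hz]
      simp only [Category.assoc]
    exact ⟨(hk.lift b' _ hb).left, congrArg CommaMorphism.left (hk.lift_fst b' _ hb)⟩
  haveI : IsImmersion i.left := inferInstance
  obtain ⟨H, _, j, hjm, hji, -, φ, hφ⟩ := SubgroupDescent.exists_descent_of_key i (fun V hV => by
    obtain rfl | rfl := TopologicalSpace.Opens.eq_bot_or_top V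
    · exact ⟨⊥, isCompact_empty, by simp⟩
    · exact ⟨⊤, isCompact_univ, by simp [Set.image_univ, hσs.surj.range_eq]⟩)
    (TorusQI.isMultTypeFT_of_isTorus hT) hkey
  haveI := hjm
  haveI := hji
  let J := (Over.pullback σk).map j
  haveI hJc : IsClosedImmersion J.left := by
    show IsClosedImmersion ((Over.pullback σk).map j).left
    rw [← hφ, Over.comp_left]
    haveI : IsIso φ.hom.left := ((Over.forget _).mapIso φ).isIso_hom
    infer_instance
  haveI : IsClosedImmersion j.left := by
    haveI := EtFound.fpqc_isClosedImmersion.{u}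
    exact MorphismProperty.of_isPullback_of_descendsAlong (P := @IsClosedImmersion)
      (Q := @Surjective ⊓ @Flat ⊓ @QuasiCompact) (HomSplitLocal.isPullback_map j σk).flip
      (MorphismProperty.pullback_fst (P := @Surjective ⊓ @Flat ⊓ @QuasiCompact) _ _ hQ) hJc
  haveI : Mono i := (Over.forget _).mono_of_mono_map (inferInstanceAs (Mono i.left))
  haveI : IsMonHom φ.hom := by
    constructor
    · rw [← cancel_mono i, Category.assoc]
      show η[Red.bc σk H] ≫ φ.hom ≫ i = η[T] ≫ i
      rw [hφ, IsMonHom.one_hom i, IsMonHom.one_hom J]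
    · rw [← cancel_mono i, Category.assoc, Category.assoc, hφ, IsMonHom.mul_hom i, IsMonHom.mul_hom J,
        ← Category.assoc, MonoidalCategory.tensorHom_comp_tensorHom, hφ]
  have hHT : Red.IsTorus H := IsogTorus.isTorus_of_bc (algebraMap k (AlgebraicClosure k))
    (SolvGrp.isTorus_of_iso (Grp.mkIso' φ) hT)
  haveI : Mono j := (Over.forget _).mono_of_mono_map (inferInstanceAs (Mono j.left))
  haveI : Mono j.left := inferInstance
  haveI : LocallyOfFiniteType H.hom := by rw [← Over.w j]; infer_instance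
  have hn : AlgGrp.IsNormalHom j := fun W g n => ⟨n, by rw [_root_.mul_comm g, mul_inv_cancel_right]⟩
  obtain ⟨Q, _, p, _, _, _, _, hp, hQsep, _, hQs⟩ := S3030.result k H G j hn
  haveI : Smooth Q.hom := hQs inferInstance
  let P := (Over.pullback σk).map p
  haveI : Surjective P.left :=
    MorphismProperty.of_isPullback (P := @Surjective) (HomSplitLocal.isPullback_map p σk) inferInstance
  haveI : Flat P.left :=
    MorphismProperty.of_isPullback (P := @Flat) (HomSplitLocal.isPullback_map p σk) inferInstance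
  haveI : LocallyOfFinitePresentation P.left :=
    MorphismProperty.of_isPullback (P := @LocallyOfFinitePresentation) (HomSplitLocal.isPullback_map p σk) inferInstance
  haveI : LocallyOfFiniteType (q.left ≫ A.hom) := by rw [Over.w]; infer_instance
  haveI : LocallyOfFiniteType q.left := locallyOfFiniteType_of_comp q.left A.hom
  haveI : IsLocallyNoetherian A.left := LocallyOfFiniteType.isLocallyNoetherian A.hom
  haveI : LocallyOfFinitePresentation q.left := LocallyOfFinitePresentation.iff_locallyOfFiniteType.2 inferInstance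
  have hkP : AlgGrp.IsKernel J P := NIsog.isKernel_bc σk hp
  have hJq : J ≫ q = 1 := by
    show (Over.pullback σk).map j ≫ q = 1
    rw [← hφ, Category.assoc, hk.w]
    rw [← Category.assoc, toUnit_unique (φ.hom ≫ toUnit T) (toUnit _)]
    exact Hom.one_def.symm
  have hiP : i ≫ P = 1 := by
    rw [← cancel_epi φ.hom, reassoc_of% hφ, MonObj.comp_one]
    exact hkP.w.trans Hom.one_def.symm
  obtain ⟨e, he⟩ := exists_factor_quot P hkP q hJq
  obtain ⟨e', he'⟩ := exists_factor_quot q hk P hiP
  let ε : Red.bc σk Q ≅ A :=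
    ⟨e, e', eq_of_epi_quot P (by rw [← Category.assoc, he, he', Category.comp_id]),
      eq_of_epi_quot q (by rw [← Category.assoc, he', he, Category.comp_id])⟩
  haveI : IsProper (Red.bc σk Q).hom := by
    haveI : IsIso ε.hom.left := ((Over.forget _).mapIso ε).isIso_hom
    rw [← Over.w ε.hom]
    infer_instance
  haveI : ConnectedSpace (Red.bc σk Q).left := by
    haveI : Surjective e'.left := by
      haveI : IsIso e'.left := ((Over.forget _).mapIso ε).isIso_inv
      infer_instance
    exact { toPreconnectedSpace := ⟨e'.left.surjective.range_eq ▸ isPreconnected_range e'.left.continuous⟩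
            toNonempty := ⟨η[Red.bc σk Q].left (IsLocalRing.closedPoint (AlgebraicClosure k))⟩ }
  haveI : ConnectedSpace Q.left :=
    haveI : ConnectedSpace (pullback Q.hom σk : Scheme.{u}) := ‹ConnectedSpace (Red.bc σk Q).left›
    { toPreconnectedSpace := ⟨by
        rw [← (pullback.fst Q.hom σk).surjective.range_eq]
        exact isPreconnected_range (pullback.fst Q.hom σk).continuous⟩
      toNonempty := ⟨η[Q].left (IsLocalRing.closedPoint k)⟩ }
  haveI : IsProper Q.hom := by
    haveI := EtFound.fpqc_isProper.{u}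
    exact MorphismProperty.of_isPullback_of_descendsAlong (P := @IsProper)
      (Q := @Surjective ⊓ @Flat ⊓ @QuasiCompact) (IsPullback.of_hasPullback Q.hom σk).flip hQ
      ‹IsProper (Red.bc σk Q).hom›
  exact ⟨H, inferInstance, j, Q, inferInstance, p, hjm, inferInstance, hHT, inferInstance, inferInstance,
    inferInstance, hp, inferInstance, inferInstance, inferInstance⟩

end Groth.Agent.GrpSchLib.SemiabDescent
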