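import Groth.Agent.SmoothReg.Scheme
import Groth.Agent.RegLoc6.Descent
import Groth.Agent.GrpSchLib.SmoothRegular
import Mathlib.AlgebraicGeometry.Morphisms.Smooth
import Mathlib.AlgebraicGeometry.Morphisms.Descent

/-! Over a field, smoothness descends along flat surjective morphisms from a smooth scheme. -/

open CategoryTheory CategoryTheory.Limits AlgebraicGeometry

namespace Groth.Agent.GrpSchLib

universe u

theorem smooth_of_flat_surjective_algClosed {K : Type u} [Field K] [IsAlgClosed K] {Z X : Scheme.{u}}
    (f : Z ⟶ X) (g : X ⟶ Spec (CommRingCat.of K)) [Flat f] [Surjective f] [Smooth (f ≫ g)] [LocallyOfFiniteType g] :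
    Smooth g := by
  haveI : LocallyOfFinitePresentation g := inferInstance
  rw [← Scheme.Hom.smoothLocus_eq_top_iff, eq_top_iff]
  intro x _
  refine (SmoothReg.mem_smoothLocus_iff_isRegularLocalRing g x).mpr ?_
  obtain ⟨z, rfl⟩ := f.surjective x
  haveI : IsLocallyNoetherian X := LocallyOfFiniteType.isLocallyNoetherian g
  haveI : IsRegularLocalRing (Z.presheaf.stalk z) := isRegularLocalRing_stalk_of_smooth (f ≫ g) z
  letI := (f.stalkMap z).hom.toAlgebra
  haveI : Module.Flat (X.presheaf.stalk (f.base z)) (Z.presheaf.stalk z) := Flat.stalkMap f z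
  haveI : IsLocalHom (algebraMap (X.presheaf.stalk (f.base z)) (Z.presheaf.stalk z)) := f.toLRSHom.prop z
  exact RegLoc6.isRegularLocalRing_of_flat (B := Z.presheaf.stalk z)

theorem smooth_of_flat_surjective {k : Type u} [Field k] {Z X : Scheme.{u}}
    (f : Z ⟶ X) (g : X ⟶ Spec (CommRingCat.of k)) [Flat f] [Surjective f] [Smooth (f ≫ g)] [LocallyOfFiniteType g] :
    Smooth g := by
  let b : Spec (CommRingCat.of (AlgebraicClosure k)) ⟶ Spec (CommRingCat.of k) :=
    Spec.map (CommRingCat.ofHom (algebraMap k (AlgebraicClosure k)))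
  apply MorphismProperty.of_pullback_snd_of_descendsAlong
    (Q := @Surjective ⊓ @Flat ⊓ @QuasiCompact) (g := b)
  · exact ⟨⟨inferInstance, inferInstance⟩, inferInstance⟩
  · let p := pullback.snd f (pullback.fst g b)
    haveI : Smooth (p ≫ pullback.snd g b) := by
      rw [← pullbackRightPullbackFstIso_hom_snd g b f]
      infer_instance
    exact smooth_of_flat_surjective_algClosed p (pullback.snd g b)

end Groth.Agent.GrpSchLib
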