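import Groth.Agent.GrpSchLib.ImageFlat
import Groth.Agent.GrpSchLib.MonoSubgroup
import Groth.Agent.Triage.SchDense

/-! The image of a homomorphism of algebraic groups over a field. -/

universe u

open CategoryTheory Limits AlgebraicGeometry MonoidalCategory CartesianMonoidalCategory MonObj

namespace Groth.Agent.GrpSchLib.ImageFactor

variable {k : Type u} [Field k] {G H : Over (Spec (CommRingCat.of k))} [GrpObj G] [GrpObj H]
  [LocallyOfFiniteType G.hom] [LocallyOfFiniteType H.hom] [QuasiCompact G.hom] [QuasiCompact H.hom]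

/-- A homomorphism of algebraic groups over a field factors as a faithfully flat homomorphism followed by a closed
immersion. -/
theorem exists_image (f : G ⟶ H) [IsMonHom f] :
    ∃ (I : Over (Spec (CommRingCat.of k))) (_ : GrpObj I) (p : G ⟶ I) (i : I ⟶ H), IsMonHom p ∧ IsMonHom i ∧
      p ≫ i = f ∧ IsClosedImmersion i.left ∧ Flat p.left ∧ Surjective p.left ∧
      LocallyOfFiniteType I.hom ∧ QuasiCompact I.hom := by
  haveI := AntiAffine.isSeparated_grp H
  haveI : QuasiCompact (f.left ≫ H.hom) := by rw [Over.w f]; infer_instance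
  haveI : QuasiCompact f.left := QuasiCompact.of_comp f.left H.hom
  let I : Over (Spec (CommRingCat.of k)) := Over.mk (f.left.imageι ≫ H.hom)
  let i : I ⟶ H := Over.homMk f.left.imageι rfl
  let p : G ⟶ I := Over.homMk f.left.toImage (by
    show f.left.toImage ≫ f.left.imageι ≫ H.hom = G.hom
    rw [Scheme.Hom.toImage_imageι_assoc, Over.w f])
  have hpi : p ≫ i = f := Over.OverMorphism.ext f.left.toImage_imageι
  haveI : IsClosedImmersion i.left := inferInstanceAs (IsClosedImmersion f.left.imageι)
  haveI : IsSchemeTheoreticallyDominant p.left := Triage.SchDense.isSchemeTheoreticallyDominant_toImage f.left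
  haveI : Mono i.left := inferInstance
  haveI : Mono i := (Over.forget _).mono_of_mono_map (inferInstanceAs (Mono i.left))
  obtain ⟨⟨⟨e, he⟩, hmul⟩, -⟩ := S18825.result k G H I f i p hpi
  have he1 : ∀ T : Over (Spec (CommRingCat.of k)), (toUnit T ≫ e) ≫ i = 1 := fun T => by
    rw [Category.assoc, he, MonObj.one_eq_one, MonObj.comp_one]
  obtain ⟨v, hv⟩ := hmul I (𝟙 I) (toUnit I ≫ e)
  rw [he1, Category.id_comp, _root_.mul_one] at hv
  obtain ⟨m, hm⟩ := hmul (I ⊗ I) (fst I I ≫ v) (snd I I)
  rw [Category.assoc, hv, GrpObj.comp_inv, _root_.inv_inv] at hm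
  obtain ⟨str, hi⟩ := exists_grpObj_of_mono i e he m hm v hv
  haveI := hi
  haveI hp : IsMonHom p :=
    { one_hom := by rw [← cancel_mono i, Category.assoc, hpi, IsMonHom.one_hom f, IsMonHom.one_hom i]
      mul_hom := by
        rw [← cancel_mono i, Category.assoc, hpi, IsMonHom.mul_hom f, Category.assoc, IsMonHom.mul_hom i,
          MonoidalCategory.tensorHom_comp_tensorHom_assoc, hpi] }
  haveI hlft : LocallyOfFiniteType I.hom := inferInstanceAs (LocallyOfFiniteType (f.left.imageι ≫ H.hom))
  haveI hqc : QuasiCompact I.hom := inferInstanceAs (QuasiCompact (f.left.imageι ≫ H.hom))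
  obtain ⟨h1, h2⟩ := ImageFlat.flat_surjective_of_dominant p
  exact ⟨I, str, p, i, hp, hi, hpi, inferInstance, h1, h2, hlft, hqc⟩

end Groth.Agent.GrpSchLib.ImageFactor
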