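import Groth.Agent.GrpSchLib.AntiAffineHom
import Mathlib.RingTheory.Flat.FaithfullyFlat.Basic

/-! Constant global functions descend along extensions of the base field. -/

universe u

open CategoryTheory Limits AlgebraicGeometry TopologicalSpace TensorProduct

namespace Groth.Agent.GrpSchLib.AntiAffine

variable {k : Type u} [Field k]

theorem bijective_of_bijective_snd {X : Scheme.{u}} (f : X ⟶ Spec (CommRingCat.of k)) [QuasiCompact f] [QuasiSeparated f]
    {K : Type u} [Field K] (φ : k →+* K)
    (hK : Function.Bijective (pullback.snd f (Spec.map (CommRingCat.ofHom φ))).appTop) :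
    Function.Bijective f.appTop := by
  let σ := Spec.map (CommRingCat.ofHom φ)
  haveI : Flat σ := flat_spec_map_field φ
  have : CompactSpace X := (quasiCompact_iff_compactSpace f).mp inferInstance
  have : QuasiSeparatedSpace X := (quasiSeparated_iff_quasiSeparatedSpace f).mp inferInstance
  let a : CommRingCat.of k ⟶ Γ(X, ⊤) := (Scheme.ΓSpecIso _).inv ≫ f.appTop
  have ha : f.appTop = (Scheme.ΓSpecIso _).hom ≫ a := by simp [a]
  have H := IsPullback.of_hasPullback f σ
  have hiso := isIso_pushoutSection_of_isQuasiSeparated_of_flat_right H (US := ⊤) (UT := ⊤) (UX := ⊤)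
    (UY := ⊤) le_top le_top (by simp) (isAffineOpen_top _) (isAffineOpen_top _) isCompact_univ
    isQuasiSeparated_univ
  rw [isIso_pushoutSection_iff] at hiso
  let e : Γ(Spec (CommRingCat.of K), ⊤) ≅ CommRingCat.of K := Scheme.ΓSpecIso _
  have he : σ.appLE ⊤ ⊤ le_top ≫ e.hom = (Scheme.ΓSpecIso _).hom ≫ CommRingCat.ofHom φ := by
    rw [show σ.appLE ⊤ ⊤ le_top = σ.appTop by simp [Scheme.Hom.appLE]]
    exact Scheme.ΓSpecIso_naturality (CommRingCat.ofHom φ)
  let p : CommRingCat.of K ⟶ Γ(pullback f σ, ⊤) := e.inv ≫ (pullback.snd f σ).appLE ⊤ ⊤ (by simp)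
  have hpo' : IsPushout a (CommRingCat.ofHom φ) ((pullback.fst f σ).appLE ⊤ ⊤ (by simp)) p :=
    hiso.of_iso (Scheme.ΓSpecIso _) (Iso.refl _) e (Iso.refl _)
      (by simp [Scheme.Hom.appLE, ha]) he (by simp) (by simp [p])
  letI : Algebra k K := φ.toAlgebra
  letI : Algebra k Γ(X, ⊤) := a.hom.toAlgebra
  have hpo : IsPushout (CommRingCat.ofHom φ) a
      (CommRingCat.ofHom Algebra.TensorProduct.includeLeftRingHom :
        CommRingCat.of K ⟶ CommRingCat.of (K ⊗[k] Γ(X, ⊤)))
      (CommRingCat.ofHom Algebra.TensorProduct.includeRight.toRingHom) :=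
    CommRingCat.isPushout_tensorProduct k K Γ(X, ⊤)
  let ε := hpo.isoIsPushout _ _ hpo'.flip
  have hp : Function.Bijective p.hom := by
    have h : (pullback.snd f σ).appLE ⊤ ⊤ (by simp) = (pullback.snd f σ).appTop := by simp [Scheme.Hom.appLE]
    show Function.Bijective (e.inv ≫ _).hom
    rw [h]
    exact hK.comp (ConcreteCategory.bijective_of_isIso e.inv)
  have hinl : Function.Bijective (Algebra.TensorProduct.includeLeftRingHom : K →+* K ⊗[k] Γ(X, ⊤)) := by
    have e1 : CommRingCat.ofHom Algebra.TensorProduct.includeLeftRingHom ≫ ε.hom = p :=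
      IsPushout.inl_isoIsPushout_hom _ _ hpo hpo'.flip
    have e2 : ⇑p.hom = ⇑ε.hom ∘ ⇑(Algebra.TensorProduct.includeLeftRingHom : K →+* K ⊗[k] Γ(X, ⊤)) := by
      funext c; exact (congr($e1 c)).symm
    rw [e2] at hp
    exact (Function.Bijective.of_comp_iff' (ConcreteCategory.bijective_of_isIso ε.hom) _).mp hp
  have hl : Function.Bijective ((Algebra.linearMap k Γ(X, ⊤)).lTensor K) := by
    have e3 : ⇑((Algebra.linearMap k Γ(X, ⊤)).lTensor K) =
        ⇑(Algebra.TensorProduct.includeLeftRingHom : K →+* K ⊗[k] Γ(X, ⊤)) ∘ ⇑(TensorProduct.rid k K) := by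
      funext z
      induction z using TensorProduct.induction_on with
      | zero => simp
      | tmul x c =>
        simp only [LinearMap.lTensor_tmul, Algebra.linearMap_apply, Function.comp_apply, TensorProduct.rid_tmul]
        show x ⊗ₜ algebraMap k Γ(X, ⊤) c = (c • x) ⊗ₜ (1 : Γ(X, ⊤))
        rw [TensorProduct.smul_tmul, Algebra.algebraMap_eq_smul_one]
      | add s t hs ht =>
        simp only [map_add, Function.comp_apply] at hs ht ⊢
        rw [hs, ht]
    rw [e3]
    exact hinl.comp (TensorProduct.rid k K).bijective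
  have hbij : Function.Bijective a.hom := (Module.FaithfullyFlat.lTensor_bijective_iff_bijective k K _).mp hl
  rw [ha]
  exact hbij.comp (ConcreteCategory.bijective_of_isIso (Scheme.ΓSpecIso (CommRingCat.of k)).hom)

theorem bijective_appTop_iff_snd {X : Scheme.{u}} (f : X ⟶ Spec (CommRingCat.of k)) [QuasiCompact f] [QuasiSeparated f]
    {K : Type u} [Field K] (φ : k →+* K) :
    Function.Bijective f.appTop ↔ Function.Bijective (pullback.snd f (Spec.map (CommRingCat.ofHom φ))).appTop :=
  ⟨fun h => bijective_appTop_snd h _, bijective_of_bijective_snd f φ⟩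

end Groth.Agent.GrpSchLib.AntiAffine

namespace Groth.Agent.GrpSchLib.AntiAffine

open MonoidalCategory CartesianMonoidalCategory MonObj GrpObj

theorem appTop_injective_of_epi {X Y : Scheme.{u}} (q : X ⟶ Y) [Epi q] : Function.Injective q.appTop := by
  intro s t hst
  let ev : Γ(Y, ⊤) → ((CommRingCat.of (Polynomial (ULift.{u} ℤ))) ⟶ Γ(Y, ⊤)) := fun s =>
    CommRingCat.ofHom (Polynomial.eval₂RingHom ((algebraMap ℤ Γ(Y, ⊤)).comp ULift.ringEquiv.toRingHom) s)
  have hev : ∀ s, ev s Polynomial.X = s := fun s => Polynomial.eval₂_X _ _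
  let m : Γ(Y, ⊤) → (Y ⟶ Spec (CommRingCat.of (Polynomial (ULift.{u} ℤ)))) := fun s => Y.toSpecΓ ≫ Spec.map (ev s)
  have hm : ∀ s, (m s).appTop ((Scheme.ΓSpecIso _).inv Polynomial.X) = s := fun s => by
    have h1 := Scheme.ΓSpecIso_inv_naturality (ev s)
    have h2 : (m s).appTop = (Spec.map (ev s)).appTop ≫ (Scheme.ΓSpecIso Γ(Y, ⊤)).hom := by
      simp only [m, Scheme.Hom.comp_appTop, Scheme.toSpecΓ_appTop]
    have h3 : (Scheme.ΓSpecIso _).inv ≫ (m s).appTop = ev s := by
      rw [h2, ← Category.assoc, ← h1, Category.assoc, Iso.inv_hom_id, Category.comp_id]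
    exact (congr($h3 Polynomial.X)).trans (hev s)
  have h : q ≫ m s = q ≫ m t := by
    simp only [m, ← Category.assoc, Scheme.toSpecΓ_naturality]
    rw [Category.assoc, Category.assoc, ← Spec.map_comp, ← Spec.map_comp]
    congr 2
    refine CommRingCat.hom_ext (Polynomial.ringHom_ext (fun c => ?_) ?_)
    · simp [ev]
    · show q.appTop (ev s Polynomial.X) = q.appTop (ev t Polynomial.X)
      rw [hev, hev, hst]
  rw [cancel_epi] at h
  rw [← hm s, ← hm t, h]

end Groth.Agent.GrpSchLib.AntiAffine
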