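import Groth.Agent.GrpSchLib.AntiAffineHom
import Groth.Agent.S18811
import Mathlib.LinearAlgebra.TensorProduct.Basis

/-! Functions on a product over a field, and finite stable spaces of functions on a group scheme. -/

universe u

open CategoryTheory Limits AlgebraicGeometry MonoidalCategory CartesianMonoidalCategory MonObj GrpObj TensorProduct

namespace Groth.Agent.GrpSchLib.Kunneth

variable {k : Type u} [Field k]

/-- The global functions on a scheme over k. -/
abbrev Fn (T : Over (Spec (CommRingCat.of k))) : Type u := Γ(T.left, ⊤)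

/-- The structure map of the functions. -/
noncomputable def str (T : Over (Spec (CommRingCat.of k))) : k →+* Fn T :=
  ((Scheme.ΓSpecIso (CommRingCat.of k)).inv ≫ T.hom.appTop).hom

noncomputable instance instAlgebra (T : Over (Spec (CommRingCat.of k))) : Algebra k (Fn T) := (str T).toAlgebra

/-- Pullback of functions. -/
noncomputable def ev {T X : Over (Spec (CommRingCat.of k))} (g : T ⟶ X) : Fn X →ₐ[k] Fn T :=
  { g.left.appTop.hom with
    commutes' := fun c => by
      show g.left.appTop (X.hom.appTop _) = T.hom.appTop _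
      rw [← CommRingCat.comp_apply, ← Scheme.Hom.comp_appTop, Over.w g] }

theorem ev_apply {T X : Over (Spec (CommRingCat.of k))} (g : T ⟶ X) (f : Fn X) : ev g f = g.left.appTop f := rfl

theorem ev_ev {T T' X : Over (Spec (CommRingCat.of k))} (u : T ⟶ T') (g : T' ⟶ X) (f : Fn X) :
    ev u (ev g f) = ev (u ≫ g) f := rfl

theorem ev_id {T : Over (Spec (CommRingCat.of k))} (f : Fn T) : ev (𝟙 T) f = f := rfl

variable (X Y : Over (Spec (CommRingCat.of k))) [QuasiCompact X.hom] [IsSeparated X.hom] [QuasiCompact Y.hom]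
  [IsSeparated Y.hom]

/-- The comparison map to functions on the product. -/
noncomputable def toProd : Fn X ⊗[k] Fn Y →ₐ[k] Fn (X ⊗ Y) :=
  Algebra.TensorProduct.lift (ev (fst X Y)) (ev (snd X Y)) fun _ _ => .all _ _

theorem toProd_bijective : Function.Bijective (toProd X Y) := by
  letI : X.left.Over (Spec (CommRingCat.of k)) := ⟨X.hom⟩
  letI : Y.left.Over (Spec (CommRingCat.of k)) := ⟨Y.hom⟩
  haveI : CompactSpace X.left := (quasiCompact_iff_compactSpace X.hom).mp inferInstance
  haveI : CompactSpace Y.left := (quasiCompact_iff_compactSpace Y.hom).mp inferInstance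
  haveI hdX : IsAffineHom (pullback.diagonal (X.left ↘ Spec (CommRingCat.of k))) := by
    show IsAffineHom (pullback.diagonal X.hom); infer_instance
  haveI hdY : IsAffineHom (pullback.diagonal (Y.left ↘ Spec (CommRingCat.of k))) := by
    show IsAffineHom (pullback.diagonal Y.hom); infer_instance
  have H : IsPushout X.hom.appTop Y.hom.appTop (pullback.fst X.hom Y.hom).appTop (pullback.snd X.hom Y.hom).appTop :=
    Groth.Agent.S18811.result k X.left Y.left
  let e : Γ(Spec (CommRingCat.of k), ⊤) ≅ CommRingCat.of k := Scheme.ΓSpecIso _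
  have H' : IsPushout (e.inv ≫ X.hom.appTop) (e.inv ≫ Y.hom.appTop)
      (pullback.fst X.hom Y.hom).appTop (pullback.snd X.hom Y.hom).appTop :=
    H.of_iso e (Iso.refl _) (Iso.refl _) (Iso.refl _) (by simp) (by simp) (by simp) (by simp)
  have hpo := CommRingCat.isPushout_tensorProduct k (Fn X) (Fn Y)
  let ε := hpo.isoIsPushout _ _ H'
  have h1 : ∀ a, ε.hom (a ⊗ₜ[k] (1 : Fn Y)) = (pullback.fst X.hom Y.hom).appTop a := fun a =>
    congr($(IsPushout.inl_isoIsPushout_hom _ _ hpo H') a)
  have h2 : ∀ b, ε.hom ((1 : Fn X) ⊗ₜ[k] b) = (pullback.snd X.hom Y.hom).appTop b := fun b =>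
    congr($(IsPushout.inr_isoIsPushout_hom _ _ hpo H') b)
  have he : ⇑(toProd X Y) = ⇑ε.hom := by
    funext z
    induction z using TensorProduct.induction_on with
    | zero =>
      refine (map_zero _).trans ?_
      exact (map_zero ε.hom.hom).symm
    | tmul a b =>
      rw [toProd, Algebra.TensorProduct.lift_tmul]
      conv_rhs => rw [show a ⊗ₜ[k] b = (a ⊗ₜ[k] (1 : Fn Y)) * ((1 : Fn X) ⊗ₜ[k] b) by simp]
      refine Eq.trans ?_ (map_mul ε.hom.hom _ _).symm
      exact (congrArg₂ (· * ·) (h1 a) (h2 b)).symm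
    | add s t hs ht =>
      refine (map_add _ _ _).trans ?_
      refine Eq.trans ?_ (map_add ε.hom.hom _ _).symm
      exact congrArg₂ (· + ·) hs ht
  rw [he]
  exact ConcreteCategory.bijective_of_isIso ε.hom

variable {X Y}

theorem indep {J : Type*} {w : J → Fn Y} (hw : LinearIndependent k w) (s : Finset J) (a : J → Fn X)
    (h : ∑ l ∈ s, ev (fst X Y) (a l) * ev (snd X Y) (w l) = 0) : ∀ l ∈ s, a l = 0 := by
  classical
  intro l hl
  let af : J →₀ Fn X := Finsupp.onFinset s (fun l => if l ∈ s then a l else 0) fun l h => by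
    by_contra hl
    exact h (if_neg hl)
  have hinj : Function.Injective (LinearMap.lTensor (Fn X) (Finsupp.linearCombination k w)) :=
    Module.Flat.lTensor_preserves_injective_linearMap _ hw.finsuppLinearCombination_injective
  have h0 : (toProd X Y) (∑ l ∈ s, a l ⊗ₜ[k] w l) = 0 := by
    rw [map_sum, ← h]
    exact Finset.sum_congr rfl fun l _ => Algebra.TensorProduct.lift_tmul _ _ _ _ _
  have h1 : ∑ l ∈ s, a l ⊗ₜ[k] w l = 0 := (toProd_bijective X Y).1 (h0.trans (map_zero _).symm)
  have h2 : ∑ l ∈ s, a l ⊗ₜ[k] Finsupp.single l (1 : k) = 0 := by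
    refine hinj ?_
    rw [map_zero, map_sum, ← h1]
    simp
  have h3 := congrArg (TensorProduct.finsuppScalarRight k k (Fn X) J) h2
  rw [map_sum, map_zero] at h3
  have h4 := DFunLike.congr_fun h3 l
  simpa [Finsupp.finset_sum_apply, TensorProduct.finsuppScalarRight_apply_tmul_apply, Finsupp.single_apply, hl] using h4

theorem exists_expand {J : Type*} (b : Module.Basis J k (Fn Y)) (z : Fn (X ⊗ Y)) :
    ∃ (s : Finset J) (a : J → Fn X), z = ∑ l ∈ s, ev (fst X Y) (a l) * ev (snd X Y) (b l) := by
  classical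
  obtain ⟨t, rfl⟩ := (toProd_bijective X Y).2 z
  obtain ⟨c, rfl⟩ : ∃ c : J →₀ Fn X, c.sum (fun l a => a ⊗ₜ[k] b l) = t := by
    refine ⟨TensorProduct.equivFinsuppOfBasisRight b t, ?_⟩
    rw [← TensorProduct.equivFinsuppOfBasisRight_symm_apply, LinearEquiv.symm_apply_apply]
  refine ⟨c.support, c, ?_⟩
  rw [Finsupp.sum, map_sum]
  exact Finset.sum_congr rfl fun l _ => Algebra.TensorProduct.lift_tmul _ _ _ _ _

end Groth.Agent.GrpSchLib.Kunneth
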