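import Groth.Agent.GrpSchLib.RepFamily
import Groth.Agent.GrpSchLib.AntiAffineHom
import Groth.Prelude.Def_AlgGrp

/-! The functions on an affine scheme with an action form a union of finite representations. -/

universe u

open CategoryTheory Limits AlgebraicGeometry MonoidalCategory CartesianMonoidalCategory MonObj GrpObj
open scoped TensorProduct

namespace Groth.Agent.GrpSchLib.ActRep

open Kunneth LineGroups

variable {k : Type u} [Field k] {G X : Over (Spec (CommRingCat.of k))} [GrpObj G] [QuasiCompact G.hom] [QuasiCompact X.hom] [IsSeparated X.hom]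
  (a : AlgGrp.Action G X)

theorem lift_mul_act {T : Over (Spec (CommRingCat.of k))} (g h : T ⟶ G) (x : T ⟶ X) :
    lift (g * h) x ≫ a.act = lift g (lift h x ≫ a.act) ≫ a.act := by
  have h1 : lift (lift g h) x ≫ (μ[G] ▷ X) ≫ a.act = lift (lift g h) x ≫ (α_ G G X).hom ≫ (G ◁ a.act) ≫ a.act := by
    rw [a.mul_act]
  rw [← Category.assoc, lift_whiskerRight, ← Hom.mul_def, ← Category.assoc, ← Category.assoc] at h1
  rw [h1, lift_lift_associator_hom, lift_whiskerLeft]

theorem lift_one_act' {T : Over (Spec (CommRingCat.of k))} (x : T ⟶ X) : lift (1 : T ⟶ G) x ≫ a.act = x := by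
  have h1 : lift (toUnit T) x ≫ (η[G] ▷ X) ≫ a.act = lift (toUnit T) x ≫ (λ_ X).hom := by
    rw [a.one_act]
  rw [← Category.assoc, lift_whiskerRight, lift_leftUnitor_hom] at h1
  exact h1

/-- Every function lies in a finite stable space of functions. -/
theorem exists_stable (f : Fn X) : ∃ (n : ℕ) (M : Matrix (Fin n) (Fin n) (Fn G)) (b : Fin n → Fn X),
    IsRepMatrix M ∧ (∀ (T : Over (Spec (CommRingCat.of k))) (g : T ⟶ G) (x : T ⟶ X), M.map (ev g) = 1 →
      ev (lift g x ≫ a.act) f = ev x f) ∧
    ∀ (T : Over (Spec (CommRingCat.of k))) [QuasiCompact T.hom] [IsSeparated T.hom] (g : T ⟶ G),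
      (g ▷ X) ≫ a.act = snd T X → M.map (ev g) = 1 := by
  classical
  haveI := AntiAffine.isSeparated_grp G
  haveI : QuasiCompact (G ⊗ X).hom := inferInstanceAs (QuasiCompact (pullback.fst G.hom X.hom ≫ G.hom))
  haveI : IsSeparated (G ⊗ X).hom := inferInstanceAs (IsSeparated (pullback.fst G.hom X.hom ≫ G.hom))
  haveI : QuasiCompact (G ⊗ G).hom := inferInstanceAs (QuasiCompact (pullback.fst G.hom G.hom ≫ G.hom))
  haveI : IsSeparated (G ⊗ G).hom := inferInstanceAs (IsSeparated (pullback.fst G.hom G.hom ≫ G.hom))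
  let c := Module.Basis.ofVectorSpace k (Fn G)
  -- expansion along the group variable
  obtain ⟨s, w, hw⟩ := exists_expand (X := X) (Y := G) c (ev (lift (snd X G) (fst X G) ≫ a.act) f)
  have hexp : ∀ (T : Over (Spec (CommRingCat.of k))) (g : T ⟶ G) (x : T ⟶ X),
      ev (lift g x ≫ a.act) f = ∑ i ∈ s, ev x (w i) * ev g (c i) := by
    intro T g x
    have h1 := congrArg (ev (lift x g)) hw
    rw [map_sum, ev_ev, ← Category.assoc, comp_lift, lift_fst, lift_snd] at h1
    rw [h1]
    exact Finset.sum_congr rfl fun i _ => by rw [map_mul, ev_ev, ev_ev, lift_fst, lift_snd]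
  choose t e he using fun i => exists_expand (X := G) (Y := G) c (ev (snd G G * fst G G) (c i))
  have hexp2 : ∀ (i) (T : Over (Spec (CommRingCat.of k))) (g h : T ⟶ G),
      ev (g * h) (c i) = ∑ j ∈ t i, ev h (e i j) * ev g (c j) := by
    intro i T g h
    have h1 := congrArg (ev (lift h g)) (he i)
    rw [map_sum, ev_ev, MonObj.comp_mul, lift_fst, lift_snd] at h1
    rw [h1]
    exact Finset.sum_congr rfl fun m _ => by rw [map_mul, ev_ev, ev_ev, lift_fst, lift_snd]
  have hw_act : ∀ j ∈ s, ev a.act (w j) =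
      ∑ i ∈ s, (if j ∈ t i then ev (fst G X) (e i j) else 0) * ev (snd G X) (w i) := by
    let U := s ∪ s.biUnion t
    let p := fst (G ⊗ X) G
    let g₀ := snd (G ⊗ X) G
    have key : ∑ j ∈ U, ev p ((if j ∈ s then ev a.act (w j) else 0) -
        ∑ i ∈ s, (if j ∈ t i then ev (fst G X) (e i j) else 0) * ev (snd G X) (w i)) * ev g₀ (c j) = 0 := by
      simp only [map_sub, sub_mul, Finset.sum_sub_distrib, map_sum, map_mul, Finset.sum_mul]
      rw [sub_eq_zero]
      have h1 : ∑ j ∈ U, ev p (if j ∈ s then ev a.act (w j) else 0) * ev g₀ (c j) =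
          ev (lift g₀ (p ≫ a.act) ≫ a.act) f := by
        rw [hexp, ← Finset.sum_subset (Finset.subset_union_left (s₂ := s.biUnion t))
          (fun j _ hj => by rw [if_neg hj, map_zero, MulZeroClass.zero_mul])]
        exact Finset.sum_congr rfl fun j hj => by rw [if_pos hj, ev_ev]
      rw [h1, show p ≫ a.act = lift (p ≫ fst G X) (p ≫ snd G X) ≫ a.act by rw [← comp_lift, lift_fst_snd, Category.comp_id],
        ← lift_mul_act, hexp, Finset.sum_comm]
      refine Finset.sum_congr rfl fun i hi => ?_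
      rw [hexp2, Finset.mul_sum]
      symm
      rw [← Finset.sum_subset (fun j hj => Finset.mem_union_right _ (Finset.mem_biUnion.mpr ⟨i, hi, hj⟩))
        (fun j _ hj => ?_)]
      · exact Finset.sum_congr rfl fun j hj => by rw [if_pos hj, ev_ev, ev_ev, ← ev_ev p (snd G X)]; ring
      · rw [if_neg hj, map_zero, MulZeroClass.zero_mul, MulZeroClass.zero_mul]
    intro j hj
    have h2 := indep (X := G ⊗ X) (Y := G) c.linearIndependent U _ key j (Finset.mem_union_left _ hj)
    rw [sub_eq_zero, if_pos hj] at h2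
    exact h2
  -- the finite stable space
  let W : Submodule k (Fn X) := Submodule.span k (w '' ↑s)
  haveI : Module.Finite k W := Module.Finite.span_of_finite k (s.finite_toSet.image w)
  let b := Module.finBasis k W
  have hspan : ∀ j ∈ s, w j ∈ W := fun j hj => Submodule.subset_span ⟨j, hj, rfl⟩
  have hmat : ∀ z ∈ W, ∃ m : Fin (Module.finrank k W) → Fn G,
      ev a.act z = ∑ i, ev (fst G X) (m i) * ev (snd G X) ((b i : W) : Fn X) := by
    intro z hz
    induction hz using Submodule.span_induction with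
    | mem z hz =>
      obtain ⟨j, hj, rfl⟩ := hz
      refine ⟨fun l => ∑ i ∈ s.attach, if j ∈ t i.1 then b.repr ⟨w i.1, hspan i.1 i.2⟩ l • e i.1 j else 0, ?_⟩
      rw [hw_act j hj, ← Finset.sum_attach]
      simp only [map_sum, Finset.sum_mul]
      rw [Finset.sum_comm]
      refine Finset.sum_congr rfl fun i _ => ?_
      split
      · conv_lhs => rw [show w i.1 = ((⟨w i.1, hspan i.1 i.2⟩ : W) : Fn X) from rfl,
          ← b.sum_repr ⟨w i.1, hspan i.1 i.2⟩]
        simp only [Submodule.coe_sum, Submodule.coe_smul, map_sum, map_smul, Finset.mul_sum, mul_smul_comm, smul_mul_assoc]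
      · simp
    | zero => exact ⟨0, by simp⟩
    | add z z' _ _ hz hz' =>
      obtain ⟨m, hm⟩ := hz
      obtain ⟨m', hm'⟩ := hz'
      exact ⟨m + m', by simp only [map_add, hm, hm', Pi.add_apply, add_mul, Finset.sum_add_distrib]⟩
    | smul r z _ hz =>
      obtain ⟨m, hm⟩ := hz
      exact ⟨r • m, by simp only [map_smul, hm, Pi.smul_apply, Finset.smul_sum, smul_mul_assoc]⟩
  choose m hm using fun l => hmat _ (b l).2
  let M : Matrix (Fin (Module.finrank k W)) (Fin (Module.finrank k W)) (Fn G) := Matrix.of m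
  have hev : ∀ (T : Over (Spec (CommRingCat.of k))) (g : T ⟶ G) (x : T ⟶ X) (l),
      ev (lift g x ≫ a.act) (b l : Fn X) = ∑ i, ev g (M l i) * ev x (b i : Fn X) := by
    intro T g x l
    rw [← ev_ev, hm, map_sum]
    exact Finset.sum_congr rfl fun i _ => by rw [map_mul, ev_ev, ev_ev, lift_fst, lift_snd]; rfl
  have hli : LinearIndependent k fun i => ((b i : W) : Fn X) := b.linearIndependent.map' W.subtype W.ker_subtype
  have huniq : ∀ {T : Over (Spec (CommRingCat.of k))} [QuasiCompact T.hom] [IsSeparated T.hom]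
      (A A' : Matrix (Fin (Module.finrank k W)) (Fin (Module.finrank k W)) (Fn T)),
      (∀ l, ∑ i, ev (fst T X) (A l i) * ev (snd T X) (b i : Fn X) =
        ∑ i, ev (fst T X) (A' l i) * ev (snd T X) (b i : Fn X)) → A = A' := by
    intro T _ _ A A' h
    refine Matrix.ext fun l i => sub_eq_zero.mp (indep hli Finset.univ (fun i => A l i - A' l i) ?_ i (Finset.mem_univ i))
    simp only [map_sub, sub_mul, Finset.sum_sub_distrib, h l, sub_self]
  have hu : M.map (ev (fst G G * snd G G)) = M.map (ev (fst G G)) * M.map (ev (snd G G)) := by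
    refine huniq _ _ fun l => ?_
    let P := fst (G ⊗ G) X
    have e1 := hev _ ((P ≫ fst G G) * (P ≫ snd G G)) (snd (G ⊗ G) X) l
    rw [lift_mul_act, hev] at e1
    simp only [hev, Finset.mul_sum] at e1
    rw [← MonObj.comp_mul] at e1
    simp only [Matrix.map_apply, ev_ev, Matrix.mul_apply, map_sum, map_mul, Finset.sum_mul]
    refine e1.symm.trans ?_
    rw [Finset.sum_comm]
    exact Finset.sum_congr rfl fun i _ => Finset.sum_congr rfl fun j _ => by ring
  have hone : M.map (ev η[G]) = 1 := by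
    haveI : QuasiCompact (𝟙_ (Over (Spec (CommRingCat.of k)))).hom := inferInstanceAs (QuasiCompact (𝟙 _))
    haveI : IsSeparated (𝟙_ (Over (Spec (CommRingCat.of k)))).hom := inferInstanceAs (IsSeparated (𝟙 _))
    refine huniq _ _ fun l => ?_
    have e1 := hev _ (1 : 𝟙_ _ ⊗ X ⟶ G) (snd _ X) l
    rw [lift_one_act'] at e1
    simp only [Matrix.map_apply, ev_ev]
    rw [MonObj.one_eq_one, MonObj.comp_one, ← e1, Finset.sum_eq_single l
      (fun i _ hi => by rw [Matrix.one_apply_ne (Ne.symm hi), map_zero, MulZeroClass.zero_mul])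
      (fun h => absurd (Finset.mem_univ l) h), Matrix.one_apply_eq, map_one, _root_.one_mul]
  refine ⟨_, M, fun i => (b i : Fn X), ⟨fun T g h => ?_, fun T => ?_⟩, fun T g x hg => ?_, fun T _ _ g hg => ?_⟩
  · have h1 := congrArg (fun A : Matrix _ _ (Fn (G ⊗ G)) => A.map (ev (lift g h))) hu
    have q : ∀ {T' : Over (Spec (CommRingCat.of k))} (p : T' ⟶ G) (v : T ⟶ T'), ⇑(ev v) ∘ ⇑(ev p) = ⇑(ev (v ≫ p)) :=
      fun p v => rfl
    simp only [Matrix.map_mul, Matrix.map_map, q, MonObj.comp_mul, lift_fst, lift_snd] at h1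
    exact h1
  · have h1 := congrArg (fun A : Matrix _ _ (Fn (𝟙_ (Over (Spec (CommRingCat.of k))))) => A.map (ev (toUnit T))) hone
    simp only [Matrix.map_map, Matrix.map_one _ (map_zero (ev (toUnit T))) (map_one (ev (toUnit T)))] at h1
    exact h1
  · show ev (lift g x ≫ a.act) f = ev x f
    have hf : f ∈ W := by
      have h1 := hexp X (1 : X ⟶ G) (𝟙 X)
      rw [lift_one_act', ev_id] at h1
      rw [h1]
      refine Submodule.sum_mem _ fun i hi => ?_
      rw [ev_id, ← MonObj.comp_one (toUnit X), ← ev_ev]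
      obtain ⟨r, hr⟩ : ∃ r : k, algebraMap k _ r = ev (1 : 𝟙_ (Over (Spec (CommRingCat.of k))) ⟶ G) (c i) :=
        ⟨_, Iso.hom_inv_id_apply (Scheme.ΓSpecIso (CommRingCat.of k)) _⟩
      rw [← hr, AlgHom.commutes, mul_comm, ← Algebra.smul_def]
      exact W.smul_mem r (hspan i hi)
    have hfix : ∀ z : W, ev (lift g x ≫ a.act) (z : Fn X) = ev x (z : Fn X) := by
      intro z
      conv_lhs => rw [← b.sum_repr z]
      conv_rhs => rw [← b.sum_repr z]
      simp only [Submodule.coe_sum, Submodule.coe_smul, map_sum, map_smul, hev]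
      refine Finset.sum_congr rfl fun l _ => congrArg _ ?_
      rw [Finset.sum_eq_single l (fun i _ hi => by
          rw [show ev g (M l i) = 0 from (congrFun (congrFun hg l) i).trans (Matrix.one_apply_ne (Ne.symm hi)), MulZeroClass.zero_mul])
        (fun h => absurd (Finset.mem_univ l) h),
        show ev g (M l l) = 1 from (congrFun (congrFun hg l) l).trans (Matrix.one_apply_eq l), _root_.one_mul]
    exact hfix ⟨f, hf⟩
  · refine huniq _ _ fun l => ?_
    have e1 := hev _ (fst T X ≫ g) (snd T X) l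
    rw [show lift (fst T X ≫ g) (snd T X) = g ▷ X from CartesianMonoidalCategory.hom_ext _ _ (by simp) (by simp), hg] at e1
    simp only [Matrix.map_apply, ev_ev]
    rw [← e1, Finset.sum_eq_single l
      (fun i _ hi => by rw [Matrix.one_apply_ne (Ne.symm hi), map_zero, MulZeroClass.zero_mul])
      (fun h => absurd (Finset.mem_univ l) h), Matrix.one_apply_eq, map_one, _root_.one_mul]

end Groth.Agent.GrpSchLib.ActRep
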