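import Groth.Agent.GrpSchLib.FieldReduced
import Mathlib.AlgebraicGeometry.AlgClosed.Basic
import Mathlib.AlgebraicGeometry.Morphisms.FiniteType

/-! Points with values in an algebraically closed field of reduced schemes over a field. -/

open CategoryTheory AlgebraicGeometry Limits

namespace Groth.Agent.GrpSchLib

universe u

variable {k : Type u} [Field k] {K : Type u} [Field K] [Algebra k K] [IsAlgClosed K]

/-- Every closed point carries a `K`-point. -/
theorem exists_point_of_isClosed (W : Over (Spec (CommRingCat.of k))) [LocallyOfFiniteType W.hom]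
    {w : W.left} (hw : IsClosed {w}) :
    ∃ (s : Over.mk (Spec.map (CommRingCat.ofHom (algebraMap k K))) ⟶ W),
      s.left (IsLocalRing.closedPoint K) = w := by
  let σ := Spec.map (CommRingCat.ofHom (algebraMap k K))
  have : Surjective σ := ⟨Function.surjective_to_subsingleton (α := Spec (CommRingCat.of K))
    (β := Spec (CommRingCat.of k)) _⟩
  let q := pullback.snd W.hom σ
  have : LocallyOfFiniteType q := inferInstanceAs (LocallyOfFiniteType (pullback.snd W.hom σ))
  have : JacobsonSpace (pullback W.hom σ : Scheme.{u}) := LocallyOfFiniteType.jacobsonSpace q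
  obtain ⟨w', hw'⟩ := (pullback.fst W.hom σ).surjective w
  obtain ⟨c, hc1, hc⟩ := nonempty_inter_closedPoints (Z := (pullback.fst W.hom σ) ⁻¹' {w})
    ⟨w', hw'⟩ (hw.preimage (pullback.fst W.hom σ).continuous).isLocallyClosed
  let s := (pointEquivClosedPoint q).symm ⟨c, hc⟩
  have hsc : s.1 (IsLocalRing.closedPoint K) = c :=
    congrArg Subtype.val ((pointEquivClosedPoint q).apply_symm_apply ⟨c, hc⟩)
  refine ⟨Over.homMk (s.1 ≫ pullback.fst W.hom σ) ?_, ?_⟩
  · show (s.1 ≫ pullback.fst W.hom σ) ≫ W.hom = σ
    rw [Category.assoc, pullback.condition, ← Category.assoc, s.2]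
    exact Category.id_comp σ
  · show pullback.fst W.hom σ (s.1 (IsLocalRing.closedPoint K)) = w
    rw [hsc]
    exact hc1

/-- A morphism from a reduced scheme lands in a closed subscheme if its points do. -/
theorem exists_fac_of_points {W X Z : Over (Spec (CommRingCat.of k))} [LocallyOfFiniteType W.hom]
    [IsReduced W.left] (f : W ⟶ X) (c : Z ⟶ X) [IsClosedImmersion c.left]
    (h : ∀ s : Over.mk (Spec.map (CommRingCat.ofHom (algebraMap k K))) ⟶ W,
      ∃ z : Over.mk (Spec.map (CommRingCat.ofHom (algebraMap k K))) ⟶ Z, z ≫ c = s ≫ f) :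
    ∃ f' : W ⟶ Z, f' ≫ c = f := by
  have : JacobsonSpace W.left := LocallyOfFiniteType.jacobsonSpace W.hom
  let j := pullback.fst f.left c.left
  have hj : Surjective j := by
    refine ⟨Set.range_eq_univ.mp ?_⟩
    show Set.range (pullback.fst f.left c.left) = Set.univ
    rw [Scheme.Pullback.range_fst]
    rw [Set.eq_univ_iff_forall]
    by_contra hne
    push_neg at hne
    obtain ⟨w, hw, hwc⟩ := nonempty_inter_closedPoints (Z := (f.left ⁻¹' Set.range c.left)ᶜ) hne
      ((c.left.isClosedEmbedding.isClosed_range.preimage f.left.continuous).isOpen_compl.isLocallyClosed)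
    obtain ⟨s, hs⟩ := exists_point_of_isClosed (K := K) W hwc
    obtain ⟨z, hz⟩ := h s
    refine hw ⟨z.left (IsLocalRing.closedPoint K), ?_⟩
    rw [← hs]
    exact congrArg (fun e : Over.mk (Spec.map (CommRingCat.ofHom (algebraMap k K))) ⟶ X =>
      e.left (IsLocalRing.closedPoint K)) hz
  have hle := ker_le_ker_of_surjective j (𝟙 W.left)
  let l := IsClosedImmersion.lift j (𝟙 W.left) hle ≫ pullback.snd f.left c.left
  have hl : l ≫ c.left = f.left := by
    rw [Category.assoc, ← pullback.condition, ← Category.assoc, IsClosedImmersion.lift_fac, Category.id_comp]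
  exact ⟨Over.homMk l (by rw [← Over.w c, ← Category.assoc, hl, Over.w f]), Over.OverMorphism.ext hl⟩

end Groth.Agent.GrpSchLib
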