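import Groth.Agent.GrpSchLib.UnitsTensor
import Groth.Agent.GrpSchLib.Kunneth
import Groth.Agent.GrpSchLib.ReducedPoints
import Groth.Agent.GrpSchLib.SmoothReduced
import Groth.Agent.S0348

/-! Units on products of varieties and on connected groups over an algebraically closed field. -/

universe u

open CategoryTheory Limits AlgebraicGeometry MonoidalCategory CartesianMonoidalCategory MonObj GrpObj TensorProduct

namespace Groth.Agent.GrpSchLib.Kunneth

variable {k : Type u} [Field k]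

/-- The value of functions at a rational point. -/
noncomputable def evPt {Y : Over (Spec (CommRingCat.of k))} (y : 𝟙_ (Over (Spec (CommRingCat.of k))) ⟶ Y) : Fn Y →ₐ[k] k :=
  AlgHom.mk ((y.left.appTop ≫ (Scheme.ΓSpecIso (CommRingCat.of k)).hom).hom) fun c => by
    show (Scheme.ΓSpecIso (CommRingCat.of k)).hom (y.left.appTop (Y.hom.appTop ((Scheme.ΓSpecIso (CommRingCat.of k)).inv c))) = c
    rw [← CommRingCat.comp_apply Y.hom.appTop y.left.appTop, ← Scheme.Hom.comp_appTop, Over.w y]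
    show (Scheme.ΓSpecIso (CommRingCat.of k)).hom ((𝟙 (Spec (CommRingCat.of k)) : _ ⟶ _).appTop ((Scheme.ΓSpecIso (CommRingCat.of k)).inv c)) = c
    simp [← CommRingCat.comp_apply]

theorem evPt_eq_one_iff {Y : Over (Spec (CommRingCat.of k))} (y : 𝟙_ (Over (Spec (CommRingCat.of k))) ⟶ Y) (f : Fn Y) :
    evPt y f = 1 ↔ y.left.appTop f = 1 := by
  constructor
  · intro h
    apply (ConcreteCategory.bijective_of_isIso (Scheme.ΓSpecIso (CommRingCat.of k)).hom).1
    exact h.trans (map_one _).symm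
  · intro h
    show (Scheme.ΓSpecIso (CommRingCat.of k)).hom (y.left.appTop f) = 1
    rw [h, map_one]

theorem evPt_comp {X Y : Over (Spec (CommRingCat.of k))} (y : 𝟙_ (Over (Spec (CommRingCat.of k))) ⟶ X) (g : X ⟶ Y) (f : Fn Y) :
    evPt y (ev g f) = evPt (y ≫ g) f := rfl

theorem isDomain_fn (X : Over (Spec (CommRingCat.of k))) [IsIntegral X.left] : IsDomain (Fn X) :=
  have : Nonempty ↥(⊤ : X.left.Opens) := ⟨⟨Classical.arbitrary X.left, trivial⟩⟩
  inferInstanceAs (IsDomain Γ(X.left, ⊤))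

variable [IsAlgClosed k]

theorem eq_zero_of_forall_evPt {Y : Over (Spec (CommRingCat.of k))} [IsReduced Y.left] [LocallyOfFiniteType Y.hom] (b : Fn Y)
    (h : ∀ y : 𝟙_ (Over (Spec (CommRingCat.of k))) ⟶ Y, evPt y b = 0) : b = 0 := by
  haveI : JacobsonSpace Y.left := LocallyOfFiniteType.jacobsonSpace Y.hom
  apply basicOpen_eq_bot_iff b |>.mp
  by_contra hne
  obtain ⟨w, hw, hwc⟩ := nonempty_inter_closedPoints
    (TopologicalSpace.Opens.ne_bot_iff_nonempty _ |>.mp hne) (Y.left.basicOpen b).isOpen.isLocallyClosed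
  obtain ⟨s, hs⟩ := exists_point_of_isClosed (k := k) (K := k) Y (w := w) hwc
  let e : 𝟙_ (Over (Spec (CommRingCat.of k))) ⟶ Over.mk (Spec.map (CommRingCat.ofHom (algebraMap k k))) :=
    Over.homMk (𝟙 (Spec (CommRingCat.of k))) (by
      show 𝟙 _ ≫ Spec.map (CommRingCat.ofHom (algebraMap k k)) = 𝟙 _
      simp)
  have hp : (e ≫ s).left (IsLocalRing.closedPoint k) ∈ Y.left.basicOpen b := hs ▸ hw
  have h2 : IsLocalRing.closedPoint k ∈ (Spec (CommRingCat.of k)).basicOpen ((e ≫ s).left.appTop b) := by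
    have h3 := Scheme.preimage_basicOpen_top (e ≫ s).left b
    exact h3 ▸ hp
  have h4 : (e ≫ s).left.appTop b = 0 := by
    apply (ConcreteCategory.bijective_of_isIso (Scheme.ΓSpecIso (CommRingCat.of k)).hom).1
    exact (h (e ≫ s)).trans (map_zero _).symm
  rw [h4, Scheme.basicOpen_zero] at h2
  exact h2

theorem exists_point (Z : Over (Spec (CommRingCat.of k))) [LocallyOfFiniteType Z.hom] [QuasiCompact Z.hom] [Nonempty Z.left] :
    Nonempty (𝟙_ (Over (Spec (CommRingCat.of k))) ⟶ Z) := by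
  haveI : CompactSpace Z.left := (quasiCompact_iff_compactSpace Z.hom).mp inferInstance
  obtain ⟨w, -, hw⟩ := IsClosed.exists_closed_singleton (isClosed_univ (X := Z.left)) Set.univ_nonempty
  obtain ⟨s, -⟩ := exists_point_of_isClosed (k := k) (K := k) Z hw
  exact ⟨(Over.homMk (𝟙 (Spec (CommRingCat.of k))) (by
    show 𝟙 _ ≫ Spec.map (CommRingCat.ofHom (algebraMap k k)) = 𝟙 _
    simp) : 𝟙_ (Over (Spec (CommRingCat.of k))) ⟶ Over.mk (Spec.map (CommRingCat.ofHom (algebraMap k k)))) ≫ s⟩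

variable {X Y : Over (Spec (CommRingCat.of k))} [IsIntegral X.left] [IsSeparated X.hom] [LocallyOfFiniteType X.hom] [QuasiCompact X.hom]
  [IsIntegral Y.left] [IsSeparated Y.hom] [LocallyOfFiniteType Y.hom] [QuasiCompact Y.hom]

theorem exists_units_mul {f : Fn (X ⊗ Y)} (hf : IsUnit f) :
    ∃ (g : Fn X) (h : Fn Y), IsUnit g ∧ IsUnit h ∧ f = ev (fst X Y) g * ev (snd X Y) h := by
  haveI := isDomain_fn X
  haveI := isDomain_fn Y
  haveI : CompactSpace X.left := (quasiCompact_iff_compactSpace X.hom).mp inferInstance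
  haveI : CompactSpace Y.left := (quasiCompact_iff_compactSpace Y.hom).mp inferInstance
  haveI : JacobsonSpace X.left := LocallyOfFiniteType.jacobsonSpace X.hom
  haveI : JacobsonSpace Y.left := LocallyOfFiniteType.jacobsonSpace Y.hom
  obtain ⟨x₀⟩ := exists_point X
  obtain ⟨y₀⟩ := exists_point Y
  let e := AlgEquiv.ofBijective (toProd X Y) (toProd_bijective X Y)
  obtain ⟨g, h, hg, hh, he⟩ := UnitsTensor.exists_mul (fun y => evPt y) (fun b hb => eq_zero_of_forall_evPt b hb)
    (hf.map e.symm) (evPt x₀) (evPt y₀)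
  refine ⟨g, h, hg, hh, ?_⟩
  have := congrArg e he
  rw [AlgEquiv.apply_symm_apply] at this
  exact this.trans (Algebra.TensorProduct.lift_tmul (ev (fst X Y)) (ev (snd X Y)) (fun _ _ => .all _ _) g h)

omit [IsAlgClosed k] in
theorem one_fn_const {T : Over (Spec (CommRingCat.of k))} {Z : Over (Spec (CommRingCat.of k))}
    (z : 𝟙_ (Over (Spec (CommRingCat.of k))) ⟶ Z) (f : Fn Z) :
    ev (toUnit T ≫ z) f = algebraMap k (Fn T) (evPt z f) := by
  show ev (toUnit T) (ev z f) = _
  rw [← AlgHom.commutes (ev (toUnit T))]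
  congr 1
  show ev z f = (𝟙 (Spec (CommRingCat.of k)) : _ ⟶ _).appTop ((Scheme.ΓSpecIso (CommRingCat.of k)).inv
    ((Scheme.ΓSpecIso (CommRingCat.of k)).hom (ev z f)))
  rw [← CommRingCat.comp_apply (Scheme.ΓSpecIso (CommRingCat.of k)).hom, Iso.hom_inv_id]
  simp

theorem isIntegral_grp (G : Over (Spec (CommRingCat.of k))) [GrpObj G] [Smooth G.hom] [QuasiCompact G.hom] [ConnectedSpace G.left] :
    IsIntegral G.left := by
  haveI : IrreducibleSpace G.left := Groth.Agent.S0348.result k G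
  haveI : IsReduced G.left := isReduced_of_smooth_field G.hom
  exact isIntegral_of_irreducibleSpace_of_isReduced G.left

/-- A normalised unit on a connected group is a character. -/
theorem unit_isChar {G : Over (Spec (CommRingCat.of k))} [GrpObj G] [Smooth G.hom] [QuasiCompact G.hom] [ConnectedSpace G.left]
    {f : Fn G} (hf : IsUnit f) (he : evPt η[G] f = 1) :
    ev μ[G] f = ev (fst G G) f * ev (snd G G) f := by
  haveI := isIntegral_grp G
  haveI := AntiAffine.isSeparated_grp G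
  obtain ⟨g, h, -, -, hgh⟩ := exists_units_mul (hf.map (ev μ[G]))
  have h1 := congrArg (ev (lift (𝟙 G) (toUnit G ≫ η[G]))) hgh
  have h2 := congrArg (ev (lift (toUnit G ≫ η[G]) (𝟙 G))) hgh
  rw [map_mul, ev_ev, ev_ev, ev_ev, lift_fst, lift_snd, ev_id, one_fn_const] at h1 h2
  rw [show lift (𝟙 G) (toUnit G ≫ η[G]) ≫ μ[G] = 𝟙 G by rw [← Hom.mul_def]; exact _root_.mul_one _, ev_id] at h1
  rw [show lift (toUnit G ≫ η[G]) (𝟙 G) ≫ μ[G] = 𝟙 G by rw [← Hom.mul_def]; exact _root_.one_mul _, ev_id] at h2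
  have h3 : evPt η[G] g * evPt η[G] h = 1 := by
    rw [← he, h1, map_mul, AlgHom.commutes]
    rfl
  have h4 : algebraMap k (Fn (G ⊗ G)) (evPt η[G] h) * algebraMap k (Fn (G ⊗ G)) (evPt η[G] g) = 1 := by
    rw [← map_mul, mul_comm, h3, map_one]
  rw [hgh]
  conv_rhs => rw [show f = g * algebraMap k _ (evPt η[G] h) from h1, map_mul, AlgHom.commutes]
  conv_rhs => enter [2]; rw [← show f = g * algebraMap k _ (evPt η[G] h) from h1, show f = algebraMap k _ (evPt η[G] g) * h from h2, map_mul, AlgHom.commutes]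
  linear_combination -(ev (fst G G) g * ev (snd G G) h) * h4

end Groth.Agent.GrpSchLib.Kunneth
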