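import Groth.Agent.GrpSchLib.ReducedPoints
import Groth.Agent.GrpSchLib.SmoothReduced
import Groth.Agent.GrpSchLib.AntiAffineHom
import Mathlib.GroupTheory.Nilpotent
import Mathlib.GroupTheory.Commutator.Basic
import Mathlib.CategoryTheory.Monoidal.Cartesian.Grp

/-!
# Derived and lower central series of groups of points

The derived series and the lower central series of the groups of points of a group object are governed by
iterated commutator morphisms.
-/

universe u

open CategoryTheory CategoryTheory.Limits MonoidalCategory CartesianMonoidalCategory MonObj AlgebraicGeometry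
open scoped commutatorElement

namespace Groth.Agent.GrpSchLib.WordSeries

section group

variable {H : Type*} [Group H]

/-- Values of the iterated commutator. -/
def der : ℕ → Set H
  | 0 => Set.univ
  | n + 1 => Set.image2 (fun x y => ⁅x, y⁆) (der n) (der n)

/-- Values of the left normed commutator. -/
def low : ℕ → Set H
  | 0 => Set.univ
  | n + 1 => Set.image2 (fun x y => ⁅x, y⁆) (low n) Set.univ

theorem normal_closure {V : Set H} (hV : ∀ g : H, ∀ x ∈ V, g * x * g⁻¹ ∈ V) : (Subgroup.closure V).Normal := by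
  refine ⟨fun x hx g => ?_⟩
  induction hx using Subgroup.closure_induction with
  | mem y hy => exact Subgroup.subset_closure (hV g y hy)
  | one => simp
  | mul a b _ _ iha ihb => simpa [_root_.mul_assoc] using mul_mem iha ihb
  | inv a _ iha => simpa [_root_.mul_assoc] using inv_mem iha

theorem commutator_closure {V W : Set H} (hV : ∀ g : H, ∀ x ∈ V, g * x * g⁻¹ ∈ V)
    (hW : ∀ g : H, ∀ x ∈ W, g * x * g⁻¹ ∈ W) :
    ⁅Subgroup.closure V, Subgroup.closure W⁆ = Subgroup.closure (Set.image2 (fun x y => ⁅x, y⁆) V W) := by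
  set N := Subgroup.closure (Set.image2 (fun x y => ⁅x, y⁆) V W)
  haveI : N.Normal := normal_closure (by
    rintro g _ ⟨x, hx, y, hy, rfl⟩
    exact ⟨_, hV g x hx, _, hW g y hy, by simp [commutatorElement_def, _root_.mul_assoc]⟩)
  refine le_antisymm (Subgroup.commutator_le.mpr fun a ha b hb => ?_) ?_
  · rw [← QuotientGroup.eq_one_iff, ← QuotientGroup.mk'_apply, map_commutatorElement,
      commutatorElement_eq_one_iff_commute]
    have h : ∀ x ∈ V, ∀ y ∈ W, Commute (QuotientGroup.mk' N x) (QuotientGroup.mk' N y) := fun x hx y hy => by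
      rw [← commutatorElement_eq_one_iff_commute, ← map_commutatorElement, QuotientGroup.mk'_apply,
        QuotientGroup.eq_one_iff]
      exact Subgroup.subset_closure ⟨x, hx, y, hy, rfl⟩
    induction ha using Subgroup.closure_induction with
    | mem x hx =>
      induction hb using Subgroup.closure_induction with
      | mem y hy => exact h x hx y hy
      | one => simp
      | mul c d _ _ ihc ihd => rw [map_mul]; exact ihc.mul_right ihd
      | inv c _ ihc => rw [map_inv]; exact ihc.inv_right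
    | one => simp
    | mul c d _ _ ihc ihd => rw [map_mul]; exact ihc.mul_left ihd
    | inv c _ ihc => rw [map_inv]; exact ihc.inv_left
  · rw [Subgroup.closure_le]
    rintro _ ⟨x, hx, y, hy, rfl⟩
    exact Subgroup.commutator_mem_commutator (Subgroup.subset_closure hx) (Subgroup.subset_closure hy)

theorem conj_der : ∀ (n : ℕ) (g : H), ∀ x ∈ der (H := H) n, g * x * g⁻¹ ∈ der (H := H) n
  | 0, _, _, _ => Set.mem_univ (α := H) _
  | n + 1, g, _, ⟨a, ha, b, hb, rfl⟩ =>
    ⟨_, conj_der n g a ha, _, conj_der n g b hb, by simp [commutatorElement_def, _root_.mul_assoc]⟩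

theorem conj_low : ∀ (n : ℕ) (g : H), ∀ x ∈ low (H := H) n, g * x * g⁻¹ ∈ low (H := H) n
  | 0, _, _, _ => Set.mem_univ (α := H) _
  | n + 1, g, _, ⟨a, ha, b, _, rfl⟩ =>
    ⟨_, conj_low n g a ha, _, Set.mem_univ (g * b * g⁻¹), by simp [commutatorElement_def, _root_.mul_assoc]⟩

theorem derivedSeries_eq : ∀ n : ℕ, derivedSeries H n = Subgroup.closure (der n)
  | 0 => by simp [der, low]
  | n + 1 => by
    rw [derivedSeries_succ, derivedSeries_eq n, commutator_closure (conj_der n) (conj_der n)]
    rfl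

theorem lowerCentralSeries_eq : ∀ n : ℕ, Subgroup.lowerCentralSeries (⊤ : Subgroup H) n = Subgroup.closure (low n)
  | 0 => by simp [der, low]
  | n + 1 => by
    rw [Subgroup.lowerCentralSeries_succ, lowerCentralSeries_eq n]
    conv_lhs => rw [← Subgroup.closure_univ (G := H)]
    rw [commutator_closure (conj_low n) (fun _ _ _ => Set.mem_univ _)]
    rfl

end group

variable {C : Type*} [Category C] [CartesianMonoidalCategory C] (G : C) [GrpObj G]

/-- Source of the iterated commutator morphism. -/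
@[reducible] def derSrc : ℕ → C
  | 0 => G
  | n + 1 => derSrc n ⊗ derSrc n

/-- The iterated commutator morphism. -/
noncomputable def derHom : ∀ n : ℕ, derSrc G n ⟶ G
  | 0 => 𝟙 G
  | n + 1 => (⁅fst (derSrc G n) (derSrc G n) ≫ derHom n, snd (derSrc G n) (derSrc G n) ≫ derHom n⁆ : derSrc G n ⊗ derSrc G n ⟶ G)

/-- Source of the left normed commutator morphism. -/
@[reducible] def lowSrc : ℕ → C
  | 0 => G
  | n + 1 => lowSrc n ⊗ G

/-- The left normed commutator morphism. -/
noncomputable def lowHom : ∀ n : ℕ, lowSrc G n ⟶ G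
  | 0 => 𝟙 G
  | n + 1 => (⁅fst (lowSrc G n) G ≫ lowHom n, snd (lowSrc G n) G⁆ : lowSrc G n ⊗ G ⟶ G)

variable {G}

theorem comp_commutator {T T' : C} (q : T' ⟶ T) (x y : T ⟶ G) : q ≫ ⁅x, y⁆ = ⁅q ≫ x, q ≫ y⁆ := by
  simp only [commutatorElement_def, MonObj.comp_mul, GrpObj.comp_inv]

theorem der_eq_range (T : C) : ∀ n : ℕ, der (H := T ⟶ G) n = Set.range fun x : T ⟶ derSrc G n => x ≫ derHom G n
  | 0 => Set.ext fun z => iff_of_true trivial ⟨z, Category.comp_id z⟩
  | n + 1 => by
    ext z
    simp only [der, der_eq_range T n, Set.mem_image2, Set.mem_range]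
    constructor
    · rintro ⟨_, ⟨x, rfl⟩, _, ⟨y, rfl⟩, rfl⟩
      refine ⟨lift x y, ?_⟩
      show lift x y ≫ ⁅_, _⁆ = _
      rw [comp_commutator, lift_fst_assoc, lift_snd_assoc]
    · rintro ⟨w, rfl⟩
      refine ⟨_, ⟨w ≫ fst (derSrc G n) (derSrc G n), rfl⟩, _, ⟨w ≫ snd (derSrc G n) (derSrc G n), rfl⟩, ?_⟩
      rw [Category.assoc, Category.assoc]
      exact (comp_commutator w _ _).symm

theorem low_eq_range (T : C) : ∀ n : ℕ, low (H := T ⟶ G) n = Set.range fun x : T ⟶ lowSrc G n => x ≫ lowHom G n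
  | 0 => Set.ext fun z => iff_of_true trivial ⟨z, Category.comp_id z⟩
  | n + 1 => by
    ext z
    simp only [low, low_eq_range T n, Set.mem_image2, Set.mem_range, Set.mem_univ, true_and]
    constructor
    · rintro ⟨_, ⟨x, rfl⟩, y, rfl⟩
      refine ⟨lift x y, ?_⟩
      show lift x y ≫ ⁅_, _⁆ = _
      rw [comp_commutator, lift_fst_assoc, lift_snd]
    · rintro ⟨w, rfl⟩
      refine ⟨_, ⟨w ≫ fst (lowSrc G n) G, rfl⟩, w ≫ snd (lowSrc G n) G, ?_⟩
      rw [Category.assoc]
      exact (comp_commutator w _ _).symm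

theorem closure_eq_bot_iff {T W : C} (f : W ⟶ G) {S : Set (T ⟶ G)} (hS : S = Set.range fun x : T ⟶ W => x ≫ f) :
    Subgroup.closure S = ⊥ ↔ ∀ x : T ⟶ W, x ≫ f = 1 := by
  rw [Subgroup.closure_eq_bot_iff, hS, Set.range_subset_iff]
  exact forall_congr' fun _ => Set.mem_singleton_iff

end Groth.Agent.GrpSchLib.WordSeries

namespace Groth.Agent.GrpSchLib.WordSeries

variable {k : Type u} [Field k] {G : Over (Spec (CommRingCat.of k))} [GrpObj G]

theorem eq_one_of_points {Ω : Type u} [Field Ω] [Algebra k Ω] [IsAlgClosed Ω]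
    {W : Over (Spec (CommRingCat.of k))} [Smooth W.hom] (f : W ⟶ G)
    (h : ∀ s : Over.mk (Spec.map (CommRingCat.ofHom (algebraMap k Ω))) ⟶ W, s ≫ f = 1) : f = 1 := by
  haveI : IsReduced W.left := GrpSchLib.isReduced_of_smooth_field W.hom
  haveI := GrpSchLib.AntiAffine.isSeparated_grp G
  haveI : IsClosedImmersion η[G].left := by
    haveI : IsClosedImmersion (η[G].left ≫ G.hom) := by
      rw [Over.w η[G]]; exact inferInstanceAs (IsClosedImmersion (𝟙 _))
    exact IsClosedImmersion.of_comp η[G].left G.hom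
  obtain ⟨f', hf'⟩ := exists_fac_of_points (K := Ω) f η[G] fun s => ⟨toUnit _, (h s).symm⟩
  rw [← hf', Hom.one_def, toUnit_unique f' (toUnit _)]

theorem smooth_derSrc [Smooth G.hom] : ∀ n : ℕ, Smooth (derSrc G n).hom
  | 0 => ‹Smooth G.hom›
  | n + 1 => by
    haveI := smooth_derSrc n
    exact inferInstanceAs (Smooth (pullback.fst (derSrc G n).hom (derSrc G n).hom ≫ (derSrc G n).hom))

theorem smooth_lowSrc [Smooth G.hom] : ∀ n : ℕ, Smooth (lowSrc G n).hom
  | 0 => ‹Smooth G.hom›
  | n + 1 => by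
    haveI := smooth_lowSrc n
    exact inferInstanceAs (Smooth (pullback.fst (lowSrc G n).hom G.hom ≫ (lowSrc G n).hom))

theorem series_iff [Smooth G.hom] (Ω : Type u) [Field Ω] [Algebra k Ω] [IsAlgClosed Ω] (n : ℕ) :
    ((∀ T : Over (Spec (CommRingCat.of k)), derivedSeries (T ⟶ G) n = ⊥) ↔
      derivedSeries ((Over.mk (Spec.map (CommRingCat.ofHom (algebraMap k Ω)))) ⟶ G) n = ⊥) ∧
    ((∀ T : Over (Spec (CommRingCat.of k)), Subgroup.lowerCentralSeries (⊤ : Subgroup (T ⟶ G)) n = ⊥) ↔
      Subgroup.lowerCentralSeries (⊤ : Subgroup ((Over.mk (Spec.map (CommRingCat.ofHom (algebraMap k Ω)))) ⟶ G)) n = ⊥) := by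
  constructor
  · refine ⟨fun h => h _, fun h T => ?_⟩
    rw [derivedSeries_eq, closure_eq_bot_iff _ (der_eq_range _ n)] at h ⊢
    haveI : Smooth (derSrc G n).hom := smooth_derSrc n
    intro x
    rw [eq_one_of_points (derHom G n) h, MonObj.comp_one]
  · refine ⟨fun h => h _, fun h T => ?_⟩
    rw [lowerCentralSeries_eq, closure_eq_bot_iff _ (low_eq_range _ n)] at h ⊢
    haveI : Smooth (lowSrc G n).hom := smooth_lowSrc n
    intro x
    rw [eq_one_of_points (lowHom G n) h, MonObj.comp_one]

end Groth.Agent.GrpSchLib.WordSeries
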