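import Groth.Agent.GrpSchLib.SubHopf
import Groth.Agent.GrpSchLib.HomClosedRange
import Groth.Agent.GrpSchLib.AffineHopf
import Groth.Agent.S5375
import Mathlib.RingTheory.Jacobson.Ring
import Mathlib.RingTheory.Spectrum.Prime.Topology
import Mathlib.RingTheory.Finiteness.Prod
import Mathlib.AlgebraicGeometry.Morphisms.FiniteType

/-! Rational points of affine group schemes over an algebraically closed field, without finiteness. -/

universe u

open CategoryTheory AlgebraicGeometry TensorProduct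

namespace Groth.Agent.GrpSchLib.ProPoints

variable {k : Type u} [Field k] {A : Type u} [CommRing A] [HopfAlgebra k A]

theorem isHopfSubalgebra_sup {B C : Subalgebra k A} (hB : SGA3.IsHopfSubalgebra k A B)
    (hC : SGA3.IsHopfSubalgebra k A C) : SGA3.IsHopfSubalgebra k A (B ⊔ C) := by
  have hmono : ∀ {D : Subalgebra k A} (hle : D ≤ B ⊔ C),
      LinearMap.range (TensorProduct.map D.val.toLinearMap D.val.toLinearMap) ≤
        LinearMap.range (TensorProduct.map (B ⊔ C).val.toLinearMap (B ⊔ C).val.toLinearMap) := by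
    intro D hle
    rintro _ ⟨z, rfl⟩
    refine ⟨TensorProduct.map (Subalgebra.inclusion hle).toLinearMap (Subalgebra.inclusion hle).toLinearMap z, ?_⟩
    rw [← LinearMap.comp_apply, ← TensorProduct.map_comp]
    rfl
  constructor
  · have h : B ⊔ C ≤ (Algebra.TensorProduct.map (B ⊔ C).val (B ⊔ C).val).range.comap (Bialgebra.comulAlgHom k A) :=
      sup_le (fun b hb => hmono le_sup_left (hB.1 b hb)) (fun c hc => hmono le_sup_right (hC.1 c hc))
    exact fun b hb => h hb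
  · have h : B ⊔ C ≤ (B ⊔ C).comap (HopfAlgebra.antipodeAlgHom k A) :=
      sup_le (fun b hb => le_sup_left (a := B) (hB.2 b hb)) (fun c hc => le_sup_right (a := B) (hC.2 c hc))
    exact fun b hb => h hb

theorem exists_fg_hopf_of_finset (s : Finset A) :
    ∃ B : Subalgebra k A, ↑s ⊆ (B : Set A) ∧ B.FG ∧ SGA3.IsHopfSubalgebra k A B := by
  classical
  induction s using Finset.induction with
  | empty =>
    obtain ⟨B, -, h2, h3⟩ := Groth.Agent.S5375.result k A (0 : A)
    exact ⟨B, by simp, h2, h3⟩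
  | insert x s _ ih =>
    obtain ⟨B, h1, h2, h3⟩ := ih
    obtain ⟨C, g1, g2, g3⟩ := Groth.Agent.S5375.result k A x
    refine ⟨B ⊔ C, ?_, h2.sup g2, isHopfSubalgebra_sup h3 g3⟩
    rw [Finset.coe_insert, Set.insert_subset_iff]
    exact ⟨le_sup_right (a := B) g1, fun y hy => le_sup_left (b := C) (h1 hy)⟩

variable [IsAlgClosed k]

omit [HopfAlgebra k A] in
theorem exists_point_of_ne_top {R : Type u} [CommRing R] [Algebra k R] [Algebra.FiniteType k R] {I : Ideal R}
    (hI : I ≠ ⊤) : ∃ χ : R →ₐ[k] k, ∀ x ∈ I, χ x = 0 := by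
  obtain ⟨m, hm, hIm⟩ := Ideal.exists_le_maximal I hI
  letI := Ideal.Quotient.field m
  haveI : Module.Finite k (R ⧸ m) := finite_of_finite_type_of_isJacobsonRing k (R ⧸ m)
  haveI : Algebra.IsIntegral k (R ⧸ m) := Algebra.IsIntegral.of_finite k (R ⧸ m)
  let e := AlgEquiv.ofBijective (Algebra.ofId k (R ⧸ m))
    (IsAlgClosed.algebraMap_bijective_of_isIntegral (k := k))
  refine ⟨e.symm.toAlgHom.comp (Ideal.Quotient.mkₐ k m), fun x hx => ?_⟩
  show e.symm (Ideal.Quotient.mk m x) = 0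
  rw [Ideal.Quotient.eq_zero_iff_mem.mpr (hIm hx), map_zero]

/-- Points extend along finitely generated Hopf subalgebras. -/
theorem extend_fg {B C : Subalgebra k A} (hB : SGA3.IsHopfSubalgebra k A B) (hC : SGA3.IsHopfSubalgebra k A C)
    (hBf : B.FG) (hCf : C.FG) (hle : B ≤ C) (χ : B →ₐ[k] k) :
    ∃ χ' : C →ₐ[k] k, ∀ b : B, χ' (Subalgebra.inclusion hle b) = χ b := by
  letI := SubHopf.hopf B hB
  letI := SubHopf.hopf C hC
  haveI : Algebra.FiniteType k B := ⟨(Subalgebra.fg_top B).mpr hBf⟩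
  haveI : Algebra.FiniteType k C := ⟨(Subalgebra.fg_top C).mpr hCf⟩
  let i := SubHopf.incl hB hC hle
  let f := AffineHopf.spMap (i : B →ₐ[k] C)
  haveI : LocallyOfFiniteType (AffineHopf.sp k B).hom :=
    (HasRingHomProperty.Spec_iff (P := @LocallyOfFiniteType)).mpr (RingHom.finiteType_algebraMap.mpr inferInstance)
  haveI : LocallyOfFiniteType (AffineHopf.sp k C).hom :=
    (HasRingHomProperty.Spec_iff (P := @LocallyOfFiniteType)).mpr (RingHom.finiteType_algebraMap.mpr inferInstance)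
  haveI : QuasiCompact f.left := inferInstanceAs (QuasiCompact (Spec.map _))
  have hc : IsClosed (Set.range f.left) := HomClosedRange.isClosed_range f
  have hd : DenseRange (PrimeSpectrum.comap (Subalgebra.inclusion hle).toRingHom) := by
    rw [PrimeSpectrum.denseRange_comap_iff_ker_le_nilRadical, (RingHom.injective_iff_ker_eq_bot _).mp]
    · exact bot_le
    · exact Subalgebra.inclusion_injective hle
  have hs : Function.Surjective (PrimeSpectrum.comap (Subalgebra.inclusion hle).toRingHom) := fun p =>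
    hc.closure_eq.subset (hd p)
  have hker : (RingHom.ker χ).IsMaximal :=
    RingHom.ker_isMaximal_of_surjective χ fun c => ⟨algebraMap k _ c, χ.commutes c⟩
  obtain ⟨p, hp⟩ := hs ⟨RingHom.ker χ, hker.isPrime⟩
  obtain ⟨χ', hχ'⟩ := exists_point_of_ne_top (k := k) p.2.ne_top
  refine ⟨χ', fun b => ?_⟩
  have h1 : b - algebraMap k B (χ b) ∈ (PrimeSpectrum.comap (Subalgebra.inclusion hle).toRingHom p).asIdeal := by
    rw [hp]
    simp
  have h2 := hχ' _ h1
  simp only [AlgHom.toRingHom_eq_coe, RingHom.coe_coe, map_sub, AlgHom.commutes, sub_eq_zero] at h2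
  exact h2

/-- Every finite subset lies in a finitely generated Hopf subalgebra inside. -/
def IsApprox (C : Subalgebra k A) : Prop :=
  ∀ s : Finset A, ↑s ⊆ (C : Set A) → ∃ B ≤ C, ↑s ⊆ (B : Set A) ∧ B.FG ∧ SGA3.IsHopfSubalgebra k A B

theorem step {C D : Subalgebra k A} (hC : IsApprox C) (hDf : D.FG) (hD : SGA3.IsHopfSubalgebra k A D)
    (χ : C →ₐ[k] k) : IsApprox (C ⊔ D) ∧ ∃ χ' : (C ⊔ D : Subalgebra k A) →ₐ[k] k,
      ∀ c : C, χ' (Subalgebra.inclusion le_sup_left c) = χ c := by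
  classical
  -- every finite subset of the sup lies in a small sup
  have key : ∀ s : Finset A, ↑s ⊆ ((C ⊔ D : Subalgebra k A) : Set A) →
      ∃ B ≤ C, B.FG ∧ SGA3.IsHopfSubalgebra k A B ∧ ↑s ⊆ ((B ⊔ D : Subalgebra k A) : Set A) := by
    have h1 : ∀ x ∈ C ⊔ D, ∃ B ≤ C, B.FG ∧ SGA3.IsHopfSubalgebra k A B ∧ x ∈ B ⊔ D := by
      intro x hx
      rw [← Algebra.adjoin_eq C, ← Algebra.adjoin_eq D, ← Algebra.adjoin_union] at hx
      induction hx using Algebra.adjoin_induction with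
      | mem y hy =>
        rcases hy with hy | hy
        · obtain ⟨B, hB, hsB, hBf, hBh⟩ := hC {y} (by simpa using hy)
          exact ⟨B, hB, hBf, hBh, le_sup_left (b := D) (hsB (by simp))⟩
        · obtain ⟨B, hB, -, hBf, hBh⟩ := hC ∅ (by simp)
          exact ⟨B, hB, hBf, hBh, le_sup_right (a := B) hy⟩
      | algebraMap r =>
        obtain ⟨B, hB, -, hBf, hBh⟩ := hC ∅ (by simp)
        exact ⟨B, hB, hBf, hBh, Subalgebra.algebraMap_mem _ r⟩
      | add a b _ _ ha hb =>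
        obtain ⟨B, hB, hBf, hBh, ha⟩ := ha
        obtain ⟨B', hB', hBf', hBh', hb⟩ := hb
        exact ⟨B ⊔ B', sup_le hB hB', hBf.sup hBf', isHopfSubalgebra_sup hBh hBh',
          add_mem (sup_le_sup_right le_sup_left D ha) (sup_le_sup_right le_sup_right D hb)⟩
      | mul a b _ _ ha hb =>
        obtain ⟨B, hB, hBf, hBh, ha⟩ := ha
        obtain ⟨B', hB', hBf', hBh', hb⟩ := hb
        exact ⟨B ⊔ B', sup_le hB hB', hBf.sup hBf', isHopfSubalgebra_sup hBh hBh',
          mul_mem (sup_le_sup_right le_sup_left D ha) (sup_le_sup_right le_sup_right D hb)⟩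
    intro s
    induction s using Finset.induction with
    | empty =>
      intro _
      obtain ⟨B, hB, -, hBf, hBh⟩ := hC ∅ (by simp)
      exact ⟨B, hB, hBf, hBh, by simp⟩
    | insert x s _ ih =>
      intro hs
      rw [Finset.coe_insert, Set.insert_subset_iff] at hs
      obtain ⟨B, hB, hBf, hBh, hb⟩ := h1 x hs.1
      obtain ⟨B', hB', hBf', hBh', hb'⟩ := ih hs.2
      refine ⟨B ⊔ B', sup_le hB hB', hBf.sup hBf', isHopfSubalgebra_sup hBh hBh', ?_⟩
      rw [Finset.coe_insert, Set.insert_subset_iff]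
      exact ⟨sup_le_sup_right le_sup_left D hb, fun y hy => sup_le_sup_right le_sup_right D (hb' hy)⟩
  refine ⟨fun s hs => ?_, ?_⟩
  · obtain ⟨B, hB, hBf, hBh, hsB⟩ := key s hs
    exact ⟨B ⊔ D, sup_le_sup_right hB D, hsB, hBf.sup hDf, isHopfSubalgebra_sup hBh hD⟩
  let E : Subalgebra k A := C ⊔ D
  let I : Ideal E := Ideal.span (Set.range fun c : C => Subalgebra.inclusion (le_sup_left : C ≤ E) c - algebraMap k E (χ c))
  have hI : I ≠ ⊤ := by
    intro hI
    have h1 : (1 : E) ∈ I := hI ▸ trivial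
    obtain ⟨a, ha⟩ := Finsupp.mem_ideal_span_range_iff_exists_finsupp.mp h1
    obtain ⟨B, hB, hBf, hBh, hsB⟩ := key (a.support.image fun c => (a c).1) (fun y hy => by
      obtain ⟨c, -, rfl⟩ := Finset.mem_image.mp hy
      exact (a c).2)
    obtain ⟨B', hB', hcB, hBf', hBh'⟩ := hC (a.support.image fun c => c.1) (fun y hy => by
      obtain ⟨c, -, rfl⟩ := Finset.mem_image.mp hy
      exact c.2)
    have hle : B ⊔ B' ≤ C := sup_le hB hB'
    obtain ⟨ψ, hψ⟩ := extend_fg (isHopfSubalgebra_sup hBh hBh') (isHopfSubalgebra_sup (isHopfSubalgebra_sup hBh hBh') hD)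
      (hBf.sup hBf') ((hBf.sup hBf').sup hDf) le_sup_left (χ.comp (Subalgebra.inclusion hle))
    let F : Subalgebra k A := B ⊔ B' ⊔ D
    have hFE : F ≤ E := sup_le_sup_right hle D
    have hterm : ∀ c ∈ a.support, ∃ w : F, Subalgebra.inclusion hFE w =
        a c * (Subalgebra.inclusion (le_sup_left : C ≤ E) c - algebraMap k E (χ c)) ∧ ψ w = 0 := by
      intro c hc
      have hcB' : c.1 ∈ B ⊔ B' := le_sup_right (a := B) (hcB (Finset.mem_coe.mpr (Finset.mem_image.mpr ⟨c, hc, rfl⟩)))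
      have haF : (a c).1 ∈ F := sup_le_sup_right le_sup_left D (hsB (Finset.mem_coe.mpr (Finset.mem_image.mpr ⟨c, hc, rfl⟩)))
      refine ⟨⟨_, haF⟩ * (Subalgebra.inclusion (le_sup_left : B ⊔ B' ≤ F) ⟨c.1, hcB'⟩ - algebraMap k F (χ c)), ?_, ?_⟩
      · rw [map_mul, map_sub, AlgHom.commutes]
        exact congrArg₂ (· * ·) (Subtype.ext rfl) (congrArg₂ (· - ·) (Subtype.ext rfl) rfl)
      rw [map_mul, map_sub, hψ, AlgHom.commutes]
      show _ * (χ c - χ c) = 0
      rw [sub_self, mul_zero]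
    choose w hw hw0 using hterm
    have h2 : (1 : F) = ∑ c ∈ a.support.attach, w c.1 c.2 := by
      apply Subalgebra.inclusion_injective hFE
      rw [map_one, map_sum, ← ha, Finsupp.sum, ← Finset.sum_attach]
      exact Finset.sum_congr rfl fun c _ => (hw c.1 c.2).symm
    have h3 := congrArg ψ h2
    rw [map_one, map_sum, Finset.sum_eq_zero fun c _ => hw0 c.1 c.2] at h3
    exact one_ne_zero h3
  haveI : Algebra.FiniteType k (E ⧸ I) := by
    haveI : Algebra.FiniteType k D := ⟨(Subalgebra.fg_top D).mpr hDf⟩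
    refine Algebra.FiniteType.of_surjective ((Ideal.Quotient.mkₐ k I).comp (Subalgebra.inclusion (le_sup_right : D ≤ E))) ?_
    let π := Ideal.Quotient.mkₐ k I
    let R := (π.comp (Subalgebra.inclusion (le_sup_right : D ≤ E))).range
    have hadj : Algebra.adjoin k ((C : Set A) ∪ D) = E := by
      rw [Algebra.adjoin_union, Algebra.adjoin_eq, Algebra.adjoin_eq]
    have hall : ∀ x (hx' : x ∈ Algebra.adjoin k ((C : Set A) ∪ D)), π ⟨x, hadj.le hx'⟩ ∈ R := by
      intro x hx'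
      induction hx' using Algebra.adjoin_induction with
      | mem y hy =>
        rcases hy with hy | hy
        · have : π ⟨y, le_sup_left (b := D) hy⟩ = algebraMap k _ (χ ⟨y, hy⟩) := by
            rw [← π.commutes, ← sub_eq_zero, ← map_sub]
            exact Ideal.Quotient.eq_zero_iff_mem.mpr (Ideal.subset_span ⟨⟨y, hy⟩, rfl⟩)
          rw [show (⟨y, _⟩ : E) = ⟨y, le_sup_left (b := D) hy⟩ from rfl, this]
          exact Subalgebra.algebraMap_mem _ _
        · exact ⟨⟨y, hy⟩, rfl⟩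
      | algebraMap r =>
        rw [show (⟨algebraMap k A r, _⟩ : E) = algebraMap k E r from rfl, π.commutes]
        exact Subalgebra.algebraMap_mem _ _
      | add a b ha hb iha ihb =>
        rw [show (⟨a + b, _⟩ : E) = ⟨a, hadj.le ha⟩ + ⟨b, hadj.le hb⟩ from rfl, map_add]
        exact add_mem iha ihb
      | mul a b ha hb iha ihb =>
        rw [show (⟨a * b, _⟩ : E) = ⟨a, hadj.le ha⟩ * ⟨b, hadj.le hb⟩ from rfl, map_mul]
        exact mul_mem iha ihb
    intro q
    obtain ⟨⟨x, hx⟩, rfl⟩ := Ideal.Quotient.mk_surjective q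
    exact hall x (hadj.ge hx)
  obtain ⟨χ', hχ'⟩ := exists_point_of_ne_top (k := k) (R := E ⧸ I) (I := ⊥) (by
    have : Nontrivial (E ⧸ I) := Ideal.Quotient.nontrivial_iff.mpr hI
    exact bot_ne_top)
  refine ⟨χ'.comp (Ideal.Quotient.mkₐ k I), fun c => ?_⟩
  show χ' (Ideal.Quotient.mk I (Subalgebra.inclusion (le_sup_left : C ≤ E) c)) = χ c
  rw [show Ideal.Quotient.mk I (Subalgebra.inclusion (le_sup_left : C ≤ E) c) = Ideal.Quotient.mk I (algebraMap k E (χ c)) from
    Ideal.Quotient.eq.mpr (Ideal.subset_span ⟨c, rfl⟩)]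
  exact AlgHom.commutes (χ'.comp (Ideal.Quotient.mkₐ k I)) _

/-- Every point of an approximable subalgebra extends. -/
theorem extend {C : Subalgebra k A} (hC : IsApprox C) (χ : C →ₐ[k] k) :
    ∃ χ' : A →ₐ[k] k, ∀ c : C, χ' c = χ c := by
  classical
  let S : Set (Subalgebra k (A × k)) := {Γ | (∀ c : k, (0, c) ∈ Γ → c = 0) ∧ IsApprox (Γ.map (AlgHom.fst k A k))}
  let Γ₀ : Subalgebra k (A × k) := (C.val.prod χ).range
  have hΓ₀ : Γ₀.map (AlgHom.fst k A k) = C := by
    ext x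
    constructor
    · rintro ⟨_, ⟨c, rfl⟩, rfl⟩
      exact c.2
    · intro hx
      exact ⟨_, ⟨⟨x, hx⟩, rfl⟩, rfl⟩
  have hS₀ : Γ₀ ∈ S := by
    refine ⟨?_, by rw [hΓ₀]; exact hC⟩
    rintro c ⟨z, hz⟩
    have h1 : z = 0 := Subtype.ext (congrArg Prod.fst hz)
    have h2 : χ z = c := congrArg Prod.snd hz
    rw [← h2, h1, map_zero]
  obtain ⟨Γ, hle, hΓmax⟩ := zorn_le_nonempty₀ S (fun ch hch hchain Γ₁ hΓ₁ => by
    haveI : Nonempty ch := ⟨⟨Γ₁, hΓ₁⟩⟩
    have hdir : Directed (· ≤ ·) fun Γ : ch => Γ.1 := hchain.directedOn.directed_val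
    have hmem : ∀ z, z ∈ (⨆ Γ : ch, Γ.1) → ∃ Γ : ch, z ∈ Γ.1 := fun z hz => by
      rw [← SetLike.mem_coe, Subalgebra.coe_iSup_of_directed hdir] at hz
      exact Set.mem_iUnion.mp hz
    refine ⟨⨆ Γ : ch, Γ.1, ⟨fun c hc => ?_, fun s hs => ?_⟩, fun Γ hΓ => le_iSup (fun Γ : ch => Γ.1) ⟨Γ, hΓ⟩⟩
    · obtain ⟨Γ, hΓ⟩ := hmem _ hc
      exact (hch Γ.2).1 c hΓ
    · rw [(Subalgebra.gc_map_comap (AlgHom.fst k A k)).l_iSup] at hs
      have hdir' : Directed (· ≤ ·) fun Γ : ch => Γ.1.map (AlgHom.fst k A k) := fun a b => by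
        obtain ⟨c, h1, h2⟩ := hdir a b
        exact ⟨c, Subalgebra.map_mono h1, Subalgebra.map_mono h2⟩
      rw [Subalgebra.coe_iSup_of_directed hdir'] at hs
      obtain ⟨Γ, hΓ⟩ := hdir'.exists_mem_subset_of_finset_subset_biUnion (s := s) (fun x hx => hs hx)
      obtain ⟨B, hB, h⟩ := (hch Γ.2).2 s hΓ
      exact ⟨B, hB.trans (Subalgebra.map_mono (le_iSup (fun Γ : ch => Γ.1) Γ)), h⟩) Γ₀ hS₀
  obtain ⟨hinj, hΓC⟩ := hΓmax.1
  let p : Γ →ₐ[k] Γ.map (AlgHom.fst k A k) :=
    ((AlgHom.fst k A k).comp Γ.val).codRestrict _ fun z => ⟨z.1, z.2, rfl⟩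
  have hp : Function.Bijective p := by
    refine ⟨fun z w hzw => ?_, fun y => ?_⟩
    · have h1 : z.1.1 = w.1.1 := congrArg Subtype.val hzw
      have h2 := hinj (z.1.2 - w.1.2) (by
        have : z.1 - w.1 = (0, z.1.2 - w.1.2) := Prod.ext (sub_eq_zero.mpr h1) rfl
        rw [← this]
        exact sub_mem z.2 w.2)
      exact Subtype.ext (Prod.ext h1 (sub_eq_zero.mp h2))
    · obtain ⟨z, hz, hzy⟩ := y.2
      exact ⟨⟨z, hz⟩, Subtype.ext hzy⟩
  let P := AlgEquiv.ofBijective p hp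
  let χΓ : Γ.map (AlgHom.fst k A k) →ₐ[k] k := ((AlgHom.snd k A k).comp Γ.val).comp P.symm.toAlgHom
  have hval : ∀ z : Γ, χΓ (p z) = z.1.2 := fun z => by
    show ((P.symm (P z)).1).2 = _
    rw [P.symm_apply_apply]
  have htop : ∀ a : A, a ∈ Γ.map (AlgHom.fst k A k) := by
    intro a
    obtain ⟨D, haD, hDf, hD⟩ := Groth.Agent.S5375.result k A a
    obtain ⟨hE, χ', hχ'⟩ := step hΓC hDf hD χΓ
    let E : Subalgebra k A := Γ.map (AlgHom.fst k A k) ⊔ D
    let Γ' : Subalgebra k (A × k) := (E.val.prod χ').range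
    have hΓ' : Γ' ∈ S := by
      refine ⟨?_, ?_⟩
      · rintro c ⟨z, hz⟩
        have h1 : z = 0 := Subtype.ext (congrArg Prod.fst hz)
        have h2 : χ' z = c := congrArg Prod.snd hz
        rw [← h2, h1, map_zero]
      · have : Γ'.map (AlgHom.fst k A k) = E := by
          ext x
          constructor
          · rintro ⟨_, ⟨c, rfl⟩, rfl⟩
            exact c.2
          · intro hx
            exact ⟨_, ⟨⟨x, hx⟩, rfl⟩, rfl⟩
        rw [this]
        exact hE
    have hle' : Γ ≤ Γ' := fun z hz => by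
      refine ⟨Subalgebra.inclusion le_sup_left (p ⟨z, hz⟩), Prod.ext rfl ?_⟩
      show χ' _ = z.2
      rw [hχ', hval]
    have h2 := hΓmax.2 hΓ' hle' (show ((a, χ' ⟨a, le_sup_right (a := Γ.map (AlgHom.fst k A k)) haD⟩) : A × k) ∈ Γ' from
      ⟨(⟨a, le_sup_right (a := Γ.map (AlgHom.fst k A k)) haD⟩ : E), rfl⟩)
    exact ⟨_, h2, rfl⟩
  let T : A →ₐ[k] Γ.map (AlgHom.fst k A k) := (AlgHom.id k A).codRestrict _ htop
  refine ⟨χΓ.comp T, fun c => ?_⟩
  have hc : ((c : A), χ c) ∈ Γ := hle ⟨c, rfl⟩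
  show χΓ (T c) = χ c
  rw [show T c = p ⟨_, hc⟩ from rfl, hval]

end Groth.Agent.GrpSchLib.ProPoints
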