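import Groth.Prelude.Def_CartDual

/-! Separation of elements of `A` and `A ⊗ A` by the dual of a finite projective bialgebra. -/

open TensorProduct

namespace Groth.Agent.GrpSchLib

universe u v

variable {R : Type u} [CommRing R] {A : Type v} [Ring A] [Bialgebra R A] [Module.Finite R A] [Module.Projective R A]

theorem eq_of_forall_form {x y : A} (h : ∀ φ : CartDual.D R A, φ x = φ y) : x = y := by
  rw [← sub_eq_zero, ← Module.forall_dual_apply_eq_zero_iff R]
  intro φ
  rw [map_sub, sub_eq_zero]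
  exact h (WithConv.toConv φ)

theorem eq_of_forall_ev₂ {s t : A ⊗[R] A}
    (h : ∀ φ ψ : CartDual.D R A, CartDual.ev₂ R A (φ ⊗ₜ ψ) s = CartDual.ev₂ R A (φ ⊗ₜ ψ) t) : s = t := by
  rw [← sub_eq_zero, ← Module.forall_dual_apply_eq_zero_iff R]
  intro φ
  obtain ⟨z, rfl⟩ := (CartDual.ev₂ R A).surjective φ
  rw [map_sub, sub_eq_zero]
  induction z using TensorProduct.induction_on with
  | zero => simp
  | tmul a b => exact h a b
  | add a b ha hb => simp only [map_add, LinearMap.add_apply, ha, hb]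

theorem convMul_eq_ev₂ (φ ψ : CartDual.D R A) (x : A) :
    (φ * ψ) x = CartDual.ev₂ R A (φ ⊗ₜ ψ) (Coalgebra.comul x) := by
  rw [CartDual.ev₂_tmul_eq', LinearMap.convMul_apply]
  rfl

theorem existsUnique_eval (f : CartDual.D R A →ₗ[R] R) : ∃! x : A, ∀ φ : CartDual.D R A, f φ = φ x := by
  obtain ⟨x, hx⟩ := (Module.bijective_dual_eval R A).2 (f ∘ₗ (CartDual.toDual R A).symm.toLinearMap)
  have hx' : ∀ φ : CartDual.D R A, f φ = φ x := fun φ =>
    (LinearMap.congr_fun hx φ.ofConv).symm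
  exact ⟨x, hx', fun y hy => eq_of_forall_form fun φ => (hy φ).symm.trans (hx' φ)⟩

end Groth.Agent.GrpSchLib
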