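import Groth.Agent.GrpSchLib.PrimeClassify
import Groth.Agent.S11928
import Groth.Agent.S11929
import Mathlib.RingTheory.Nakayama
import Mathlib.RingTheory.HopfAlgebra.Quotient
import Mathlib.RingTheory.Coalgebra.GroupLike
import Mathlib.GroupTheory.SpecificGroups.Cyclic

/-! Simple finite commutative group schemes over fields. -/

open TensorProduct WithConv

namespace Groth.Agent.GrpSchLib

universe u v

variable {k : Type u} [Field k] {A : Type v} [CommRing A] [HopfAlgebra k A]

theorem exists_primitive_of_isLocalRing_dual [Coalgebra.IsCocomm k A] [Module.Finite k A] (hA : 1 < Module.finrank k A)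
    (hloc : IsLocalRing (CartDual.D k A)) :
    ∃ x : A, x ≠ 0 ∧ Coalgebra.comul x = x ⊗ₜ[k] (1 : A) + (1 : A) ⊗ₜ[k] x := by
  classical
  haveI := hloc
  let ε : CartDual.D k A →ₐ[k] k := Bialgebra.counitAlgHom k (CartDual.D k A)
  have hε : ∀ φ : CartDual.D k A, ε φ = φ 1 := fun _ => rfl
  let m := RingHom.ker ε
  haveI : IsNoetherianRing (CartDual.D k A) := IsNoetherianRing.of_finite k _
  have hm : m ≤ IsLocalRing.maximalIdeal _ := IsLocalRing.le_maximalIdeal (RingHom.ker_ne_top ε)
  have hm0 : m ≠ ⊥ := by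
    intro h
    have hinj : Function.Injective ε.toLinearMap := (RingHom.injective_iff_ker_eq_bot ε).mpr h
    have := LinearMap.finrank_le_finrank_of_injective hinj
    rw [Module.finrank_self, (CartDual.toDual k A).finrank_eq, Subspace.dual_finrank_eq] at this
    omega
  obtain ⟨z, hzm, hz⟩ : ∃ z ∈ m, z ∉ m * m := by
    by_contra hcon
    push Not at hcon
    refine hm0 (Submodule.eq_bot_of_le_smul_of_le_jacobson_bot m m (IsNoetherian.noetherian m) (fun z hz => ?_) ?_)
    · simpa [smul_eq_mul] using hcon z hz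
    · rw [IsLocalRing.jacobson_eq_maximalIdeal ⊥ bot_ne_top]
      exact hm
  have hz' : z ∉ Submodule.span k {(1 : CartDual.D k A)} ⊔ (m * m).restrictScalars k := by
    intro hmem
    obtain ⟨b, hb, c, hc, rfl⟩ := Submodule.mem_sup.mp hmem
    obtain ⟨r, rfl⟩ := Submodule.mem_span_singleton.mp hb
    replace hc : c ∈ m * m := hc
    have hc' : ε c = 0 := Ideal.mul_le_right (I := m) (J := m) hc
    have h0 : ε (r • 1 + c) = 0 := hzm
    rw [map_add, map_smul, map_one, hc', add_zero, smul_eq_mul, _root_.mul_one] at h0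
    rw [h0, zero_smul, zero_add] at hz
    exact hz hc
  obtain ⟨f, hfz, hf⟩ := Submodule.exists_dual_map_eq_bot_of_notMem hz' inferInstance
  have hf' : ∀ w ∈ Submodule.span k {(1 : CartDual.D k A)} ⊔ (m * m).restrictScalars k, f w = 0 := fun w hw => by
    have : f w ∈ (⊥ : Submodule k k) := hf ▸ ⟨w, hw, rfl⟩
    simpa using this
  have hder : ∀ φ ψ : CartDual.D k A, f (φ * ψ) = f φ * ψ 1 + φ 1 * f ψ := by
    intro φ ψ
    have hmem : (φ - ε φ • 1) * (ψ - ε ψ • 1) ∈ m * m := Ideal.mul_mem_mul (by simp [m]) (by simp [m])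
    have h := hf' _ (Submodule.mem_sup_right hmem)
    rw [show (φ - ε φ • (1 : CartDual.D k A)) * (ψ - ε ψ • 1) = φ * ψ - ε φ • ψ - ε ψ • φ + (ε φ * ε ψ) • 1 by
      simp only [Algebra.smul_def, map_mul]; ring] at h
    simp only [map_add, map_sub, map_smul, hf' 1 (Submodule.mem_sup_left (Submodule.mem_span_singleton_self 1)),
      smul_eq_mul, mul_zero, add_zero] at h
    rw [← hε, ← hε]
    linear_combination h
  obtain ⟨x, ⟨hx, hxe⟩, -⟩ := (S11929.result k A).1 f hder
  exact ⟨x, fun h => hfz (by rw [hxe, h]; simp), hx⟩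

theorem counit_primitive {x : A} (hx : Coalgebra.comul x = x ⊗ₜ[k] (1 : A) + (1 : A) ⊗ₜ[k] x) :
    Coalgebra.counit (R := k) x = 0 := by
  have h := Coalgebra.rTensor_counit_comul (R := k) x
  rw [hx, map_add, LinearMap.rTensor_tmul, LinearMap.rTensor_tmul, Bialgebra.counit_one] at h
  have h2 := congrArg (fun t => Coalgebra.counit (R := k) (TensorProduct.lid k A t)) h
  simp at h2
  linear_combination h2

theorem antipode_primitive {x : A} (hx : Coalgebra.comul x = x ⊗ₜ[k] (1 : A) + (1 : A) ⊗ₜ[k] x) :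
    HopfAlgebra.antipode k x = -x := by
  have h := HopfAlgebra.mul_antipode_rTensor_comul_apply (R := k) x
  rw [hx, counit_primitive hx, map_zero] at h
  simp [HopfAlgebra.antipode_one] at h
  exact eq_neg_of_add_eq_zero_left h

theorem isHopfIdeal_span_singleton {x : A} (hε : Coalgebra.counit (R := k) x = 0)
    (hS : HopfAlgebra.antipode k x ∈ Ideal.span ({x} : Set A))
    (hΔ : Algebra.TensorProduct.map (Ideal.Quotient.mkₐ k (Ideal.span ({x} : Set A)))
      (Ideal.Quotient.mkₐ k (Ideal.span ({x} : Set A))) (Coalgebra.comul x) = 0) :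
    (Ideal.span ({x} : Set A)).IsHopfIdeal k := by
  let I := Ideal.span ({x} : Set A)
  refine @Ideal.IsHopfIdeal.mk _ _ _ _ _ I ⟨fun z hz => ?_, fun z hz => ?_⟩ fun z hz => ?_
  · obtain ⟨a, rfl⟩ := Ideal.mem_span_singleton'.mp hz
    rw [Bialgebra.counit_mul, hε, mul_zero]
  · obtain ⟨a, rfl⟩ := Ideal.mem_span_singleton'.mp hz
    show Algebra.TensorProduct.map (Ideal.Quotient.mkₐ k I) (Ideal.Quotient.mkₐ k I) (Coalgebra.comul (a * x)) = 0
    rw [Bialgebra.comul_mul, map_mul, hΔ, mul_zero]
  · obtain ⟨a, rfl⟩ := Ideal.mem_span_singleton'.mp hz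
    rw [HopfAlgebra.antipode_mul]
    first | exact Ideal.mul_mem_right _ _ hS | exact Ideal.mul_mem_left _ _ hS

theorem isHopfIdeal_span_primitive {x : A} (hx : Coalgebra.comul x = x ⊗ₜ[k] (1 : A) + (1 : A) ⊗ₜ[k] x) :
    (Ideal.span ({x} : Set A)).IsHopfIdeal k := by
  refine isHopfIdeal_span_singleton (counit_primitive hx) ?_ ?_
  · rw [antipode_primitive hx]
    exact neg_mem (Ideal.mem_span_singleton_self x)
  · have h0 : Ideal.Quotient.mkₐ k (Ideal.span ({x} : Set A)) x = 0 :=
      Ideal.Quotient.eq_zero_iff_mem.mpr (Ideal.mem_span_singleton_self x)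
    rw [hx, map_add, Algebra.TensorProduct.map_tmul, Algebra.TensorProduct.map_tmul, h0, zero_tmul, tmul_zero, add_zero]

theorem isHopfIdeal_span_groupLike_sub_one {g : A} (hg : IsGroupLikeElem k g) :
    (Ideal.span ({g - 1} : Set A)).IsHopfIdeal k := by
  refine isHopfIdeal_span_singleton (by simp [hg.counit_eq_one]) ?_ ?_
  · have h := HopfAlgebra.mul_antipode_rTensor_comul_apply (R := k) g
    rw [hg.comul_eq_tmul_self, hg.counit_eq_one] at h
    simp at h
    rw [map_sub, HopfAlgebra.antipode_one]
    exact Ideal.mem_span_singleton'.mpr ⟨-HopfAlgebra.antipode k g, by linear_combination -h⟩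
  · have h1 : Ideal.Quotient.mkₐ k (Ideal.span ({g - 1} : Set A)) g = 1 := by
      rw [← map_one (Ideal.Quotient.mkₐ k (Ideal.span ({g - 1} : Set A)))]
      exact Ideal.Quotient.eq.mpr (Ideal.mem_span_singleton_self _)
    rw [map_sub (Coalgebra.comul (R := k)), hg.comul_eq_tmul_self, Bialgebra.comul_one, map_sub, map_one,
      Algebra.TensorProduct.map_tmul, h1, ← Algebra.TensorProduct.one_def, sub_self]

theorem span_pow_eq_top {x : A} {p : ℕ} (hm : ∀ a : A, Coalgebra.counit (R := k) a = 0 → a ∈ Ideal.span ({x} : Set A))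
    (hxp : x ^ p = 0) : Submodule.span k (Set.range fun i : Fin p => x ^ (i : ℕ)) = ⊤ := by
  refine eq_top_iff.mpr fun a _ => ?_
  have key : ∀ n, ∀ a : A, ∃ b : A, a - x ^ n * b ∈ Submodule.span k (Set.range fun i : Fin n => x ^ (i : ℕ)) := by
    intro n
    induction n with
    | zero => exact fun a => ⟨a, by simp⟩
    | succ n ih =>
      intro a
      obtain ⟨b, hb⟩ := ih a
      obtain ⟨b', hb'⟩ := Ideal.mem_span_singleton'.mp (hm (b - Coalgebra.counit (R := k) b • 1) (by simp))
      refine ⟨b', ?_⟩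
      have e : a - x ^ (n + 1) * b' = (a - x ^ n * b) + Coalgebra.counit (R := k) b • x ^ n := by
        rw [pow_succ, Algebra.smul_def] at *
        linear_combination -(x ^ n) * hb'
      rw [e]
      refine add_mem ?_ (Submodule.smul_mem _ _ (Submodule.subset_span ⟨Fin.last n, by simp⟩))
      refine Submodule.span_mono ?_ hb
      rintro _ ⟨i, rfl⟩
      exact ⟨i.castSucc, by simp⟩
  obtain ⟨b, hb⟩ := key p a
  simpa [hxp] using hb

theorem linearIndependent_pow_primitive (p : ℕ) [Fact p.Prime] [CharP k p] {x : A}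
    (hx : Coalgebra.comul x = x ⊗ₜ[k] (1 : A) + (1 : A) ⊗ₜ[k] x) (hx0 : x ≠ 0) [Module.Finite k A] :
    LinearIndependent k (fun i : Fin p => x ^ (i : ℕ)) := by
  classical
  obtain ⟨φ₀, hφ₀⟩ : ∃ φ : Module.Dual k A, φ x ≠ 0 := by
    by_contra h
    push Not at h
    exact hx0 ((Module.forall_dual_apply_eq_zero_iff k x).mp h)
  let φ : CartDual.D k A := toConv (φ₀ - φ₀ 1 • (Coalgebra.counit (R := k) : A →ₗ[k] k))
  have hφ1 : φ.ofConv 1 = 0 := by simp [φ]
  have hφx : φ.ofConv x ≠ 0 := by simpa [φ, counit_primitive hx] using hφ₀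
  have hD : ∀ n, formOp φ (x ^ n) = ∑ j ∈ Finset.range n, ((n.choose j : k) * φ.ofConv (x ^ (n - j))) • x ^ j := by
    intro n
    have hc : Commute (x ⊗ₜ[k] (1 : A)) ((1 : A) ⊗ₜ[k] x) := Commute.all _ _
    rw [formOp_apply, Bialgebra.comul_pow, hx, hc.add_pow, map_sum, map_sum, Finset.sum_range_succ, Nat.sub_self,
      pow_zero, _root_.mul_one, Nat.choose_self, Nat.cast_one, _root_.mul_one, Algebra.TensorProduct.tmul_pow, one_pow]
    simp only [LinearMap.lTensor_tmul, TensorProduct.rid_tmul, hφ1, zero_smul, add_zero]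
    refine Finset.sum_congr rfl fun j _ => ?_
    rw [Algebra.TensorProduct.tmul_pow, Algebra.TensorProduct.tmul_pow, one_pow, one_pow,
      Algebra.TensorProduct.tmul_mul_tmul, _root_.mul_one, _root_.one_mul, ← nsmul_eq_mul', map_nsmul,
      map_nsmul, LinearMap.lTensor_tmul, TensorProduct.rid_tmul, ← smul_assoc, nsmul_eq_mul]
  have H : ∀ n ≤ p, ∀ c : ℕ → k, ∑ i ∈ Finset.range n, c i • x ^ i = 0 → ∀ i < n, c i = 0 := by
    intro n
    induction n with
    | zero => intro _ c _ i hi; omega
    | succ n ih =>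
      intro hn c hc
      suffices hcn : c n = 0 by
        intro i hi
        rw [Finset.sum_range_succ, hcn, zero_smul, add_zero] at hc
        rcases Nat.lt_succ_iff_lt_or_eq.mp hi with h | h
        · exact ih (by omega) c hc i h
        · exact h ▸ hcn
      rcases Nat.eq_zero_or_pos n with rfl | hpos
      · have := congrArg (Coalgebra.counit (R := k)) hc
        simpa using this
      have h := congrArg (formOp φ) hc
      simp only [map_sum, map_smul, map_zero, hD, Finset.smul_sum, smul_smul] at h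
      rw [Finset.sum_comm' (t' := Finset.range n) (s' := fun j => Finset.Ioc j n) (by
        intro i j; simp only [Finset.mem_range, Finset.mem_Ioc]; omega)] at h
      simp only [← Finset.sum_smul] at h
      have h2 := ih (by omega) _ h (n - 1) (by omega)
      rw [show Finset.Ioc (n - 1) n = {n} by ext; simp only [Finset.mem_Ioc, Finset.mem_singleton]; omega,
        Finset.sum_singleton, show n - (n - 1) = 1 by omega, pow_one,
        show n.choose (n - 1) = n by
          rw [Nat.choose_symm (by omega : 1 ≤ n), Nat.choose_one_right]] at h2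
      have hn0 : (n : k) ≠ 0 := by
        rw [Ne, CharP.cast_eq_zero_iff k p]
        exact fun hd => by have := Nat.le_of_dvd hpos hd; omega
      simpa [hn0, hφx] using h2
  rw [Fintype.linearIndependent_iff]
  intro g hg i
  have := H p le_rfl (fun j => if h : j < p then g ⟨j, h⟩ else 0)
    (by rw [← Fin.sum_univ_eq_sum_range]; simpa [Fin.is_lt] using hg) i i.2
  simpa [i.2] using this

theorem linearIndependent_pow_groupLike (p : ℕ) [Fact p.Prime] {g : A} (hg : IsGroupLikeElem k g) (hg1 : g ≠ 1)
    (hgp : g ^ p = 1) : LinearIndependent k (fun i : Fin p => g ^ (i : ℕ)) := by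
  have hord : orderOf g = p := orderOf_eq_prime hgp hg1
  have h := linearIndepOn_isGroupLikeElem (R := k) (A := A)
  refine h.comp (fun i : Fin p => (⟨g ^ (i : ℕ), hg.pow⟩ : {a : A | IsGroupLikeElem k a})) fun i j hij => ?_
  have hij' : g ^ (i : ℕ) = g ^ (j : ℕ) := congrArg Subtype.val hij
  exact Fin.ext (pow_injOn_Iio_orderOf (by rw [Set.mem_Iio, hord]; exact i.2) (by rw [Set.mem_Iio, hord]; exact j.2) hij')

/-- The points of a reduced finite algebra separate and interpolate. -/
theorem eval_bijective_of_isReduced [IsAlgClosed k] [Module.Finite k A] [IsReduced A] :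
    Finite (WithConv (A →ₐ[k] k)) ∧
      Function.Bijective fun (a : A) (g : WithConv (A →ₐ[k] k)) => g.ofConv a := by
  classical
  let G := WithConv (A →ₐ[k] k)
  haveI : IsArtinianRing A := IsArtinianRing.of_finite k A
  have hli : LinearIndependent k (fun g : G => g.ofConv.toLinearMap) := by
    rw [linearIndependent_iff']
    intro s c hc i hi
    have h := (linearIndependent_monoidHom A k).comp (fun g : G => (g.ofConv : A →* k))
      (fun g h e => WithConv.ofConv_injective (AlgHom.ext fun a => DFunLike.congr_fun e a))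
    refine (linearIndependent_iff'.mp h) s c (funext fun a => ?_) i hi
    have := LinearMap.congr_fun hc a
    simpa using this
  haveI : Finite G := hli.finite
  haveI : Fintype G := Fintype.ofFinite G
  have hle : Fintype.card G ≤ Module.finrank k A :=
    hli.fintype_card_le_finrank.trans Subspace.dual_finrank_eq.le
  let ev : A →ₗ[k] G → k := LinearMap.pi fun g => g.ofConv.toLinearMap
  have hinj : Function.Injective ev := by
    rw [injective_iff_map_eq_zero]
    intro a ha
    refine IsReduced.eq_zero a (mem_nilradical.mp ?_)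
    rw [nilradical_eq_sInf, Ideal.mem_sInf]
    intro J hJ
    haveI : J.IsPrime := hJ
    haveI : Algebra.IsIntegral k (A ⧸ J) := Algebra.IsIntegral.of_finite k _
    let e := AlgEquiv.ofBijective (Algebra.ofId k (A ⧸ J)) IsAlgClosed.algebraMap_bijective_of_isIntegral
    have := congrFun ha (toConv ((e.symm : (A ⧸ J) →ₐ[k] k).comp (Ideal.Quotient.mkₐ k J)))
    exact Ideal.Quotient.eq_zero_iff_mem.mp ((map_eq_zero_iff _ e.symm.injective).mp this)
  refine ⟨inferInstance, hinj, ?_⟩
  refine (LinearMap.injective_iff_surjective_of_finrank_eq_finrank ?_ (f := ev)).mp hinj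
  have := LinearMap.finrank_le_finrank_of_injective hinj
  rw [Module.finrank_pi] at this ⊢
  omega

theorem isHopfIdeal_ker {T : Type*} [CommRing T] [Bialgebra k T] (f : A →ₐc[k] T)
    (hS : ∀ a, f a = 0 → f (HopfAlgebra.antipode k a) = 0) :
    (RingHom.ker (f : A →ₐ[k] T)).IsHopfIdeal k := by
  let I := RingHom.ker (f : A →ₐ[k] T)
  refine @Ideal.IsHopfIdeal.mk _ _ _ _ _ I ⟨fun z hz => ?_, fun z hz => ?_⟩ fun z hz => hS z hz
  · have hz' : f z = 0 := hz
    rw [← CoalgHomClass.counit_comp_apply f z, hz', map_zero]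
  · have hz' : f z = 0 := hz
    let ι := (I.restrictScalars k).liftQ (f : A →ₐ[k] T).toLinearMap (fun a ha => ha)
    have hι : Function.Injective ι := by
      rw [← LinearMap.ker_eq_bot]
      exact Submodule.ker_liftQ_eq_bot _ _ _ fun a ha => ha
    have h := CoalgHomClass.map_comp_comul_apply f z
    rw [hz', map_zero] at h
    refine TensorProduct.map_injective_of_flat_flat ι ι hι hι ?_
    rw [map_zero]
    refine Eq.trans ?_ h
    induction Coalgebra.comul (R := k) z using TensorProduct.induction_on with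
    | zero => simp
    | tmul a b => simp [ι]
    | add s t hs ht => simp only [map_add, hs, ht]

end Groth.Agent.GrpSchLib
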