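import Mathlib.RingTheory.HopfAlgebra.Convolution
import Mathlib.RingTheory.Ideal.GoingUp
import Mathlib.RingTheory.TensorProduct.Finite
import Mathlib.RingTheory.Jacobson.Ideal
import Mathlib.RingTheory.Unramified.Finite

/-! Idempotents and the local unit component of a finite algebra over a local ring. -/

open TensorProduct

namespace Groth.Agent.GrpSchLib.HenselComp

theorem eq_one_of_idem_jacobson {T : Type*} [CommRing T] {E : T} (hE : IsIdempotentElem E)
    (h : E - 1 ∈ (⊥ : Ideal T).jacobson) : E = 1 := by
  have hu : IsUnit E := by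
    have := Ideal.mem_jacobson_bot.1 h 1
    simpa using this
  exact hu.mul_left_cancel (hE.eq.trans (_root_.mul_one E).symm)

theorem eq_one_of_idem_local {T C : Type*} [CommRing T] [IsLocalRing T] [CommRing C] [Nontrivial C] {E : T}
    (hE : IsIdempotentElem E) (f : T →+* C) (h : f E = 1) : E = 1 := by
  rcases IsLocalRing.isUnit_or_isUnit_one_sub_self E with hu | hu
  · exact hu.mul_left_cancel (hE.eq.trans (_root_.mul_one E).symm)
  · have h0 : E = 0 := (hu.mul_left_eq_zero).1 (by rw [mul_sub, _root_.mul_one, hE.eq, sub_self])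
    rw [h0, map_zero] at h
    exact absurd h zero_ne_one

variable {R : Type*} [CommRing R] [IsLocalRing R] {A : Type*} [CommRing A] [Algebra R A] [Module.Finite R A]
variable {B : Type*} [CommRing B] [IsLocalRing B] [Algebra R B] [Module.Finite R B]

theorem includeRight_mem_jacobson {n : B} (hn : n ∈ IsLocalRing.maximalIdeal B) :
    (1 : A) ⊗ₜ[R] n ∈ (⊥ : Ideal (A ⊗[R] B)).jacobson := by
  haveI : Algebra.IsIntegral R (A ⊗[R] B) := Algebra.IsIntegral.of_finite R (A ⊗[R] B)
  refine Submodule.mem_sInf.2 fun (M : Ideal (A ⊗[R] B)) ⟨_, hM⟩ => ?_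
  haveI := hM
  let φ : B →ₐ[R] A ⊗[R] B := Algebra.TensorProduct.includeRight
  have hmax : (M.comap φ).IsMaximal := by
    refine Ideal.isMaximal_of_isIntegral_of_isMaximal_comap (R := R) _ ?_
    rw [show (M.comap φ).comap (algebraMap R B) = M.comap (algebraMap R (A ⊗[R] B)) from
      Ideal.ext fun r => by simp [Ideal.mem_comap]]
    exact Ideal.isMaximal_comap_of_isIntegral_of_isMaximal M
  rw [← IsLocalRing.eq_maximalIdeal hmax] at hn
  exact hn

/-- An idempotent of `A ⊗ B` which becomes `1` at a rational point of the local algebra `B` is `1`. -/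
theorem eq_one_of_idem_tensor (εB : B →ₐ[R] R) {E : A ⊗[R] B} (hE : IsIdempotentElem E)
    (h : Algebra.TensorProduct.map (AlgHom.id R A) εB E = 1) : E = 1 := by
  let L : A ⊗[R] B →ₐ[R] A ⊗[R] B :=
    Algebra.TensorProduct.map (AlgHom.id R A) ((Algebra.ofId R B).comp εB)
  have key : ∀ z : A ⊗[R] B, z - L z ∈ (⊥ : Ideal (A ⊗[R] B)).jacobson := by
    intro z
    induction z using TensorProduct.induction_on with
    | zero => simp
    | add a b ha hb => rw [map_add, add_sub_add_comm]; exact add_mem ha hb
    | tmul a b =>
      have hb : b - algebraMap R B (εB b) ∈ IsLocalRing.maximalIdeal B :=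
        IsLocalRing.le_maximalIdeal (RingHom.ker_ne_top εB) (by simp [RingHom.mem_ker])
      have := Ideal.mul_mem_left _ (a ⊗ₜ[R] (1 : B)) (includeRight_mem_jacobson (A := A) hb)
      rw [Algebra.TensorProduct.tmul_mul_tmul, _root_.mul_one, _root_.one_mul, TensorProduct.tmul_sub] at this
      simpa [L] using this
  have hL : L E = 1 := by
    have : L = (Algebra.TensorProduct.map (AlgHom.id R A) (Algebra.ofId R B)).comp
        (Algebra.TensorProduct.map (AlgHom.id R A) εB) := by
      rw [← Algebra.TensorProduct.map_comp]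
      rfl
    rw [this, AlgHom.comp_apply, h, map_one]
  exact eq_one_of_idem_jacobson hE (hL ▸ key E)

end Groth.Agent.GrpSchLib.HenselComp

namespace Groth.Agent.GrpSchLib.HenselComp

open Algebra.FormallyUnramified in
/-- Two points of an unramified algebra in a local algebra which agree at a rational point are equal. -/
theorem eq_of_unramified {R C B : Type*} [CommRing R] [Nontrivial R] [CommRing C] [Algebra R C]
    [Algebra.FormallyUnramified R C] [Algebra.EssFiniteType R C] [CommRing B] [IsLocalRing B] [Algebra R B]
    (εB : B →ₐ[R] R) (f g : C →ₐ[R] B) (h : εB.comp f = εB.comp g) : f = g := by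
  let L : C ⊗[R] C →ₐ[R] B := Algebra.TensorProduct.lift f g fun _ _ => Commute.all _ _
  have hid : IsIdempotentElem (elem R C) := by
    have key : ∀ z : C ⊗[R] C, z * elem R C = (Algebra.TensorProduct.lmul' R z ⊗ₜ[R] (1 : C)) * elem R C := by
      intro z
      induction z using TensorProduct.induction_on with
      | zero => simp
      | add a b ha hb => rw [add_mul, map_add, TensorProduct.add_tmul, add_mul, ha, hb]
      | tmul a b =>
        rw [show a ⊗ₜ[R] b = (a ⊗ₜ[R] (1 : C)) * ((1 : C) ⊗ₜ[R] b) by simp, _root_.mul_assoc, one_tmul_mul_elem,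
          ← _root_.mul_assoc]
        simp
    have := key (elem R C)
    rwa [lmul_elem, ← Algebra.TensorProduct.one_def, _root_.one_mul] at this
  have hE : L (elem R C) = 1 := by
    refine eq_one_of_idem_local (hid.map L) εB.toRingHom ?_
    have : εB.comp L = (εB.comp f).comp (Algebra.TensorProduct.lmul' R) := by
      apply Algebra.TensorProduct.ext'
      intro a b
      have hb : εB (g b) = εB (f b) := (DFunLike.congr_fun h b).symm
      simp [L, hb]
    show (εB.comp L) (elem R C) = 1
    rw [this, AlgHom.comp_apply, lmul_elem, map_one]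
  ext c
  have := congrArg L (one_tmul_sub_tmul_one_mul_elem (R := R) c)
  rw [map_mul, map_sub, hE, map_zero, _root_.mul_one] at this
  simp [L] at this
  exact (sub_eq_zero.1 this).symm

end Groth.Agent.GrpSchLib.HenselComp
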