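import Groth.Agent.GrpSchLib.HopfDifferential
import Mathlib.RingTheory.Unramified.Basic
import Mathlib.RingTheory.Kaehler.Basic
import Mathlib.RingTheory.Ideal.Cotangent
import Mathlib.RingTheory.Smooth.Fiber
import Mathlib.RingTheory.Flat.FaithfullyFlat.Algebra
import Mathlib.RingTheory.Ideal.GoingUp
import Mathlib.RingTheory.Nakayama
import Mathlib.RingTheory.Localization.Away.Lemmas
import Mathlib.RingTheory.Flat.Localization
import Mathlib.RingTheory.Flat.Stability
import Mathlib.RingTheory.LocalRing.RingHom.Basic

/-! Unramified Hopf algebras via the augmentation ideal, and extensions of finite flat groups. -/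

set_option autoImplicit false

universe u v

open TensorProduct WithConv

namespace Groth.Agent.GrpSchLib.HopfExt

variable {R : Type u} [CommRing R]

/-- The kernel of a retraction of an unramified algebra is idempotent. -/
theorem ker_le_sq_of_unramified {B : Type v} [CommRing B] [Algebra R B] [Algebra.FormallyUnramified R B]
    (ε : B →ₐ[R] R) : RingHom.ker ε ≤ RingHom.ker ε ^ 2 := by
  intro x hx
  let Q := B ⧸ RingHom.ker ε ^ 2
  let m : Ideal Q := (RingHom.ker ε).map (Ideal.Quotient.mk _)
  have hm : m ^ 2 = ⊥ := by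
    rw [← Ideal.map_pow, Ideal.map_quotient_self]
  have h : Ideal.Quotient.mkₐ R (RingHom.ker ε ^ 2) = (Algebra.ofId R Q).comp ε := by
    refine Algebra.FormallyUnramified.comp_injective m hm (AlgHom.ext fun b => ?_)
    show Ideal.Quotient.mk m (Ideal.Quotient.mk _ b) = Ideal.Quotient.mk m (algebraMap R Q (ε b))
    rw [Ideal.Quotient.eq, IsScalarTower.algebraMap_apply R B Q, Ideal.Quotient.algebraMap_eq, ← map_sub]
    exact Ideal.mem_map_of_mem _ (by simp [RingHom.mem_ker])
  have h2 := AlgHom.congr_fun h x
  rw [AlgHom.comp_apply, RingHom.mem_ker.1 hx, map_zero, Ideal.Quotient.mkₐ_eq_mk,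
    Ideal.Quotient.eq_zero_iff_mem] at h2
  exact h2

/-- A Hopf algebra with idempotent augmentation ideal is unramified. -/
theorem formallyUnramified_of_aug {A : Type v} [CommRing A] [HopfAlgebra R A]
    (h : RingHom.ker (Bialgebra.counitAlgHom R A) ≤ RingHom.ker (Bialgebra.counitAlgHom R A) ^ 2) :
    Algebra.FormallyUnramified R A := by
  haveI : Subsingleton (RingHom.ker (Bialgebra.counitAlgHom R A)).Cotangent :=
    (Ideal.cotangent_subsingleton_iff _).2 (le_antisymm Ideal.mul_le_right (by rwa [pow_two] at h))
  let π : A →ₗ[R] (RingHom.ker (Bialgebra.counitAlgHom R A)).Cotangent := 0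
  obtain ⟨l, hl, -⟩ := existsUnique_lift π (fun _ => Subsingleton.elim _ _) rfl (KaehlerDifferential.D R A)
  have hD : ∀ a : A, KaehlerDifferential.D R A a = 0 := by
    intro a
    show (KaehlerDifferential.D R A).toLinearMap a = 0
    rw [← convAct_id_antipode (R := R) (KaehlerDifferential.D R A).toLinearMap, ← hl]
    simp [π, convAct]
  refine ⟨⟨fun x y => ?_⟩⟩
  have hz : ∀ z : Ω[A⁄R], z = 0 := fun z => by
    have hz : z ∈ Submodule.span A (Set.range (KaehlerDifferential.D R A)) := by
      rw [KaehlerDifferential.span_range_derivation]; trivial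
    induction hz using Submodule.span_induction with
    | mem w hw => obtain ⟨a, rfl⟩ := hw; exact hD a
    | zero => rfl
    | add a b _ _ ha hb => rw [ha, hb, add_zero]
    | smul c a _ ha => rw [ha, smul_zero]
  rw [hz x, hz y]

section Ext

variable {A A'' : Type v} [CommRing A] [CommRing A''] [HopfAlgebra R A] [HopfAlgebra R A'']
  [Algebra A'' A] [IsScalarTower R A'' A]

/-- `A → R` on the kernel. -/
theorem map_aug_le
    (hε : (Bialgebra.counitAlgHom R A).comp (IsScalarTower.toAlgHom R A'' A) = Bialgebra.counitAlgHom R A'') :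
    (RingHom.ker (Bialgebra.counitAlgHom R A'')).map (algebraMap A'' A) ≤ RingHom.ker (Bialgebra.counitAlgHom R A) := by
  refine Ideal.map_le_iff_le_comap.2 fun x hx => ?_
  rw [Ideal.mem_comap, RingHom.mem_ker]
  exact (AlgHom.congr_fun hε x).trans hx

/-- The augmentation ideal of the middle term, when the kernel is unramified. -/
theorem aug_le_sup_sq
    (hε : (Bialgebra.counitAlgHom R A).comp (IsScalarTower.toAlgHom R A'' A) = Bialgebra.counitAlgHom R A'')
    [Algebra.FormallyUnramified R (A ⧸ (RingHom.ker (Bialgebra.counitAlgHom R A'')).map (algebraMap A'' A))] :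
    RingHom.ker (Bialgebra.counitAlgHom R A) ≤
      (RingHom.ker (Bialgebra.counitAlgHom R A'')).map (algebraMap A'' A) ⊔
        RingHom.ker (Bialgebra.counitAlgHom R A) ^ 2 := by
  intro x hx
  let J := (RingHom.ker (Bialgebra.counitAlgHom R A'')).map (algebraMap A'' A)
  let εJ : A ⧸ J →ₐ[R] R := Ideal.Quotient.liftₐ J (Bialgebra.counitAlgHom R A) fun a ha => map_aug_le hε ha
  have hker : RingHom.ker εJ = (RingHom.ker (Bialgebra.counitAlgHom R A)).map (Ideal.Quotient.mk J) :=
    Ideal.ker_quotient_lift (Bialgebra.counitAlgHom R A).toRingHom fun a ha => map_aug_le hε ha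
  have h2 := ker_le_sq_of_unramified εJ (hker ▸ Ideal.mem_map_of_mem (Ideal.Quotient.mk J) hx)
  rw [hker, ← Ideal.map_pow, Ideal.mem_quotient_iff_mem_sup] at h2
  rwa [sup_comm]

end Ext

/-- An integral algebra map between local rings is local. -/
theorem isLocalHom_of_isIntegral (A B : Type*) [CommRing A] [CommRing B] [Algebra A B] [IsLocalRing A]
    [IsLocalRing B] [Algebra.IsIntegral A B] : IsLocalHom (algebraMap A B) :=
  ((IsLocalRing.local_hom_TFAE (algebraMap A B)).out 0 4).2
    (IsLocalRing.eq_maximalIdeal (Ideal.isMaximal_comap_of_isIntegral_of_isMaximal _))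

/-- The quotient by a complementary idempotent is flat over any ring the algebra is flat over. -/
theorem flat_quotient_idempotent (S : Type*) {A : Type*} [CommRing S] [CommRing A] [Algebra S A]
    [Module.Flat S A] {e : A} (he : IsIdempotentElem e) :
    Module.Flat S (A ⧸ Ideal.span ({1 - e} : Set A)) := by
  haveI : IsLocalization.Away e (A ⧸ Ideal.span ({1 - e} : Set A)) := IsLocalization.Away.quotient_of_isIdempotentElem he
  haveI : Module.Flat A (A ⧸ Ideal.span ({1 - e} : Set A)) := IsLocalization.flat _ (Submonoid.powers e)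
  exact Module.Flat.trans S A _

end Groth.Agent.GrpSchLib.HopfExt
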