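import Groth.Agent.GrpSchLib.HopfQuotRank
import Groth.Agent.GrpSchLib.HopfExt
import Groth.Agent.GrpSchLib.HenselComp
import Mathlib.RingTheory.Flat.FaithfullyFlat.Algebra
import Groth.Prelude.Def_SGA3

/-! Étale quotients of a finite Hopf algebra. -/

set_option autoImplicit false
set_option backward.isDefEq.respectTransparency false

universe u v

open TensorProduct WithConv

noncomputable section

namespace Groth.Agent.GrpSchLib.HopfQuot

section Conv

variable {R : Type u} [CommRing R] {A T T' : Type*} [CommRing A] [CommRing T] [CommRing T'] [HopfAlgebra R A]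
  [Algebra R T] [Algebra R T']

theorem convMul_apply (x y : A →ₐ[R] T) (a : A) :
    (toConv x * toConv y).ofConv a =
      Algebra.TensorProduct.lmul' R (Algebra.TensorProduct.map x y (Coalgebra.comul (R := R) a)) := by
  rw [AlgHom.convMul_def]
  rfl

theorem inv_convMul_self (x : A →ₐ[R] T) :
    toConv (x.comp (HopfAlgebra.antipodeAlgHom R A)) * toConv x = 1 := by
  have h : toConv (HopfAlgebra.antipodeAlgHom R A) * toConv (AlgHom.id R A) = 1 := by
    apply WithConv.ofConv_injective
    apply AlgHom.toLinearMap_injective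
    apply WithConv.toConv_injective
    rw [AlgHom.toLinearMap_convMul, AlgHom.toLinearMap_convOne]
    simp [LinearMap.antipode_mul_id]
  apply WithConv.ofConv_injective
  have h2 := AlgHom.comp_convMul_distrib x (toConv (HopfAlgebra.antipodeAlgHom R A)) (toConv (AlgHom.id R A))
  simp only [AlgHom.comp_id] at h2
  rw [← h2, h]
  ext a
  exact x.commutes _

theorem self_convMul_inv (x : A →ₐ[R] T) :
    toConv x * toConv (x.comp (HopfAlgebra.antipodeAlgHom R A)) = 1 := by
  have h : toConv (AlgHom.id R A) * toConv (HopfAlgebra.antipodeAlgHom R A) = 1 := by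
    apply WithConv.ofConv_injective
    apply AlgHom.toLinearMap_injective
    apply WithConv.toConv_injective
    rw [AlgHom.toLinearMap_convMul, AlgHom.toLinearMap_convOne]
    simp [LinearMap.id_mul_antipode]
  apply WithConv.ofConv_injective
  have h2 := AlgHom.comp_convMul_distrib x (toConv (AlgHom.id R A)) (toConv (HopfAlgebra.antipodeAlgHom R A))
  simp only [AlgHom.comp_id] at h2
  rw [← h2, h]
  ext a
  exact x.commutes _

/-- The product depends on the right factor only through a left coideal subalgebra. -/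
theorem convMul_congr_right (B : Subalgebra R A)
    (hB : ∀ b ∈ B, Coalgebra.comul (R := R) b ∈ LinearMap.range (B.val.toLinearMap.lTensor A))
    (x : A →ₐ[R] T) {y y' : A →ₐ[R] T} (hy : ∀ b ∈ B, y b = y' b) (b : A) (hb : b ∈ B) :
    (toConv x * toConv y).ofConv b = (toConv x * toConv y').ofConv b := by
  obtain ⟨w, hw⟩ := hB b hb
  rw [convMul_apply, convMul_apply, ← hw]
  clear hw
  induction w using TensorProduct.induction_on with
  | zero => simp
  | tmul p q => simp [hy q.1 q.2]
  | add p q hp hq => simp only [map_add, hp, hq]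

end Conv

/-- Two points of an unramified algebra in `A ⊗ B`, `B` local, which agree at a rational point of `B` are equal. -/
theorem eq_of_unramified_tensor {R : Type*} [CommRing R] [IsLocalRing R] {C A B : Type*} [CommRing C] [Algebra R C]
    [Algebra.FormallyUnramified R C] [Algebra.EssFiniteType R C]
    [CommRing A] [Algebra R A] [Module.Finite R A] [CommRing B] [IsLocalRing B] [Algebra R B] [Module.Finite R B]
    (εB : B →ₐ[R] R) (f g : C →ₐ[R] A ⊗[R] B)
    (h : ∀ c, Algebra.TensorProduct.map (AlgHom.id R A) εB (f c) = Algebra.TensorProduct.map (AlgHom.id R A) εB (g c)) :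
    f = g := by
  let L : C ⊗[R] C →ₐ[R] A ⊗[R] B := Algebra.TensorProduct.lift f g fun _ _ => Commute.all _ _
  let el : C ⊗[R] C := Algebra.FormallyUnramified.elem R C
  have hid : IsIdempotentElem el := by
    have key : ∀ z : C ⊗[R] C, z * el = (Algebra.TensorProduct.lmul' R z ⊗ₜ[R] (1 : C)) * el := by
      intro z
      induction z using TensorProduct.induction_on with
      | zero => simp
      | add a b ha hb => rw [add_mul, map_add, TensorProduct.add_tmul, add_mul, ha, hb]
      | tmul a b =>
        rw [show a ⊗ₜ[R] b = (a ⊗ₜ[R] (1 : C)) * ((1 : C) ⊗ₜ[R] b) by simp, _root_.mul_assoc,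
          Algebra.FormallyUnramified.one_tmul_mul_elem, ← _root_.mul_assoc]
        simp [el]
    have := key el
    rwa [Algebra.FormallyUnramified.lmul_elem, ← Algebra.TensorProduct.one_def, _root_.one_mul] at this
  have hE : L el = 1 := by
    refine HenselComp.eq_one_of_idem_tensor εB (hid.map L) ?_
    have : (Algebra.TensorProduct.map (AlgHom.id R A) εB).comp L =
        ((Algebra.TensorProduct.map (AlgHom.id R A) εB).comp f).comp (Algebra.TensorProduct.lmul' R) := by
      apply Algebra.TensorProduct.ext'
      intro a b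
      simp [L, (h b).symm]
    show ((Algebra.TensorProduct.map (AlgHom.id R A) εB).comp L) el = 1
    rw [this, AlgHom.comp_apply, Algebra.FormallyUnramified.lmul_elem, map_one]
  ext c
  have := congrArg L (Algebra.FormallyUnramified.one_tmul_sub_tmul_one_mul_elem (R := R) c)
  rw [map_mul, map_sub, hE, map_zero, _root_.mul_one] at this
  simp [L] at this
  exact (sub_eq_zero.1 this).symm

variable {R : Type u} [CommRing R] {A H : Type v} [CommRing A] [CommRing H] [HopfAlgebra R A] [HopfAlgebra R H]
  [Module.Finite R H] [Module.Projective R H] (π : A →ₐc[R] H) (hπ : Function.Surjective π)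

theorem tMap_eq_conv : toConv (tMap π) = toConv (Algebra.TensorProduct.includeLeft : A →ₐ[R] A ⊗[R] H) *
    toConv ((Algebra.TensorProduct.includeRight : H →ₐ[R] A ⊗[R] H).comp (π : A →ₐ[R] H)) := by
  apply WithConv.ofConv_injective
  ext a
  rw [convMul_apply]
  show Algebra.TensorProduct.map (AlgHom.id R A) (π : A →ₐ[R] H) (Coalgebra.comul (R := R) a) = _
  induction (Coalgebra.comul a : A ⊗[R] A) using TensorProduct.induction_on with
  | zero => simp
  | tmul x y => simp
  | add x y hx hy => simp only [map_add, hx, hy]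

theorem exact_inv : Function.Exact (inv π).val.toLinearMap
    ((tMap π).toLinearMap - (Algebra.TensorProduct.includeLeft : A →ₐ[R] A ⊗[R] H).toLinearMap) := fun a => by
  constructor
  · intro h
    rw [LinearMap.sub_apply, sub_eq_zero] at h
    exact ⟨⟨a, h⟩, rfl⟩
  · rintro ⟨b, rfl⟩
    rw [LinearMap.sub_apply, sub_eq_zero]
    exact b.2

/-- The invariants form a left coideal. -/
theorem comul_mem [Module.Flat R A] (b : A) (hb : b ∈ inv π) :
    Coalgebra.comul (R := R) b ∈ LinearMap.range ((inv π).val.toLinearMap.lTensor A) := by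
  refine (Module.Flat.lTensor_exact (M := A) (exact_inv π) _).1 ?_
  rw [LinearMap.lTensor_sub, LinearMap.sub_apply, sub_eq_zero]
  have h1 : ∀ z : A ⊗[R] A, (tMap π).toLinearMap.lTensor A z =
      (Algebra.TensorProduct.map (AlgHom.id R A) (π : A →ₐ[R] H)).toLinearMap.lTensor A
        ((Coalgebra.comul (R := R) (A := A)).lTensor A z) := fun z => by
    rw [← LinearMap.lTensor_comp_apply]
    rfl
  rw [h1, ← Coalgebra.coassoc_apply]
  have h2 : ∀ z : A ⊗[R] A,
      (Algebra.TensorProduct.map (AlgHom.id R A) (π : A →ₐ[R] H)).toLinearMap.lTensor A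
        (TensorProduct.assoc R A A A ((Coalgebra.comul (R := R) (A := A)).rTensor A z)) =
      TensorProduct.assoc R A A H ((Coalgebra.comul (R := R) (A := A)).rTensor H
        (Algebra.TensorProduct.map (AlgHom.id R A) (π : A →ₐ[R] H) z)) := fun z => by
    induction z using TensorProduct.induction_on with
    | zero => simp
    | add x y hx hy => simp only [map_add, hx, hy]
    | tmul x y =>
      simp only [LinearMap.rTensor_tmul, Algebra.TensorProduct.map_tmul, AlgHom.id_apply]
      induction Coalgebra.comul (R := R) x using TensorProduct.induction_on with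
      | zero => simp
      | add p q hp hq => simp only [map_add, TensorProduct.add_tmul, hp, hq]
      | tmul p q => simp
  rw [h2]
  have hb' : Algebra.TensorProduct.map (AlgHom.id R A) (π : A →ₐ[R] H) (Coalgebra.comul (R := R) b) = b ⊗ₜ[R] (1 : H) :=
    hb
  rw [hb', LinearMap.rTensor_tmul]
  induction Coalgebra.comul (R := R) b using TensorProduct.induction_on with
  | zero => simp
  | add p q hp hq => simp only [map_add, TensorProduct.add_tmul, hp, hq]
  | tmul p q => simp

include hπ in
/-- The augmentation ideal of the invariants cuts out the subgroup. -/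
theorem augIdeal_eq : Ideal.span {a : A | a ∈ inv π ∧ Coalgebra.counit (R := R) a = 0} =
    RingHom.ker (π : A →ₐ[R] H) := by
  let ε := Bialgebra.counitAlgHom R A
  let εH : A ⊗[R] H →ₐ[R] H :=
    (Algebra.TensorProduct.lid R H).toAlgHom.comp (Algebra.TensorProduct.map ε (AlgHom.id R H))
  have hεH : ∀ a : A, εH (tMap π a) = π a := by
    intro a
    have key : ∀ z : A ⊗[R] A, εH (Algebra.TensorProduct.map (AlgHom.id R A) (π : A →ₐ[R] H) z) =
        π (TensorProduct.lid R A ((Coalgebra.counit (R := R)).rTensor A z)) := fun z => by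
      induction z using TensorProduct.induction_on with
      | zero => simp
      | tmul x y => simp [εH, ε]
      | add x y hx hy => simp only [map_add, hx, hy]
    show εH (Algebra.TensorProduct.map (AlgHom.id R A) (π : A →ₐ[R] H) (Coalgebra.comul (R := R) a)) = π a
    rw [key, Coalgebra.rTensor_counit_comul]
    simp
  refine le_antisymm (Ideal.span_le.2 ?_) fun y hy => ?_
  · rintro a ⟨ha, ha0⟩
    show π a = 0
    rw [← hεH, show tMap π a = a ⊗ₜ[R] (1 : H) from ha]
    simp [εH, ε, ha0]
  · let J : Ideal A := Ideal.span {a : A | a ∈ inv π ∧ Coalgebra.counit (R := R) a = 0}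
    have hmod : ∀ b : inv π, Ideal.Quotient.mk J (b : A) = algebraMap R (A ⧸ J) (ε b) := fun b => by
      rw [IsScalarTower.algebraMap_apply R A (A ⧸ J), Ideal.Quotient.algebraMap_eq, Ideal.Quotient.eq]
      refine Ideal.subset_span ⟨sub_mem b.2 (Subalgebra.algebraMap_mem _ _), ?_⟩
      show ε ((b : A) - algebraMap R A (ε b)) = 0
      simp
    let x₀ : A →ₐ[inv π] A ⧸ J :=
      { ((Algebra.ofId R (A ⧸ J)).comp ε).toRingHom with commutes' := fun b => (hmod b).symm }
    let F : A ⊗[inv π] A →ₐ[inv π] A ⧸ J :=
      Algebra.TensorProduct.lift x₀ (Ideal.Quotient.mkₐ (inv π) J) fun _ _ => Commute.all _ _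
    let G : A ⊗[R] H →+* A ⧸ J := F.toRingHom.comp (galoisEquiv π hπ).symm.toRingEquiv.toRingHom
    have hG : ∀ x z : A, G (tMap π z * (x ⊗ₜ[R] (1 : H))) = algebraMap R (A ⧸ J) (ε x) * Ideal.Quotient.mk J z := by
      intro x z
      show F ((galoisEquiv π hπ).symm (tMap π z * (x ⊗ₜ[R] (1 : H)))) = _
      rw [← galoisEquiv_tmul π hπ x z, AlgEquiv.symm_apply_apply]
      exact Algebra.TensorProduct.lift_tmul _ _ _ _ _
    have hG1 : ∀ x : A, G (x ⊗ₜ[R] (1 : H)) = algebraMap R (A ⧸ J) (ε x) := fun x => by
      have := hG x 1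
      rwa [map_one, _root_.one_mul, map_one, _root_.mul_one] at this
    have hfac : ∀ w : A ⊗[R] H, G w = G ((1 : A) ⊗ₜ[R] εH w) := fun w => by
      induction w using TensorProduct.induction_on with
      | zero => simp
      | add p q hp hq => simp only [map_add, TensorProduct.tmul_add, hp, hq]
      | tmul x h =>
        have e : εH (x ⊗ₜ[R] h) = ε x • h := by simp [εH, ε]
        have e2 : (1 : A) ⊗ₜ[R] (ε x • h) = (algebraMap R A (ε x) ⊗ₜ[R] (1 : H)) * ((1 : A) ⊗ₜ[R] h) := by
          rw [Algebra.TensorProduct.tmul_mul_tmul, _root_.mul_one, _root_.one_mul, Algebra.algebraMap_eq_smul_one,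
            TensorProduct.smul_tmul]
        rw [e, e2, show x ⊗ₜ[R] h = (x ⊗ₜ[R] (1 : H)) * ((1 : A) ⊗ₜ[R] h) by simp, map_mul, map_mul, hG1, hG1,
          AlgHom.commutes]
        rfl
    have h := hG 1 y
    rw [← Algebra.TensorProduct.one_def, _root_.mul_one, map_one, map_one, _root_.one_mul, hfac, hεH,
      show π y = 0 from hy, TensorProduct.tmul_zero, map_zero] at h
    exact Ideal.Quotient.eq_zero_iff_mem.1 h.symm

include hπ in
/-- Points of the quotient lift after a faithfully flat extension. -/
theorem exists_point {T : Type v} [CommRing T] [Algebra R T] (f : inv π →ₐ[R] T) :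
    ∃ (T' : Type v) (_ : CommRing T') (_ : Algebra R T') (i : T →ₐ[R] T'),
      Function.Injective i ∧ ∃ x : A →ₐ[R] T', ∀ b : inv π, x (b : A) = i (f b) := by
  haveI := faithfullyFlat π hπ
  letI : Algebra (inv π) T := f.toRingHom.toAlgebra
  haveI : IsScalarTower R (inv π) T := IsScalarTower.of_algebraMap_eq fun r => (f.commutes r).symm
  exact ⟨T ⊗[inv π] A, inferInstance, inferInstance,
    (Algebra.TensorProduct.includeLeft : T →ₐ[inv π] T ⊗[inv π] A).restrictScalars R,
    (show Function.Injective (fun t : T => t ⊗ₜ[inv π] (1 : A)) from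
      (TensorProduct.comm (inv π) A T).injective.comp
        (Module.FaithfullyFlat.tensorProduct_mk_injective (A := inv π) (B := A) T)),
    (Algebra.TensorProduct.includeRight : A →ₐ[inv π] T ⊗[inv π] A).restrictScalars R,
    fun b => ((Algebra.TensorProduct.includeRight : A →ₐ[inv π] T ⊗[inv π] A).commutes b).trans
      ((Algebra.TensorProduct.includeLeft : T →ₐ[inv π] T ⊗[inv π] A).commutes b).symm⟩

include hπ in
/-- If the subgroup's ideal is idempotent, the quotient is unramified. -/
theorem formallyUnramified_inv [Module.Flat R A]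
    (hI : RingHom.ker (π : A →ₐ[R] H) ≤ RingHom.ker (π : A →ₐ[R] H) ^ 2) :
    Algebra.FormallyUnramified R (inv π) := by
  haveI := faithfullyFlat π hπ
  let εB : inv π →ₐ[R] R := (Bialgebra.counitAlgHom R A).comp (inv π).val
  let I₀ := RingHom.ker εB
  have hI₀ : I₀ ≤ I₀ ^ 2 := by
    have hmap : I₀.map (algebraMap (inv π) A) = RingHom.ker (π : A →ₐ[R] H) := by
      rw [← augIdeal_eq π hπ]
      refine congrArg Ideal.span (Set.ext fun a => ?_)
      constructor
      · rintro ⟨b, hb, rfl⟩
        exact ⟨b.2, hb⟩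
      · rintro ⟨ha, ha0⟩
        exact ⟨⟨a, ha⟩, ha0, rfl⟩
    calc I₀ = (I₀.map (algebraMap (inv π) A)).comap (algebraMap (inv π) A) :=
          (Ideal.comap_map_eq_self_of_faithfullyFlat I₀).symm
      _ ≤ ((I₀ ^ 2).map (algebraMap (inv π) A)).comap (algebraMap (inv π) A) := by
          rw [Ideal.map_pow, hmap]; exact Ideal.comap_mono hI
      _ = I₀ ^ 2 := Ideal.comap_map_eq_self_of_faithfullyFlat _
  refine Algebra.FormallyUnramified.iff_comp_injective.2 fun T _ _ N hN f g hfg => ?_
  obtain ⟨T₁, _, _, i₁, hinj₁, x, hx₁⟩ := exists_point π hπ f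
  obtain ⟨T₂, _, _, i₂, hinj₂, y, hy⟩ := exists_point π hπ (i₁.comp g)
  let x₂ : A →ₐ[R] T₂ := i₂.comp x
  have hx : ∀ b : inv π, x₂ (b : A) = i₂ (i₁ (f b)) := fun b => congrArg i₂ (hx₁ b)
  let N₂ : Ideal T₂ := N.map (i₂.comp i₁).toRingHom
  have hN₂ : N₂ ^ 2 = ⊥ := by rw [← Ideal.map_pow, hN, Ideal.map_bot]
  let q : T₂ →ₐ[R] T₂ ⧸ N₂ := Ideal.Quotient.mkₐ R N₂
  let w := (toConv (x₂.comp (HopfAlgebra.antipodeAlgHom R A)) * toConv y).ofConv
  let η : A →ₐ[R] T₂ := (Algebra.ofId R T₂).comp (Bialgebra.counitAlgHom R A)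
  have hη : toConv η = 1 := rfl
  have hq : ∀ b : inv π, q (w (b : A)) = q (η (b : A)) := by
    intro b
    have h1 : q.comp w = (toConv ((q.comp x₂).comp (HopfAlgebra.antipodeAlgHom R A)) * toConv (q.comp y)).ofConv := by
      apply WithConv.toConv_injective
      rw [AlgHom.comp_convMul_distrib]
      rfl
    have h2 : ∀ c ∈ inv π, (q.comp y) c = (q.comp x₂) c := fun c hc => by
      show q (y c) = q (x₂ c)
      rw [hy ⟨c, hc⟩, hx ⟨c, hc⟩, AlgHom.comp_apply]
      refine Ideal.Quotient.eq.2 ?_
      rw [← map_sub i₂, ← map_sub i₁]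
      refine Ideal.mem_map_of_mem (i₂.comp i₁).toRingHom (Ideal.Quotient.eq.1 ?_)
      exact (AlgHom.congr_fun hfg ⟨c, hc⟩).symm
    show (q.comp w) (b : A) = _
    rw [h1, convMul_congr_right (inv π) (comul_mem π) _ h2 _ b.2]
    exact (AlgHom.congr_fun (congrArg ofConv (inv_convMul_self (q.comp x₂))) (b : A)).trans (q.commutes _).symm
  have hw : ∀ b : inv π, w (b : A) = η (b : A) := by
    have hmem : ∀ c ∈ I₀, w (c : A) ∈ N₂ := fun c hc => by
      have := hq c
      rw [show η (c : A) = algebraMap R T₂ (εB c) from rfl, RingHom.mem_ker.1 hc, map_zero, map_zero] at this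
      exact Ideal.Quotient.eq_zero_iff_mem.1 this
    have h0 : ∀ c ∈ I₀, w (c : A) = 0 := fun c hc => by
      have h3 : w (c : A) ∈ N₂ ^ 2 := by
        have h4 := Ideal.mem_map_of_mem (w.comp (inv π).val).toRingHom (hI₀ hc)
        rw [Ideal.map_pow] at h4
        exact Ideal.pow_right_mono (Ideal.map_le_iff_le_comap.2 hmem) 2 h4
      rwa [hN₂, Submodule.mem_bot] at h3
    intro b
    have := h0 (b - algebraMap R (inv π) (εB b)) (by simp [I₀, RingHom.mem_ker])
    rw [show ((b - algebraMap R (inv π) (εB b) : inv π) : A) = (b : A) - algebraMap R A (εB b) from rfl, map_sub,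
      AlgHom.commutes, sub_eq_zero] at this
    exact this
  refine AlgHom.ext fun b => hinj₁ (hinj₂ ?_)
  rw [← hx]
  refine Eq.trans ?_ (hy b)
  have hy' : toConv y = toConv x₂ * toConv w :=
    ((_root_.one_mul (toConv y)).symm.trans (congrArg (· * toConv y) (self_convMul_inv x₂).symm)).trans
      (_root_.mul_assoc _ _ _)
  show x₂ (b : A) = y (b : A)
  rw [show y = (toConv x₂ * toConv w).ofConv from congrArg ofConv hy',
    convMul_congr_right (inv π) (comul_mem π) x₂ (y' := η) (fun c hc => hw ⟨c, hc⟩) _ b.2, hη]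
  exact (AlgHom.congr_fun (congrArg ofConv (_root_.mul_one (toConv x₂))) (b : A)).symm

omit [Module.Finite R H] [Module.Projective R H] in
theorem antipode_bialgHom (a : A) :
    π (HopfAlgebraStruct.antipode (R := R) a) = HopfAlgebraStruct.antipode (R := R) (π a) := by
  let πa : A →ₐ[R] H := π
  have h1 : toConv (πa.comp (HopfAlgebra.antipodeAlgHom R A)) * toConv πa = 1 := inv_convMul_self πa
  have h2 : toConv πa * toConv ((HopfAlgebra.antipodeAlgHom R H).comp πa) = 1 := by
    apply WithConv.ofConv_injective
    have h := AlgHom.convMul_comp_bialgHom_distrib (toConv (AlgHom.id R H)) (toConv (HopfAlgebra.antipodeAlgHom R H)) π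
    simp only [AlgHom.id_comp] at h
    have e := self_convMul_inv (AlgHom.id R H)
    simp only [AlgHom.id_comp] at e
    rw [← h, e]
    ext a
    show algebraMap R H (Coalgebra.counit (R := R) (π a)) = algebraMap R H (Coalgebra.counit (R := R) a)
    rw [CoalgHomClass.counit_comp_apply]
  exact AlgHom.congr_fun (congrArg ofConv (left_inv_eq_right_inv h1 h2)) a

include hπ in
/-- The invariants of a local subgroup form a Hopf subalgebra once they are unramified. -/
theorem hopfSubalgebra_inv [IsLocalRing R] [Module.Finite R A] [Module.Projective R A] [IsLocalRing H]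
    [Algebra.FormallyUnramified R (inv π)] :
    (∀ b ∈ inv π, Coalgebra.comul (R := R) b ∈
        LinearMap.range (TensorProduct.map (inv π).val.toLinearMap (inv π).val.toLinearMap)) ∧
      ∀ b ∈ inv π, HopfAlgebraStruct.antipode (R := R) b ∈ inv π := by
  haveI := finite_inv π hπ
  let k₀ : A →ₐ[R] A ⊗[R] H := Algebra.TensorProduct.includeLeft
  let h₀ : A →ₐ[R] A ⊗[R] H := (Algebra.TensorProduct.includeRight : H →ₐ[R] A ⊗[R] H).comp (π : A →ₐ[R] H)
  let P : A →ₐ[R] A ⊗[R] H := (toConv h₀ * toConv k₀).ofConv
  let εH : H →ₐ[R] R := Bialgebra.counitAlgHom R H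
  have hP : ∀ b : inv π, P (b : A) = k₀ (b : A) := by
    have h1 : P.comp (inv π).val = k₀.comp (inv π).val := by
      refine eq_of_unramified_tensor εH _ _ fun c => ?_
      let q := Algebra.TensorProduct.map (AlgHom.id R A) εH
      have hh : toConv (q.comp h₀) = 1 := by
        apply WithConv.ofConv_injective
        ext a
        show q ((1 : A) ⊗ₜ[R] π a) = algebraMap R (A ⊗[R] R) (Bialgebra.counitAlgHom R A a)
        simp only [q, εH, Algebra.TensorProduct.map_tmul, map_one, Bialgebra.counitAlgHom_apply,
          CoalgHomClass.counit_comp_apply]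
        rw [Algebra.algebraMap_eq_smul_one, Algebra.TensorProduct.one_def, TensorProduct.smul_tmul', TensorProduct.smul_tmul,
          smul_eq_mul, _root_.mul_one]
      show (q.comp P) (c : A) = (q.comp k₀) (c : A)
      refine AlgHom.congr_fun ?_ (c : A)
      apply WithConv.toConv_injective
      rw [show P = (toConv h₀ * toConv k₀).ofConv from rfl, AlgHom.comp_convMul_distrib]
      simp only [WithConv.toConv_ofConv, hh]
      exact _root_.one_mul _
    exact fun b => AlgHom.congr_fun h1 b
  have huniv : ∀ {T : Type v} [CommRing T] [Algebra R T] (hp : H →ₐ[R] T) (k : A →ₐ[R] T) (b : A), b ∈ inv π →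
      (toConv (hp.comp (π : A →ₐ[R] H)) * toConv k).ofConv b = k b := by
    intro T _ _ hp k b hb
    let ψ : A ⊗[R] H →ₐ[R] T := Algebra.TensorProduct.lift k hp fun _ _ => Commute.all _ _
    have h1 : ψ.comp P = (toConv (hp.comp (π : A →ₐ[R] H)) * toConv k).ofConv := by
      apply WithConv.toConv_injective
      rw [show P = (toConv h₀ * toConv k₀).ofConv from rfl, AlgHom.comp_convMul_distrib]
      have e1 : ψ.comp h₀ = hp.comp (π : A →ₐ[R] H) := by ext a; simp [ψ, h₀]
      have e2 : ψ.comp k₀ = k := by ext a; simp [ψ, k₀]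
      simp only [WithConv.toConv_ofConv, e1, e2]
    rw [← h1, AlgHom.comp_apply, hP ⟨b, hb⟩]
    simp [ψ, k₀]
  refine ⟨fun b hb => ?_, fun b hb => ?_⟩
  · obtain ⟨r, hr⟩ := exists_retraction π hπ
    let p : A →ₗ[R] A := (inv π).val.toLinearMap.comp (r.restrictScalars R)
    have hp : ∀ c : inv π, p (c : A) = c := fun c => by
      show ((r (c : A) : inv π) : A) = c
      rw [show (c : A) = c • (1 : A) by rw [Subalgebra.smul_def, smul_eq_mul, _root_.mul_one], map_smul, hr, smul_eq_mul,
        _root_.mul_one, Subalgebra.smul_def, smul_eq_mul, _root_.mul_one]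
    have hl : p.lTensor A (Coalgebra.comul (R := R) b) = Coalgebra.comul (R := R) b := by
      obtain ⟨w, hw⟩ := comul_mem π b hb
      rw [← hw]
      clear hw
      induction w using TensorProduct.induction_on with
      | zero => simp
      | tmul x c => simp [hp c]
      | add x y hx hy => simp only [map_add, hx, hy]
    have hr' : p.rTensor A (Coalgebra.comul (R := R) b) = Coalgebra.comul (R := R) b := by
      have hmem : Coalgebra.comul (R := R) b ∈ LinearMap.range ((inv π).val.toLinearMap.rTensor A) := by
        refine (Module.Flat.rTensor_exact (M := A) (exact_inv π) _).1 ?_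
        rw [LinearMap.rTensor_sub, LinearMap.sub_apply, sub_eq_zero]
        let T := (A ⊗[R] H) ⊗[R] A
        let a₁ : A →ₐ[R] T := (Algebra.TensorProduct.includeLeft : A ⊗[R] H →ₐ[R] T).comp Algebra.TensorProduct.includeLeft
        let hp' : H →ₐ[R] T := (Algebra.TensorProduct.includeLeft : A ⊗[R] H →ₐ[R] T).comp Algebra.TensorProduct.includeRight
        let a₃ : A →ₐ[R] T := Algebra.TensorProduct.includeRight
        have e1 : ∀ (f : A →ₐ[R] A ⊗[R] H) (z : A ⊗[R] A), f.toLinearMap.rTensor A z =
            Algebra.TensorProduct.lmul' R (Algebra.TensorProduct.map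
              ((Algebra.TensorProduct.includeLeft : A ⊗[R] H →ₐ[R] T).comp f) a₃ z) := fun f z => by
          induction z using TensorProduct.induction_on with
          | zero => simp
          | tmul x y =>
            rw [Algebra.TensorProduct.map_tmul, Algebra.TensorProduct.lmul'_apply_tmul, LinearMap.rTensor_tmul]
            show f x ⊗ₜ[R] y = (f x ⊗ₜ[R] (1 : A)) * ((1 : A ⊗[R] H) ⊗ₜ[R] y)
            rw [Algebra.TensorProduct.tmul_mul_tmul, _root_.mul_one, _root_.one_mul]
          | add x y hx hy => simp only [map_add, hx, hy]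
        rw [e1, e1, ← convMul_apply, ← convMul_apply]
        have ht : toConv ((Algebra.TensorProduct.includeLeft : A ⊗[R] H →ₐ[R] T).comp (tMap π)) =
            toConv a₁ * toConv (hp'.comp (π : A →ₐ[R] H)) := by
          rw [show tMap π = _ from congrArg ofConv (tMap_eq_conv π), AlgHom.comp_convMul_distrib]
          rfl
        rw [ht]
        exact (AlgHom.congr_fun (congrArg ofConv (_root_.mul_assoc (toConv a₁) (toConv (hp'.comp (π : A →ₐ[R] H)))
          (toConv a₃))) b).trans (convMul_congr_right (inv π) (comul_mem π) a₁ (y' := a₃) (fun c hc => huniv hp' a₃ c hc) b hb)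
      obtain ⟨w, hw⟩ := hmem
      rw [← hw]
      clear hw
      induction w using TensorProduct.induction_on with
      | zero => simp
      | tmul c x => simp [hp c]
      | add x y hx hy => simp only [map_add, hx, hy]
    refine ⟨TensorProduct.map (r.restrictScalars R) (r.restrictScalars R) (Coalgebra.comul (R := R) b), ?_⟩
    conv_rhs => rw [← hl, ← hr']
    induction Coalgebra.comul (R := R) b using TensorProduct.induction_on with
    | zero => simp
    | tmul x y => simp [p]
    | add x y hx hy => simp only [map_add, hx, hy]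
  · show tMap π (HopfAlgebraStruct.antipode (R := R) b) = _
    let S := HopfAlgebra.antipodeAlgHom R A
    have hinv : toConv ((tMap π).comp S) = toConv (h₀.comp S) * toConv (k₀.comp S) := by
      have e1 : (toConv (h₀.comp S) * toConv (k₀.comp S)) * toConv (tMap π) = 1 := by
        rw [tMap_eq_conv]
        refine (_root_.mul_assoc (toConv (h₀.comp S)) (toConv (k₀.comp S)) (toConv k₀ * toConv h₀)).trans ?_
        refine (congrArg (toConv (h₀.comp S) * ·) ((_root_.mul_assoc (toConv (k₀.comp S)) (toConv k₀) (toConv h₀)).symm.trans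
          ((congrArg (· * toConv h₀) (inv_convMul_self k₀)).trans (_root_.one_mul (toConv h₀))))).trans ?_
        exact inv_convMul_self h₀
      exact (left_inv_eq_right_inv e1 (self_convMul_inv (tMap π))).symm
    refine (AlgHom.congr_fun (congrArg ofConv hinv) b).trans ?_
    have hS : h₀.comp S = ((Algebra.TensorProduct.includeRight : H →ₐ[R] A ⊗[R] H).comp (HopfAlgebra.antipodeAlgHom R H)).comp
        (π : A →ₐ[R] H) := by
      ext a
      show (1 : A) ⊗ₜ[R] π (HopfAlgebraStruct.antipode (R := R) a) = (1 : A) ⊗ₜ[R] HopfAlgebraStruct.antipode (R := R) (π a)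
      rw [Groth.Agent.GrpSchLib.HopfQuot.antipode_bialgHom π a]
    rw [hS, huniv _ _ b hb]
    rfl

end Groth.Agent.GrpSchLib.HopfQuot
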