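import Groth.Agent.GrpSchLib.LineAlg
import Groth.Agent.GrpSchLib.UnitsScheme
import Groth.Agent.GrpSchLib.AntiAffineHom

/-! Group laws on the affine line and on the punctured line. -/

universe u

open CategoryTheory Limits AlgebraicGeometry MonoidalCategory CartesianMonoidalCategory MonObj GrpObj
open scoped Polynomial LaurentPolynomial TensorProduct

namespace Groth.Agent.GrpSchLib.LineGroups

open Kunneth

variable {k : Type u} [Field k]


theorem ext_ev {T X : Over (Spec (CommRingCat.of k))} [IsAffine X.left] {g g' : T ⟶ X} (h : ev g = ev g') : g = g' :=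
  Over.OverMorphism.ext (ext_of_isAffine (CommRingCat.hom_ext (RingHom.ext fun f => DFunLike.congr_fun h f)))

theorem exists_hom_ev {T X : Over (Spec (CommRingCat.of k))} [IsAffine X.left] (ψ : Fn X →ₐ[k] Fn T) : ∃ g : T ⟶ X, ev g = ψ := by
  let g₀ : T.left ⟶ X.left := T.left.toSpecΓ ≫ Spec.map (CommRingCat.ofHom ψ.toRingHom) ≫ X.left.isoSpec.inv
  have h0 : g₀.appTop = CommRingCat.ofHom ψ.toRingHom := by
    have hiso : X.left.isoSpec.inv.appTop ≫ (Scheme.ΓSpecIso Γ(X.left, ⊤)).hom = 𝟙 _ := by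
      rw [← Scheme.toSpecΓ_appTop, ← Scheme.Hom.comp_appTop, Scheme.toSpecΓ_isoSpec_inv]
      rfl
    show (T.left.toSpecΓ ≫ Spec.map (CommRingCat.ofHom ψ.toRingHom) ≫ X.left.isoSpec.inv).appTop = _
    rw [Scheme.Hom.comp_appTop, Scheme.Hom.comp_appTop, Category.assoc, Scheme.toSpecΓ_appTop,
      Scheme.ΓSpecIso_naturality, ← Category.assoc]
    exact (congrArg (· ≫ CommRingCat.ofHom ψ.toRingHom) hiso).trans (Category.id_comp _)
  have hw : g₀ ≫ X.hom = T.hom := ext_of_isAffine (by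
    rw [Scheme.Hom.comp_appTop, h0, ← cancel_epi (Scheme.ΓSpecIso (CommRingCat.of k)).inv]
    exact CommRingCat.hom_ext (RingHom.ext ψ.commutes))
  refine ⟨Over.homMk g₀ hw, AlgHom.ext fun f => ?_⟩
  show g₀.appTop f = _
  rw [h0]
  rfl

/-- Functions of isomorphic schemes. -/
noncomputable def fnEquiv {X Y : Over (Spec (CommRingCat.of k))} (j : X ≅ Y) : Fn Y ≃ₐ[k] Fn X :=
  AlgEquiv.ofAlgHom (ev j.hom) (ev j.inv) (AlgHom.ext fun f => by simp [ev_ev, ev_id])
    (AlgHom.ext fun f => by simp [ev_ev, ev_id])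

/-- The functions of a spectrum. -/
noncomputable def spEquiv (C : Type u) [CommRing C] [Algebra k C] :
    C ≃ₐ[k] Fn (Over.mk (Spec.map (CommRingCat.ofHom (algebraMap k C)))) :=
  AlgEquiv.ofRingEquiv (f := (Scheme.ΓSpecIso (CommRingCat.of C)).symm.commRingCatIsoToRingEquiv) fun c => by
    exact ConcreteCategory.congr_hom (Scheme.ΓSpecIso_inv_naturality (CommRingCat.ofHom (algebraMap k C))) c

theorem algHom_T {C : Type u} [Field C] [Algebra k C] (f : k[T;T⁻¹] →ₐ[k] C) (n : ℤ) :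
    f (LaurentPolynomial.T n) = f (LaurentPolynomial.T 1) ^ n := by
  have h0 : f (LaurentPolynomial.T 1) ≠ 0 := ((LaurentPolynomial.isUnit_T (R := k) 1).map f).ne_zero
  induction n using Int.induction_on with
  | zero => rw [LaurentPolynomial.T_zero, map_one, zpow_zero]
  | succ n ih => rw [LaurentPolynomial.T_add, map_mul, ih, zpow_add_one₀ h0]
  | pred n ih =>
    apply mul_right_cancel₀ h0
    rw [← map_mul, ← LaurentPolynomial.T_add, sub_add_cancel, ih, ← zpow_add_one₀ h0, sub_add_cancel]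

theorem algHom_ext_T {C : Type u} [CommRing C] [Algebra k C] {f g : k[T;T⁻¹] →ₐ[k] C}
    (h : f (LaurentPolynomial.T 1) = g (LaurentPolynomial.T 1)) : f = g := by
  refine AddMonoidAlgebra.algHom_ext (fun n => ?_) (by ext)
  show f (LaurentPolynomial.T n) = g (LaurentPolynomial.T n)
  induction n using Int.induction_on with
  | zero => rw [LaurentPolynomial.T_zero, map_one, map_one]
  | succ n ih => rw [LaurentPolynomial.T_add, map_mul, map_mul, ih, h]
  | pred n ih =>
    apply ((LaurentPolynomial.isUnit_T (R := k) 1).map f).mul_right_cancel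
    rw [← map_mul, ← LaurentPolynomial.T_add, sub_add_cancel, ih, h, ← map_mul, ← LaurentPolynomial.T_add, sub_add_cancel]

theorem C_smul_T_eq {c : k} {a : ℤ} (h : (LaurentPolynomial.T 1 : k[T;T⁻¹]) = c • LaurentPolynomial.T a) :
    a = 1 ∧ c = 1 := by
  rw [LaurentPolynomial.T, LaurentPolynomial.T, AddMonoidAlgebra.smul_single', _root_.mul_one,
    AddMonoidAlgebra.single_inj] at h
  rcases h with ⟨h1, h2⟩ | ⟨h1, -⟩
  · exact ⟨h1.symm, h2.symm⟩
  · exact absurd h1 one_ne_zero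

variable (G : Over (Spec (CommRingCat.of k))) [GrpObj G] [IsAffine G.left]


theorem ev_one_right (f : Fn G) :
    ev (lift (𝟙 G) (toUnit G ≫ η[G]) ≫ μ[G]) f = f := by
  have h : lift (𝟙 G) (toUnit G ≫ η[G]) ≫ μ[G] = 𝟙 G :=
    (Hom.mul_def (𝟙 G) (toUnit G ≫ η[G])).symm.trans (_root_.mul_one _)
  rw [h, ev_id]

theorem ev_one_left (f : Fn G) :
    ev (lift (toUnit G ≫ η[G]) (𝟙 G) ≫ μ[G]) f = f := by
  have h : lift (toUnit G ≫ η[G]) (𝟙 G) ≫ μ[G] = 𝟙 G :=
    (Hom.mul_def (toUnit G ≫ η[G]) (𝟙 G)).symm.trans (_root_.one_mul _)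
  rw [h, ev_id]

/-- A group law on the punctured line. -/
theorem mul_coord_Gm (φ : k[T;T⁻¹] ≃ₐ[k] Fn G) :
    ev μ[G] (φ (LaurentPolynomial.T 1)) = (evPt η[G] (φ (LaurentPolynomial.T 1)))⁻¹ •
      (ev (fst G G) (φ (LaurentPolynomial.T 1)) * ev (snd G G) (φ (LaurentPolynomial.T 1))) := by
  haveI := AntiAffine.isSeparated_grp G
  let e := AlgEquiv.ofBijective (toProd G G) (toProd_bijective G G)
  let t := φ (LaurentPolynomial.T 1)
  let w := evPt η[G] t
  let Φ : k[T;T⁻¹] ⊗[k] k[T;T⁻¹] ≃ₐ[k] Fn (G ⊗ G) := (Algebra.TensorProduct.congr φ φ).trans e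
  obtain ⟨c, a, b, hc, hz⟩ := LineAlg.tensor_unit
    (((LaurentPolynomial.isUnit_T (R := k) 1).map φ).map (ev μ[G]) |>.map Φ.symm)
  have h : ev μ[G] t = c • (ev (fst G G) (φ (LaurentPolynomial.T a)) * ev (snd G G) (φ (LaurentPolynomial.T b))) := by
    have := congrArg Φ hz
    rw [AlgEquiv.apply_symm_apply, map_smul] at this
    exact this.trans (congrArg (c • ·) (Algebra.TensorProduct.lift_tmul (ev (fst G G)) (ev (snd G G)) (fun _ _ => .all _ _) _ _))
  have hb : evPt η[G] (φ (LaurentPolynomial.T b)) = w ^ b := algHom_T ((evPt η[G]).comp φ.toAlgHom) b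
  have ha : evPt η[G] (φ (LaurentPolynomial.T a)) = w ^ a := algHom_T ((evPt η[G]).comp φ.toAlgHom) a
  have h1 := congrArg (ev (lift (𝟙 G) (toUnit G ≫ η[G]))) h
  have h2 := congrArg (ev (lift (toUnit G ≫ η[G]) (𝟙 G))) h
  simp only [map_smul, map_mul, ev_ev, lift_fst, lift_snd, ev_id, one_fn_const, ev_one_right, ev_one_left, ha, hb] at h1 h2
  have key : ∀ (x : Fn G) (r s : k), r • (x * algebraMap k (Fn G) s) = (r * s) • x := fun x r s => by
    rw [mul_comm x, ← Algebra.smul_def, smul_smul]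
  rw [key] at h1
  rw [mul_comm (algebraMap k (Fn G) _), key] at h2
  have e1 : (LaurentPolynomial.T 1 : k[T;T⁻¹]) = (c * w ^ b) • LaurentPolynomial.T a :=
    φ.injective (by rw [map_smul]; exact h1)
  have e2 : (LaurentPolynomial.T 1 : k[T;T⁻¹]) = (c * w ^ a) • LaurentPolynomial.T b :=
    φ.injective (by rw [map_smul]; exact h2)
  obtain ⟨rfl, hcw⟩ := C_smul_T_eq e1
  obtain ⟨rfl, -⟩ := C_smul_T_eq e2
  rw [zpow_one] at hcw
  rw [h, eq_inv_of_mul_eq_one_left hcw]

theorem op_lift {C : Type u} [CommRing C] [Algebra k C] (a b : C) (z : k[X] ⊗[k] k[X]) :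
    LineAlg.op ((polyEquivTensor k k[X]).symm z) a b =
      Algebra.TensorProduct.lift (Polynomial.aeval b) (Polynomial.aeval a) (fun _ _ => .all _ _) z := by
  induction z using TensorProduct.induction_on with
  | zero => simp [LineAlg.op]
  | tmul p q =>
    rw [polyEquivTensor_symm_apply_tmul_eq_smul, Algebra.TensorProduct.lift_tmul, LineAlg.op, Polynomial.eval₂_smul,
      Polynomial.eval₂_map, Polynomial.aeval_def a]
    congr 2
    exact (Polynomial.aeval b : k[X] →ₐ[k] C).comp_algebraMap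
  | add x y hx hy => simp [LineAlg.op, Polynomial.eval₂_add] at hx hy ⊢; rw [hx, hy]

theorem ev_aeval (φ : k[X] ≃ₐ[k] Fn G) {T : Over (Spec (CommRingCat.of k))} (g : T ⟶ G) (p : k[X]) :
    ev g (φ p) = Polynomial.aeval (ev g (φ Polynomial.X)) p :=
  DFunLike.congr_fun (Polynomial.aeval_algHom ((ev g).comp φ.toAlgHom) Polynomial.X |>.trans
    (by rw [Polynomial.aeval_X_left, AlgHom.comp_id])).symm p

/-- A group law on the line with the origin as unit. -/
theorem mul_coord_Ga (φ : k[X] ≃ₐ[k] Fn G) (h0 : evPt η[G] (φ Polynomial.X) = 0) :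
    ev μ[G] (φ Polynomial.X) = ev (fst G G) (φ Polynomial.X) + ev (snd G G) (φ Polynomial.X) := by
  haveI := AntiAffine.isSeparated_grp G
  let e := AlgEquiv.ofBijective (toProd G G) (toProd_bijective G G)
  let t := φ Polynomial.X
  let Φ : k[X] ⊗[k] k[X] ≃ₐ[k] Fn (G ⊗ G) := (Algebra.TensorProduct.congr φ φ).trans e
  let z := Φ.symm (ev μ[G] t)
  let z' := Algebra.TensorProduct.comm k k[X] k[X] z
  let M := (polyEquivTensor k k[X]).symm z'
  let M' := (polyEquivTensor k k[X]).symm z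
  have hswap : ∀ (C : Type u) [CommRing C] [Algebra k C] (a b : C), LineAlg.op M' a b = LineAlg.op M b a := by
    intro C _ _ a b
    rw [op_lift]
    have hh : (Algebra.TensorProduct.lift (Polynomial.aeval b) (Polynomial.aeval a) (fun _ _ => .all _ _) : k[X] ⊗[k] k[X] →ₐ[k] C) =
        ((Algebra.TensorProduct.lift (Polynomial.aeval a) (Polynomial.aeval b) (fun _ _ => .all _ _)).comp
          (Algebra.TensorProduct.comm k k[X] k[X]).toAlgHom : k[X] ⊗[k] k[X] →ₐ[k] C) := by
      refine Algebra.TensorProduct.ext' fun p q => ?_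
      show Algebra.TensorProduct.lift (Polynomial.aeval b) (Polynomial.aeval a) (fun _ _ => .all _ _) (p ⊗ₜ[k] q) =
        Algebra.TensorProduct.lift (Polynomial.aeval a) (Polynomial.aeval b) (fun _ _ => .all _ _) (q ⊗ₜ[k] p)
      rw [Algebra.TensorProduct.lift_tmul, Algebra.TensorProduct.lift_tmul, _root_.mul_comm]
    rw [show M = (polyEquivTensor k k[X]).symm z' from rfl, op_lift]
    exact (DFunLike.congr_fun hh _).trans rfl
  have hmul : ∀ {T : Over (Spec (CommRingCat.of k))} (g h : T ⟶ G), ev (g * h) t = LineAlg.op M (ev g t) (ev h t) := by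
    intro T g h
    rw [← hswap, op_lift, Hom.mul_def, ← ev_ev]
    rw [show ev μ[G] t = Φ z from (Φ.apply_symm_apply _).symm]
    have hh : (ev (lift g h)).comp Φ.toAlgHom =
        Algebra.TensorProduct.lift (Polynomial.aeval (ev g t)) (Polynomial.aeval (ev h t)) (fun _ _ => .all _ _) := by
      refine Algebra.TensorProduct.ext' fun p q => ?_
      rw [Algebra.TensorProduct.lift_tmul, ← ev_aeval, ← ev_aeval]
      show ev (lift g h) (Algebra.TensorProduct.lift (ev (fst G G)) (ev (snd G G)) (fun _ _ => .all _ _) (φ p ⊗ₜ[k] φ q)) = _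
      simp [Algebra.TensorProduct.lift_tmul, ev_ev]
    exact DFunLike.congr_fun hh z
  have hpt : ∀ (T : Over (Spec (CommRingCat.of k))) (a : Fn T), ∃ g : T ⟶ G, ev g t = a := fun T a => by
    obtain ⟨g, hg⟩ := exists_hom_ev (X := G) ((Polynomial.aeval a).comp φ.symm.toAlgHom)
    exact ⟨g, by rw [hg]; simp [t]⟩
  have h1 : ∀ (T : Over (Spec (CommRingCat.of k))), ev (1 : T ⟶ G) t = 0 := fun T => by
    rw [Hom.one_def, one_fn_const, h0, map_zero]
  have h : LineAlg.IsMonoidLaw (k := k) fun C _ _ a b => LineAlg.op M a b := by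
    constructor
    · intro C _ _ a
      apply (spEquiv (k := k) C).injective
      obtain ⟨g, hg⟩ := hpt _ (spEquiv (k := k) C a)
      rw [← AlgEquiv.coe_toAlgHom, LineAlg.map_op, map_zero]
      show LineAlg.op M (spEquiv C a) 0 = spEquiv C a
      rw [← hg, ← h1, ← hmul, _root_.mul_one]
    · intro C _ _ a
      apply (spEquiv (k := k) C).injective
      obtain ⟨g, hg⟩ := hpt _ (spEquiv (k := k) C a)
      rw [← AlgEquiv.coe_toAlgHom, LineAlg.map_op, map_zero]
      show LineAlg.op M 0 (spEquiv C a) = spEquiv C a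
      rw [← hg, ← h1, ← hmul, _root_.one_mul]
    · intro C _ _ a b c
      apply (spEquiv (k := k) C).injective
      obtain ⟨g, hg⟩ := hpt _ (spEquiv (k := k) C a)
      obtain ⟨g', hg'⟩ := hpt _ (spEquiv (k := k) C b)
      obtain ⟨g'', hg''⟩ := hpt _ (spEquiv (k := k) C c)
      rw [← AlgEquiv.coe_toAlgHom]
      simp only [LineAlg.map_op]
      show LineAlg.op M (LineAlg.op M (spEquiv C a) (spEquiv C b)) (spEquiv C c) =
        LineAlg.op M (spEquiv C a) (LineAlg.op M (spEquiv C b) (spEquiv C c))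
      simp only [← hg, ← hg', ← hg'', ← hmul, _root_.mul_assoc]
  have hinv : ∃ i : k[X], LineAlg.op M i Polynomial.X = 0 := by
    obtain ⟨g, hg⟩ := hpt _ (spEquiv (k := k) k[X] Polynomial.X)
    refine ⟨(spEquiv (k := k) k[X]).symm (ev g⁻¹ t), (spEquiv (k := k) k[X]).injective ?_⟩
    rw [← AlgEquiv.coe_toAlgHom, LineAlg.map_op, map_zero]
    show LineAlg.op M (spEquiv k[X] ((spEquiv k[X]).symm (ev g⁻¹ t))) (spEquiv k[X] Polynomial.X) = 0
    rw [AlgEquiv.apply_symm_apply, ← hg, ← hmul, inv_mul_cancel, h1]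
  have hμ : ev μ[G] t = ev (fst G G * snd G G) t := by
    rw [Hom.mul_def, lift_fst_snd, Category.id_comp]
  rw [hμ, hmul]
  exact LineAlg.eq_add M M' h hswap hinv _ _ _

theorem ext_coord_Gm {G T : Over (Spec (CommRingCat.of k))} [IsAffine G.left] (φ : k[T;T⁻¹] ≃ₐ[k] Fn G) {g g' : T ⟶ G}
    (h : ev g (φ (LaurentPolynomial.T 1)) = ev g' (φ (LaurentPolynomial.T 1))) : g = g' := by
  refine ext_ev (AlgHom.ext fun f => ?_)
  obtain ⟨p, rfl⟩ := φ.surjective f
  exact DFunLike.congr_fun (algHom_ext_T (f := (ev g).comp φ.toAlgHom) (g := (ev g').comp φ.toAlgHom) h) p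

theorem ext_coord_Ga {G T : Over (Spec (CommRingCat.of k))} [IsAffine G.left] (φ : k[X] ≃ₐ[k] Fn G) {g g' : T ⟶ G}
    (h : ev g (φ Polynomial.X) = ev g' (φ Polynomial.X)) : g = g' := by
  refine ext_ev (AlgHom.ext fun f => ?_)
  obtain ⟨p, rfl⟩ := φ.surjective f
  exact DFunLike.congr_fun (Polynomial.algHom_ext (f := (ev g).comp φ.toAlgHom) (g := (ev g').comp φ.toAlgHom) h) p

end Groth.Agent.GrpSchLib.LineGroups
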