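import Groth.Agent.GrpSchLib.AffineHopf
import Groth.Agent.GrpSchLib.LineGroups
import Groth.Agent.ComodLib.Chevalley
import Mathlib.RingTheory.Ideal.Quotient.Operations

/-! A vector of functions on an affine group whose line has a given subgroup as stabiliser. -/

universe u

open CategoryTheory MonoidalCategory CartesianMonoidalCategory AlgebraicGeometry TensorProduct WithConv
open scoped MonObj

set_option linter.style.haveILetI false

namespace Groth.Agent.GrpSchLib.LineVec

open Kunneth LineGroups AffineHopf ComodLib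

variable {k : Type u} [Field k] {A : Type u} [CommRing A] [HopfAlgebra k A]

/-- The functions of a spectrum. -/
noncomputable def toFn : A ≃ₐ[k] Fn (sp k A) := spEquiv (k := k) A

instance : IsAffine (sp k A).left := isAffine_Spec _

/-- The algebra map of a point. -/
noncomputable def fn {T : Over (Spec (CommRingCat.of k))} (g : T ⟶ sp k A) : A →ₐ[k] Fn T :=
  (ev g).comp (toFn (k := k) (A := A)).toAlgHom

/-- The affinization. -/
noncomputable def aff (T : Over (Spec (CommRingCat.of k))) : T ⟶ sp k (Fn T) :=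
  Over.homMk T.left.toSpecΓ (by
    show T.left.toSpecΓ ≫ Spec.map (CommRingCat.ofHom (str T)) = T.hom
    rw [show CommRingCat.ofHom (str T) = (Scheme.ΓSpecIso (CommRingCat.of k)).inv ≫ T.hom.appTop from rfl,
      Spec.map_comp, ← Scheme.toSpecΓ_naturality_assoc, toSpecΓ_SpecMap_ΓSpecIso_inv, Category.comp_id])

theorem fn_aff {T : Over (Spec (CommRingCat.of k))} (f : A →ₐ[k] Fn T) : fn (aff T ≫ spMap f) = f := by
  ext a
  show (T.left.toSpecΓ ≫ Spec.map (CommRingCat.ofHom f.toRingHom)).appTop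
    ((Scheme.ΓSpecIso (CommRingCat.of A)).inv a) = f a
  rw [Scheme.Hom.comp_appTop, Scheme.toSpecΓ_appTop, ← CommRingCat.comp_apply, ← Category.assoc,
    ← Scheme.ΓSpecIso_inv_naturality, Category.assoc, Iso.inv_hom_id, Category.comp_id]
  rfl

theorem fn_injective {T : Over (Spec (CommRingCat.of k))} {g g' : T ⟶ sp k A} (h : fn g = fn g') : g = g' :=
  ext_ev (AlgHom.ext fun a => by
    obtain ⟨b, rfl⟩ := (toFn (k := k) (A := A)).surjective a
    exact DFunLike.congr_fun h b)

theorem aff_fn {T : Over (Spec (CommRingCat.of k))} (g : T ⟶ sp k A) : aff T ≫ spMap (fn g) = g :=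
  fn_injective (fn_aff _)

theorem fn_mul {T : Over (Spec (CommRingCat.of k))} (g h : T ⟶ sp k A) :
    fn (g * h) = (toConv (fn g) * toConv (fn h)).ofConv := by
  conv_lhs => rw [← aff_fn g, ← aff_fn h, ← MonObj.comp_mul, spMap_mul]
  exact fn_aff _

theorem fn_one (T : Over (Spec (CommRingCat.of k))) : fn (1 : T ⟶ sp k A) = (1 : WithConv (A →ₐ[k] Fn T)).ofConv := by
  have h : (1 : sp k (Fn T) ⟶ sp k A) = spMap (1 : WithConv (A →ₐ[k] Fn T)).ofConv := by
    rw [spMap_eq_mapMulEquiv, toConv_ofConv, map_one]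
  rw [← MonObj.comp_one (aff T), h]
  exact fn_aff _

variable {X : Type} [Fintype X] [DecidableEq X] {M : X → X → A} (hM : IsComodMatrix k M)

include hM in
theorem fn_mul_orbit {T : Over (Spec (CommRingCat.of k))} (g h : T ⟶ sp k A) (v : X → k) (x : X) :
    fn (g * h) (orbit k M v x) = ∑ s, fn g (M x s) * fn h (orbit k M v s) := by
  have h1 : ∀ t, fn (g * h) (M x t) = ∑ s, fn g (M x s) * fn h (M s t) := fun t => by
    rw [fn_mul]
    show (toConv (fn g) * toConv (fn h)) (M x t) = _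
    rw [AlgHom.convMul_apply, hM.comul, map_sum]
    simp
  simp only [orbit, map_sum, map_smul, h1, Finset.smul_sum, Finset.mul_sum, mul_smul_comm]
  exact Finset.sum_comm

include hM in
theorem fn_one_orbit (T : Over (Spec (CommRingCat.of k))) (v : X → k) (x : X) :
    fn (1 : T ⟶ sp k A) (orbit k M v x) = algebraMap k _ (v x) := by
  rw [fn_one]
  show (1 : WithConv (A →ₐ[k] Fn T)) (orbit k M v x) = _
  rw [AlgHom.convOne_apply]
  congr 1
  simp [orbit, map_sum, map_smul, hM.counit]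

theorem prop_of_linear {R : Type*} [CommRing R] {Y : Type} [Fintype Y] (L : Y → Y → R) (a b : Y → R)
    (h : ∀ x q, a x * b q = a q * b x) (x q : Y) :
    (∑ s, L x s * a s) * (∑ t, L q t * b t) = (∑ s, L q s * a s) * (∑ t, L x t * b t) := by
  rw [Finset.sum_mul_sum, Finset.sum_mul_sum]
  conv_rhs => rw [Finset.sum_comm]
  refine Finset.sum_congr rfl fun s _ => Finset.sum_congr rfl fun t _ => ?_
  linear_combination (L x s * L q t) * h s t

/-- Chevalley: a vector whose line remembers a subgroup. -/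
theorem exists_vec [Algebra.FiniteType k A] {B : Type u} [CommRing B] [HopfAlgebra k B] (π : A →ₐc[k] B)
    (hπ : Function.Surjective π) :
    ∃ (n : ℕ) (z α : Fin (n + 1) → Fn (sp k A)), ∑ l, α l * z l = 1 ∧
      ∀ (T : Over (Spec (CommRingCat.of k))) (g g' : T ⟶ sp k A),
        (∀ x q, ev g (z x) * ev g' (z q) = ev g (z q) * ev g' (z x)) ↔
          ∃ h : T ⟶ sp k B, g⁻¹ * g' = h ≫ spMap (π : A →ₐ[k] B) := by
  classical
  obtain ⟨d, e, M, hM, hblock, hkill⟩ := exists_block_matrix π hπ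
  let ι₀ : Fin d → Fin d ⊕ Fin e := Sum.inl
  let M₁ := powMatrix M d
  have hM₁ : IsComodMatrix k M₁ := hM.powMatrix d
  let v₁ := minorVec k ι₀
  have hv₁ : v₁ ι₀ = 1 := minorVec_self Sum.inl_injective
  obtain ⟨χ, -, heig⟩ := orbit_block hM π hblock
  let y := fun x => orbit k M₁ v₁ x
  obtain ⟨α, hα⟩ := exists_sum_mul_orbit_eq_one hM₁ (v := v₁) (t := ι₀) (by rw [hv₁]; exact one_ne_zero)
    (AlgHom.id k A)
  obtain ⟨n, hn⟩ := Nat.exists_eq_succ_of_ne_zero
    (haveI : Nonempty (Fin d → Fin d ⊕ Fin e) := ⟨ι₀⟩; Fintype.card_ne_zero (α := Fin d → Fin d ⊕ Fin e))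
  let e' : (Fin d → Fin d ⊕ Fin e) ≃ Fin (n + 1) := Fintype.equivFinOfCardEq hn
  refine ⟨n, fun l => toFn (k := k) (A := A) (y (e'.symm l)), fun l => toFn (k := k) (A := A) (α (e'.symm l)), ?_, fun T g g' => ?_⟩
  · simp only [← map_mul]
    rw [← map_sum, e'.symm.sum_comp (fun x => α x * y x)]
    exact (congrArg _ hα).trans (map_one _)
  have hz : ∀ (s : T ⟶ sp k A) (l), ev s (toFn (k := k) (A := A) (y (e'.symm l))) = fn s (orbit k M₁ v₁ (e'.symm l)) :=
    fun s l => rfl
  simp only [hz]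
  let P : (T ⟶ sp k A) → (T ⟶ sp k A) → Prop := fun a b => ∀ x q,
    fn a (orbit k M₁ v₁ x) * fn b (orbit k M₁ v₁ q) = fn a (orbit k M₁ v₁ q) * fn b (orbit k M₁ v₁ x)
  have hP : ∀ c a b : T ⟶ sp k A, P a b → P (c * a) (c * b) := by
    intro c a b h x q
    rw [fn_mul_orbit hM₁, fn_mul_orbit hM₁, fn_mul_orbit hM₁, fn_mul_orbit hM₁]
    exact prop_of_linear (fun x s => fn c (M₁ x s)) _ _ h x q
  have h1 : (∀ x q, fn g (orbit k M₁ v₁ (e'.symm x)) * fn g' (orbit k M₁ v₁ (e'.symm q)) =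
      fn g (orbit k M₁ v₁ (e'.symm q)) * fn g' (orbit k M₁ v₁ (e'.symm x))) ↔ P 1 (g⁻¹ * g') := by
    constructor
    · intro h
      have h' : P g g' := fun x q => by simpa using h (e' x) (e' q)
      simpa using hP g⁻¹ g g' h'
    · intro h x q
      have h' := hP g 1 (g⁻¹ * g') h
      rw [mul_one, mul_inv_cancel_left] at h'
      exact h' _ _
  rw [h1]
  generalize g⁻¹ * g' = h
  constructor
  · intro hh
    let c := fn h (orbit k M₁ v₁ ι₀)
    have hy : ∀ x, fn h (orbit k M₁ v₁ x) = algebraMap k _ (v₁ x) * c := fun x => by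
      have := hh ι₀ x
      rw [fn_one_orbit hM₁, fn_one_orbit hM₁, hv₁, map_one, _root_.one_mul] at this
      exact this
    obtain ⟨β, hβ⟩ := exists_sum_mul_orbit_eq_one hM₁ (v := v₁) (t := ι₀) (by rw [hv₁]; exact one_ne_zero) (fn h)
    have hu : IsUnit c := by
      refine IsUnit.of_mul_eq_one (∑ x, β x * algebraMap k (Fn T) (v₁ x)) ?_
      rw [← hβ, Finset.mul_sum]
      exact Finset.sum_congr rfl fun x _ => by rw [hy x]; ring
    have hker := hkill (Fn T) (fn h) fun r m => eq_zero_of_minors ((Matrix.of M).map (fn h)) c hu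
      (fun i => (map_orbit_minorVec M (fn h) i).symm.trans ((hy i).trans (Algebra.smul_def _ _).symm)) r m
    let f : B →ₐ[k] Fn T := AlgHom.liftOfSurjective (π : A →ₐ[k] B) hπ (fn h) fun a ha => hker a ha
    refine ⟨aff T ≫ spMap f, fn_injective ?_⟩
    rw [Category.assoc, spMap_comp, fn_aff]
    exact (AlgHom.liftOfSurjective_comp _ _ _ _).symm
  · rintro ⟨h', rfl⟩ x q
    have hy : ∀ x, fn (h' ≫ spMap (π : A →ₐ[k] B)) (orbit k M₁ v₁ x) = algebraMap k _ (v₁ x) * fn h' χ := fun x => by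
      rw [← aff_fn h', Category.assoc, spMap_comp, fn_aff, fn_aff]
      show fn h' (π (orbit k M₁ v₁ x)) = _
      rw [heig, map_smul, Algebra.smul_def]
    rw [fn_one_orbit hM₁, fn_one_orbit hM₁, hy, hy]
    ring

end Groth.Agent.GrpSchLib.LineVec
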