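import Groth.Agent.GrpSchLib.ProjLine
import Groth.Agent.GrpSchLib.LineVec
import Groth.Agent.GrpSchLib.AffineHopfClosed
import Groth.Agent.GrpSchLib.HomFinite
import Groth.Agent.GrpSchLib.Coincidence
import Groth.Agent.GrpSchLib.AntiAffineHom
import Groth.Agent.GrpSchLib.Action
import Groth.Agent.AlgStLib.MonoQuotGrp
import Groth.Agent.ZetaLib.ProjPoints
import Groth.Prelude.Def_AGF
import Mathlib.AlgebraicGeometry.Morphisms.Finite
import Mathlib.AlgebraicGeometry.Morphisms.QuasiFinite

/-! The quotient of an affine group by a subgroup. -/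

universe u

open CategoryTheory CategoryTheory.Limits MonoidalCategory CartesianMonoidalCategory MonObj AlgebraicGeometry

set_option linter.style.haveILetI false

namespace Groth.Agent.GrpSchLib.HomogeneousQuot

open Kunneth LineGroups

variable {k : Type u} [Field k]

/-- An affine group and a subgroup have a vector of functions whose line remembers the subgroup. -/
theorem exists_vec (G H : Over (Spec (CommRingCat.of k))) [GrpObj G] [GrpObj H] [IsAffine G.left]
    [LocallyOfFiniteType G.hom] (i : H ⟶ G) [IsMonHom i] [IsClosedImmersion i.left] :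
    ∃ (n : ℕ) (z α : Fin (n + 1) → Fn G), ∑ l, α l * z l = 1 ∧
      ∀ (T : Over (Spec (CommRingCat.of k))) (g g' : T ⟶ G),
        (∀ x q, ev g (z x) * ev g' (z q) = ev g (z q) * ev g' (z x)) ↔ ∃ h : T ⟶ H, g⁻¹ * g' = h ≫ i := by
  haveI : IsAffine H.left := isAffine_of_isAffineHom i.left
  obtain ⟨A, _, _, ⟨eG⟩⟩ := AffineHopf.exists_hopf G
  obtain ⟨B, _, _, ⟨eN⟩⟩ := AffineHopf.exists_hopf H
  let a : AffineHopf.sp k A ≅ G := (Grp.forget _).mapIso eG
  let b : AffineHopf.sp k B ≅ H := (Grp.forget _).mapIso eN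
  haveI : IsMonHom a.hom := eG.hom.hom.isMonHom_hom
  haveI : IsMonHom a.inv := eG.inv.hom.isMonHom_hom
  haveI : IsMonHom b.hom := eN.hom.hom.isMonHom_hom
  haveI : IsIso a.hom.left := ((Over.forget _).mapIso a).isIso_hom
  haveI : IsIso a.inv.left := ((Over.forget _).mapIso a).isIso_inv
  haveI : IsIso b.hom.left := ((Over.forget _).mapIso b).isIso_hom
  haveI : Algebra.FiniteType k A := RingHom.finiteType_algebraMap.mp
    ((HasRingHomProperty.Spec_iff (P := @LocallyOfFiniteType)).mp (by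
      show LocallyOfFiniteType (AffineHopf.sp k A).hom
      rw [← Over.w a.hom]; infer_instance))
  obtain ⟨π, hπ⟩ := AffineHopf.exists_bialgHom (b.hom ≫ i ≫ a.inv)
  have hsurj : Function.Surjective π := AffineHopf.surjective_of_isClosedImmersion (π : A →ₐ[k] B) (by
    rw [← hπ, Over.comp_left, Over.comp_left]; infer_instance)
  obtain ⟨n, z, α, h1, hz⟩ := LineVec.exists_vec π hsurj
  refine ⟨n, fun l => ev a.inv (z l), fun l => ev a.inv (α l), ?_, fun T g g' => ?_⟩
  · simp only [← map_mul, ← map_sum, h1, map_one]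
  simp only [ev_ev]
  rw [hz T (g ≫ a.inv) (g' ≫ a.inv), ← hπ]
  constructor
  · rintro ⟨h, hh⟩
    refine ⟨h ≫ b.hom, ?_⟩
    have h2 := congrArg (· ≫ a.hom) hh
    simpa [MonObj.mul_comp, GrpObj.inv_comp] using h2
  · rintro ⟨h, hh⟩
    refine ⟨h ≫ b.inv, ?_⟩
    rw [← GrpObj.inv_comp, ← MonObj.mul_comp, hh]
    simp

theorem exists_quot (G H : Over (Spec (CommRingCat.of k))) [GrpObj G] [GrpObj H] [IsAffine G.left]
    [LocallyOfFiniteType G.hom] [LocallyOfFiniteType H.hom] [QuasiCompact H.hom] (i : H ⟶ G) [IsMonHom i] [Mono i] :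
    ∃ (X : Over (Spec (CommRingCat.of k))) (a : AlgGrp.Action G X) (o : 𝟙_ (Over (Spec (CommRingCat.of k))) ⟶ X),
      LocallyOfFiniteType X.hom ∧ QuasiCompact X.hom ∧
      Flat (a.orbitMap o).left ∧ Surjective (a.orbitMap o).left ∧
      IsPullback (fst G H) ((G ◁ i) ≫ μ[G]) (a.orbitMap o) (a.orbitMap o) := by
  haveI : QuasiCompact G.hom := inferInstance
  haveI := AntiAffine.isSeparated_grp G
  haveI := AntiAffine.isSeparated_grp H
  haveI : Mono i.left := (Over.forget _).map_mono i
  haveI : QuasiCompact (i.left ≫ G.hom) := by rw [Over.w i]; infer_instance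
  haveI : QuasiCompact i.left := QuasiCompact.of_comp i.left G.hom
  haveI : LocallyOfFiniteType (i.left ≫ G.hom) := by rw [Over.w i]; infer_instance
  haveI : LocallyOfFiniteType i.left := locallyOfFiniteType_of_comp i.left G.hom
  haveI : IsFinite i.left := HomFinite.isFinite i
  haveI : IsClosedImmersion i.left := (IsClosedImmersion.iff_isFinite_and_mono _).mpr ⟨inferInstance, inferInstance⟩
  obtain ⟨n, z, α, h1, hz⟩ := exists_vec G H i
  obtain ⟨φ, hφ⟩ := ProjLine.exists_hom G z α h1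
  have hcrit : ∀ (T : Over (Spec (CommRingCat.of k))) (g g' : T ⟶ G),
      g ≫ φ = g' ≫ φ ↔ ∃ h : T ⟶ H, g⁻¹ * g' = h ≫ i := fun T g g' => (hφ T g g').trans (hz T g g')
  -- the kernel pair
  have hmulr : ∀ {T : Over (Spec (CommRingCat.of k))} (m : T ⟶ G ⊗ H),
      m ≫ (G ◁ i) ≫ μ[G] = (m ≫ fst G H) * (m ≫ snd G H ≫ i) := fun {T} m => by
    have : m ≫ (G ◁ i) = lift (m ≫ fst G H) (m ≫ snd G H ≫ i) := by
      apply CartesianMonoidalCategory.hom_ext <;> simp
    rw [Hom.mul_def, ← this, Category.assoc]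
  have sq : IsPullback (fst G H) ((G ◁ i) ≫ μ[G]) φ φ := by
    have hw : fst G H ≫ φ = ((G ◁ i) ≫ μ[G]) ≫ φ := by
      refine (hcrit _ _ _).mpr ⟨snd G H, ?_⟩
      rw [← Category.id_comp ((G ◁ i) ≫ μ[G]), hmulr, Category.id_comp, Category.id_comp, inv_mul_cancel_left]
    choose h hh using fun c : PullbackCone φ φ => (hcrit _ c.fst c.snd).mp c.condition
    refine ⟨⟨hw⟩, ⟨PullbackCone.IsLimit.mk _ (fun c => lift c.fst (h c)) (fun c => lift_fst _ _) (fun c => ?_)
      (fun c m h₁ h₂ => ?_)⟩⟩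
    · rw [hmulr, lift_fst, lift_snd_assoc, ← hh, mul_inv_cancel_left]
    · refine CartesianMonoidalCategory.hom_ext _ _ (by rw [h₁, lift_fst]) ?_
      rw [lift_snd, ← cancel_mono i, ← hh c, Category.assoc]
      rw [hmulr, h₁] at h₂
      rw [← h₂, inv_mul_cancel_left]
  haveI : LocallyOfFiniteType (φ.left ≫ (ProjLine.Pn k n).hom) := by rw [Over.w φ]; infer_instance
  haveI : LocallyOfFiniteType φ.left := locallyOfFiniteType_of_comp φ.left (ProjLine.Pn k n).hom
  haveI : LocallyOfFiniteType (ProjLine.Pn k n).hom := ZetaLib.locallyOfFiniteType_projSpace n k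
  haveI : IsLocallyNoetherian (ProjLine.Pn k n).left := LocallyOfFiniteType.isLocallyNoetherian (ProjLine.Pn k n).hom
  haveI : LocallyOfFinitePresentation φ.left := inferInstance
  haveI : Flat H.hom := inferInstance
  have sqL : IsPullback (fst G H).left ((G ◁ i) ≫ μ[G]).left φ.left φ.left := sq.map (Over.forget _)
  haveI : Flat (pullback.fst φ.left φ.left) := by
    haveI : Flat (fst G H).left := AlgStLib.MonoFactor.flat_fst_left G H inferInstance
    rw [← sqL.isoPullback_inv_fst]
    infer_instance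
  obtain ⟨Q', p', q', hs, hfl, hlfp, hmono, hpq⟩ := AlgStLib.MonoFactor.exists_factor φ.left
  let Q : Over (Spec (CommRingCat.of k)) := Over.mk (q' ≫ (ProjLine.Pn k n).hom)
  let p : G ⟶ Q := Over.homMk p' (by show p' ≫ q' ≫ _ = _; rw [reassoc_of% hpq, Over.w φ])
  let j : Q ⟶ ProjLine.Pn k n := Over.homMk q' rfl
  haveI : Mono j := Over.mono_of_mono_left j
  have hpj : p ≫ j = φ := Over.OverMorphism.ext hpq
  have sqQ : IsPullback (fst G H) ((G ◁ i) ≫ μ[G]) p p := AlgStLib.MonoFactor.isPullback_of_mono hpj hpj sq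
  haveI : Surjective p.left := hs
  haveI : Flat p.left := hfl
  haveI : LocallyOfFinitePresentation p.left := hlfp
  have hinv : ∀ (T : Over (Spec (CommRingCat.of k))) (g g' : T ⟶ G),
      g ≫ p = g' ≫ p ↔ ∃ h : T ⟶ H, g⁻¹ * g' = h ≫ i := fun T g g' => by
    rw [← hcrit, ← hpj, ← Category.assoc, ← Category.assoc, cancel_mono j]
  -- the action
  have hfppf : ∀ W : Over (Spec (CommRingCat.of k)),
      Surjective (W ◁ p).left ∧ Flat (W ◁ p).left ∧ LocallyOfFinitePresentation (W ◁ p).left := fun W => by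
    have hp := isPullback_whiskerLeft (W := W) p
    exact ⟨MorphismProperty.of_isPullback (P := @Surjective) hp.flip inferInstance,
      MorphismProperty.of_isPullback (P := @Flat) hp.flip inferInstance,
      MorphismProperty.of_isPullback (P := @LocallyOfFinitePresentation) hp.flip inferInstance⟩
  haveI he : ∀ W : Over (Spec (CommRingCat.of k)), EffectiveEpi (W ◁ p).left := fun W => by
    obtain ⟨_, _, _⟩ := hfppf W
    infer_instance
  haveI hepi : ∀ W : Over (Spec (CommRingCat.of k)), Epi (W ◁ p) := fun W => by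
    haveI := he W
    exact Over.epi_of_epi_left _
  let act₀ := EffectiveEpi.desc (G ◁ p).left (μ[G] ≫ p).left fun {Z} g₁ g₂ h => by
    let T : Over (Spec (CommRingCat.of k)) := Over.mk (g₁ ≫ (G ⊗ G).hom)
    let a₁ : T ⟶ G ⊗ G := Over.homMk g₁ rfl
    let a₂ : T ⟶ G ⊗ G := Over.homMk g₂ (by
      show g₂ ≫ (G ⊗ G).hom = g₁ ≫ (G ⊗ G).hom
      rw [← Over.w (G ◁ p), ← Category.assoc, ← h, Category.assoc])
    have ha : a₁ ≫ (G ◁ p) = a₂ ≫ (G ◁ p) := Over.OverMorphism.ext h
    have hf : a₁ ≫ fst G G = a₂ ≫ fst G G := by simpa using congrArg (· ≫ fst G Q) ha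
    have hs' : (a₁ ≫ snd G G) ≫ p = (a₂ ≫ snd G G) ≫ p := by simpa using congrArg (· ≫ snd G Q) ha
    obtain ⟨h', hh'⟩ := (hinv _ _ _).mp hs'
    have : (a₁ ≫ μ[G]) ≫ p = (a₂ ≫ μ[G]) ≫ p := by
      refine (hinv _ _ _).mpr ⟨h', ?_⟩
      have hμ : ∀ a : T ⟶ G ⊗ G, a ≫ μ[G] = (a ≫ fst G G) * (a ≫ snd G G) := fun a => by
        rw [Hom.mul_def, lift_comp_fst_snd]
      rw [hμ, hμ, hf, _root_.mul_inv_rev, _root_.mul_assoc, inv_mul_cancel_left, hh']
    have h3 := congrArg CommaMorphism.left this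
    simp only [Over.comp_left, Category.assoc] at h3
    exact h3
  have hact₀ : (G ◁ p).left ≫ act₀ = (μ[G] ≫ p).left := EffectiveEpi.fac _ _ _
  let act : G ⊗ Q ⟶ Q := Over.homMk act₀ (by
    haveI : Epi (G ◁ p).left := inferInstance
    rw [← cancel_epi (G ◁ p).left, reassoc_of% hact₀, Over.w, Over.w])
  have hact : (G ◁ p) ≫ act = μ[G] ≫ p := Over.OverMorphism.ext hact₀
  let a : AlgGrp.Action G Q :=
    { act := act
      one_act := by
        rw [← cancel_epi (𝟙_ _ ◁ p), ← Category.assoc, whisker_exchange, Category.assoc, hact,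
          ← Category.assoc, MonObj.one_mul, leftUnitor_naturality]
      mul_act := by
        rw [← cancel_epi ((G ⊗ G) ◁ p), ← Category.assoc, whisker_exchange, Category.assoc, hact,
          associator_naturality_right_assoc, ← whiskerLeft_comp_assoc, hact, whiskerLeft_comp_assoc, hact,
          MonObj.mul_assoc_assoc] }
  let o : 𝟙_ (Over (Spec (CommRingCat.of k))) ⟶ Q := η[G] ≫ p
  have horb : a.orbitMap o = p := by
    show lift (𝟙 G) (toUnit G ≫ η[G] ≫ p) ≫ act = p
    rw [show lift (𝟙 G) (toUnit G ≫ η[G] ≫ p) = lift (𝟙 G) (toUnit G ≫ η[G]) ≫ (G ◁ p) by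
      rw [lift_whiskerLeft, Category.assoc]]
    rw [Category.assoc, hact, ← Category.assoc, ← Hom.mul_def, ← Hom.one_def, _root_.mul_one, Category.id_comp]
  haveI : CompactSpace G.left := (quasiCompact_iff_compactSpace G.hom).mp inferInstance
  haveI : LocallyOfFiniteType Q.hom := by
    haveI : IsClosedImmersion (pullback.diagonal q') := inferInstance
    haveI : LocallyOfFiniteType (p.left ≫ Q.hom) := by rw [Over.w p]; infer_instance
    haveI : LocallyOfFinitePresentation (p.left ≫ Q.hom) := inferInstance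
    haveI := SrcDescent.locallyOfFinitePresentation_of_fppf_comp p.left Q.hom
    infer_instance
  refine ⟨Q, a, o, inferInstance, ?_, ?_, ?_, ?_⟩
  · haveI : CompactSpace Q.left := ⟨by
      rw [← Set.range_eq_univ.mpr p.left.surjective]
      exact isCompact_range p.left.continuous⟩
    exact (quasiCompact_iff_compactSpace Q.hom).mpr inferInstance
  all_goals rw [horb]
  · infer_instance
  · infer_instance
  · exact sqQ

end Groth.Agent.GrpSchLib.HomogeneousQuot
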