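import Groth.Agent.GrpSchLib.AdjointQuot
import Groth.Agent.GrpSchLib.ImageFactor
import Groth.Prelude.Def_RedSub

/-! The centre of a connected algebraic group exists and the quotient by it is an affine group. -/

universe u

open CategoryTheory Limits AlgebraicGeometry MonoidalCategory CartesianMonoidalCategory MonObj GrpObj

namespace Groth.Agent.GrpSchLib.Adjoint

open Kunneth LineGroups

variable {k : Type u} [Field k] (G : Over (Spec (CommRingCat.of k))) [GrpObj G] [LocallyOfFiniteType G.hom]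
  [QuasiCompact G.hom] [ConnectedSpace G.left]

/-- The centre and the affine quotient by it. -/
theorem exists_centre_quot : ∃ (Z : Over (Spec (CommRingCat.of k))) (_ : GrpObj Z) (i : Z ⟶ G),
    IsMonHom i ∧ IsClosedImmersion i.left ∧ Red.IsCentre i ∧
    ∃ (Q : Over (Spec (CommRingCat.of k))) (_ : GrpObj Q) (q : G ⟶ Q), IsMonHom q ∧ IsAffine Q.left ∧
      LocallyOfFiniteType Q.hom ∧ QuasiCompact Q.hom ∧ Flat q.left ∧ Surjective q.left ∧ AlgGrp.IsKernel i q := by
  classical
  haveI := AntiAffine.isSeparated_grp G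
  obtain ⟨D⟩ := exists_nbhds G η[G]
  obtain ⟨F, hF⟩ := exists_finset D
  obtain ⟨N, M, hM, hMiff⟩ := exists_rep D F
  let H : Over (Spec (CommRingCat.of k)) := FrB.GLn N (Spec (CommRingCat.of k))
  haveI : IsAffine (FrB.GLZ.{u} N).left := inferInstanceAs (IsAffine (Spec _))
  haveI : IsAffineHom (FrB.GLZ.{u} N).hom := inferInstance
  haveI : IsAffineHom H.hom := inferInstanceAs (IsAffineHom (pullback.snd _ _))
  haveI : IsAffine H.left := isAffine_of_isAffineHom H.hom
  haveI : LocallyOfFiniteType (FrB.GLZ.{u} N).hom := by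
    refine (HasRingHomProperty.Spec_iff (P := @LocallyOfFiniteType)).mpr ?_
    refine RingHom.finiteType_algebraMap.mpr ?_
    have h : Algebra.FiniteType (ULift.{u} ℤ) (MvPolynomial (CoordGrp.GLPoly.Idx N) (ULift.{u} ℤ)) := inferInstance
    exact @Algebra.FiniteType.of_surjective _ _ _ _ _ _ _ _ h (CoordGrp.GLn.mk N (ULift.{u} ℤ))
      Ideal.Quotient.mk_surjective
  haveI : LocallyOfFiniteType H.hom := inferInstanceAs (LocallyOfFiniteType (pullback.snd _ _))
  haveI : QuasiCompact H.hom := inferInstance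
  let ρ : G ⟶ H := hM.hom
  haveI : IsMonHom ρ := hM.isMonHom_hom
  obtain ⟨Q, _, q, j, hq, hj, hqj, hjc, hfl, hs, hlft, hqc⟩ := ImageFactor.exists_image ρ
  haveI := hq; haveI := hj; haveI := hjc
  haveI : IsAffine Q.left := isAffine_of_isAffineHom j.left
  haveI : IsSeparated Q.hom := AntiAffine.isSeparated_grp Q
  obtain ⟨Z, _, i, hi, hic, -, hker⟩ := exists_kernel q
  haveI := hi; haveI := hic
  haveI : Mono i := ⟨fun a b hab => hker.hom_ext hab (toUnit_unique _ _)⟩
  haveI : Mono j := (Over.forget _).mono_of_mono_map (inferInstanceAs (Mono j.left))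
  refine ⟨Z, inferInstance, i, hi, hic, ⟨hi, inferInstance, fun X g => ?_⟩, Q, inferInstance, q, hq,
    inferInstance, hlft, hqc, hfl, hs, hker⟩
  have hfac : (∃ z : X ⟶ Z, z ≫ i = g) ↔ g ≫ ρ = 1 := by
    constructor
    · rintro ⟨z, rfl⟩
      rw [← hqj, Category.assoc, reassoc_of% hker.w, ← Category.assoc, comp_toUnit, ← Category.assoc,
        MonObj.one_eq_one, MonObj.comp_one, MonObj.one_comp]
    · intro h
      have h1 : g ≫ q = toUnit X ≫ η[Q] := by
        rw [← cancel_mono j, Category.assoc, Category.assoc, hqj, h, IsMonHom.one_hom j, MonObj.one_eq_one,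
          MonObj.comp_one]
      exact ⟨hker.lift g (toUnit X) h1, hker.lift_fst _ _ h1⟩
  rw [hfac]
  simp only [Category.comp_id]
  constructor
  · intro h X' x y
    have hm : M.map (ev g) = 1 := by
      have h2 : g ≫ matPt M hM.isUnit = 1 := h
      rw [comp_matPt] at h2
      exact matPt_injective (hN := isUnit_one) (h2.trans matPt_one.symm)
    refine Over.OverMorphism.ext (Scheme.Cover.hom_ext (X.left.affineCover.pullback₁ x.left) _ _ fun c => ?_)
    let R : Over (Spec (CommRingCat.of k)) := Over.mk (X.left.affineCover.f c ≫ X.hom)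
    let r : R ⟶ X := Over.homMk (X.left.affineCover.f c) rfl
    haveI : IsAffine R.left := inferInstanceAs (IsAffine (X.left.affineCover.X c))
    let W : Over (Spec (CommRingCat.of k)) := Over.mk (pullback.fst x.left (X.left.affineCover.f c) ≫ X'.hom)
    let w : W ⟶ X' := Over.homMk (pullback.fst x.left (X.left.affineCover.f c)) rfl
    let t : W ⟶ R := Over.homMk (pullback.snd x.left (X.left.affineCover.f c)) (by
      show pullback.snd _ _ ≫ X.left.affineCover.f c ≫ X.hom = pullback.fst _ _ ≫ X'.hom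
      rw [← pullback.condition_assoc, Over.w x])
    have hwt : w ≫ x = t ≫ r := Over.OverMorphism.ext pullback.condition
    have hr : ∀ n, (mat D n).map (ev (r ≫ g)) = 1 := hF R (r ≫ g) inferInstance fun n hn => by
      have h3 := congrArg (fun A : Matrix _ _ (Fn X) => A.map (ev r)) ((hMiff X g).mp hm n hn)
      simp only [Matrix.map_map, Matrix.map_one _ (map_zero (ev r)) (map_one (ev r))] at h3
      exact h3
    have h4 := congrArg (fun f => lift t (w ≫ y) ≫ f) (central_of_act D _ fun n => act_eq_snd D n _ (hr n))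
    simp only [lift_cj, Category.comp_id, lift_snd] at h4
    rw [← Category.assoc, ← hwt, Category.assoc, _root_.mul_assoc, inv_mul_eq_iff_eq_mul] at h4
    have h5 : w ≫ ((x ≫ g) * y) = w ≫ (y * (x ≫ g)) := by
      rw [MonObj.comp_mul, MonObj.comp_mul]
      exact h4.symm
    exact congrArg CommaMorphism.left h5
  · intro h
    refine Over.OverMorphism.ext (Scheme.Cover.hom_ext X.left.affineCover _ _ fun c => ?_)
    let R : Over (Spec (CommRingCat.of k)) := Over.mk (X.left.affineCover.f c ≫ X.hom)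
    let r : R ⟶ X := Over.homMk (X.left.affineCover.f c) rfl
    haveI : IsAffine R.left := inferInstanceAs (IsAffine (X.left.affineCover.X c))
    haveI : QuasiCompact R.hom := inferInstance
    haveI : IsSeparated R.hom := inferInstance
    have h1 : r ≫ g ≫ ρ = r ≫ (1 : X ⟶ H) := by
      rw [← Category.assoc, MonObj.comp_one]
      show (r ≫ g) ≫ matPt M _ = 1
      rw [comp_matPt, matPt_congr (hN := isUnit_one) ((hMiff R (r ≫ g)).mpr fun n _ => ?_), matPt_one]
      refine mat_map_one_of_act D n _ ?_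
      haveI := mono_j_uι D n
      rw [← cancel_mono (D.j n ≫ D.uι), Category.assoc, act_fac, comp_cj, Category.comp_id, cj]
      have h2 := h (R ⊗ D.N n) (fst R (D.N n) ≫ r) (snd R (D.N n) ≫ D.j n ≫ D.uι)
      simp only [Category.assoc] at h2 ⊢
      rw [_root_.mul_assoc, ← h2, inv_mul_cancel_left]
    exact congrArg CommaMorphism.left h1

/-- The quotient scheme by the centre is affine. -/
theorem isAffine_of_isQuotient {Z : Over (Spec (CommRingCat.of k))} [GrpObj Z] (z : Z ⟶ G) (hZ : Red.IsCentre z)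
    {Q : Over (Spec (CommRingCat.of k))} (q : G ⟶ Q) (hq : RedSub.IsQuotient z q) : IsAffine Q.left := by
  obtain ⟨Z', _, i, hi, -, hZ', I, _, p, hp, hI, -, hIqc, hfl, hs, hker⟩ := exists_centre_quot G
  obtain ⟨hqs, hqf, hqlfp, hpb⟩ := hq
  haveI := hi; haveI := hp; haveI := hI; haveI := hfl; haveI := hs; haveI := hqs; haveI := hqf; haveI := hqlfp
  haveI := hZ.1
  haveI : IsSeparated I.hom := AntiAffine.isSeparated_grp I
  haveI : QuasiCompact (p.left ≫ I.hom) := by rw [Over.w p]; infer_instance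
  haveI : QuasiCompact p.left := QuasiCompact.of_comp p.left I.hom
  have hiff : ∀ (T : Over (Spec (CommRingCat.of k))) (g : T ⟶ G), (∃ n, n ≫ z = g) ↔ (∃ n, n ≫ i = g) :=
    fun T g => (hZ.2.2 T g).trans (hZ'.2.2 T g).symm
  have hzp : z ≫ p = 1 := by
    obtain ⟨n, hn⟩ := (hiff Z z).mp ⟨𝟙 _, Category.id_comp _⟩
    rw [← hn, Category.assoc, hker.w, ← Category.assoc, comp_toUnit]
    rfl
  have hpi : ((G ◁ z) ≫ μ[G]) ≫ p = fst G Z ≫ p := by
    rw [show (G ◁ z) ≫ μ[G] = fst G Z * (snd G Z ≫ z) by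
      rw [Hom.mul_def]; congr 1, MonObj.mul_comp, Category.assoc, hzp, MonObj.comp_one,
      _root_.mul_one]
  have hqp : ∀ {W : Scheme.{u}} (g₁ g₂ : W ⟶ G.left), g₁ ≫ q.left = g₂ ≫ q.left → g₁ ≫ p.left = g₂ ≫ p.left := by
    intro W g₁ g₂ e
    let T : Over (Spec (CommRingCat.of k)) := Over.mk (g₁ ≫ G.hom)
    let a₁ : T ⟶ G := Over.homMk g₁ rfl
    let a₂ : T ⟶ G := Over.homMk g₂ (by
      show g₂ ≫ G.hom = g₁ ≫ G.hom
      rw [← Over.w q, ← Category.assoc, ← e, Category.assoc])
    have e' : a₁ ≫ q = a₂ ≫ q := Over.OverMorphism.ext e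
    have : a₁ ≫ p = a₂ ≫ p := by
      conv_rhs => rw [← hpb.lift_snd a₁ a₂ e', Category.assoc, hpi]
      rw [← Category.assoc, hpb.lift_fst]
    exact congrArg CommaMorphism.left this
  have hpq : ∀ {W : Scheme.{u}} (g₁ g₂ : W ⟶ G.left), g₁ ≫ p.left = g₂ ≫ p.left → g₁ ≫ q.left = g₂ ≫ q.left := by
    intro W g₁ g₂ e
    let T : Over (Spec (CommRingCat.of k)) := Over.mk (g₁ ≫ G.hom)
    let a₁ : T ⟶ G := Over.homMk g₁ rfl
    let a₂ : T ⟶ G := Over.homMk g₂ (by
      show g₂ ≫ G.hom = g₁ ≫ G.hom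
      rw [← Over.w p, ← Category.assoc, ← e, Category.assoc])
    have e' : a₁ ≫ p = a₂ ≫ p := Over.OverMorphism.ext e
    have hk : (a₁⁻¹ * a₂) ≫ p = toUnit T ≫ η[I] := by
      rw [MonObj.mul_comp, GrpObj.inv_comp, e', inv_mul_cancel]; rfl
    obtain ⟨n, hn⟩ := (hiff T _).mpr ⟨hker.lift _ _ hk, hker.lift_fst _ _ hk⟩
    have h := congrArg (fun f => lift a₁ n ≫ f) hpb.w
    simp only [lift_fst_assoc] at h
    rw [show (G ◁ z) ≫ μ[G] = fst G Z * (snd G Z ≫ z) by rw [Hom.mul_def]; congr 1,
      ← Category.assoc (lift a₁ n), MonObj.comp_mul, lift_fst, lift_snd_assoc, hn, mul_inv_cancel_left] at h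
    exact congrArg CommaMorphism.left h
  let l := EffectiveEpi.desc q.left p.left fun g₁ g₂ e => hqp g₁ g₂ e
  let m := EffectiveEpi.desc p.left q.left fun g₁ g₂ e => hpq g₁ g₂ e
  have hl : q.left ≫ l = p.left := EffectiveEpi.fac _ _ _
  have hm : p.left ≫ m = q.left := EffectiveEpi.fac _ _ _
  haveI : IsIso l := ⟨m, by rw [← cancel_epi q.left, reassoc_of% hl, hm, Category.comp_id],
    by rw [← cancel_epi p.left, reassoc_of% hm, hl, Category.comp_id]⟩
  exact IsAffine.of_isIso l

end Groth.Agent.GrpSchLib.Adjoint
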