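import Groth.Agent.GrpSchLib.TensorDomain
import Groth.Agent.GrpSchLib.Reduced
import Mathlib.AlgebraicGeometry.IdealSheaf.Subscheme
import Mathlib.AlgebraicGeometry.Properties
import Mathlib.AlgebraicGeometry.Pullbacks
import Mathlib.AlgebraicGeometry.Morphisms.ClosedImmersion

/-! Products of reduced schemes over a perfect field are reduced. -/

open TensorProduct CategoryTheory AlgebraicGeometry Limits

namespace Groth.Agent.GrpSchLib

universe u

section

variable {K A B : Type u} [Field K] [CommRing A] [Algebra K A] [CommRing B] [Algebra K B]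

theorem mem_of_map_quotient_eq_zero {x : A ⊗[K] B} {ι' : Type*} [DecidableEq ι'] (b : Module.Basis ι' K B) (p : Ideal A)
    (h : Algebra.TensorProduct.map (Ideal.Quotient.mkₐ K p) (AlgHom.id K B) x = 0) (i : ι') :
    TensorProduct.equivFinsuppOfBasisRight b x i ∈ p := by
  classical
  have key : ∀ y : A ⊗[K] B,
      TensorProduct.equivFinsuppOfBasisRight b (Algebra.TensorProduct.map (Ideal.Quotient.mkₐ K p)
        (AlgHom.id K B) y) i = Ideal.Quotient.mk p (TensorProduct.equivFinsuppOfBasisRight b y i) := by
    intro y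
    induction y with
    | zero => simp
    | tmul a c => simp [Algebra.smul_def]
    | add u v hu hv => simp [map_add, hu, hv]
  rw [← Ideal.Quotient.eq_zero_iff_mem, ← key, h, map_zero, Finsupp.zero_apply]

theorem eq_zero_of_forall_map_quotient [IsReduced A] (x : A ⊗[K] B)
    (h : ∀ p : Ideal A, p.IsPrime →
      Algebra.TensorProduct.map (Ideal.Quotient.mkₐ K p) (AlgHom.id K B) x = 0) : x = 0 := by
  classical
  let b := Module.Free.chooseBasis K B
  apply (TensorProduct.equivFinsuppOfBasisRight b (M := A)).injective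
  ext i
  rw [map_zero, Finsupp.zero_apply]
  refine IsReduced.eq_zero _ (?_ : _ ∈ nilradical A)
  rw [nilradical_eq_sInf, Ideal.mem_sInf]
  exact fun {p} hp => mem_of_map_quotient_eq_zero b p (h p hp) i

theorem isReduced_tensor_of_isAlgClosed [IsAlgClosed K] [IsReduced A] [IsReduced B] :
    IsReduced (A ⊗[K] B) := by
  refine ⟨fun x hx => ?_⟩
  refine eq_zero_of_forall_map_quotient x fun p hp => ?_
  apply (Algebra.TensorProduct.comm K (A ⧸ p) B).injective
  rw [map_zero]
  refine eq_zero_of_forall_map_quotient _ fun q hq => ?_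
  have : IsDomain ((B ⧸ q) ⊗[K] (A ⧸ p)) := isDomain_tensor_of_isAlgClosed
  exact (((hx.map _).map _).map _).eq_zero

theorem isReduced_tensor_of_perfectField [PerfectField K] [IsReduced A] [IsReduced B] :
    IsReduced (A ⊗[K] B) := by
  let L := AlgebraicClosure K
  have := isReduced_tensor_of_isSeparable K L A
  have := isReduced_tensor_of_isSeparable K L B
  have : IsReduced (L ⊗[K] A) :=
    isReduced_of_injective (Algebra.TensorProduct.comm K L A) (Algebra.TensorProduct.comm K L A).injective
  have : IsReduced (L ⊗[K] B) :=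
    isReduced_of_injective (Algebra.TensorProduct.comm K L B) (Algebra.TensorProduct.comm K L B).injective
  have : IsReduced ((L ⊗[K] A) ⊗[L] (L ⊗[K] B)) := isReduced_tensor_of_isAlgClosed
  let e : L ⊗[K] (A ⊗[K] B) ≃ₗ[L] (L ⊗[K] A) ⊗[L] (L ⊗[K] B) :=
    TensorProduct.AlgebraTensorModule.distribBaseChange K L A B
  have hinj : Function.Injective (Algebra.TensorProduct.map
      (Algebra.TensorProduct.includeRight : A →ₐ[K] L ⊗[K] A)
      (AlgHom.id K B) : A ⊗[K] B →ₐ[K] (L ⊗[K] A) ⊗[K] B) :=
    Module.Flat.rTensor_preserves_injective_linearMap (M := B)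
      (Algebra.TensorProduct.includeRight : A →ₐ[K] L ⊗[K] A).toLinearMap
      (Algebra.TensorProduct.includeRight_injective (algebraMap K L).injective)
  let α : (L ⊗[K] A) ⊗[L] (L ⊗[K] B) ≃ₐ[L] (L ⊗[K] A) ⊗[K] B :=
    Algebra.TensorProduct.cancelBaseChange K L L (L ⊗[K] A) B
  have : IsReduced ((L ⊗[K] A) ⊗[K] B) := isReduced_of_injective α.symm α.symm.injective
  exact isReduced_of_injective _ hinj

end

theorem isReduced_pullback_spec_spec {K : Type u} [Field K] [PerfectField K] (A B : CommRingCat.{u})
    (f : Spec A ⟶ Spec (CommRingCat.of K)) (g : Spec B ⟶ Spec (CommRingCat.of K))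
    [IsReduced (Spec A)] [IsReduced (Spec B)] : IsReduced (pullback f g) := by
  obtain ⟨s, rfl⟩ := Spec.map_surjective f
  obtain ⟨t, rfl⟩ := Spec.map_surjective g
  let : Algebra K A := s.hom.toAlgebra
  let : Algebra K B := t.hom.toAlgebra
  have : _root_.IsReduced A := affine_isReduced_iff _ |>.mp ‹_›
  have : _root_.IsReduced B := affine_isReduced_iff _ |>.mp ‹_›
  have := isReduced_tensor_of_perfectField (K := K) (A := A) (B := B)
  exact @isReduced_of_isOpenImmersion _ _ (pullbackSpecIso K A B).hom _
    (inferInstanceAs (IsReduced (Spec (CommRingCat.of (A ⊗[K] B)))))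

theorem isReduced_pullback_of_perfectField {K : Type u} [Field K] [PerfectField K] {X Y : Scheme.{u}}
    (f : X ⟶ Spec (CommRingCat.of K)) (g : Y ⟶ Spec (CommRingCat.of K)) [IsReduced X] [IsReduced Y] :
    IsReduced (pullback f g) := by
  refine @IsReduced.of_openCover _ (Scheme.Pullback.openCoverOfLeftRight X.affineOpenCover.openCover
    Y.affineOpenCover.openCover f g) fun i => ?_
  let j : X.affineOpenCover.I₀ := i.1
  let l : Y.affineOpenCover.I₀ := i.2
  have : IsOpenImmersion (X.affineOpenCover.f j) := X.affineOpenCover.map_prop j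
  have : IsOpenImmersion (Y.affineOpenCover.f l) := Y.affineOpenCover.map_prop l
  have : IsReduced (Spec (X.affineOpenCover.X j)) := isReduced_of_isOpenImmersion (X.affineOpenCover.f j)
  have : IsReduced (Spec (Y.affineOpenCover.X l)) := isReduced_of_isOpenImmersion (Y.affineOpenCover.f l)
  exact isReduced_pullback_spec_spec _ _ (X.affineOpenCover.f j ≫ f) (Y.affineOpenCover.f l ≫ g)

/-- A morphism from a reduced scheme factors through every surjective closed immersion. -/
theorem ker_le_ker_of_surjective {F X T : Scheme.{u}} (j : F ⟶ X) [IsClosedImmersion j] [Surjective j]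
    (f : T ⟶ X) [IsReduced T] : j.ker ≤ f.ker := by
  have hj : j.ker ≤ X.nilradical := by
    rw [← Scheme.IdealSheafData.vanishingIdeal_top, ← Scheme.IdealSheafData.le_support_iff_le_vanishingIdeal]
    intro x _
    show x ∈ (j.ker.support : Set X)
    rw [Scheme.Hom.support_ker, j.surjective.range_eq, closure_univ]
    trivial
  refine hj.trans (Scheme.IdealSheafData.le_ofIdeals_iff.mpr fun U a ha => ?_)
  have : IsNilpotent a := ha
  exact RingHom.mem_ker.mpr (this.map _).eq_zero

end Groth.Agent.GrpSchLib
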