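import Groth.Agent.GrpSchLib.ActRep
import Groth.Agent.GrpSchLib.ImageFactor
import Groth.Agent.GrpSchLib.KernelPair
import Groth.Agent.GrpSchLib.AntiAffineBC

/-! The affine hull of an algebraic group over a field. -/

universe u

open CategoryTheory Limits AlgebraicGeometry MonoidalCategory CartesianMonoidalCategory MonObj GrpObj

namespace Groth.Agent.GrpSchLib.Affinization

open Kunneth LineGroups

variable {k : Type u} [Field k] (G : Over (Spec (CommRingCat.of k))) [GrpObj G] [LocallyOfFiniteType G.hom]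
  [QuasiCompact G.hom]

/-- An algebraic group maps faithfully flatly onto an affine algebraic group with the same functions. -/
theorem exists_affinization :
    ∃ (I : Over (Spec (CommRingCat.of k))) (_ : GrpObj I) (p : G ⟶ I), IsMonHom p ∧ IsAffine I.left ∧
      LocallyOfFiniteType I.hom ∧ Flat p.left ∧ Surjective p.left ∧ Function.Bijective p.left.appTop := by
  classical
  haveI := AntiAffine.isSeparated_grp G
  let a : AlgGrp.Action G G :=
    { act := μ[G]
      one_act := MonObj.one_mul G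
      mul_act := MonObj.mul_assoc G }
  choose d M b hM hfix _hconv using fun f => ActRep.exists_stable a f
  obtain ⟨F, hF⟩ := RepFamily.exists_detect (G := G) M
  obtain ⟨N₀, B, hB, hBiff⟩ := RepFamily.exists_block M hM F
  let H : Over (Spec (CommRingCat.of k)) := FrB.GLn N₀ (Spec (CommRingCat.of k))
  haveI : IsAffine (FrB.GLZ.{u} N₀).left := inferInstanceAs (IsAffine (Spec _))
  haveI : IsAffineHom (FrB.GLZ.{u} N₀).hom := inferInstance
  haveI : IsAffineHom H.hom := inferInstanceAs (IsAffineHom (pullback.snd _ _))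
  haveI : IsAffine H.left := isAffine_of_isAffineHom H.hom
  haveI : LocallyOfFiniteType (FrB.GLZ.{u} N₀).hom := by
    refine (HasRingHomProperty.Spec_iff (P := @LocallyOfFiniteType)).mpr ?_
    refine RingHom.finiteType_algebraMap.mpr ?_
    have h : Algebra.FiniteType (ULift.{u} ℤ) (MvPolynomial (CoordGrp.GLPoly.Idx N₀) (ULift.{u} ℤ)) := inferInstance
    exact @Algebra.FiniteType.of_surjective _ _ _ _ _ _ _ _ h (CoordGrp.GLn.mk N₀ (ULift.{u} ℤ))
      Ideal.Quotient.mk_surjective
  haveI : LocallyOfFiniteType H.hom := inferInstanceAs (LocallyOfFiniteType (pullback.snd _ _))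
  haveI : QuasiCompact H.hom := inferInstance
  let ρ : G ⟶ H := hB.hom
  haveI : IsMonHom ρ := hB.isMonHom_hom
  obtain ⟨I, _, p, j, hp, hj, hpj, hjc, hfl, hs, hlft, hqc⟩ := ImageFactor.exists_image ρ
  haveI := hp; haveI := hj; haveI := hjc; haveI := hfl; haveI := hs
  haveI : IsAffine I.left := isAffine_of_isAffineHom j.left
  haveI : IsSeparated I.hom := AntiAffine.isSeparated_grp I
  haveI : QuasiCompact (p.left ≫ I.hom) := by rw [Over.w p]; infer_instance
  haveI : QuasiCompact p.left := QuasiCompact.of_comp p.left I.hom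
  refine ⟨I, inferInstance, p, hp, inferInstance, hlft, hfl, hs, ?_, fun f => ?_⟩
  · -- injectivity
    exact AntiAffine.appTop_injective_of_epi p.left
  -- invariance of a function under the kernel
  have hinv : ∀ (T : Over (Spec (CommRingCat.of k))) (g x : T ⟶ G), g ≫ p = x ≫ p → ev g f = ev x f := by
    intro T g x hgx
    have h1 : (g * x⁻¹) ≫ ρ = 1 := by
      rw [← hpj, ← Category.assoc, MonObj.mul_comp, GrpObj.inv_comp, hgx, mul_inv_cancel, MonObj.one_comp]
    have h2 : (g * x⁻¹) ≫ matPt B hB.isUnit = 1 := h1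
    rw [comp_matPt] at h2
    have hm : B.map (ev (g * x⁻¹)) = 1 := matPt_injective (hN := isUnit_one) (h2.trans matPt_one.symm)
    have h3 := hfix f T (g * x⁻¹) x (hF T _ ((hBiff T _).mp hm) f)
    rw [show lift (g * x⁻¹) x ≫ a.act = g from by
      show lift (g * x⁻¹) x ≫ μ[G] = g
      rw [← Hom.mul_def, inv_mul_cancel_right]] at h3
    exact h3
  -- descend the function
  let P := CommRingCat.of (Polynomial (ULift.{u} ℤ))
  let φ : P ⟶ Γ(G.left, ⊤) := CommRingCat.ofHom
    ((Polynomial.eval₂RingHom ((Int.castRingHom Γ(G.left, ⊤)).comp ULift.ringEquiv.toRingHom) f))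
  let m : G.left ⟶ Spec P := G.left.toSpecΓ ≫ Spec.map φ
  have hm : ∀ {W : Scheme.{u}} (g₁ g₂ : W ⟶ G.left), g₁ ≫ p.left = g₂ ≫ p.left → g₁ ≫ m = g₂ ≫ m := by
    intro W g₁ g₂ e
    let T : Over (Spec (CommRingCat.of k)) := Over.mk (g₁ ≫ G.hom)
    let a₁ : T ⟶ G := Over.homMk g₁ rfl
    let a₂ : T ⟶ G := Over.homMk g₂ (by
      show g₂ ≫ G.hom = g₁ ≫ G.hom
      rw [← Over.w p, ← Category.assoc, ← e, Category.assoc])
    have h4 : g₁.appTop f = g₂.appTop f := hinv T a₁ a₂ (Over.OverMorphism.ext e)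
    have h5 : φ ≫ g₁.appTop = φ ≫ g₂.appTop := by
      refine CommRingCat.hom_ext (Polynomial.ringHom_ext' ?_ ?_)
      · exact RingHom.ext fun z => by
          obtain ⟨z⟩ := z
          show g₁.appTop (Polynomial.eval₂ _ f (Polynomial.C (ULift.up z))) = g₂.appTop (Polynomial.eval₂ _ f (Polynomial.C (ULift.up z)))
          rw [Polynomial.eval₂_C]
          simp
      · show g₁.appTop (Polynomial.eval₂ _ f Polynomial.X) = g₂.appTop (Polynomial.eval₂ _ f Polynomial.X)
        rw [Polynomial.eval₂_X, h4]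
    show g₁ ≫ G.left.toSpecΓ ≫ Spec.map φ = g₂ ≫ G.left.toSpecΓ ≫ Spec.map φ
    rw [Scheme.toSpecΓ_naturality_assoc, Scheme.toSpecΓ_naturality_assoc, ← Spec.map_comp, ← Spec.map_comp, h5]
  let l := EffectiveEpi.desc p.left m fun g₁ g₂ e => hm g₁ g₂ e
  have hl : p.left ≫ l = m := EffectiveEpi.fac _ _ _
  refine ⟨l.appTop ((Scheme.ΓSpecIso P).inv Polynomial.X), ?_⟩
  rw [← ConcreteCategory.comp_apply, ← Scheme.Hom.comp_appTop, hl]
  show (G.left.toSpecΓ ≫ Spec.map φ).appTop _ = f
  rw [Scheme.Hom.comp_appTop, ConcreteCategory.comp_apply, Scheme.toSpecΓ_appTop]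
  have h6 := ConcreteCategory.congr_hom (Scheme.ΓSpecIso_naturality φ) ((Scheme.ΓSpecIso P).inv Polynomial.X)
  simp only [ConcreteCategory.comp_apply] at h6
  rw [h6, Iso.inv_hom_id_apply]
  exact Polynomial.eval₂_X _ _

/-- The canonical morphism to the affine hull is faithfully flat, and the hull is of finite type. -/
theorem toSpecΓ_flat_surjective : Surjective G.left.toSpecΓ ∧ Flat G.left.toSpecΓ ∧
    LocallyOfFiniteType (Spec.map G.hom.appTop ≫ (Spec (CommRingCat.of k)).isoSpec.inv) := by
  obtain ⟨I, _, p, -, hI, hlft, hfl, hs, hb⟩ := exists_affinization G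
  haveI := hI; haveI := hlft; haveI := hfl; haveI := hs
  haveI : IsIso p.left.appTop := (ConcreteCategory.isIso_iff_bijective _).mpr hb
  have e : G.left.toSpecΓ = p.left ≫ I.left.toSpecΓ ≫ inv (Spec.map p.left.appTop) := by
    rw [← Category.assoc, Scheme.toSpecΓ_naturality, Category.assoc, IsIso.hom_inv_id, Category.comp_id]
  refine ⟨?_, ?_, ?_⟩
  · rw [e]; infer_instance
  · rw [e]; infer_instance
  · rw [← Over.w p, Scheme.Hom.comp_appTop, Spec.map_comp, Category.assoc, Scheme.isoSpec_inv_naturality]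
    infer_instance

end Groth.Agent.GrpSchLib.Affinization
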