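import Mathlib.RingTheory.HopfAlgebra.Convolution
import Mathlib.RingTheory.Bialgebra.Hom
import Mathlib.RingTheory.Bialgebra.Convolution
import Mathlib.RingTheory.Flat.Basic
import Mathlib.RingTheory.TensorProduct.Free
import Mathlib.LinearAlgebra.Basis.VectorSpace
import Mathlib.LinearAlgebra.TensorProduct.Tower

/-! Stable submodules over a Hopf subalgebra become free after base change. -/

universe u v w

open TensorProduct WithConv

namespace Groth.Agent.GrpSchLib.HopfGalois

variable {k : Type u} [Field k] {A : Type v} [CommRing A] [HopfAlgebra k A] {B : Type w} [CommRing B] [HopfAlgebra k B]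

theorem id_antipode : toConv (AlgHom.id k B) * toConv (HopfAlgebra.antipodeAlgHom k B) = 1 := by
  apply WithConv.ofConv_injective
  apply AlgHom.toLinearMap_injective
  apply WithConv.toConv_injective
  rw [AlgHom.toLinearMap_convMul, AlgHom.toLinearMap_convOne]
  simp [LinearMap.id_mul_antipode]

theorem antipode_bialgHom (π : A →ₐc[k] B) (a : A) :
    HopfAlgebraStruct.antipode (R := k) (π a) = π (HopfAlgebraStruct.antipode (R := k) a) := by
  have h1 : toConv ((π : A →ₐ[k] B).comp (HopfAlgebra.antipodeAlgHom k A)) * toConv (π : A →ₐ[k] B) = 1 := by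
    apply WithConv.ofConv_injective
    have h := AlgHom.comp_convMul_distrib (π : A →ₐ[k] B) (toConv (HopfAlgebra.antipodeAlgHom k A)) (toConv (AlgHom.id k A))
    rw [AlgHom.antipode_id_cancel] at h
    refine h.symm.trans ?_
    ext x
    exact (π : A →ₐ[k] B).commutes _
  have h2 : toConv (π : A →ₐ[k] B) * toConv ((HopfAlgebra.antipodeAlgHom k B).comp (π : A →ₐ[k] B)) = 1 := by
    apply WithConv.ofConv_injective
    have h := AlgHom.convMul_comp_bialgHom_distrib (toConv (AlgHom.id k B)) (toConv (HopfAlgebra.antipodeAlgHom k B)) π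
    rw [id_antipode] at h
    refine h.symm.trans ?_
    ext x
    simp [Algebra.TensorProduct.one_def]
  have h3 := left_inv_eq_right_inv h1 h2
  exact (congrArg (fun f => f.ofConv a) h3).symm

variable [Algebra A B] [IsScalarTower k A B] (M : Submodule A B)

/-- The action of `A ⊗ A` on `M ⊗ B`. -/
noncomputable def act : A ⊗[k] A →ₗ[k] (M ⊗[k] B) →ₗ[k] (M ⊗[k] B) :=
  TensorProduct.lift ((TensorProduct.mapBilinear (RingHom.id k) M B M B).compl₁₂ (Algebra.lsmul k k M).toLinearMap
    ((LinearMap.mul k B).comp (IsScalarTower.toAlgHom k A B).toLinearMap))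

theorem act_tmul (a a' : A) (m : M) (b : B) :
    act M (a ⊗ₜ[k] a') (m ⊗ₜ[k] b) = (a • m) ⊗ₜ[k] (algebraMap A B a' * b) := rfl

theorem incl_injective : Function.Injective ((M.subtype.restrictScalars k).rTensor B) :=
  Module.Flat.rTensor_preserves_injective_linearMap _ Subtype.val_injective

theorem incl_act (z : A ⊗[k] A) (w : M ⊗[k] B) :
    (M.subtype.restrictScalars k).rTensor B (act M z w) =
      Algebra.TensorProduct.map (IsScalarTower.toAlgHom k A B) (IsScalarTower.toAlgHom k A B) z *
        (M.subtype.restrictScalars k).rTensor B w := by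
  induction z using TensorProduct.induction_on with
  | zero => simp
  | tmul a a' =>
    induction w using TensorProduct.induction_on with
    | zero => simp
    | tmul m b => simp [act_tmul, Algebra.smul_def]
    | add s t hs ht => simp only [map_add, hs, ht, mul_add]
  | add s t hs ht => simp only [map_add, LinearMap.add_apply, hs, ht, add_mul]

variable (hf : ∀ a : A, Algebra.TensorProduct.map (IsScalarTower.toAlgHom k A B) (IsScalarTower.toAlgHom k A B)
    (Coalgebra.comul (R := k) a) = Coalgebra.comul (R := k) (algebraMap A B a))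
  (hM : ∀ m : M, Coalgebra.comul (R := k) (m : B) ∈ LinearMap.range ((M.subtype.restrictScalars k).rTensor B))

include hM in
theorem exists_coaction : ∃ r : M →ₗ[k] M ⊗[k] B,
    ∀ m, (M.subtype.restrictScalars k).rTensor B (r m) = Coalgebra.comul (R := k) (m : B) :=
  ⟨(LinearEquiv.ofInjective _ (incl_injective (k := k) M)).symm.toLinearMap ∘ₗ
    ((Coalgebra.comul ∘ₗ M.subtype.restrictScalars k).codRestrict _ hM), fun m =>
    congrArg Subtype.val (LinearEquiv.apply_symm_apply (LinearEquiv.ofInjective _ (incl_injective (k := k) M)) _)⟩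

include hf hM in
/-- The base change of a stable submodule is free. -/
theorem free_baseChange (hS : ∀ a : A, HopfAlgebraStruct.antipode (R := k) (algebraMap A B a) =
      algebraMap A B (HopfAlgebraStruct.antipode (R := k) a)) :
    Module.Free B (B ⊗[A] M) := by
  classical
  obtain ⟨r, hr⟩ := exists_coaction M hM
  have hr_smul : ∀ (a : A) (m : M), r (a • m) = act M (Coalgebra.comul (R := k) a) (r m) := fun a m => by
    apply incl_injective (k := k) M
    rw [incl_act, hr, hr, hf]
    show Coalgebra.comul (R := k) ((a • (m : B)) : B) = _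
    rw [Algebra.smul_def, Bialgebra.comul_mul]
  have hcoassoc : ∀ m, TensorProduct.assoc k M B B (r.rTensor B (r m)) = (Coalgebra.comul (R := k)).lTensor M (r m) := by
    intro m
    apply Module.Flat.rTensor_preserves_injective_linearMap (M := B ⊗[k] B) (M.subtype.restrictScalars k) Subtype.val_injective
    have e1 : ∀ w : M ⊗[k] B, (M.subtype.restrictScalars k).rTensor (B ⊗[k] B) (TensorProduct.assoc k M B B (r.rTensor B w)) =
        TensorProduct.assoc k B B B ((Coalgebra.comul (R := k)).rTensor B ((M.subtype.restrictScalars k).rTensor B w)) := by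
      intro w
      induction w using TensorProduct.induction_on with
      | zero => simp
      | tmul m b =>
        simp only [LinearMap.rTensor_tmul, LinearMap.restrictScalars_apply, Submodule.subtype_apply, ← hr m]
        induction r m using TensorProduct.induction_on with
        | zero => simp
        | tmul m' c => simp
        | add s t hs ht => simp only [TensorProduct.add_tmul, map_add, hs, ht]
      | add s t hs ht => simp only [map_add, hs, ht]
    have e2 : ∀ w : M ⊗[k] B, (M.subtype.restrictScalars k).rTensor (B ⊗[k] B) ((Coalgebra.comul (R := k)).lTensor M w) =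
        (Coalgebra.comul (R := k)).lTensor B ((M.subtype.restrictScalars k).rTensor B w) := by
      intro w
      induction w using TensorProduct.induction_on with
      | zero => simp
      | tmul m b => simp
      | add s t hs ht => simp only [map_add, hs, ht]
    rw [e1, e2, hr]
    exact Coalgebra.coassoc_apply _
  have hcounit : ∀ m, TensorProduct.rid k M ((Coalgebra.counit (R := k)).lTensor M (r m)) = m := by
    intro m
    apply Subtype.val_injective
    have e1 : ∀ w : M ⊗[k] B, ((TensorProduct.rid k M ((Coalgebra.counit (R := k)).lTensor M w) : M) : B) =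
        TensorProduct.rid k B ((Coalgebra.counit (R := k)).lTensor B ((M.subtype.restrictScalars k).rTensor B w)) := by
      intro w
      induction w using TensorProduct.induction_on with
      | zero => simp
      | tmul m b => simp
      | add s t hs ht => simp only [map_add, Submodule.coe_add, hs, ht]
    rw [e1, hr, Coalgebra.lTensor_counit_comul]
    simp
  -- the quotient by the augmentation
  let I : Ideal A := RingHom.ker (Bialgebra.counitAlgHom k A)
  let N : Submodule k M := (I • ⊤ : Submodule A M).restrictScalars k
  have hπ : ∀ (a : A) (m : M), N.mkQ (a • m) = (Coalgebra.counit (R := k) a : k) • N.mkQ m := fun a m => by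
    rw [← map_smul]
    refine (Submodule.Quotient.eq N).mpr ?_
    show a • m - (Coalgebra.counit (R := k) a : k) • m ∈ (I • ⊤ : Submodule A M)
    rw [← algebraMap_smul A (Coalgebra.counit (R := k) a : k) m]
    have h1 : a • m - algebraMap k A (Coalgebra.counit (R := k) a : k) • m =
        (a - algebraMap k A (Coalgebra.counit (R := k) a : k)) • m := (sub_smul a _ m).symm
    refine h1 ▸ Submodule.smul_mem_smul ?_ trivial
    simp [I]
  let p : M ⊗[k] B →ₗ[k] B ⊗[k] (M ⧸ N) := (TensorProduct.comm k (M ⧸ N) B).toLinearMap ∘ₗ N.mkQ.rTensor B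
  have hp : ∀ m b, p (m ⊗ₜ[k] b) = b ⊗ₜ[k] N.mkQ m := fun m b => rfl
  let Φ : A ⊗[k] A →ₗ[k] A := (TensorProduct.lid k A).toLinearMap ∘ₗ (Coalgebra.counit (R := k)).rTensor A
  have hpact : ∀ z w, p (act M z w) = algebraMap A B (Φ z) • p w := by
    intro z w
    induction z using TensorProduct.induction_on with
    | zero => simp
    | tmul a a' =>
      induction w using TensorProduct.induction_on with
      | zero => simp
      | tmul m b =>
        rw [act_tmul, hp, hp, hπ, TensorProduct.smul_tmul', smul_eq_mul, ← TensorProduct.smul_tmul]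
        congr 1
        simp [Φ, Algebra.smul_def, map_mul, ← IsScalarTower.algebraMap_apply, mul_assoc]
      | add s t hs ht => simp only [map_add, hs, ht, smul_add]
    | add s t hs ht => simp only [map_add, LinearMap.add_apply, hs, ht, add_smul]
  let α₀ : M →ₗ[A] B ⊗[k] (M ⧸ N) :=
    { toFun := fun m => p (r m)
      map_add' := fun m m' => by rw [map_add, map_add]
      map_smul' := fun a m => by
        show p (r (a • m)) = a • p (r m)
        rw [hr_smul, hpact, ← algebraMap_smul B a (p (r m))]
        congr 2
        show TensorProduct.lid k A ((Coalgebra.counit (R := k)).rTensor A (Coalgebra.comul (R := k) a)) = a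
        rw [Coalgebra.rTensor_counit_comul]
        simp }
  let α : B ⊗[A] M →ₗ[B] B ⊗[k] (M ⧸ N) := α₀.liftBaseChange B
  -- the inverse
  let ψ : M ⊗[k] B →ₗ[k] B ⊗[A] M := TensorProduct.lift
    (LinearMap.mk₂ k (fun (m : M) (b : B) => (HopfAlgebraStruct.antipode (R := k) b : B) ⊗ₜ[A] m)
      (fun m m' b => TensorProduct.tmul_add _ _ _) (fun c m b => TensorProduct.tmul_smul _ _ _)
      (fun m b b' => by rw [map_add, TensorProduct.add_tmul]) (fun c m b => by rw [map_smul, ← TensorProduct.smul_tmul']))
  have hψ : ∀ m b, ψ (m ⊗ₜ[k] b) = (HopfAlgebraStruct.antipode (R := k) b : B) ⊗ₜ[A] m := fun m b => rfl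
  let μS : A ⊗[k] A →ₗ[k] A := LinearMap.mul' k A ∘ₗ (HopfAlgebraStruct.antipode (R := k) (A := A)).lTensor A
  have hψact : ∀ z w, ψ (act M z w) = algebraMap A B (μS z) • ψ w := by
    intro z w
    induction z using TensorProduct.induction_on with
    | zero => simp
    | tmul a a' =>
      induction w using TensorProduct.induction_on with
      | zero => simp
      | tmul m b =>
        rw [act_tmul, hψ, hψ, ← TensorProduct.smul_tmul, TensorProduct.smul_tmul', smul_eq_mul, Algebra.smul_def,
          HopfAlgebra.antipode_mul_distrib, hS]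
        congr 1
        simp [μS, mul_assoc]
      | add s t hs ht => simp only [map_add, hs, ht, smul_add]
    | add s t hs ht => simp only [map_add, LinearMap.add_apply, hs, ht, add_smul]
  let γ : (M ⧸ N) →ₗ[k] B ⊗[A] M := N.liftQ (ψ ∘ₗ r) fun x hx => by
    have hx' : x ∈ (I • ⊤ : Submodule A M) := hx
    refine Submodule.smul_induction_on hx' (fun a ha m _ => ?_) fun x y hx hy => ?_
    · show ψ (r (a • m)) = 0
      rw [hr_smul, hψact]
      have : μS (Coalgebra.comul (R := k) a) = 0 := by
        refine (HopfAlgebra.mul_antipode_lTensor_comul_apply a).trans ?_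
        rw [show (Coalgebra.counit (R := k) a : k) = 0 from ha, map_zero]
      rw [this, map_zero, zero_smul]
    · rw [LinearMap.mem_ker] at hx hy ⊢
      rw [map_add, hx, hy, add_zero]
  let β : B ⊗[k] (M ⧸ N) →ₗ[B] B ⊗[A] M := γ.liftBaseChange B
  have hβp : ∀ m b, β (p (m ⊗ₜ[k] b)) = b • ψ (r m) := fun m b => rfl
  have hαψ : ∀ m b, α (ψ (m ⊗ₜ[k] b)) = (HopfAlgebraStruct.antipode (R := k) b : B) • p (r m) := fun m b => rfl
  have hβα : ∀ m, β (p (r m)) = (1 : B) ⊗ₜ[A] m := by
    intro m
    let ν : B ⊗[k] B →ₗ[k] B := LinearMap.mul' k B ∘ₗ (HopfAlgebraStruct.antipode (R := k) (A := B)).rTensor B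
    let Θ : M ⊗[k] (B ⊗[k] B) →ₗ[k] B ⊗[A] M := TensorProduct.lift
      (LinearMap.mk₂ k (fun (m : M) (z : B ⊗[k] B) => (ν z) ⊗ₜ[A] m)
        (fun m m' b => TensorProduct.tmul_add _ _ _) (fun c m b => TensorProduct.tmul_smul _ _ _)
        (fun m b b' => by rw [map_add, TensorProduct.add_tmul]) (fun c m b => by rw [map_smul, ← TensorProduct.smul_tmul']))
    have e1 : ∀ w, β (p w) = Θ (TensorProduct.assoc k M B B (r.rTensor B w)) := by
      intro w
      induction w using TensorProduct.induction_on with
      | zero => simp
      | tmul m b =>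
        rw [hβp, LinearMap.rTensor_tmul]
        induction r m using TensorProduct.induction_on with
        | zero => simp
        | tmul m' c =>
          rw [hψ, TensorProduct.assoc_tmul]
          simp [Θ, ν, TensorProduct.smul_tmul', mul_comm]
        | add s t hs ht => simp only [map_add, smul_add, TensorProduct.add_tmul, hs, ht]
      | add s t hs ht => simp only [map_add, hs, ht]
    have e2 : ∀ w : M ⊗[k] B, Θ ((Coalgebra.comul (R := k)).lTensor M w) =
        (1 : B) ⊗ₜ[A] TensorProduct.rid k M ((Coalgebra.counit (R := k)).lTensor M w) := by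
      intro w
      induction w using TensorProduct.induction_on with
      | zero => simp
      | tmul m b =>
        simp only [LinearMap.lTensor_tmul, Θ, TensorProduct.lift.tmul, LinearMap.mk₂_apply, TensorProduct.rid_tmul,
          TensorProduct.tmul_smul, TensorProduct.smul_tmul']
        congr 1
        exact (HopfAlgebra.mul_antipode_rTensor_comul_apply b).trans (Algebra.algebraMap_eq_smul_one _)
      | add s t hs ht => simp only [map_add, hs, ht, TensorProduct.tmul_add]
    rw [e1, hcoassoc, e2, hcounit]
  have hαβ : ∀ m, α (ψ (r m)) = (1 : B) ⊗ₜ[k] N.mkQ m := by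
    intro m
    let ν : B ⊗[k] B →ₗ[k] B := LinearMap.mul' k B ∘ₗ (HopfAlgebraStruct.antipode (R := k) (A := B)).lTensor B
    let Ω : M ⊗[k] (B ⊗[k] B) →ₗ[k] B ⊗[k] (M ⧸ N) := (TensorProduct.comm k (M ⧸ N) B).toLinearMap ∘ₗ
      TensorProduct.map N.mkQ ν
    have e1 : ∀ w, α (ψ w) = Ω (TensorProduct.assoc k M B B (r.rTensor B w)) := by
      intro w
      induction w using TensorProduct.induction_on with
      | zero => simp
      | tmul m b =>
        rw [hαψ, LinearMap.rTensor_tmul]
        induction r m using TensorProduct.induction_on with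
        | zero => simp
        | tmul m' c =>
          rw [hp, TensorProduct.assoc_tmul]
          simp [Ω, ν, TensorProduct.smul_tmul', mul_comm]
        | add s t hs ht => simp only [map_add, smul_add, TensorProduct.add_tmul, hs, ht]
      | add s t hs ht => simp only [map_add, hs, ht]
    have e2 : ∀ w : M ⊗[k] B, Ω ((Coalgebra.comul (R := k)).lTensor M w) =
        (1 : B) ⊗ₜ[k] N.mkQ (TensorProduct.rid k M ((Coalgebra.counit (R := k)).lTensor M w)) := by
      intro w
      induction w using TensorProduct.induction_on with
      | zero => simp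
      | tmul m b =>
        simp only [Ω, LinearMap.lTensor_tmul, LinearMap.comp_apply, TensorProduct.map_tmul, LinearEquiv.coe_coe,
          TensorProduct.comm_tmul, TensorProduct.rid_tmul, map_smul, TensorProduct.tmul_smul, TensorProduct.smul_tmul']
        congr 1
        exact (HopfAlgebra.mul_antipode_lTensor_comul_apply b).trans (Algebra.algebraMap_eq_smul_one _)
      | add s t hs ht => simp only [map_add, hs, ht, TensorProduct.tmul_add]
    rw [e1, hcoassoc, e2, hcounit]
  refine Module.Free.of_equiv (LinearEquiv.ofLinear β α ?_ ?_)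
  · refine LinearMap.ext fun z => ?_
    induction z using TensorProduct.induction_on with
    | zero => simp
    | tmul b m =>
      show β (b • p (r m)) = b ⊗ₜ[A] m
      rw [map_smul, hβα, TensorProduct.smul_tmul', smul_eq_mul, mul_one]
    | add s t hs ht => simp only [map_add, hs, ht]
  · refine LinearMap.ext fun z => ?_
    induction z using TensorProduct.induction_on with
    | zero => simp
    | tmul b q =>
      obtain ⟨m, rfl⟩ := N.mkQ_surjective q
      show α (b • ψ (r m)) = b ⊗ₜ[k] N.mkQ m
      rw [map_smul, hαβ, TensorProduct.smul_tmul', smul_eq_mul, mul_one]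
    | add s t hs ht => simp only [map_add, hs, ht]

end Groth.Agent.GrpSchLib.HopfGalois
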