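import Groth.Agent.GrpSchLib.HomFlat
import Groth.Agent.GrpSchLib.Action
import Groth.Agent.GrpSchLib.SmoothReduced
import Groth.Agent.H23.RedSub
import Mathlib.AlgebraicGeometry.Morphisms.FlatDescent
import Mathlib.AlgebraicGeometry.Morphisms.LocalFlatDescent
import Mathlib.AlgebraicGeometry.Morphisms.SchemeTheoreticallyDominant

/-! Images of morphisms commuting with transitive automorphisms: locally closed, and smooth if the
source is smooth. -/

open CategoryTheory AlgebraicGeometry Limits MonoidalCategory CartesianMonoidalCategory TopologicalSpace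

namespace Groth.Agent.GrpSchLib

universe u

/-- A morphism from a reduced scheme has a nonempty open of the closure of its image inside the image. -/
theorem exists_isOpen_inter_closure_range_subset {W X : Scheme.{u}} (f : W ⟶ X) [LocallyOfFiniteType f]
    [QuasiCompact f] [IsLocallyNoetherian X] [Nonempty W] :
    ∃ V : Set X, IsOpen V ∧ (V ∩ closure (Set.range f)).Nonempty ∧
      V ∩ closure (Set.range f) ⊆ Set.range f := by
  let R := (Scheme.IdealSheafData.vanishingIdeal (⊤ : Closeds W))
  have : IsReduced R.subscheme := H23.RedSub.isReduced_vanishingIdeal _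
  have hR : Set.range R.subschemeι = Set.univ := H23.RedSub.range_vanishingIdeal _
  let S : Closeds X := ⟨closure (Set.range f), isClosed_closure⟩
  let J := Scheme.IdealSheafData.vanishingIdeal S
  have : IsReduced J.subscheme := H23.RedSub.isReduced_vanishingIdeal _
  have hJ : Set.range J.subschemeι = closure (Set.range f) := H23.RedSub.range_vanishingIdeal _
  obtain ⟨h, hh⟩ := H23.RedSub.exists_lift_closed (R.subschemeι ≫ f) J.subschemeι (by
    rw [hJ]
    rintro _ ⟨w, rfl⟩
    exact subset_closure ⟨_, rfl⟩)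
  have : LocallyOfFiniteType (h ≫ J.subschemeι) := by rw [hh]; infer_instance
  have : LocallyOfFiniteType h := locallyOfFiniteType_of_comp h J.subschemeι
  have : QuasiCompact (h ≫ J.subschemeι) := by rw [hh]; infer_instance
  have : QuasiCompact h := QuasiCompact.of_comp h J.subschemeι
  have : IsLocallyNoetherian J.subscheme := LocallyOfFiniteType.isLocallyNoetherian J.subschemeι
  have hne : Nonempty R.subscheme := by
    obtain ⟨w, -⟩ := hR.ge (Set.mem_univ (Classical.arbitrary W))
    exact ⟨w⟩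
  have : Nonempty J.subscheme := Nonempty.map h hne
  obtain ⟨U, hUne, hU⟩ := exists_opens_flat h
  have : Flat ((h ⁻¹ᵁ U).ι ≫ h) := by
    refine Flat.of_stalkMap _ fun z => ?_
    erw [Scheme.Hom.stalkMap_comp]
    exact RingHom.Flat.comp (hU _ z.2) (Flat.stalkMap (h ⁻¹ᵁ U).ι z)
  have : LocallyOfFinitePresentation ((h ⁻¹ᵁ U).ι ≫ h) := inferInstance
  have hopen : IsOpen (Set.range ((h ⁻¹ᵁ U).ι ≫ h)) := ((h ⁻¹ᵁ U).ι ≫ h).isOpenMap.isOpen_range
  have hd : DenseRange h := by
    rw [denseRange_iff_closure_range, Set.eq_univ_iff_forall]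
    intro y
    rw [J.subschemeι.isEmbedding.closure_eq_preimage_closure_image]
    show J.subschemeι y ∈ closure (J.subschemeι '' Set.range h)
    rw [← Set.range_comp]
    have h1 : J.subschemeι y ∈ closure (Set.range f) := hJ.le ⟨y, rfl⟩
    refine closure_mono ?_ h1
    rintro _ ⟨w, rfl⟩
    obtain ⟨w', rfl⟩ := hR.ge (Set.mem_univ w)
    exact ⟨w', congrArg (fun g : R.subscheme ⟶ X => g w') hh⟩
  obtain ⟨V, hV, hVO⟩ := J.subschemeι.isEmbedding.isInducing.isOpen_iff.mp hopen
  refine ⟨V, hV, ?_, ?_⟩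
  · obtain ⟨w, hw⟩ := hd.exists_mem_open U.2 hUne
    refine ⟨J.subschemeι (h w), ?_, hJ.le ⟨_, rfl⟩⟩
    show h w ∈ J.subschemeι ⁻¹' V
    rw [hVO]
    exact ⟨⟨w, hw⟩, rfl⟩
  · rintro _ ⟨hxV, hx⟩
    obtain ⟨y, rfl⟩ := hJ.ge hx
    have hy : y ∈ J.subschemeι ⁻¹' V := hxV
    rw [hVO] at hy
    obtain ⟨z, rfl⟩ := hy
    refine ⟨R.subschemeι ((h ⁻¹ᵁ U).ι z), ?_⟩
    rw [← Scheme.Hom.comp_apply, ← hh]
    rfl

section

variable {k : Type u} [Field k] {K : Type u} [Field K] [Algebra k K] [IsAlgClosed K]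

local notation "PK" => Over.mk (Spec.map (CommRingCat.ofHom (algebraMap k K)))

/-- Closed points of the base change are `K`-points. -/
theorem exists_point_of_closed_bc (W : Over (Spec (CommRingCat.of k))) [LocallyOfFiniteType W.hom]
    {c : (W ⊗ PK).left} (hc : IsClosed {c}) :
    ∃ w : PK ⟶ W, (lift w (𝟙 PK)).left (IsLocalRing.closedPoint K) = c := by
  let σ := Spec.map (CommRingCat.ofHom (algebraMap k K))
  let q : (W ⊗ PK).left ⟶ Spec (CommRingCat.of K) := pullback.snd W.hom σ
  have : LocallyOfFiniteType q := inferInstanceAs (LocallyOfFiniteType (pullback.snd W.hom σ))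
  let s := (pointEquivClosedPoint q).symm ⟨c, hc⟩
  have hsc : s.1 (IsLocalRing.closedPoint K) = c :=
    congrArg Subtype.val ((pointEquivClosedPoint q).apply_symm_apply ⟨c, hc⟩)
  let y : PK ⟶ W := Over.homMk (s.1 ≫ pullback.fst W.hom σ) (by
    show (s.1 ≫ pullback.fst W.hom σ) ≫ W.hom = σ
    rw [Category.assoc, pullback.condition, ← Category.assoc, s.2]
    exact Category.id_comp σ)
  refine ⟨y, (congrArg (fun g : Spec (CommRingCat.of K) ⟶ (W ⊗ PK).left => g (IsLocalRing.closedPoint K)) ?_).trans hsc⟩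
  apply pullback.hom_ext
  · exact congrArg CommaMorphism.left (lift_fst y (𝟙 PK))
  · exact (congrArg CommaMorphism.left (lift_snd y (𝟙 PK))).trans s.2.symm

variable {W X : Over (Spec (CommRingCat.of k))} [LocallyOfFiniteType W.hom] [LocallyOfFiniteType X.hom]
  [Nonempty W.left] (f : W ⟶ X) [QuasiCompact f.left]

/-- The image of a morphism commuting with automorphisms transitive on points is locally closed. -/
theorem isLocallyClosed_range_of_homogeneous
    (htr : ∀ w w' : PK ⟶ W, ∃ (S : W ⊗ PK ≅ W ⊗ PK) (T : X ⊗ PK ≅ X ⊗ PK),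
      S.hom ≫ f ▷ PK = f ▷ PK ≫ T.hom ∧ lift w (𝟙 PK) ≫ S.hom = lift w' (𝟙 PK)) :
    IsLocallyClosed (Set.range f.left) := by
  let σ := Spec.map (CommRingCat.ofHom (algebraMap k K))
  have : Surjective σ := ⟨Function.surjective_to_subsingleton (α := Spec (CommRingCat.of K))
    (β := Spec (CommRingCat.of k)) _⟩
  have : UniversallyOpen σ := inferInstance
  have : LocallyOfFiniteType f.left := by
    have : LocallyOfFiniteType (f.left ≫ X.hom) := by rw [Over.w f]; infer_instance
    exact locallyOfFiniteType_of_comp f.left X.hom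
  let fK := (f ▷ PK).left
  have : LocallyOfFiniteType fK := property_whiskerRight f PK @LocallyOfFiniteType inferInstance
  have : QuasiCompact fK := property_whiskerRight f PK @QuasiCompact inferInstance
  let q : (X ⊗ PK).left ⟶ Spec (CommRingCat.of K) := pullback.snd X.hom σ
  have : LocallyOfFiniteType q := inferInstanceAs (LocallyOfFiniteType (pullback.snd X.hom σ))
  let qW : (W ⊗ PK).left ⟶ Spec (CommRingCat.of K) := pullback.snd W.hom σ
  have : LocallyOfFiniteType qW := inferInstanceAs (LocallyOfFiniteType (pullback.snd W.hom σ))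
  have : JacobsonSpace (W ⊗ PK).left := LocallyOfFiniteType.jacobsonSpace qW
  have : IsLocallyNoetherian (X ⊗ PK).left := LocallyOfFiniteType.isLocallyNoetherian q
  let π := (fst X PK).left
  have : Surjective π := inferInstanceAs (Surjective (pullback.fst X.hom σ))
  have hπ : IsOpenMap π := (inferInstanceAs (UniversallyOpen (pullback.fst X.hom σ)) :
    UniversallyOpen π).universally_isOpenMap _ _ _ IsPullback.of_id_snd
  have : Surjective (fst W PK).left := inferInstanceAs (Surjective (pullback.fst W.hom σ))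
  have : Nonempty (W ⊗ PK).left := ⟨((fst W PK).left.surjective (Classical.arbitrary W.left)).choose⟩
  have hpre : π ⁻¹' Set.range f.left = Set.range fK := by
    ext x
    constructor
    · rintro ⟨w, hw⟩
      obtain ⟨z, hz, -⟩ := Scheme.exists_preimage_of_isPullback (isPullback_whiskerRight f PK) x w hw.symm
      exact ⟨z, hz⟩
    · rintro ⟨z, rfl⟩
      refine ⟨(fst W PK).left z, ?_⟩
      show f.left ((fst W PK).left z) = π (fK z)
      rw [← Scheme.Hom.comp_apply, ← (isPullback_whiskerRight f PK).w, Scheme.Hom.comp_apply]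
  -- over `K`
  have hK : IsClosed (closure (Set.range fK) \ Set.range fK) := by
    obtain ⟨V₀, hV₀, ⟨x₀, hx₀V, hx₀⟩, hV₀R⟩ := exists_isOpen_inter_closure_range_subset fK
    obtain ⟨w₀, hw₀⟩ := hV₀R ⟨hx₀V, hx₀⟩
    obtain ⟨c₀, hc₀V, hc₀⟩ := nonempty_inter_closedPoints (Z := fK ⁻¹' V₀) ⟨w₀, by rwa [Set.mem_preimage, hw₀]⟩
      (hV₀.preimage fK.continuous).isLocallyClosed
    obtain ⟨p₀, hp₀⟩ := exists_point_of_closed_bc (K := K) W hc₀
    have key : ∀ c : (W ⊗ PK).left, IsClosed {c} → ∃ V : Set (X ⊗ PK).left, IsOpen V ∧ fK c ∈ V ∧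
        V ∩ closure (Set.range fK) ⊆ Set.range fK := by
      intro c hc
      obtain ⟨p, hp⟩ := exists_point_of_closed_bc (K := K) W hc
      obtain ⟨S, T, hST, hS⟩ := htr p p₀
      have : IsIso T.hom.left := ((Over.forget _).mapIso T).isIso_hom
      have : IsIso S.hom.left := ((Over.forget _).mapIso S).isIso_hom
      have hcomm : ∀ z, T.hom.left (fK z) = fK (S.hom.left z) := fun z =>
        (congrArg (fun g : W ⊗ PK ⟶ X ⊗ PK => g.left z) hST).symm
      have hR : T.hom.left ⁻¹' Set.range fK = Set.range fK := by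
        ext x
        constructor
        · rintro ⟨z, hz⟩
          obtain ⟨z', rfl⟩ := S.hom.left.surjective z
          rw [← hcomm] at hz
          exact ⟨z', T.hom.left.injective hz⟩
        · rintro ⟨z, rfl⟩
          exact ⟨_, (hcomm z).symm⟩
      have hcR : T.hom.left ⁻¹' closure (Set.range fK) = closure (Set.range fK) := by
        rw [T.hom.left.isOpenMap.preimage_closure_eq_closure_preimage T.hom.left.continuous, hR]
      refine ⟨T.hom.left ⁻¹' V₀, hV₀.preimage T.hom.left.continuous, ?_, ?_⟩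
      · show T.hom.left (fK c) ∈ V₀
        rw [hcomm]
        have : S.hom.left c = c₀ := by
          rw [← hp, ← hp₀, ← hS]
          rfl
        rw [this]
        exact hc₀V
      · rintro x ⟨h1, h2⟩
        rw [← hcR] at h2
        rw [← hR]
        exact hV₀R ⟨h1, h2⟩
    choose V hV hVc hVR using key
    let U : Set (X ⊗ PK).left := ⋃ (c) (hc : IsClosed {c}), V c hc
    have hUo : IsOpen U := isOpen_iUnion fun c => isOpen_iUnion fun hc => hV c hc
    have hsub : Set.range fK ⊆ U := by
      rintro _ ⟨z, rfl⟩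
      by_contra hz
      obtain ⟨c, hcU, hc⟩ := nonempty_inter_closedPoints (Z := (fK ⁻¹' U)ᶜ) ⟨z, hz⟩
        (hUo.preimage fK.continuous).isClosed_compl.isLocallyClosed
      exact hcU (Set.mem_iUnion₂.mpr ⟨c, hc, hVc c hc⟩)
    have : closure (Set.range fK) \ Set.range fK = closure (Set.range fK) \ U := by
      refine Set.Subset.antisymm ?_ (fun x hx => ⟨hx.1, fun h => hx.2 (hsub h)⟩)
      rintro x ⟨hx1, hx2⟩
      refine ⟨hx1, fun hU => hx2 ?_⟩
      obtain ⟨c, hc, hxV⟩ := Set.mem_iUnion₂.mp hU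
      exact hVR c hc ⟨hxV, hx1⟩
    rw [this]
    exact isClosed_closure.sdiff hUo
  rw [← hpre, ← hπ.preimage_closure_eq_closure_preimage π.continuous, ← Set.preimage_sdiff] at hK
  rw [isLocallyClosed_iff_isOpen_coborder]
  show IsOpen (closure (Set.range f.left) \ Set.range f.left)ᶜ
  have hq : Topology.IsQuotientMap π := hπ.isQuotientMap π.continuous π.surjective
  rw [← hq.isOpen_preimage, Set.preimage_compl]
  exact hK.isOpen_compl

/-- The image, with reduced structure, of a smooth scheme under a morphism commuting with automorphisms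
transitive on points is smooth. -/
theorem smooth_of_homogeneous_image [Smooth W.hom]
    (htr : ∀ w w' : PK ⟶ W, ∃ (S : W ⊗ PK ≅ W ⊗ PK) (T : X ⊗ PK ≅ X ⊗ PK),
      S.hom ≫ f ▷ PK = f ▷ PK ≫ T.hom ∧ T.hom ≫ snd X PK = snd X PK ∧ lift w (𝟙 PK) ≫ S.hom = lift w' (𝟙 PK))
    (O : Scheme.{u}) (i : O ⟶ X.left) [IsImmersion i] [IsReduced O]
    (hO : Set.range i = Set.range f.left) : Smooth (i ≫ X.hom) := by
  let σ := Spec.map (CommRingCat.ofHom (algebraMap k K))
  have : Surjective σ := ⟨Function.surjective_to_subsingleton (α := Spec (CommRingCat.of K))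
    (β := Spec (CommRingCat.of k)) _⟩
  have : Flat σ := by
    rw [HasRingHomProperty.Spec_iff (P := @Flat)]
    exact RingHom.Flat.of_isField (Field.toIsField k) _
  have : IsReduced W.left := isReduced_of_smooth_field W.hom
  obtain ⟨g₀, hg₀⟩ := H23.RedSub.exists_lift f.left i hO.ge
  let Z : Over (Spec (CommRingCat.of k)) := Over.mk (i ≫ X.hom)
  let iZ : Z ⟶ X := Over.homMk i rfl
  let g : W ⟶ Z := Over.homMk g₀ (by show g₀ ≫ i ≫ X.hom = W.hom; rw [← Category.assoc, hg₀, Over.w f])
  have hgi : g ≫ iZ = f := Over.OverMorphism.ext hg₀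
  have hLZ : LocallyOfFiniteType Z.hom := inferInstanceAs (LocallyOfFiniteType (i ≫ X.hom))
  have : QuasiCompact g₀ := by
    have : QuasiCompact (g₀ ≫ i) := by rw [hg₀]; infer_instance
    exact QuasiCompact.of_comp g₀ i
  have : QuasiCompact g.left := ‹QuasiCompact g₀›
  have : Surjective g.left := ⟨fun y => by
    obtain ⟨w, hw⟩ := hO.le ⟨y, rfl⟩
    exact ⟨w, i.injective (by rw [← Scheme.Hom.comp_apply]; exact (congrArg (fun h : W.left ⟶ X.left => h w) hg₀).trans hw)⟩⟩
  have : IsReduced Z.left := ‹IsReduced O›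
  have : IsSchemeTheoreticallyDominant g.left := IsSchemeTheoreticallyDominant.of_isDominant g.left
  -- the base change is reduced
  let qW : (W ⊗ PK).left ⟶ Spec (CommRingCat.of K) := pullback.snd W.hom σ
  have : Smooth qW := inferInstanceAs (Smooth (pullback.snd W.hom σ))
  have : IsReduced (W ⊗ PK).left := isReduced_of_smooth_field qW
  have : Flat (fst Z PK).left := inferInstanceAs (Flat (pullback.fst Z.hom σ))
  have hdom : IsSchemeTheoreticallyDominant (g ▷ PK).left :=
    IsSchemeTheoreticallyDominant.of_isPullback (f := g.left) (g := (fst Z PK).left)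
      (isPullback_whiskerRight g PK).flip
  have : QuasiCompact (g ▷ PK).left := property_whiskerRight g PK @QuasiCompact ‹_›
  have : Surjective (g ▷ PK).left := property_whiskerRight g PK @Surjective ‹_›
  have hredZ : IsReduced (Z ⊗ PK).left := IsSchemeTheoreticallyDominant.isReduced (g ▷ PK).left
  let qZ : (Z ⊗ PK).left ⟶ Spec (CommRingCat.of K) := pullback.snd Z.hom σ
  have : LocallyOfFiniteType qZ := inferInstanceAs (LocallyOfFiniteType (pullback.snd Z.hom σ))
  have : JacobsonSpace (W ⊗ PK).left := LocallyOfFiniteType.jacobsonSpace qW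
  have : JacobsonSpace (Z ⊗ PK).left := LocallyOfFiniteType.jacobsonSpace qZ
  have : IsImmersion (iZ ▷ PK).left := property_whiskerRight iZ PK @IsImmersion ‹IsImmersion i›
  have hsm : Smooth qZ := by
    rw [← Scheme.Hom.smoothLocus_eq_top_iff, ← TopologicalSpace.Opens.coe_eq_univ, ← not_ne_iff,
      ← Set.nonempty_compl]
    intro H
    obtain ⟨x, hx, hxc⟩ := nonempty_inter_closedPoints H qZ.smoothLocus.2.isClosed_compl.isLocallyClosed
    have : Nonempty (Z ⊗ PK).left := ⟨x⟩
    obtain ⟨y, hy, hyc⟩ := nonempty_inter_closedPoints qZ.dense_smoothLocus_of_perfectField.nonempty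
      qZ.smoothLocus.2.isLocallyClosed
    have hlift : ∀ z : (Z ⊗ PK).left, IsClosed {z} →
        ∃ w : PK ⟶ W, (g ▷ PK).left ((lift w (𝟙 PK)).left (IsLocalRing.closedPoint K)) = z := by
      intro z hz
      obtain ⟨w', hw'⟩ := (g ▷ PK).left.surjective z
      obtain ⟨c, hc1, hc⟩ := nonempty_inter_closedPoints (Z := (g ▷ PK).left ⁻¹' {z}) ⟨w', hw'⟩
        (hz.preimage (g ▷ PK).left.continuous).isLocallyClosed
      obtain ⟨w, hw⟩ := exists_point_of_closed_bc (K := K) W hc
      exact ⟨w, by rw [hw]; exact hc1⟩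
    obtain ⟨w, hw⟩ := hlift x hxc
    obtain ⟨w', hw'⟩ := hlift y hyc
    obtain ⟨S, T, hST, hTsnd, hS⟩ := htr w w'
    have : IsIso T.hom.left := ((Over.forget _).mapIso T).isIso_hom
    have : IsIso S.hom.left := ((Over.forget _).mapIso S).isIso_hom
    have hfac : ∀ z, (iZ ▷ PK).left ((g ▷ PK).left z) = (f ▷ PK).left z := fun z => by
      rw [← hgi, comp_whiskerRight]; rfl
    have hcomm : ∀ z, T.hom.left ((f ▷ PK).left z) = (f ▷ PK).left (S.hom.left z) := fun z =>
      (congrArg (fun e : W ⊗ PK ⟶ X ⊗ PK => e.left z) hST).symm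
    have hrange : Set.range ((iZ ▷ PK).left ≫ T.hom.left) ⊆ Set.range (iZ ▷ PK).left := by
      rintro _ ⟨z, rfl⟩
      obtain ⟨z', rfl⟩ := (g ▷ PK).left.surjective z
      refine ⟨(g ▷ PK).left (S.hom.left z'), ?_⟩
      rw [Scheme.Hom.comp_apply, hfac, hfac, hcomm]
    have hrange' : Set.range ((iZ ▷ PK).left ≫ inv T.hom.left) ⊆ Set.range (iZ ▷ PK).left := by
      rintro _ ⟨z, rfl⟩
      obtain ⟨z', rfl⟩ := (g ▷ PK).left.surjective z
      obtain ⟨z'', rfl⟩ := S.hom.left.surjective z'
      refine ⟨(g ▷ PK).left z'', T.hom.left.injective ?_⟩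
      simp only [Scheme.Hom.comp_apply, hfac, hcomm]
      rw [← Scheme.Hom.comp_apply (inv T.hom.left), IsIso.inv_hom_id]
      rfl
    obtain ⟨α, hα⟩ := H23.RedSub.exists_lift _ _ hrange
    obtain ⟨β, hβ⟩ := H23.RedSub.exists_lift _ _ hrange'
    have h1 : α ≫ β = 𝟙 _ := by
      rw [← cancel_mono (iZ ▷ PK).left, Category.assoc, hβ, reassoc_of% hα, IsIso.hom_inv_id,
        Category.comp_id, Category.id_comp]
    have h2 : β ≫ α = 𝟙 _ := by
      rw [← cancel_mono (iZ ▷ PK).left, Category.assoc, hα, reassoc_of% hβ, IsIso.inv_hom_id,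
        Category.comp_id, Category.id_comp]
    have : IsIso α := ⟨β, h1, h2⟩
    have hq : (iZ ▷ PK).left ≫ (snd X PK).left = qZ := congrArg CommaMorphism.left (whiskerRight_snd iZ PK)
    have hαq : α ≫ qZ = qZ := by
      rw [← hq, reassoc_of% hα]
      congr 1
      exact congrArg CommaMorphism.left hTsnd
    have hαx : α x = y := by
      apply (iZ ▷ PK).left.injective
      rw [← Scheme.Hom.comp_apply, hα, Scheme.Hom.comp_apply, ← hw, ← hw', hfac, hfac, hcomm, ← hS]
      rfl
    have hy' : x ∈ α ⁻¹ᵁ qZ.smoothLocus := by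
      show α x ∈ qZ.smoothLocus
      rw [hαx]
      exact hy
    rw! [Scheme.Hom.preimage_smoothLocus_eq, hαq] at hy'
    exact hx hy'
  exact MorphismProperty.of_pullback_snd_of_descendsAlong (P := @Smooth)
    (Q := @Surjective ⊓ @Flat ⊓ @QuasiCompact) (f := i ≫ X.hom) (g := σ)
    ⟨⟨inferInstance, inferInstance⟩, inferInstance⟩ hsm

end

section Orbit

open scoped MonObj

variable {k : Type u} [Field k] {K : Type u} [Field K] [Algebra k K]

local notation "PK" => Over.mk (Spec.map (CommRingCat.ofHom (algebraMap k K)))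

/-- Translations move any point of a group to any other, compatibly with orbit maps. -/
theorem orbitMap_homogeneous {G X : Over (Spec (CommRingCat.of k))} [GrpObj G] (a : AlgGrp.Action G X)
    (x : 𝟙_ (Over (Spec (CommRingCat.of k))) ⟶ X) (w w' : PK ⟶ G) :
    ∃ (S : G ⊗ PK ≅ G ⊗ PK) (T : X ⊗ PK ≅ X ⊗ PK),
      S.hom ≫ a.orbitMap x ▷ PK = a.orbitMap x ▷ PK ≫ T.hom ∧ T.hom ≫ snd X PK = snd X PK ∧
        lift w (𝟙 PK) ≫ S.hom = lift w' (𝟙 PK) := by
  let z := w' * w⁻¹
  let T : X ⊗ PK ≅ X ⊗ PK :=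
    { hom := lift (lift (snd X PK ≫ z) (fst X PK) ≫ a.act) (snd X PK)
      inv := lift (lift (snd X PK ≫ z)⁻¹ (fst X PK) ≫ a.act) (snd X PK)
      hom_inv_id := by
        apply CartesianMonoidalCategory.hom_ext
        · rw [Category.assoc, lift_fst, ← Category.assoc, comp_lift, lift_fst, GrpObj.comp_inv,
            ← Category.assoc, lift_snd, act_mul, inv_mul_cancel, act_one, Category.id_comp]
        · simp
      inv_hom_id := by
        apply CartesianMonoidalCategory.hom_ext
        · rw [Category.assoc, lift_fst, ← Category.assoc, comp_lift, lift_fst,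
            ← Category.assoc, lift_snd, act_mul, mul_inv_cancel, act_one, Category.id_comp]
        · simp }
  refine ⟨transIso z, T, ?_, lift_snd _ _, ?_⟩
  · apply CartesianMonoidalCategory.hom_ext
    · simp only [T, Category.assoc, whiskerRight_fst, lift_fst, transIso_hom_fst_assoc]
      rw [← Category.assoc (a.orbitMap x ▷ PK), comp_lift, whiskerRight_fst, ← Category.assoc (a.orbitMap x ▷ PK),
        whiskerRight_snd]
      simp only [AlgGrp.Action.orbitMap, ← Category.assoc, comp_lift, Category.comp_id, comp_toUnit]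
      rw [act_mul]
    · simp [T, transIso_hom_snd]
  · apply CartesianMonoidalCategory.hom_ext
    · rw [Category.assoc, transIso_hom_fst, MonObj.comp_mul, ← Category.assoc, lift_snd, lift_fst, lift_fst,
        Category.id_comp, inv_mul_cancel_right]
    · rw [Category.assoc, transIso_hom_snd, lift_snd, lift_snd]

end Orbit

end Groth.Agent.GrpSchLib
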