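import Groth.Agent.GrpSchLib.Saturate
import Groth.Agent.SrcDescent.SmoothFppf
import Groth.Agent.MorLib.Thickening
import Groth.Agent.MorLib.UnramLocus
import Groth.Agent.S5223
import Groth.Agent.S2155
import Groth.Agent.S9389
import Mathlib.AlgebraicGeometry.ZariskisMainTheorem

/-! Loci of good behaviour of morphisms and their behaviour under flat base change. -/

universe u

open CategoryTheory Limits AlgebraicGeometry TopologicalSpace

namespace Groth.Agent.GrpSchLib.Loci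

open Saturate

/-- The points near which a morphism has the property `P`. -/
def loc (P : MorphismProperty Scheme.{u}) : LocusFn.{u} :=
  fun A _ d => {x | ∃ U : A.Opens, x ∈ U ∧ P (U.ι ≫ d)}

/-- Flat and locally of finite presentation. -/
abbrev FL : MorphismProperty Scheme.{u} := @Flat ⊓ @LocallyOfFinitePresentation

/-- Formally unramified and locally of finite presentation. -/
abbrev UR : MorphismProperty Scheme.{u} := @FormallyUnramified ⊓ @LocallyOfFinitePresentation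

/-- Locally quasi-finite and locally of finite type. -/
abbrev LQ : MorphismProperty Scheme.{u} := @LocallyQuasiFinite ⊓ @LocallyOfFiniteType

theorem isOpen_loc (P : MorphismProperty Scheme.{u}) {A B : Scheme.{u}} (d : A ⟶ B) :
    IsOpen (loc P d) :=
  isOpen_iff_forall_mem_open.mpr fun _ ⟨U, hx, hU⟩ => ⟨U, fun _ hy => ⟨U, hy, hU⟩, U.2, hx⟩

theorem of_forall_mem (P : MorphismProperty Scheme.{u}) [IsZariskiLocalAtSource P] {A B : Scheme.{u}}
    (d : A ⟶ B) (h : ∀ x, x ∈ loc P d) : P d := by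
  choose U hx hU using h
  exact IsZariskiLocalAtSource.of_iSup_eq_top U
    (top_unique fun x _ => Opens.mem_iSup.mpr ⟨x, hx x⟩) hU

theorem le_of_mem {P : MorphismProperty Scheme.{u}} {A B : Scheme.{u}} {d : A ⟶ B} (V : A.Opens)
    (hV : P (V.ι ≫ d)) (hmax : ∀ W : A.Opens, P (W.ι ≫ d) → W ≤ V) (x : A) :
    x ∈ V ↔ x ∈ loc P d :=
  ⟨fun hx => ⟨V, hx, hV⟩, fun ⟨W, hx, hW⟩ => hmax W hW hx⟩

theorem mem_loc_of_mem {P : MorphismProperty Scheme.{u}} {A B : Scheme.{u}} {d : A ⟶ B}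
    [P.RespectsIso] (U : A.Opens) (W : U.toScheme.Opens) (hW : P (W.ι ≫ U.ι ≫ d)) (w : U.toScheme)
    (hw : w ∈ W) : U.ι w ∈ loc P d := by
  refine ⟨U.ι ''ᵁ W, ⟨w, hw, rfl⟩, ?_⟩
  rw [← Scheme.Hom.isoImage_inv_ι_assoc (f := U.ι) (U := W)]
  exact (P.cancel_left_of_respectsIso _ _).mpr hW

/-- Pullback of a cartesian square to the preimage of an open. -/
theorem isPullback_restrict {A' A B' B : Scheme.{u}} {v : A' ⟶ A} {d' : A' ⟶ B'} {d : A ⟶ B}
    {q : B' ⟶ B} (h : IsPullback v d' d q) (U : A.Opens) :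
    IsPullback (v ∣_ U) ((v ⁻¹ᵁ U).ι ≫ d') (U.ι ≫ d) q :=
  (isPullback_morphismRestrict v U).paste_vert h

theorem isCompat_loc (P R : MorphismProperty Scheme.{u}) [P.IsStableUnderBaseChange]
    (down : ∀ ⦃A' A B' B : Scheme.{u}⦄ (v : A' ⟶ A) (d' : A' ⟶ B') (d : A ⟶ B) (q : B' ⟶ B),
      IsPullback v d' d q → R q → ∀ x ∈ loc P d', v x ∈ loc P d) :
    IsCompat (loc P) R :=
  fun _ _ _ _ v d' d q h hq x => ⟨down v d' d q h hq x, fun ⟨U, hx, hU⟩ =>
    ⟨v ⁻¹ᵁ U, hx, P.of_isPullback (isPullback_restrict h U) hU⟩⟩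

/-- The image of an open along an open morphism gives a covering of an open. -/
theorem exists_image {A' A B' B : Scheme.{u}} {v : A' ⟶ A} {d' : A' ⟶ B'} {d : A ⟶ B}
    {q : B' ⟶ B} (h : IsPullback v d' d q) (R : MorphismProperty Scheme.{u})
    [R.IsStableUnderBaseChange] [R.IsStableUnderComposition]
    (hopen : R ≤ @UniversallyOpen) (himm : @IsOpenImmersion ≤ R) (hq : R q) (U : A'.Opens) :
    ∃ (V : A.Opens) (r : U.toScheme ⟶ V.toScheme), R r ∧ Surjective r ∧ (∀ x ∈ U, v x ∈ V) ∧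
      r ≫ V.ι ≫ d = (U.ι ≫ d') ≫ q := by
  have hv : R v := R.of_isPullback h.flip hq
  haveI : UniversallyOpen v := hopen _ hv
  let V : A.Opens := ⟨v '' U, v.isOpenMap _ U.2⟩
  have hle : U ≤ v ⁻¹ᵁ V := fun x hx => ⟨x, hx, rfl⟩
  refine ⟨V, v.resLE V U hle, ?_, ⟨?_⟩, fun x hx => ⟨x, hx, rfl⟩, ?_⟩
  · refine R.of_postcomp (W' := @IsOpenImmersion) _ V.ι inferInstance ?_
    rw [Scheme.Hom.resLE_comp_ι]
    exact R.comp_mem _ _ (himm _ inferInstance) hv
  · rintro ⟨_, x, hx, rfl⟩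
    exact ⟨⟨x, hx⟩, Subtype.ext (Scheme.Hom.coe_resLE_apply v hle _)⟩
  · rw [Scheme.Hom.resLE_comp_ι_assoc, Category.assoc, h.w]

instance : FL.{u}.ContainsIdentities :=
  ⟨fun X => ⟨inferInstanceAs (Flat (𝟙 X)), inferInstanceAs (LocallyOfFinitePresentation (𝟙 X))⟩⟩

theorem FL_le_uo : FL.{u} ≤ @UniversallyOpen := fun _ _ f ⟨h1, h2⟩ => by
  haveI := h1; haveI := h2; infer_instance

theorem imm_le_FL : @IsOpenImmersion ≤ FL.{u} := fun _ _ f h => by
  haveI := h; exact ⟨inferInstance, inferInstance⟩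

theorem compat_flatLocus :
    IsCompat (fun _ _ d => {x | (d.stalkMap x).hom.Flat}) (@Flat : MorphismProperty Scheme.{u}) :=
  fun _ _ _ _ _ _ _ q h hq x => @S5223.result _ _ _ _ _ _ _ q h hq x

section Fppf

variable {A' A B' B : Scheme.{u}} {v : A' ⟶ A} {d' : A' ⟶ B'} {d : A ⟶ B} {q : B' ⟶ B}

theorem down_lft (h : IsPullback v d' d q) (hq : FL q) (U : A'.Opens) (hU : LocallyOfFiniteType (U.ι ≫ d')) :
    ∃ V : A.Opens, (∀ x ∈ U, v x ∈ V) ∧ LocallyOfFiniteType (V.ι ≫ d) := by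
  obtain ⟨V, r, ⟨h1, h2⟩, hs, hV, e⟩ := exists_image h FL FL_le_uo imm_le_FL hq U
  refine ⟨V, hV, ?_⟩
  haveI := h1; haveI := h2
  haveI : LocallyOfFinitePresentation q := hq.2
  haveI : LocallyOfFiniteType (r ≫ V.ι ≫ d) := by rw [e]; infer_instance
  exact SrcDescent.locallyOfFiniteType_of_fppf_comp r _

theorem down_lfp (h : IsPullback v d' d q) (hq : FL q) (U : A'.Opens)
    (hU : LocallyOfFinitePresentation (U.ι ≫ d')) :
    ∃ V : A.Opens, (∀ x ∈ U, v x ∈ V) ∧ LocallyOfFinitePresentation (V.ι ≫ d) := by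
  obtain ⟨V, r, ⟨h1, h2⟩, hs, hV, e⟩ := exists_image h FL FL_le_uo imm_le_FL hq U
  refine ⟨V, hV, ?_⟩
  haveI := h1; haveI := h2
  haveI : LocallyOfFinitePresentation q := hq.2
  haveI : LocallyOfFinitePresentation (r ≫ V.ι ≫ d) := by rw [e]; infer_instance
  exact SrcDescent.locallyOfFinitePresentation_of_fppf_comp r _

theorem down_FL (h : IsPullback v d' d q) (hq : FL q) (U : A'.Opens) (hU : FL (U.ι ≫ d')) :
    ∃ V : A.Opens, (∀ x ∈ U, v x ∈ V) ∧ FL (V.ι ≫ d) := by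
  obtain ⟨V, r, ⟨h1, h2⟩, hs, hV, e⟩ := exists_image h FL FL_le_uo imm_le_FL hq U
  refine ⟨V, hV, ?_⟩
  haveI := h1; haveI := h2
  haveI : LocallyOfFinitePresentation q := hq.2
  haveI : Flat q := hq.1
  haveI : Flat (U.ι ≫ d') := hU.1
  haveI : LocallyOfFinitePresentation (U.ι ≫ d') := hU.2
  haveI : LocallyOfFinitePresentation (r ≫ V.ι ≫ d) := by rw [e]; infer_instance
  haveI : Flat (r ≫ V.ι ≫ d) := by rw [e]; infer_instance
  exact ⟨SrcDescent.flat_of_fppf_comp r _, SrcDescent.locallyOfFinitePresentation_of_fppf_comp r _⟩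

/-- Restricting a point to an open preimage. -/
theorem exists_restrict {P : MorphismProperty Scheme.{u}} [IsZariskiLocalAtSource P] {V : A.Opens}
    {x : A'} (hxV : v x ∈ V) (hx : x ∈ loc P d') :
    ∃ (z : (v ⁻¹ᵁ V).toScheme) (W : (v ⁻¹ᵁ V).toScheme.Opens), z ∈ W ∧ V.ι ((v ∣_ V) z) = v x ∧
      P (W.ι ≫ (v ⁻¹ᵁ V).ι ≫ d') := by
  obtain ⟨U, hxU, hU⟩ := hx
  refine ⟨⟨x, hxV⟩, (v ⁻¹ᵁ V).ι ⁻¹ᵁ U, hxU, ?_, ?_⟩
  · rw [← Scheme.Hom.comp_apply, morphismRestrict_ι]; rfl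
  · have e : ((v ⁻¹ᵁ V).ι ⁻¹ᵁ U).ι ≫ (v ⁻¹ᵁ V).ι ≫ d' =
        ((v ⁻¹ᵁ V).ι ∣_ U) ≫ U.ι ≫ d' := by rw [morphismRestrict_ι_assoc]
    rw [e]
    exact IsZariskiLocalAtSource.comp hU _

end Fppf

theorem compat_FL : IsCompat (loc FL.{u}) FL :=
  isCompat_loc _ _ fun _ _ _ _ _ _ _ _ h hq x ⟨U, hx, hU⟩ =>
    let ⟨V, hV, hFL⟩ := down_FL h hq U hU
    ⟨V, hV x hx, hFL⟩

theorem compat_smooth : IsCompat (loc (@Smooth : MorphismProperty Scheme.{u})) FL :=
  isCompat_loc _ _ fun A' A B' B v d' d q h hq x ⟨U, hx, hU⟩ => by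
    haveI := hU
    obtain ⟨V, hV, -, hlfp⟩ := down_FL h hq U ⟨inferInstance, inferInstance⟩
    haveI := hlfp
    obtain ⟨z, W, hzW, hz, hW⟩ := exists_restrict (P := @Smooth) (hV x hx) ⟨U, hx, hU⟩
    have hsq := isPullback_restrict h V
    haveI : LocallyOfFinitePresentation ((v ⁻¹ᵁ V).ι ≫ d') :=
      MorphismProperty.of_isPullback (P := @LocallyOfFinitePresentation) hsq hlfp
    haveI := hW
    have hmem : z ∈ ((v ⁻¹ᵁ V).ι ≫ d').smoothLocus := by
      have : (⟨z, hzW⟩ : W.toScheme) ∈ W.ι ⁻¹ᵁ ((v ⁻¹ᵁ V).ι ≫ d').smoothLocus := by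
        rw [Scheme.Hom.preimage_smoothLocus_eq, Scheme.Hom.smoothLocus_eq_top]; trivial
      exact this
    rw [S2155.result (V.ι ≫ d) q _ (v ∣_ V) hsq (.inr hq.1)] at hmem
    rw [← hz]
    refine mem_loc_of_mem V (V.ι ≫ d).smoothLocus ?_ _ hmem
    haveI : LocallyOfFinitePresentation ((V.ι ≫ d).smoothLocus.ι ≫ V.ι ≫ d) :=
      MorphismProperty.comp_mem @LocallyOfFinitePresentation _ _ inferInstance hlfp
    rw [← Scheme.Hom.smoothLocus_eq_top_iff,
      ← Scheme.Hom.preimage_smoothLocus_eq (V.ι ≫ d).smoothLocus.ι (V.ι ≫ d),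
      Scheme.Opens.ι_preimage_self]

theorem compat_UR : IsCompat (loc UR.{u}) FL :=
  isCompat_loc _ _ fun A' A B' B v d' d q h hq x ⟨U, hx, hU⟩ => by
    obtain ⟨V, hV, hlfp⟩ := down_lfp h hq U hU.2
    haveI := hlfp
    obtain ⟨z, W, hzW, hz, hW⟩ := exists_restrict (P := @FormallyUnramified) (hV x hx) ⟨U, hx, hU.1⟩
    have hsq := isPullback_restrict h V
    have h1 : MorLib.UnrLocus.Loc ((v ⁻¹ᵁ V).ι ≫ d') z := ⟨W, hzW, hW⟩
    rw [← hsq.isoPullback_hom_snd, MorLib.UnrLocus.loc_comp_left, MorLib.UnrLocus.loc_pullback,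
      ← Scheme.Hom.comp_apply, hsq.isoPullback_hom_fst] at h1
    obtain ⟨W', hW', hu⟩ := h1
    rw [← hz]
    exact mem_loc_of_mem (P := UR) V W' ⟨hu, MorphismProperty.comp_mem @LocallyOfFinitePresentation _ _
      inferInstance hlfp⟩ _ hW'

theorem etale_loc_eq {A B : Scheme.{u}} (d : A ⟶ B) :
    loc (@Etale : MorphismProperty Scheme.{u}) d = loc @Smooth d ∩ loc UR d := by
  ext x
  constructor
  · rintro ⟨U, hx, hU⟩
    haveI := hU
    exact ⟨⟨U, hx, inferInstance⟩, U, hx, inferInstance, inferInstance⟩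
  · rintro ⟨⟨U, hx, hU⟩, U', hx', hU', hU''⟩
    refine ⟨U ⊓ U', ⟨hx, hx'⟩, Etale.iff_flat_and_formallyUnramified.mpr ⟨?_, ?_, ?_⟩⟩
    · haveI := hU
      rw [← Scheme.homOfLE_ι A (inf_le_left : U ⊓ U' ≤ U), Category.assoc]
      infer_instance
    · rw [← Scheme.homOfLE_ι A (inf_le_right : U ⊓ U' ≤ U'), Category.assoc]
      exact IsZariskiLocalAtSource.comp hU' _
    · rw [← Scheme.homOfLE_ι A (inf_le_right : U ⊓ U' ≤ U'), Category.assoc]
      exact IsZariskiLocalAtSource.comp hU'' _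

theorem compat_etale : IsCompat (loc (@Etale : MorphismProperty Scheme.{u})) FL :=
  fun _ _ _ _ v d' d q h hq x => by
    simp only [etale_loc_eq, Set.mem_inter_iff, compat_smooth v d' d q h hq x, compat_UR v d' d q h hq x]

theorem compat_LQ : IsCompat (loc LQ.{u}) FL :=
  isCompat_loc _ _ fun A' A B' B v d' d q h hq x ⟨U, hx, hU⟩ => by
    obtain ⟨V, hV, hlft⟩ := down_lft h hq U hU.2
    haveI := hlft
    obtain ⟨z, W, hzW, hz, hW⟩ := exists_restrict (P := @LocallyQuasiFinite) (hV x hx) ⟨U, hx, hU.1⟩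
    have hsq := isPullback_restrict h V
    haveI := hW
    have h1 : z ∈ {z | ((v ⁻¹ᵁ V).ι ≫ d').QuasiFiniteAt z} := by
      have := (W.ι ≫ (v ⁻¹ᵁ V).ι ≫ d').quasiFiniteAt ⟨z, hzW⟩
      exact Scheme.Hom.quasiFiniteAt_comp_iff_of_isOpenImmersion.mp this
    rw [S9389.result (V.ι ≫ d) q (v ∣_ V) _ hsq] at h1
    rw [← hz]
    exact mem_loc_of_mem (P := LQ) V (V.ι ≫ d).quasiFiniteLocus ⟨inferInstance, inferInstance⟩ _ h1

theorem compat_UO : IsCompat (loc (@UniversallyOpen : MorphismProperty Scheme.{u})) @UniversallyOpen :=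
  isCompat_loc _ _ fun A' A B' B v d' d q h hq x ⟨U, hx, hU⟩ => by
    obtain ⟨V, r, -, hs, hV, e⟩ :=
      exists_image h _ (le_refl _) (fun _ _ f hf => by haveI := hf; exact inferInstanceAs (UniversallyOpen f)) hq U
    refine ⟨V, hV x hx, ?_⟩
    haveI := hq; haveI := hU
    haveI : UniversallyOpen (r ≫ V.ι ≫ d) := by rw [e]; infer_instance
    exact MorLib.universallyOpen_of_comp_surjective r _

end Groth.Agent.GrpSchLib.Loci
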