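import Groth.Agent.GrpSchLib.ArtinDescentFlat
import Groth.Agent.GrpSchLib.KernelPair
import Groth.Agent.GrpSchLib.KernelGrp
import Groth.Agent.GrpSchLib.FieldSmooth
import Groth.Agent.GrpSchLib.AntiAffineHom
import Groth.Agent.H9Misc.RatFunLib
import Groth.Agent.Triage.CMMor
import Groth.Agent.S18825
import Groth.Agent.S5336

/-! A scheme-theoretically dominant homomorphism of algebraic groups over a field is faithfully flat. -/

universe u

open CategoryTheory Limits AlgebraicGeometry MonoidalCategory CartesianMonoidalCategory MonObj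
open scoped TensorProduct

namespace Groth.Agent.GrpSchLib.ImageFlat

theorem surjective_sigmaDesc {X : Scheme.{u}} (𝒰 : X.OpenCover) : Surjective (Sigma.desc 𝒰.f) := by
  constructor
  intro x
  obtain ⟨y, hy⟩ := 𝒰.covers x
  exact ⟨(Sigma.ι 𝒰.X (𝒰.idx x)) y, by rw [← Scheme.Hom.comp_apply, Sigma.ι_desc, hy]⟩

theorem flat_sigmaDesc {X : Scheme.{u}} (𝒰 : X.OpenCover) : Flat (Sigma.desc 𝒰.f) :=
  IsZariskiLocalAtSource.sigmaDesc fun i => inferInstance

theorem appTop_injective_sigmaDesc {X : Scheme.{u}} (𝒰 : X.OpenCover) :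
    Function.Injective (Sigma.desc 𝒰.f).appTop := by
  rw [injective_iff_map_eq_zero]
  intro s hs
  refine Scheme.zero_of_zero_cover s 𝒰 fun i => ?_
  show (𝒰.f i).appTop s = 0
  rw [← Sigma.ι_desc 𝒰.f i, Scheme.Hom.comp_appTop, ConcreteCategory.comp_apply, hs, map_zero]

/-- A morphism to the spectrum of an Artinian local ring, injective on functions, with flat base change along
itself, is flat. -/
theorem flat_of_pullback {A B : CommRingCat.{u}} [IsArtinianRing A] [IsLocalRing A] (φ : A ⟶ B)
    (hinj : Function.Injective φ.hom) (h : Flat (pullback.fst (Spec.map φ) (Spec.map φ))) : Flat (Spec.map φ) := by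
  letI := φ.hom.toAlgebra
  have e : Spec.map φ = Spec.map (CommRingCat.ofHom (algebraMap A B)) := rfl
  rw [e] at h ⊢
  refine (HasRingHomProperty.Spec_iff (P := @Flat)).mpr ?_
  show (algebraMap A B).Flat
  haveI : Flat (Spec.map (CommRingCat.ofHom (Algebra.TensorProduct.includeLeftRingHom (R := A) (A := B) (B := B)))) := by
    rw [← pullbackSpecIso_inv_fst]
    infer_instance
  have h2 : (Algebra.TensorProduct.includeLeftRingHom (R := A) (A := B) (B := B)).Flat :=
    (HasRingHomProperty.Spec_iff (P := @Flat)).mp ‹_›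
  haveI : Module.Flat B (B ⊗[A] B) := RingHom.flat_algebraMap_iff.mp h2
  exact RingHom.flat_algebraMap_iff.mpr (ArtinDescentFlat.flat_of_baseChange hinj B)

variable {k : Type u} [Field k] {G H : Over (Spec (CommRingCat.of k))} [GrpObj G] [GrpObj H]
  [LocallyOfFiniteType G.hom] [LocallyOfFiniteType H.hom] [QuasiCompact G.hom] [QuasiCompact H.hom]

/-- A scheme-theoretically dominant homomorphism of algebraic groups over a field is faithfully flat. -/
theorem flat_surjective_of_dominant (f : G ⟶ H) [IsMonHom f] [IsSchemeTheoreticallyDominant f.left] :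
    Flat f.left ∧ Surjective f.left := by
  classical
  haveI := AntiAffine.isSeparated_grp H
  haveI : QuasiCompact (f.left ≫ H.hom) := by rw [Over.w f]; infer_instance
  haveI : QuasiCompact f.left := QuasiCompact.of_comp f.left H.hom
  haveI : LocallyOfFiniteType (f.left ≫ H.hom) := by rw [Over.w f]; infer_instance
  haveI : LocallyOfFiniteType f.left := locallyOfFiniteType_of_comp f.left H.hom
  haveI : Surjective f.left := (S18825.result k G H H f (𝟙 H) f (Category.comp_id f)).2
  refine ⟨?_, inferInstance⟩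
  haveI : IsLocallyNoetherian H.left := LocallyOfFiniteType.isLocallyNoetherian H.hom
  haveI : IsSeparated (terminal.from H.left) := by
    rw [show terminal.from H.left = H.hom ≫ terminal.from _ from Subsingleton.elim _ _]
    infer_instance
  haveI : H.left.IsSeparated := ⟨inferInstance⟩
  haveI : CompactSpace H.left := (quasiCompact_iff_compactSpace H.hom).mp inferInstance
  haveI : AlgebraicGeometry.IsNoetherian H.left := ⟨⟩
  let x₀ : H.left := η[H].left (IsLocalRing.closedPoint k)
  let Z : irreducibleComponents (H.left : Type u) :=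
    ⟨irreducibleComponent x₀, irreducibleComponent_mem_irreducibleComponents x₀⟩
  let ξ := H9Misc.RatFunLib.gp Z
  let A := H.left.presheaf.stalk ξ
  haveI : IsArtinianRing A := H9Misc.RatFunLib.isArtinianRing_stalk _ (H9Misc.RatFunLib.gp_max Z)
  let ιξ := H.left.fromSpecStalk ξ
  haveI : Flat ιξ := flat_fromSpecStalk ξ
  haveI : CompactSpace ↥(pullback f.left ιξ) :=
    (quasiCompact_iff_compactSpace (pullback.snd f.left ιξ ≫ 𝟙 _)).mp inferInstance
  let 𝒰 := (pullback f.left ιξ).affineCover.finiteSubcover
  let C := ∐ 𝒰.X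
  haveI : ∀ i, IsAffine (𝒰.X i) := fun i => inferInstanceAs (IsAffine ((pullback f.left ιξ).affineCover.X _))
  haveI : IsAffine C := inferInstance
  let π : Spec Γ(C, ⊤) ⟶ pullback f.left ιξ := C.isoSpec.inv ≫ Sigma.desc 𝒰.f
  haveI := surjective_sigmaDesc 𝒰
  haveI := flat_sigmaDesc 𝒰
  haveI : Flat π := inferInstance
  haveI : Surjective π := inferInstance
  let a : Spec Γ(C, ⊤) ⟶ G.left := π ≫ pullback.fst f.left ιξ
  let v : Spec Γ(C, ⊤) ⟶ Spec A := π ≫ pullback.snd f.left ιξ
  have hva : v ≫ ιξ = a ≫ f.left := by simp only [v, a, Category.assoc, pullback.condition]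
  haveI : Flat a := inferInstance
  obtain ⟨φ, hφ⟩ : ∃ φ : A ⟶ Γ(C, ⊤), Spec.map φ = v := ⟨_, Spec.map_preimage v⟩
  have hinj : Function.Injective φ.hom := by
    haveI : IsIso C.isoSpec.inv.appTop := inferInstanceAs (IsIso (Scheme.Γ.map C.isoSpec.inv.op))
    have h1 : Function.Injective π.appTop := by
      rw [Scheme.Hom.comp_appTop]
      exact (ConcreteCategory.bijective_of_isIso C.isoSpec.inv.appTop).1.comp (appTop_injective_sigmaDesc 𝒰)
    have h2 : Function.Injective v.appTop := by
      rw [Scheme.Hom.comp_appTop]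
      exact h1.comp ((pullback.snd f.left ιξ).app_injective ⊤)
    have h3 : φ ≫ (Scheme.ΓSpecIso _).inv = (Scheme.ΓSpecIso A).inv ≫ v.appTop := by
      rw [← hφ]; exact Scheme.ΓSpecIso_inv_naturality φ
    intro x y hxy
    refine (ConcreteCategory.bijective_of_isIso (Scheme.ΓSpecIso A).inv).1 (h2 ?_)
    have hx := ConcreteCategory.congr_hom h3 x
    have hy := ConcreteCategory.congr_hom h3 y
    simp only [ConcreteCategory.comp_apply] at hx hy
    rw [← hx, ← hy]
    exact congrArg _ hxy
  have hfl : Flat v := by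
    rw [← hφ]
    refine flat_of_pullback φ hinj ?_
    rw [hφ]
    obtain ⟨N, _, i, hi, _, _, hker⟩ := exists_kernel f
    obtain ⟨p, hp, hpe⟩ := exists_kernelPair_iso i f hker
    haveI : Flat (pullback.snd f.left f.left) := by
      rw [← MorphismProperty.cancel_left_of_respectsIso @Flat p, hpe]
      exact inferInstanceAs (Flat (pullback.snd N.hom G.hom))
    haveI : Flat (pullback.fst f.left f.left) := by
      rw [← pullbackSymmetry_hom_comp_snd]; infer_instance
    haveI : Flat (pullback.fst (a ≫ f.left) f.left) := by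
      rw [← pullbackRightPullbackFstIso_inv_fst]; infer_instance
    haveI : Flat (pullback.snd f.left (a ≫ f.left)) := by
      rw [← pullbackSymmetry_hom_comp_fst]; infer_instance
    haveI : Flat (pullback.snd (a ≫ f.left) (a ≫ f.left)) := by
      rw [← pullbackRightPullbackFstIso_inv_snd_snd f.left (a ≫ f.left) a]; infer_instance
    haveI : Flat (pullback.fst (a ≫ f.left) (a ≫ f.left)) := by
      rw [← pullbackSymmetry_hom_comp_snd]; infer_instance
    have hk : IsKernelPair (v ≫ ιξ) (pullback.fst v v) (pullback.snd v v) := IsKernelPair.comp_of_mono (IsPullback.of_hasPullback v v)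
    rw [hva] at hk
    rw [← hk.isoPullback_hom_fst]
    infer_instance
  haveI : Nontrivial Γ(C, ⊤) := hinj.nontrivial
  obtain ⟨b⟩ : Nonempty ↥(Spec Γ(C, ⊤)) := inferInstance
  have h4 : ((a ≫ f.left).stalkMap b).hom.Flat := by
    have : Flat (a ≫ f.left) := by rw [← hva]; infer_instance
    exact Flat.stalkMap (a ≫ f.left) b
  rw [Scheme.Hom.stalkMap_comp] at h4
  refine S5336.result k G H f ⟨a b, ?_⟩
  exact Triage.CMMor.flat_of_comp (f.left.stalkMap (a b)).hom (a.stalkMap b).hom (Flat.stalkMap a b) h4

end Groth.Agent.GrpSchLib.ImageFlat
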