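import Groth.Agent.GrpSchLib.AntiAffineCrit
import Groth.Prelude.Def_AlgGrp
import Mathlib.AlgebraicGeometry.AffineSpace

/-! Actions of anti-affine groups with a fixed point, and linear actions from matrices. -/

universe u

open CategoryTheory Limits AlgebraicGeometry MonoidalCategory CartesianMonoidalCategory MonObj GrpObj
open CategoryTheory.Functor.LaxMonoidal

namespace Groth.Agent.GrpSchLib.AntiAffine

variable {k : Type u} [Field k]

theorem lift_one_act {G X : Over (Spec (CommRingCat.of k))} [GrpObj G] (a : AlgGrp.Action G X) :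
    lift (toUnit X ≫ η[G]) (𝟙 X) ≫ a.act = 𝟙 X := by
  have h : lift (toUnit X ≫ η[G]) (𝟙 X) = (λ_ X).inv ≫ (η[G] ▷ X) := by
    refine CartesianMonoidalCategory.hom_ext _ _ ?_ ?_
    · simp only [lift_fst, Category.assoc, whiskerRight_fst]
      rw [← Category.assoc]
      exact congrArg (· ≫ η[G]) (toUnit_unique _ _)
    · simp
  rw [h, Category.assoc, a.one_act, Iso.inv_hom_id]

/-- An anti-affine group over an algebraically closed field acts trivially on a connected scheme with a fixed point. -/
theorem act_eq_snd_algClosed [IsAlgClosed k] {G X : Over (Spec (CommRingCat.of k))} [GrpObj G] [LocallyOfFiniteType G.hom]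
    [QuasiCompact G.hom] (hG : Function.Bijective G.hom.appTop) [LocallyOfFiniteType X.hom] [PreconnectedSpace X.left]
    [IsSeparated X.hom] (a : AlgGrp.Action G X) (x : 𝟙_ (Over (Spec (CommRingCat.of k))) ⟶ X) (hx : a.IsFixedPt x) :
    a.act = snd G X := by
  haveI := isSeparated_grp G
  have key := AntiAffineRigid.factor hG a.act η[G] x x (hx G (𝟙 G))
  rwa [lift_one_act a, Category.comp_id] at key

/-- An anti-affine group acts trivially on a geometrically irreducible separated scheme with a fixed point. -/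
theorem act_eq_snd {G X : Over (Spec (CommRingCat.of k))} [GrpObj G] [LocallyOfFiniteType G.hom]
    [QuasiCompact G.hom] (hG : Function.Bijective G.hom.appTop) [LocallyOfFiniteType X.hom] [GeometricallyIrreducible X.hom]
    [IsSeparated X.hom] (a : AlgGrp.Action G X) (x : 𝟙_ (Over (Spec (CommRingCat.of k))) ⟶ X) (hx : a.IsFixedPt x) :
    a.act = snd G X := by
  let σ := Spec.map (CommRingCat.ofHom (algebraMap k (AlgebraicClosure k)))
  obtain ⟨h1, h2, h3⟩ := bc_hyp hG σ
  haveI := h1
  haveI := h2
  let F := Over.pullback σ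
  haveI : LocallyOfFiniteType (F.obj X).hom := inferInstanceAs (LocallyOfFiniteType (pullback.snd X.hom σ))
  haveI : IsSeparated (F.obj X).hom := inferInstanceAs (IsSeparated (pullback.snd X.hom σ))
  haveI : IrreducibleSpace ↥(F.obj X).left :=
    GeometricallyIrreducible.geometrically_irreducibleSpace (f := X.hom) σ _ _ (IsPullback.of_hasPullback _ _)
  haveI : PreconnectedSpace ↥(F.obj X).left := inferInstance
  haveI := isSeparated_grp (Red.bc σ G)
  have hu : ∀ Y : Over (Spec (CommRingCat.of k)), F.map (toUnit Y) = toUnit (F.obj Y) ≫ ε F := fun Y => by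
    rw [← cancel_mono (inv (ε F))]
    exact toUnit_unique _ _
  let φ : F.obj G ⊗ F.obj X ⟶ F.obj X := Functor.LaxMonoidal.μ F G X ≫ F.map a.act
  have hfix : lift (𝟙 (F.obj G)) (toUnit (F.obj G) ≫ ε F ≫ F.map x) ≫ φ = toUnit (F.obj G) ≫ ε F ≫ F.map x := by
    rw [← Category.assoc (toUnit (F.obj G)), ← hu, ← F.map_comp, ← F.map_id]
    simp only [φ, ← Category.assoc, CategoryTheory.Functor.Monoidal.lift_μ]
    rw [← F.map_comp, hx G (𝟙 G)]
  have key := AntiAffineRigid.factor h3 φ (ε F ≫ F.map η[G]) (ε F ≫ F.map x) (ε F ≫ F.map x) hfix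
  have h0 : lift (toUnit (F.obj X) ≫ ε F ≫ F.map η[G]) (𝟙 (F.obj X)) ≫ φ = 𝟙 _ := by
    rw [← Category.assoc (toUnit (F.obj X)), ← hu, ← F.map_comp, ← F.map_id]
    simp only [φ, ← Category.assoc, CategoryTheory.Functor.Monoidal.lift_μ]
    rw [← F.map_comp, lift_one_act a]
  rw [h0, Category.comp_id] at key
  refine eq_of_map_eq (algebraMap k (AlgebraicClosure k)) ?_
  rw [← cancel_epi (Functor.LaxMonoidal.μ F G X)]
  exact key.trans (CategoryTheory.Functor.Monoidal.μ_snd F G X).symm

end Groth.Agent.GrpSchLib.AntiAffine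

namespace Groth.Agent.GrpSchLib.Kunneth

variable {k : Type u} [Field k] {n : ℕ}

/-- Affine space. -/
noncomputable abbrev aff (k : Type u) [Field k] (n : ℕ) : Over (Spec (CommRingCat.of k)) :=
  Over.mk (AffineSpace (ULift.{u} (Fin n)) (Spec (CommRingCat.of k)) ↘ Spec (CommRingCat.of k))

instance : LocallyOfFiniteType (aff k n).hom :=
  inferInstanceAs (LocallyOfFiniteType (AffineSpace (ULift.{u} (Fin n)) (Spec (CommRingCat.of k)) ↘ Spec (CommRingCat.of k)))

instance : IsAffineHom (aff k n).hom :=
  inferInstanceAs (IsAffineHom (AffineSpace (ULift.{u} (Fin n)) (Spec (CommRingCat.of k)) ↘ Spec (CommRingCat.of k)))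

instance : GeometricallyIntegral (aff k n).hom :=
  inferInstanceAs (GeometricallyIntegral (AffineSpace (ULift.{u} (Fin n)) (Spec (CommRingCat.of k)) ↘ Spec (CommRingCat.of k)))

instance : IsIntegral (aff k n).left :=
  inferInstanceAs (IsIntegral (AffineSpace (ULift.{u} (Fin n)) (Spec (CommRingCat.of k))))

/-- The coordinates of affine space. -/
noncomputable def affCoord (i : Fin n) : Fn (aff k n) := AffineSpace.coord (Spec (CommRingCat.of k)) (ULift.up i)

/-- A point of affine space given by coordinates. -/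
noncomputable def affPt {T : Over (Spec (CommRingCat.of k))} (v : Fin n → Fn T) : T ⟶ aff k n :=
  Over.homMk (AffineSpace.homOfVector T.hom fun i => v i.down) (AffineSpace.homOfVector_over _ _)

theorem ev_affPt {T : Over (Spec (CommRingCat.of k))} (v : Fin n → Fn T) (i : Fin n) : ev (affPt v) (affCoord i) = v i :=
  AffineSpace.homOfVector_appTop_coord _ _ _

theorem aff_ext {T : Over (Spec (CommRingCat.of k))} {f g : T ⟶ aff k n}
    (h : ∀ i, ev f (affCoord i) = ev g (affCoord i)) : f = g :=
  Over.OverMorphism.ext (AffineSpace.hom_ext ((Over.w f).trans (Over.w g).symm) fun i => h i.down)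

variable {G : Over (Spec (CommRingCat.of k))} [GrpObj G] {M : Matrix (Fin n) (Fin n) (Fn G)}

/-- The linear action morphism of a matrix of functions. -/
noncomputable def linAct (M : Matrix (Fin n) (Fin n) (Fn G)) : G ⊗ aff k n ⟶ aff k n :=
  affPt fun i => ∑ j, ev (fst G (aff k n)) (M i j) * ev (snd G (aff k n)) (affCoord j)

theorem ev_comp_linAct {T : Over (Spec (CommRingCat.of k))} (u : T ⟶ G ⊗ aff k n) (i : Fin n) :
    ev (u ≫ linAct M) (affCoord i) = ∑ j, ev (u ≫ fst G _) (M i j) * ev (u ≫ snd G _) (affCoord j) := by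
  rw [← ev_ev, linAct, ev_affPt, map_sum]
  simp only [map_mul, ev_ev]

/-- The linear action of a multiplicative matrix. -/
noncomputable def IsRepMatrix.action (h : IsRepMatrix M) : AlgGrp.Action G (aff k n) where
  act := linAct M
  one_act := by
    refine aff_ext fun i => ?_
    rw [ev_comp_linAct, whiskerRight_fst, whiskerRight_snd]
    have h1 : ∀ j, ev (fst (𝟙_ _) (aff k n) ≫ η[G]) (M i j) = if i = j then 1 else 0 := fun j => by
      have := congrFun (congrFun (h.one (𝟙_ _ ⊗ aff k n)) i) j
      rw [Matrix.one_apply] at this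
      rw [← this, toUnit_unique (fst (𝟙_ _) (aff k n)) (toUnit _)]
      rfl
    simp only [h1, ite_mul, _root_.one_mul, MulZeroClass.zero_mul, Finset.sum_ite_eq, Finset.mem_univ, if_true, leftUnitor_hom]
  mul_act := by
    refine aff_ext fun i => ?_
    rw [ev_comp_linAct, whiskerRight_fst, whiskerRight_snd, ← Category.assoc, ev_comp_linAct]
    simp only [Category.assoc, whiskerLeft_fst, whiskerLeft_snd, associator_hom_fst]
    have hμ : fst (G ⊗ G) (aff k n) ≫ μ[G] = (fst (G ⊗ G) (aff k n) ≫ fst G G) * (fst (G ⊗ G) (aff k n) ≫ snd G G) := by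
      rw [← MonObj.comp_mul, Hom.mul_def, lift_fst_snd, Category.id_comp]
    have hm : ∀ j, ev (fst (G ⊗ G) (aff k n) ≫ μ[G]) (M i j) =
        ∑ l, ev (fst (G ⊗ G) (aff k n) ≫ fst G G) (M i l) * ev (fst (G ⊗ G) (aff k n) ≫ snd G G) (M l j) := fun j => by
      rw [hμ]
      exact congrFun (congrFun (h.mul _ _ _) i) j
    simp only [← Category.assoc, ev_comp_linAct, hm, Finset.mul_sum, Finset.sum_mul]
    rw [Finset.sum_comm]
    simp only [Category.assoc, associator_hom_snd_fst, associator_hom_snd_snd, _root_.mul_assoc]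

theorem IsRepMatrix.isFixedPt_zero (h : IsRepMatrix M) : h.action.IsFixedPt (affPt 0) := by
  intro T g
  refine aff_ext fun i => ?_
  show ev (lift g _ ≫ linAct M) _ = _
  rw [ev_comp_linAct, lift_snd, ← ev_ev (toUnit T) (affPt 0)]
  simp only [ev_affPt, Pi.zero_apply, ← ev_ev (toUnit T) (affPt 0), map_zero, MulZeroClass.mul_zero, Finset.sum_const_zero]

theorem IsRepMatrix.eq_one_of_action (h : IsRepMatrix M) (h1 : h.action.act = snd G (aff k n)) : M = 1 := by
  refine Matrix.ext fun i j => ?_
  have h2 := congrArg (fun f => ev (lift (𝟙 G) (affPt fun l => if l = j then 1 else 0) ≫ f) (affCoord i)) h1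
  simp only [show h.action.act = linAct M from rfl] at h2
  rw [ev_comp_linAct, lift_fst, lift_snd] at h2
  simpa [ev_id, ev_affPt, Matrix.one_apply] using h2

end Groth.Agent.GrpSchLib.Kunneth
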