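import Groth.Agent.AlgSpDec.LqfQuot
import Groth.Agent.AlgSpDec.QuotOpenMap
import Groth.Agent.AlgSpDec.LimOpen
import Groth.Agent.AlgSpPts.Diag
import Groth.Agent.AlgSpLib.Descends2
import Groth.Agent.S10197
import Groth.Agent.S10200
import Groth.Agent.S5372
import Groth.Agent.AGFLib.GenSubgroup
import Groth.Agent.GrpSchLib.AntiAffineHom
import Groth.Agent.AlgStLib.MonoQuotGrp

/-!
# Quotients of algebraic groups by closed normal subgroups over an algebraically closed field
-/

set_option backward.isDefEq.respectTransparency false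
set_option backward.isDefEq.respectTransparency.types false
set_option linter.style.haveILetI false

universe u

open CategoryTheory Limits AlgebraicGeometry MonoidalCategory CartesianMonoidalCategory MonObj GrpObj
open AlgSp Groth.Agent.AlgSpLib Groth.Agent.AlgSpPts
open scoped MonObj

namespace Groth.Agent.GrpSchLib.GenQuot

section Rel

variable {S : Scheme.{u}} {G N : Over S} [GrpObj G] [GrpObj N] (h : N ⟶ G)

/-- The action of the subgroup by right translations. -/
noncomputable abbrev act : G ⊗ N ⟶ G := (G ◁ h) ≫ μ[G]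

theorem comp_act {T : Over S} (r : T ⟶ G ⊗ N) :
    r ≫ act h = (r ≫ fst G N) * (r ≫ snd G N ≫ h) := by
  have : r ≫ (G ◁ h) = lift (r ≫ fst G N) (r ≫ snd G N ≫ h) := by
    apply CartesianMonoidalCategory.hom_ext <;> simp
  rw [← Category.assoc, this, Hom.mul_def]

theorem isEqvRel [IsMonHom h] [Mono h] : IsEqvRel (fst G N) (act h) where
  injective T r r' ht hs := by
    apply CartesianMonoidalCategory.hom_ext _ _ hs
    rw [comp_act, comp_act, hs] at ht
    rw [← cancel_mono h, Category.assoc, Category.assoc]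
    exact mul_left_cancel ht
  equivalence T := by
    refine ⟨fun a => ⟨lift a 1, ?_, lift_fst _ _⟩, ?_, ?_⟩
    · rw [comp_act, lift_fst, lift_snd_assoc, MonObj.one_comp, _root_.mul_one]
    · rintro a b ⟨r, rfl, rfl⟩
      refine ⟨lift (r ≫ act h) (r ≫ snd G N)⁻¹, ?_, lift_fst _ _⟩
      rw [comp_act (h := h) (r := lift _ _), lift_fst, lift_snd_assoc, GrpObj.inv_comp, comp_act,
        Category.assoc, mul_inv_cancel_right]
    · rintro a b c ⟨r, rfl, rfl⟩ ⟨r', hr', rfl⟩
      refine ⟨lift (r' ≫ fst G N) ((r' ≫ snd G N) * (r ≫ snd G N)), ?_, lift_fst _ _⟩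
      rw [comp_act (h := h) (r := lift _ _), lift_fst, lift_snd_assoc, MonObj.mul_comp, ← _root_.mul_assoc,
        Category.assoc, Category.assoc, ← comp_act, hr', ← comp_act]

/-- The shear automorphism. -/
noncomputable def shear [IsMonHom h] : G ⊗ N ≅ G ⊗ N where
  hom := lift (act h) (snd G N)
  inv := lift (fst G N * (snd G N ≫ h)⁻¹) (snd G N)
  hom_inv_id := by
    apply CartesianMonoidalCategory.hom_ext
    · rw [Category.assoc, lift_fst, MonObj.comp_mul, lift_fst, GrpObj.comp_inv, lift_snd_assoc, Category.id_comp]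
      conv_lhs => enter [1]; rw [← Category.id_comp (act h), comp_act, Category.id_comp, Category.id_comp]
      rw [mul_inv_cancel_right]
    · rw [Category.assoc, lift_snd, lift_snd, Category.id_comp]
  inv_hom_id := by
    apply CartesianMonoidalCategory.hom_ext
    · rw [Category.assoc, lift_fst, comp_act, lift_fst, lift_snd_assoc, Category.id_comp, inv_mul_cancel_right]
    · rw [Category.assoc, lift_snd, lift_snd, Category.id_comp]

theorem act_eq [IsMonHom h] : act h = (shear h).hom ≫ fst G N := (lift_fst _ _).symm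

theorem flat_fst [Flat N.hom] : Flat (fst G N).left :=
  MorphismProperty.pullback_fst G.hom N.hom ‹_›

theorem lfp_fst [LocallyOfFinitePresentation N.hom] : LocallyOfFinitePresentation (fst G N).left :=
  MorphismProperty.pullback_fst G.hom N.hom ‹_›

theorem flat_act [IsMonHom h] [Flat N.hom] : Flat (act h).left := by
  have := flat_fst (G := G) (N := N)
  have : IsIso (shear h).hom.left := inferInstanceAs (IsIso ((Over.forget S).map (shear h).hom))
  rw [act_eq, Over.comp_left]; infer_instance

theorem lfp_act [IsMonHom h] [LocallyOfFinitePresentation N.hom] : LocallyOfFinitePresentation (act h).left := by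
  have := lfp_fst (G := G) (N := N)
  have : IsIso (shear h).hom.left := inferInstanceAs (IsIso ((Over.forget S).map (shear h).hom))
  rw [act_eq, Over.comp_left]; infer_instance

end Rel

section Sheaf

variable {S : Scheme.{u}} {U R : Over S} {s t : R ⟶ U}

/-- Maps out of a quotient sheaf. -/
theorem exists_desc {F : Sp S} (f : (yon S).obj U ⟶ F) (w : (yon S).map s ≫ f = (yon S).map t ≫ f) :
    ∃ φ : QuotSh.quot Scheme.fppfPrecoverage s t ⟶ F, quotMap s t ≫ φ = f := by
  have nat : ∀ {V W : Over S} (g : V ⟶ W), (QuotSh.repIsoUliftYoneda Scheme.fppfPrecoverage V).hom ≫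
      (yon S).map g = QuotSh.repMap Scheme.fppfPrecoverage g ≫
        (QuotSh.repIsoUliftYoneda Scheme.fppfPrecoverage W).hom := fun {V W} g => by
    have e : (yon S).map g ≫ (QuotSh.repIsoUliftYoneda Scheme.fppfPrecoverage W).inv =
        (QuotSh.repIsoUliftYoneda Scheme.fppfPrecoverage V).inv ≫ QuotSh.repMap Scheme.fppfPrecoverage g :=
      ObjectProperty.hom_ext _ (toSheafify_naturality (QuotSh.J Scheme.fppfPrecoverage S) _)
    rw [← Iso.eq_inv_comp, ← Category.assoc, ← e, Category.assoc, Iso.inv_hom_id, Category.comp_id]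
  refine ⟨coequalizer.desc ((QuotSh.repIsoUliftYoneda Scheme.fppfPrecoverage U).hom ≫ f) ?_, ?_⟩
  · rw [← reassoc_of% (nat s), ← reassoc_of% (nat t), w]
  · unfold quotMap QuotSh.quotπ
    rw [Category.assoc]
    erw [coequalizer.π_desc, Iso.inv_hom_id_assoc]

/-- Quotients by relations with quasi-compact graph are quasi-separated. -/
theorem isQuasiSeparatedSp_quot {X : Sp S} (hX : IsAlgSpace X) (p : (yon S).obj U ⟶ X)
    [Sheaf.IsLocallySurjective p] (sq : IsPullback ((yon S).map t) ((yon S).map s) p p)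
    (hq : QuasiCompact (prod.lift t s : R ⟶ U ⨯ U).left) : IsQuasiSeparatedSp X := by
  let b : (yon S).obj (U ⨯ U) ⟶ X ⨯ X :=
    prod.lift ((yon S).map (prod.fst : U ⨯ U ⟶ U) ≫ p) ((yon S).map (prod.snd : U ⨯ U ⟶ U) ≫ p)
  have : Sheaf.IsLocallySurjective b := isLocallySurjective_of_lifts b fun T g => by
    obtain ⟨T1, k1, x1, hk1, hx1⟩ := AlgSpDec.exists_fppf_lift_of_locallySurjective p (g ≫ prod.fst)
    obtain ⟨T2, k2, x2, hk2, hx2⟩ :=
      AlgSpDec.exists_fppf_lift_of_locallySurjective p ((yon S).map k1 ≫ g ≫ prod.snd)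
    obtain ⟨x1, rfl⟩ := (yon S).map_surjective x1
    obtain ⟨x2, rfl⟩ := (yon S).map_surjective x2
    refine ⟨T2, k2 ≫ k1, (yon S).map (prod.lift (k2 ≫ x1) x2), MorphismProperty.comp_mem _ _ _ hk2 hk1, ?_⟩
    apply Limits.prod.hom_ext
    · rw [Category.assoc, prod.lift_fst, ← Functor.map_comp_assoc, prod.lift_fst, Functor.map_comp,
        Category.assoc, hx1, Functor.map_comp, Category.assoc, Category.assoc]
    · rw [Category.assoc, prod.lift_snd, ← Functor.map_comp_assoc, prod.lift_snd, hx2, Functor.map_comp,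
        Category.assoc, Category.assoc]
  have hsq : IsPullback ((yon S).map t ≫ p) ((yon S).map (prod.lift t s : R ⟶ U ⨯ U)) (Limits.diag X) b := by
    refine ⟨⟨?_⟩, ⟨PullbackCone.IsLimit.mk _
      (fun c => sq.lift (c.snd ≫ (yon S).map prod.fst) (c.snd ≫ (yon S).map prod.snd) ?_)
      (fun c => ?_) (fun c => ?_) (fun c m h₁ h₂ => ?_)⟩⟩
    · apply Limits.prod.hom_ext
      · simp only [b, Category.assoc, prod.lift_fst, Limits.prod.lift_fst, Category.comp_id,
          ← Functor.map_comp_assoc]
      · simp only [b, Category.assoc, prod.lift_snd, Limits.prod.lift_snd, Category.comp_id,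
          ← Functor.map_comp_assoc]
        exact sq.w
    · have h1 := congrArg (· ≫ prod.fst) c.condition
      have h2 := congrArg (· ≫ prod.snd) c.condition
      simp only [b, Category.assoc, prod.lift_fst, prod.lift_snd, Limits.prod.lift_fst, Limits.prod.lift_snd,
        Category.comp_id] at h1 h2
      rw [Category.assoc, Category.assoc, ← h1, h2]
    · rw [sq.lift_fst_assoc, Category.assoc]
      have h1 := congrArg (· ≫ prod.fst) c.condition
      simp only [b, Category.assoc, prod.lift_fst, Limits.prod.lift_fst, Category.comp_id] at h1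
      exact h1.symm
    · refine yon_prod_ext _ _ ?_ ?_
      · refine (Category.assoc _ _ _).trans ?_
        refine Eq.trans (congrArg (_ ≫ ·) ?_) (sq.lift_fst _ _ _)
        rw [← Functor.map_comp, prod.lift_fst]
      · refine (Category.assoc _ _ _).trans ?_
        refine Eq.trans (congrArg (_ ≫ ·) ?_) (sq.lift_snd _ _ _)
        rw [← Functor.map_comp, prod.lift_snd]
    · apply sq.hom_ext
      · rw [sq.lift_fst, ← h₂, Category.assoc, ← Functor.map_comp, prod.lift_fst]
      · rw [sq.lift_snd, ← h₂, Category.assoc, ← Functor.map_comp, prod.lift_snd]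
  have := isLocalAtTarget_fppf (@QuasiCompact : MorphismProperty Scheme.{u})
  exact repWith_of_locallySurjective hX.diag b hsq @QuasiCompact ((repWith_yon_map_iff _ _).2 hq)

end Sheaf

variable {k : Type u} [Field k] [IsAlgClosed k]

local notation "PT" => 𝟙_ (Over (Spec (CommRingCat.of k)))

variable {G N : Over (Spec (CommRingCat.of k))} [GrpObj G] [GrpObj N]

/-- The quotient sheaf by a closed subgroup is representable. -/
theorem exists_quot_sq [LocallyOfFiniteType G.hom] [QuasiCompact G.hom] (h : N ⟶ G) [IsMonHom h]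
    [IsClosedImmersion h.left] :
    ∃ (Q : Over (Spec (CommRingCat.of k))) (q : G ⟶ Q), Surjective q.left ∧ Flat q.left ∧
      LocallyOfFinitePresentation q.left ∧ IsPullback (act h) (fst G N) q q := by
  have : Mono h := by
    have : Mono h.left := inferInstance
    exact Over.mono_of_mono_left h
  have : LocallyOfFiniteType N.hom := by rw [← Over.w h]; infer_instance
  have : QuasiCompact N.hom := by rw [← Over.w h]; infer_instance
  have : LocallyOfFinitePresentation N.hom :=
    LocallyOfFinitePresentation.iff_locallyOfFiniteType.2 ‹_›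
  have : Flat N.hom := inferInstance
  have := flat_fst (G := G) (N := N)
  have := lfp_fst (G := G) (N := N)
  have := flat_act h
  have := lfp_act h
  have := GrpSchLib.AntiAffine.isSeparated_grp G
  have hE := isEqvRel h
  let p := quotMap (fst G N) (act h)
  have := AlgSpDec.isLocallySurjective_quotMap (fst G N) (act h)
  have sq := isPullback_quotMap hE
  have hA := AlgSpDec.isAlgSpace_quot hE
  have hr : Representable p := AlgSpDec.representable_of_kernelPair sq
  have := isLocalAtTarget_fppf (@Flat : MorphismProperty Scheme.{u})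
  have := isLocalAtTarget_fppf (@LocallyOfFinitePresentation : MorphismProperty Scheme.{u})
  have := isLocalAtTarget_fppf (@Surjective : MorphismProperty Scheme.{u})
  have hss : Surjective (fst G N).left := ⟨fun x => by
    refine ⟨(lift (𝟙 G) 1 : G ⟶ G ⊗ N).left x, ?_⟩
    rw [← Scheme.Hom.comp_apply, ← Over.comp_left, lift_fst]; rfl⟩
  have hpf := repWith_of_locallySurjective hr p sq @Flat ((repWith_yon_map_iff _ _).2 ‹Flat (fst G N).left›)
  have hpl := repWith_of_locallySurjective hr p sq @LocallyOfFinitePresentation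
    ((repWith_yon_map_iff _ _).2 ‹LocallyOfFinitePresentation (fst G N).left›)
  have hps := repWith_of_locallySurjective hr p sq @Surjective ((repWith_yon_map_iff _ _).2 hss)
  have : QuasiCompact (G ⊗ N).hom := by
    show QuasiCompact (pullback.fst G.hom N.hom ≫ G.hom)
    infer_instance
  have : IsSeparated (G ⨯ G).hom := by
    rw [← Over.w (prod.fst : G ⨯ G ⟶ G), ← Over.prodLeftIsoPullback_hom_fst]
    infer_instance
  have hqc : QuasiCompact (prod.lift (act h) (fst G N) : G ⊗ N ⟶ G ⨯ G).left := by
    have : QuasiCompact ((prod.lift (act h) (fst G N) : G ⊗ N ⟶ G ⨯ G).left ≫ (G ⨯ G).hom) := by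
      rw [Over.w]; infer_instance
    exact QuasiCompact.of_comp _ (G ⨯ G).hom
  have hqs := isQuasiSeparatedSp_quot hA p sq hqc
  let X : Space (Spec (CommRingCat.of k)) := ⟨_, hA⟩
  obtain ⟨X', j, hj, hrep, hmax⟩ := S10197.result X
  have hid : RepWith @IsOpenImmersion (𝟙 X.obj) := repWith_of_isIso _ _
  obtain ⟨X'', j'', hj'', hrep'', hdense, -⟩ := S10200.result X
    ⟨PUnit, fun _ => X, fun _ => 𝟙 X, ⟨fun _ => hid, fun x => ⟨⟨⟩, x, Points.map_id x⟩⟩, fun _ => hqs⟩
  let W := Points.ofPt p ⁻¹' Set.range (Points.map j.hom)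
  have hWo : IsOpen W := (AlgSpDec.isOpen_range_openImm hA hj).preimage (Points.continuous_ofPt p)
  have hWn : W.Nonempty := by
    obtain ⟨m, hm⟩ := hmax X'' j'' hj'' hrep''
    have hx : Points.ofPt p (η[G].left (IsLocalRing.closedPoint k)) ∈ (Set.univ : Set (Points X.obj)) := trivial
    obtain ⟨x, -, z, rfl⟩ := hdense.inter_open_nonempty _ isOpen_univ ⟨_, hx⟩
    obtain ⟨u, hu⟩ := surjective_ofPt hps (Points.map j''.hom z)
    refine ⟨u, Points.map m.hom z, ?_⟩
    rw [hu, ← Points.map_comp]
    exact congrFun (congrArg Points.map (congrArg InducedCategory.Hom.hom hm)) z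
  have : JacobsonSpace ↥G.left := LocallyOfFiniteType.jacobsonSpace G.hom
  obtain ⟨c₀, hc₀, hc₀cl⟩ := nonempty_inter_closedPoints hWn hWo.isLocallyClosed
  have hW : ∀ c : G.left, IsClosed ({c} : Set G.left) → c ∈ W := by
    intro c hc
    obtain ⟨a, rfl⟩ := AGFLib.Gen.exists_cp hc
    obtain ⟨b, rfl⟩ := AGFLib.Gen.exists_cp hc₀cl
    let L : (PT ⟶ G) → (G ⟶ G) := fun g => (toUnit G ≫ g) * 𝟙 G
    have hLs : ∀ g, (L g ▷ N) ≫ fst G N = fst G N ≫ L g := fun g => whiskerRight_fst _ _
    have hLt : ∀ g, (L g ▷ N) ≫ act h = act h ≫ L g := fun g => by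
      rw [comp_act, whiskerRight_fst, whiskerRight_snd_assoc]
      conv_rhs => rw [MonObj.comp_mul, Category.comp_id, ← Category.assoc, comp_toUnit]
      simp only [L, MonObj.comp_mul, Category.comp_id]
      rw [← Category.assoc, comp_toUnit, _root_.mul_assoc]
      congr 1
    have hdesc : ∀ g, ∃ φ : X.obj ⟶ X.obj, p ≫ φ = (yon _).map (L g) ≫ p := fun g =>
      exists_desc _ (by
        rw [← Functor.map_comp_assoc, ← Functor.map_comp_assoc, ← hLs, ← hLt, Functor.map_comp,
          Functor.map_comp, Category.assoc, Category.assoc, sq.w])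
    choose φ hφ using hdesc
    have hLL : ∀ g, L g⁻¹ ≫ L g = 𝟙 G := fun g => by
      simp only [L, MonObj.comp_mul, Category.comp_id]
      rw [← Category.assoc, comp_toUnit, GrpObj.comp_inv, mul_inv_cancel_left]
    have hepi : Epi p := by
      exact (Sheaf.isLocallySurjective_iff_epi p).1 inferInstance
    have hφφ : ∀ g, φ g⁻¹ ≫ φ g = 𝟙 _ := fun g => by
      rw [← cancel_epi p, reassoc_of% (hφ g⁻¹), hφ g, ← Functor.map_comp_assoc, hLL g,
        Category.comp_id, CategoryTheory.Functor.map_id, Category.id_comp]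
    let g₀ := a * b⁻¹
    have hiso : IsIso (φ g₀) := ⟨φ g₀⁻¹, by simpa using hφφ g₀⁻¹, hφφ g₀⟩
    obtain ⟨m, hm⟩ := hmax X' ⟨j.hom ≫ φ g₀⟩
      (MorphismProperty.comp_mem _ _ _ hj (repWith_of_isIso _ _)) hrep
    obtain ⟨z, hz⟩ : AGFLib.Gen.cp b ∈ W := hc₀
    have hba : b ≫ L g₀ = a := by
      simp only [L, MonObj.comp_mul, Category.comp_id]
      rw [← Category.assoc, comp_toUnit, toUnit_unique (toUnit PT) (𝟙 PT), Category.id_comp]
      exact inv_mul_cancel_right a b
    refine ⟨Points.map m.hom z, ?_⟩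
    have hm' : m.hom ≫ j.hom = j.hom ≫ φ g₀ := congrArg InducedCategory.Hom.hom hm
    rw [← Points.map_comp, hm', Points.map_comp, hz, Points.map_ofPt, hφ, ofPt_comp]
    congr 1
    rw [← hba]
    rfl
  have hWu : W = Set.univ := by
    by_contra hne
    obtain ⟨c, hc, hcl⟩ := nonempty_inter_closedPoints (Z := Wᶜ)
      (Set.nonempty_compl.2 hne) hWo.isClosed_compl.isLocallyClosed
    exact hc (hW c hcl)
  have : IsIso j.hom := AlgSpDec.isIso_of_openImm_surjective hA hj fun x => by
    obtain ⟨u, rfl⟩ := surjective_ofPt hps x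
    exact (hWu.symm ▸ Set.mem_univ u : u ∈ W)
  obtain ⟨Q, ⟨eQ⟩⟩ := hrep.has_representation
  let e : (yon (Spec (CommRingCat.of k))).obj Q ≅ X.obj := isoOfRepresentableBy eQ ≪≫ asIso j.hom
  obtain ⟨q, hq⟩ := (yon (Spec (CommRingCat.of k))).map_surjective (p ≫ e.inv)
  have sqq : IsPullback ((yon _).map (act h)) ((yon _).map (fst G N)) ((yon _).map q) ((yon _).map q) := by
    refine sq.of_iso (Iso.refl _) (Iso.refl _) (Iso.refl _) e.symm (by simp) (by simp) ?_ ?_ <;>
      simp [hq, p]
  have hwq : act h ≫ q = fst G N ≫ q :=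
    (yon (Spec (CommRingCat.of k))).map_injective (by rw [Functor.map_comp, Functor.map_comp]; exact sqq.w)
  refine ⟨Q, q, ?_, ?_, ?_, IsPullback.of_map _ hwq sqq⟩
  · exact (repWith_yon_map_iff _ _).1 (hq ▸ MorphismProperty.RespectsIso.postcomp _ _ _ hps)
  · exact (repWith_yon_map_iff _ _).1 (hq ▸ MorphismProperty.RespectsIso.postcomp _ _ _ hpf)
  · exact (repWith_yon_map_iff _ _).1 (hq ▸ MorphismProperty.RespectsIso.postcomp _ _ _ hpl)

/-- The quotient by a closed normal subgroup is an algebraic group. -/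
theorem exists_quot [LocallyOfFiniteType G.hom] [QuasiCompact G.hom] (h : N ⟶ G) [IsMonHom h]
    [IsClosedImmersion h.left] (hN : AlgGrp.IsNormalHom h) :
    ∃ (Q : Over (Spec (CommRingCat.of k))) (_ : GrpObj Q) (q : G ⟶ Q), IsMonHom q ∧ Surjective q.left ∧
      Flat q.left ∧ LocallyOfFinitePresentation q.left ∧ LocallyOfFiniteType Q.hom ∧ QuasiCompact Q.hom ∧
      IsSeparated Q.hom ∧ AlgGrp.IsKernel h q ∧ IsPullback (act h) (fst G N) q q := by
  have : Mono h := by
    have : Mono h.left := inferInstance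
    exact Over.mono_of_mono_left h
  obtain ⟨Q, q, hs, hf, hl, sq⟩ := exists_quot_sq h
  have : LocallyOfFinitePresentation G.hom := LocallyOfFinitePresentation.iff_locallyOfFiniteType.2 ‹_›
  have : LocallyOfFinitePresentation (q.left ≫ Q.hom) := by rw [Over.w q]; infer_instance
  have : LocallyOfFinitePresentation Q.hom :=
    Groth.Agent.SrcDescent.locallyOfFinitePresentation_of_fppf_comp q.left Q.hom
  have : CompactSpace ↥G.left := QuasiCompact.compactSpace_of_compactSpace G.hom
  have : CompactSpace ↥Q.left := q.left.surjective.compactSpace q.left.continuous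
  have : IsLocallyNoetherian G.left := LocallyOfFiniteType.isLocallyNoetherian G.hom
  have : IsNoetherian G.left := {}
  obtain ⟨grp, hq, -⟩ := S5372.result _ G N Q h q
    ⟨G.left, q.left, 𝟙 _, Category.id_comp _, hs, hf, fun V _ => ⟨q.left ⁻¹ᵁ V,
      TopologicalSpace.NoetherianSpace.isCompact _, Set.image_preimage_eq _ q.left.surjective⟩⟩ sq hN
  have hqc : QuasiCompact Q.hom :=
    HasAffineProperty.iff_of_isAffine.2 ‹_›
  refine ⟨Q, grp, q, hq, hs, hf, hl, inferInstance, hqc, AntiAffine.isSeparated_grp Q, ?_, sq⟩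
  have hleft : IsPullback (lift (toUnit N ≫ η[G]) (𝟙 N)) (toUnit N) (fst G N) η[G] :=
    ⟨⟨lift_fst _ _⟩, ⟨PullbackCone.IsLimit.mk _ (fun c => c.fst ≫ snd G N)
      (fun c => by
        apply CartesianMonoidalCategory.hom_ext
        · rw [Category.assoc, lift_fst, c.condition, ← Category.assoc, comp_toUnit,
            toUnit_unique c.snd (toUnit _)]
        · rw [Category.assoc, lift_snd, Category.comp_id])
      (fun c => toUnit_unique _ _)
      (fun c m h₁ _ => by rw [← h₁, Category.assoc, lift_snd, Category.comp_id])⟩⟩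
  have e := hleft.paste_horiz sq
  rw [comp_act, lift_fst, lift_snd_assoc, Category.id_comp, ← Hom.one_def, _root_.one_mul,
    IsMonHom.one_hom] at e
  exact e

end Groth.Agent.GrpSchLib.GenQuot
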