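import Mathlib.AlgebraicGeometry.AlgClosed.Basic
import Mathlib.AlgebraicGeometry.Morphisms.FiniteType
import Mathlib.CategoryTheory.Monoidal.Cartesian.Grp
import Mathlib.CategoryTheory.Monoidal.Cartesian.Over

/-!
# Rational points under words in a morphism to a group

Over an algebraically closed field the rational points lying under words in `f : X ⟶ G` form the subgroup generated
by the rational points in the image of `f`.
-/

universe u

open CategoryTheory CategoryTheory.Limits MonoidalCategory CartesianMonoidalCategory MonObj AlgebraicGeometry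

namespace Groth.Agent.GrpSchLib.WordClosure

variable {C : Type*} [Category C] [CartesianMonoidalCategory C] {X G : C} [GrpObj G] (f : X ⟶ G)

/-- The source of word morphisms of length `n`. -/
@[reducible] def wordSrc (X : C) : ℕ → C
  | 0 => 𝟙_ C
  | n + 1 => X ⊗ wordSrc X n

/-- The signed value at a point. -/
noncomputable abbrev sgn {T : C} (b : Bool) (x : T ⟶ X) : T ⟶ G := if b then x ≫ f else (x ≫ f)⁻¹

/-- The word morphism with the given signs. -/
noncomputable def wordHom : ∀ (n : ℕ), (Fin n → Bool) → (wordSrc X n ⟶ G)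
  | 0, _ => 1
  | n + 1, ε => sgn f (ε 0) (fst X (wordSrc X n)) *
      (snd X (wordSrc X n) ≫ wordHom n fun j => ε j.succ)

theorem comp_sgn {T T' : C} (q : T' ⟶ T) (b : Bool) (x : T ⟶ X) : q ≫ sgn f b x = sgn f b (q ≫ x) := by
  cases b <;> simp [sgn, GrpObj.comp_inv]

theorem exists_tuple {T : C} : ∀ (n : ℕ) (x : Fin n → (T ⟶ X)) (ε : Fin n → Bool),
    ∃ w : T ⟶ wordSrc X n, w ≫ wordHom f n ε = (List.ofFn fun j => sgn f (ε j) (x j)).prod
  | 0, x, ε => ⟨toUnit T, by simp [wordHom]⟩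
  | n + 1, x, ε => by
    obtain ⟨w, hw⟩ := exists_tuple n (fun j => x j.succ) fun j => ε j.succ
    refine ⟨lift (x 0) w, ?_⟩
    rw [List.ofFn_succ, List.prod_cons, ← hw, wordHom, MonObj.comp_mul, comp_sgn, lift_fst, lift_snd_assoc]

theorem mem_closure_of_tuple {T : C} : ∀ (n : ℕ) (w : T ⟶ wordSrc X n) (ε : Fin n → Bool),
    w ≫ wordHom f n ε ∈ Subgroup.closure (Set.range fun x : T ⟶ X => x ≫ f)
  | 0, w, ε => by simp [wordHom, one_mem]
  | n + 1, w, ε => by
    rw [wordHom, MonObj.comp_mul, comp_sgn, ← Category.assoc]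
    refine mul_mem ?_ (mem_closure_of_tuple n _ _)
    have h : (w ≫ fst X (wordSrc X n)) ≫ f ∈ Subgroup.closure (Set.range fun x : T ⟶ X => x ≫ f) :=
      Subgroup.subset_closure ⟨w ≫ fst X (wordSrc X n), rfl⟩
    cases ε 0
    · exact inv_mem h
    · exact h

theorem exists_word_of_mem_closure {T : C} {g : T ⟶ G} (hg : g ∈ Subgroup.closure (Set.range fun x : T ⟶ X => x ≫ f)) :
    ∃ (n : ℕ) (x : Fin n → (T ⟶ X)) (ε : Fin n → Bool), (List.ofFn fun j => sgn f (ε j) (x j)).prod = g := by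
  suffices h : ∃ l : List ((T ⟶ X) × Bool), (l.map fun p => sgn f p.2 p.1).prod = g by
    obtain ⟨l, hl⟩ := h
    refine ⟨l.length, fun j => (l[(j : ℕ)]).1, fun j => (l[(j : ℕ)]).2, ?_⟩
    rw [← hl]
    congr 1
    exact (List.ofFn_getElem_eq_map l fun p => sgn f p.2 p.1)
  induction hg using Subgroup.closure_induction_left with
  | one => exact ⟨[], rfl⟩
  | mul_left y hy z _ ih =>
    obtain ⟨x, rfl⟩ := hy
    obtain ⟨l, hl⟩ := ih
    exact ⟨(x, true) :: l, by rw [List.map_cons, List.prod_cons, hl]; rfl⟩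
  | inv_mul_cancel y hy z _ ih =>
    obtain ⟨x, rfl⟩ := hy
    obtain ⟨l, hl⟩ := ih
    exact ⟨(x, false) :: l, by rw [List.map_cons, List.prod_cons, hl]; rfl⟩

end Groth.Agent.GrpSchLib.WordClosure

namespace Groth.Agent.GrpSchLib.WordClosure

variable {k : Type u} [Field k] [IsAlgClosed k]

theorem lft_wordSrc (X : Over (Spec (CommRingCat.of k))) [LocallyOfFiniteType X.hom] :
    ∀ n : ℕ, LocallyOfFiniteType (wordSrc X n).hom
  | 0 => inferInstanceAs (LocallyOfFiniteType (𝟙 (Spec (CommRingCat.of k))))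
  | n + 1 => by
    haveI := lft_wordSrc X n
    exact inferInstanceAs (LocallyOfFiniteType (pullback.fst X.hom (wordSrc X n).hom ≫ X.hom))

/-- A rational point whose point lies in the image of a morphism comes from a rational point. -/
theorem exists_lift_point {W G : Over (Spec (CommRingCat.of k))} [LocallyOfFiniteType W.hom]
    [LocallyOfFiniteType G.hom] (φ : W ⟶ G) (g : 𝟙_ (Over (Spec (CommRingCat.of k))) ⟶ G)
    (p₀ : (𝟙_ (Over (Spec (CommRingCat.of k)))).left) (w : W.left) (hw : φ.left w = g.left p₀) :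
    ∃ s : 𝟙_ (Over (Spec (CommRingCat.of k))) ⟶ W, s ≫ φ = g := by
  haveI : Subsingleton ↥(𝟙_ (Over (Spec (CommRingCat.of k)))).left := inferInstanceAs (Subsingleton ↥(Spec (CommRingCat.of k)))
  have hp : p₀ = IsLocalRing.closedPoint k := Subsingleton.elim _ _
  have hg : IsClosed ({g.left p₀} : Set G.left) :=
    hp ▸ ((pointEquivClosedPoint G.hom ⟨g.left, Over.w g⟩).2)
  haveI : JacobsonSpace W.left := LocallyOfFiniteType.jacobsonSpace W.hom
  obtain ⟨c, hc1, hc⟩ := nonempty_inter_closedPoints (Z := φ.left ⁻¹' {g.left p₀}) ⟨w, hw⟩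
    (hg.preimage φ.left.continuous).isLocallyClosed
  refine ⟨Over.homMk (pointOfClosedPoint W.hom c hc) (pointOfClosedPoint_comp W.hom c hc), ?_⟩
  refine Over.OverMorphism.ext (ext_of_apply_closedPoint_eq G.hom ?_ (Over.w g) ?_)
  · rw [Over.comp_left, Category.assoc, Over.w φ]
    exact pointOfClosedPoint_comp W.hom c hc
  · show φ.left (pointOfClosedPoint W.hom c hc _) = _
    rw [pointOfClosedPoint_apply]
    exact hc1.trans (congrArg g.left hp)

theorem main {G X : Over (Spec (CommRingCat.of k))} [GrpObj G] [LocallyOfFiniteType G.hom]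
    [LocallyOfFiniteType X.hom] (f : X ⟶ G) :
    {g : 𝟙_ (Over (Spec (CommRingCat.of k))) ⟶ G | ∃ (n : ℕ) (T : Over (Spec (CommRingCat.of k))) (p : T.left) (p₀ : (𝟙_ (Over (Spec (CommRingCat.of k)))).left)
        (x : Fin n → (T ⟶ X)) (ε : Fin n → Bool), ((List.ofFn fun j : Fin n => if ε j then x j ≫ f else (x j ≫ f)⁻¹).prod : T ⟶ G).left.base p = g.left.base p₀} =
      ((Subgroup.closure {g : 𝟙_ (Over (Spec (CommRingCat.of k))) ⟶ G | ∃ p₀ : (𝟙_ (Over (Spec (CommRingCat.of k)))).left, g.left.base p₀ ∈ Set.range f.left.base} :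
        Subgroup (𝟙_ (Over (Spec (CommRingCat.of k))) ⟶ G)) : Set (𝟙_ (Over (Spec (CommRingCat.of k))) ⟶ G)) := by
  have hS : {g : 𝟙_ (Over (Spec (CommRingCat.of k))) ⟶ G | ∃ p₀ : (𝟙_ (Over (Spec (CommRingCat.of k)))).left, g.left.base p₀ ∈ Set.range f.left.base}
      = Set.range fun x : 𝟙_ (Over (Spec (CommRingCat.of k))) ⟶ X => x ≫ f := by
    ext g
    constructor
    · rintro ⟨p₀, w, hw⟩
      exact exists_lift_point f g p₀ w hw
    · rintro ⟨x, rfl⟩
      exact ⟨IsLocalRing.closedPoint k, x.left (IsLocalRing.closedPoint k), rfl⟩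
  rw [hS]
  ext g
  constructor
  · rintro ⟨n, T, p, p₀, x, ε, h⟩
    obtain ⟨w, hw⟩ := exists_tuple f n x ε
    haveI := lft_wordSrc X n
    obtain ⟨s, rfl⟩ := exists_lift_point (wordHom f n ε) g p₀ (w.left p) (by
      refine Eq.trans ?_ h
      exact congrArg (fun m : T ⟶ G => m.left p) hw)
    exact mem_closure_of_tuple f n s ε
  · intro hg
    obtain ⟨n, x, ε, h⟩ := exists_word_of_mem_closure f hg
    exact ⟨n, _, IsLocalRing.closedPoint k, IsLocalRing.closedPoint k, x, ε,
      congrArg (fun m : 𝟙_ (Over (Spec (CommRingCat.of k))) ⟶ G => m.left (IsLocalRing.closedPoint k)) h⟩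

end Groth.Agent.GrpSchLib.WordClosure
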