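import Groth.Agent.SolvGrp.Radical
import Groth.Agent.AGFLib.ProperSpace
import Groth.Agent.GrpSchLib.FieldDim
import Groth.Agent.GrpSchLib.WordSeries
import Groth.Agent.VarDim.Top
import Groth.Agent.ChevAffine.Main
import Groth.Agent.S14638

/-! Connected subgroups correspond under isogenies over an algebraically closed field. -/

set_option autoImplicit false
set_option backward.isDefEq.respectTransparency.types false
set_option linter.style.haveILetI false
set_option maxHeartbeats 1000000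

universe u

open CategoryTheory CategoryTheory.Limits MonoidalCategory CartesianMonoidalCategory MonObj AlgebraicGeometry

namespace Groth.Agent.GrpSchLib.IsogSub

open SolvGrp AGFLib AGFLib.Gen AGFLib.BorelFixed AGFLib.BorelExist

/-- A finite surjection preserves the dimension. -/
theorem topologicalKrullDim_eq_of_isIntegralHom {X Y : Scheme.{u}} (p : X ⟶ Y) [IsIntegralHom p] [Surjective p] :
    topologicalKrullDim ↥X = topologicalKrullDim ↥Y := by
  rw [VarDim.topologicalKrullDim_eq_iSup_height, VarDim.topologicalKrullDim_eq_iSup_height]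
  refine le_antisymm (iSup_le fun x => ?_) (iSup_le fun y => ?_)
  · exact le_iSup_of_le (p x) (WithBot.coe_le_coe.mpr (GrpSchLib.height_apply_of_isIntegralHom p x).le)
  · obtain ⟨x, rfl⟩ := p.surjective y
    exact le_iSup_of_le x (WithBot.coe_le_coe.mpr (GrpSchLib.height_apply_of_isIntegralHom p x).ge)

variable {K : Type u} [Field K] [IsAlgClosed K]

local notation "PT" => 𝟙_ (Over (Spec (CommRingCat.of K)))

theorem isMonHom_of_comp {U V H : Over (Spec (CommRingCat.of K))} [GrpObj U] [GrpObj V] [GrpObj H] (p : U ⟶ V) (j : V ⟶ H)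
    [IsMonHom j] [Mono j] (g : U ⟶ H) [IsMonHom g] (h : p ≫ j = g) : IsMonHom p where
  one_hom := by rw [← cancel_mono j, Category.assoc, h, IsMonHom.one_hom g, IsMonHom.one_hom j]
  mul_hom := by
    rw [← cancel_mono j, Category.assoc, h, IsMonHom.mul_hom g, Category.assoc, IsMonHom.mul_hom j,
      MonoidalCategory.tensorHom_comp_tensorHom_assoc, h]

variable {G H : Over (Spec (CommRingCat.of K))} [GrpObj G] [GrpObj H] [LocallyOfFiniteType G.hom]
  [QuasiCompact G.hom] [LocallyOfFiniteType H.hom] [QuasiCompact H.hom] (F : G ⟶ H) [IsMonHom F]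

/-- The image of a connected subgroup. -/
theorem exists_image [IsFinite F.left] {U : Over (Spec (CommRingCat.of K))} [GrpObj U] (i : U ⟶ G) [IsMonHom i]
    [IsClosedImmersion i.left] [Smooth U.hom] [ConnectedSpace U.left] :
    ∃ (V : Over (Spec (CommRingCat.of K))) (_ : GrpObj V) (j : V ⟶ H) (p : U ⟶ V), IsMonHom j ∧
      IsClosedImmersion j.left ∧ Smooth V.hom ∧ ConnectedSpace V.left ∧ IsMonHom p ∧ IsFinite p.left ∧
      Surjective p.left ∧ p ≫ j = i ≫ F := by
  haveI := AntiAffine.isSeparated_grp H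
  haveI := AntiAffine.isSeparated_grp G
  haveI : LocallyOfFiniteType U.hom := inferInstance
  haveI : IsReduced U.left := isReduced_of_smooth_field U.hom
  haveI : IsFinite (i ≫ F).left := inferInstanceAs (IsFinite (i.left ≫ F.left))
  have hZ : IsClosed (Set.range (i ≫ F).left) := (i ≫ F).left.isClosedMap.isClosed_range
  obtain ⟨V, _, j, hj, hjc, hsm, hred, hqc, hr⟩ := exists_subgroup (G := H) _ hZ
    ⟨cp (1 : PT ⟶ U), by rw [← cp_comp, MonObj.one_comp]⟩
    (fun g h hg hh => by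
      obtain ⟨a, rfl⟩ := exists_of_mem_range (i ≫ F) g hg
      obtain ⟨b, rfl⟩ := exists_of_mem_range (i ≫ F) h hh
      exact ⟨cp (a * b), by rw [← cp_comp, MonObj.mul_comp]⟩)
    (fun g hg => by
      obtain ⟨a, rfl⟩ := exists_of_mem_range (i ≫ F) g hg
      exact ⟨cp a⁻¹, by rw [← cp_comp, GrpObj.inv_comp]⟩)
  haveI := hj
  haveI := hjc
  haveI := hsm
  haveI := mono_of_closedImmersion j
  obtain ⟨p, hp⟩ := exists_lift_pts j (i ≫ F) fun t => by
    obtain ⟨z, hz⟩ := exists_of_mem_range j (t ≫ i ≫ F) (hr ▸ ⟨cp t, (cp_comp t (i ≫ F)).symm⟩)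
    exact ⟨z, hz⟩
  haveI : IsMonHom p := isMonHom_of_comp p j (i ≫ F) hp
  haveI : IsFinite (p.left ≫ j.left) := by
    rw [← Over.comp_left, hp]; infer_instance
  haveI : IsFinite p.left := IsFinite.of_comp p.left j.left
  haveI hs : Surjective p.left := ⟨fun v => by
    obtain ⟨x, hx⟩ : j.left v ∈ Set.range (i ≫ F).left := hr ▸ ⟨v, rfl⟩
    refine ⟨x, j.left.isClosedEmbedding.injective ?_⟩
    rw [← Scheme.Hom.comp_apply, ← Over.comp_left, hp]
    exact hx⟩
  exact ⟨V, inferInstance, j, p, hj, hjc, hsm, p.left.surjective.connectedSpace p.left.continuous,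
    inferInstance, inferInstance, hs, hp⟩

/-- A connected preimage of a connected subgroup. -/
theorem exists_preimage [IsFinite F.left] [Surjective F.left] {V : Over (Spec (CommRingCat.of K))} [GrpObj V]
    (j : V ⟶ H) [IsMonHom j] [IsClosedImmersion j.left] [Smooth V.hom] [ConnectedSpace V.left] :
    ∃ (U : Over (Spec (CommRingCat.of K))) (_ : GrpObj U) (i : U ⟶ G) (p : U ⟶ V), IsMonHom i ∧
      IsClosedImmersion i.left ∧ Smooth U.hom ∧ ConnectedSpace U.left ∧ IsMonHom p ∧ IsFinite p.left ∧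
      Surjective p.left ∧ p ≫ j = i ≫ F := by
  haveI := AntiAffine.isSeparated_grp H
  haveI := AntiAffine.isSeparated_grp G
  haveI := mono_of_closedImmersion j
  haveI : LocallyOfFiniteType F.left := by
    haveI : LocallyOfFiniteType (F.left ≫ H.hom) := by rw [Over.w F]; infer_instance
    exact locallyOfFiniteType_of_comp F.left H.hom
  obtain ⟨D, _, d, hd, hdc, hsD, -, hqD, hr⟩ := exists_subgroup (G := G) (F.left ⁻¹' Set.range j.left)
    (j.left.isClosedEmbedding.isClosed_range.preimage F.left.continuous)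
    ⟨cp (1 : PT ⟶ V), by rw [← cp_comp, ← cp_comp, MonObj.one_comp, MonObj.one_comp]⟩
    (fun g h hg hh => by
      obtain ⟨a, ha⟩ := exists_of_mem_range j (g ≫ F) hg
      obtain ⟨b, hb⟩ := exists_of_mem_range j (h ≫ F) hh
      exact ⟨cp (a * b), by rw [← cp_comp, ← cp_comp, MonObj.mul_comp, MonObj.mul_comp, ha, hb]⟩)
    (fun g hg => by
      obtain ⟨a, ha⟩ := exists_of_mem_range j (g ≫ F) hg
      exact ⟨cp a⁻¹, by rw [← cp_comp, ← cp_comp, GrpObj.inv_comp, GrpObj.inv_comp, ha]⟩)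
  haveI := hd
  haveI := hdc
  haveI := hsD
  haveI := hqD
  obtain ⟨U, _, r, hr', hrc, hsU, hcU, hqU, S, hSf, hS⟩ := exists_idComp (P := D)
  haveI := hr'
  haveI := hrc
  haveI := hsU
  haveI := hcU
  haveI := hqU
  haveI : IsReduced U.left := isReduced_of_smooth_field U.hom
  let i : U ⟶ G := r ≫ d
  haveI : IsMonHom i := inferInstanceAs (IsMonHom (r ≫ d))
  haveI : IsClosedImmersion i.left := inferInstanceAs (IsClosedImmersion (r.left ≫ d.left))
  have hV : ∀ g : PT ⟶ D, ∃ z : PT ⟶ V, z ≫ j = g ≫ d ≫ F := fun g => by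
    obtain ⟨v, hv⟩ : F.left (cp (g ≫ d)) ∈ Set.range j.left := hr.le ⟨cp g, (cp_comp g d).symm⟩
    exact exists_of_mem_range j _ ⟨v, hv⟩
  obtain ⟨p, hp⟩ := exists_lift_pts j (i ≫ F) fun t => by
    obtain ⟨z, hz⟩ := hV (t ≫ r)
    exact ⟨z, by rw [hz]; simp [i]⟩
  haveI : IsMonHom p := isMonHom_of_comp p j (i ≫ F) hp
  haveI : IsFinite (i ≫ F).left := inferInstanceAs (IsFinite (i.left ≫ F.left))
  haveI : IsFinite (p.left ≫ j.left) := by
    rw [← Over.comp_left, hp]; infer_instance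
  haveI : IsFinite p.left := IsFinite.of_comp p.left j.left
  haveI : QuasiCompact V.hom := by rw [← Over.w j]; infer_instance
  classical
  choose σ hσ using hV
  have htop : rangePts p = ⊤ := eq_top_of_finite (rangePts p) (ptsClosed_range p) (σ '' S) (hSf.image _) fun v => by
    obtain ⟨g, hg⟩ := S14638.exists_lift_pt (σ := 𝟙 (Spec (CommRingCat.of K))) F (v ≫ j) (F.left.surjective _)
    change g ≫ F = v ≫ j at hg
    obtain ⟨g', rfl⟩ := exists_of_mem_range d g (hr.ge ⟨cp v, by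
      rw [← cp_comp, ← cp_comp, hg]⟩)
    obtain ⟨s, hs, q, rfl⟩ := hS g'
    refine ⟨σ s, ⟨s, hs, rfl⟩, q, ?_⟩
    show q ≫ p = (σ s)⁻¹ * v
    rw [← cancel_mono j, MonObj.mul_comp, GrpObj.inv_comp, hσ, ← hg, Category.assoc, hp, MonObj.mul_comp,
      MonObj.mul_comp]
    simp [i]
  refine ⟨U, inferInstance, i, p, inferInstance, inferInstance, hsU, hcU, inferInstance, inferInstance, ⟨?_⟩, hp⟩
  refine Set.range_eq_univ.mp (eq_univ_of_forall_cp p.left.isClosedMap.isClosed_range fun v => ?_)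
  obtain ⟨x, rfl⟩ : v ∈ rangePts p := htop ▸ Subgroup.mem_top v
  exact ⟨cp x, (cp_comp x p).symm⟩

/-- The points of a finite fibre form a finite set. -/
theorem finite_ker_pts {U V : Over (Spec (CommRingCat.of K))} [GrpObj V] [LocallyOfFiniteType U.hom] (p : U ⟶ V)
    [IsFinite p.left] : {x : PT ⟶ U | x ≫ p = 1}.Finite := by
  refine Set.Finite.of_finite_image ((p.left.finite_preimage_singleton (cp (1 : PT ⟶ V))).subset ?_)
    fun a _ b _ h => cp_injective h
  rintro _ ⟨x, hx, rfl⟩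
  show p.left (cp x) = cp 1
  rw [← cp_comp, hx]

/-- A morphism out of a connected scheme with finitely many values on points is constant. -/
theorem const_of_finite {W U : Over (Spec (CommRingCat.of K))} [GrpObj U] [LocallyOfFiniteType W.hom]
    [LocallyOfFiniteType U.hom] [ConnectedSpace W.left] (c : W ⟶ U) {S : Set (PT ⟶ U)} (hS : S.Finite)
    (h : ∀ g : PT ⟶ W, g ≫ c ∈ S) (g₀ g : PT ⟶ W) : g ≫ c = g₀ ≫ c := by
  haveI := AntiAffine.isSeparated_grp U
  let x := g₀ ≫ c
  have h1 : c.left (cp g₀) = cp x := (cp_comp g₀ c).symm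
  have hother : IsClosed (c.left ⁻¹' (cp '' (S \ {x}))) :=
    IsClosed.preimage c.left.continuous (by
      rw [← Set.biUnion_of_singleton (cp '' (S \ {x}))]
      exact (hS.sdiff.image _).isClosed_biUnion fun _ ⟨y, _, e⟩ => e ▸ isClosed_cp y)
  have hcov : c.left ⁻¹' {cp x} ∪ c.left ⁻¹' (cp '' (S \ {x})) = Set.univ :=
    eq_univ_of_forall_cp (((isClosed_cp x).preimage c.left.continuous).union hother) fun y => by
      by_cases e : y ≫ c = x
      · exact Or.inl (by show c.left (cp y) = cp x; rw [← cp_comp, e])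
      · exact Or.inr ⟨y ≫ c, ⟨h y, e⟩, cp_comp y c⟩
  have hdis : c.left ⁻¹' {cp x} ∩ c.left ⁻¹' (cp '' (S \ {x})) = ∅ := by
    refine Set.eq_empty_of_forall_notMem fun z ⟨hz, y, hy, e⟩ => hy.2 ?_
    exact cp_injective (e.trans hz)
  have hclopen : IsClopen (c.left ⁻¹' {cp x}) := ⟨(isClosed_cp x).preimage c.left.continuous, by
    rw [← isClosed_compl_iff, compl_unique hdis hcov]
    exact hother⟩
  have hu := hclopen.eq_univ ⟨cp g₀, h1⟩
  exact cp_injective ((cp_comp g c).trans (hu.ge (Set.mem_univ (cp g))))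

open scoped commutatorElement in
open WordSeries in
/-- An iterated commutator is a value of a pointed map all of whose values are iterated commutators. -/
theorem exists_map_der {U : Over (Spec (CommRingCat.of K))} [GrpObj U] :
    ∀ (n : ℕ) (x : PT ⟶ U), x ∈ der (H := PT ⟶ U) n → ∃ c : U ⟶ U, (∃ g : PT ⟶ U, g ≫ c = x) ∧ (1 : PT ⟶ U) ≫ c = 1 ∧
      ∀ g : PT ⟶ U, g ≫ c ∈ der (H := PT ⟶ U) n
  | 0, x, _ => ⟨𝟙 U, ⟨x, Category.comp_id x⟩, Category.comp_id _, fun _ => trivial⟩
  | n + 1, _, ⟨a, ha, b, hb, rfl⟩ => by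
    obtain ⟨c, ⟨g, hg⟩, h1, hc⟩ := exists_map_der n a ha
    have he : ∀ g : PT ⟶ U, g ≫ (⁅c, toUnit U ≫ b⁆ : U ⟶ U) = ⁅g ≫ c, b⁆ := fun g => by
      rw [comp_commutator, ← Category.assoc g (toUnit U), toUnit_unique (g ≫ toUnit U) (𝟙 _), Category.id_comp]
    refine ⟨⁅c, toUnit U ≫ b⁆, ⟨g, by rw [he, hg]⟩, by rw [he, h1, commutatorElement_one_left],
      fun g => he g ▸ ⟨_, hc g, b, hb, rfl⟩⟩

open scoped commutatorElement in
open WordSeries in
theorem exists_map_low {U : Over (Spec (CommRingCat.of K))} [GrpObj U] :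
    ∀ (n : ℕ) (x : PT ⟶ U), x ∈ low (H := PT ⟶ U) n → ∃ c : U ⟶ U, (∃ g : PT ⟶ U, g ≫ c = x) ∧ (1 : PT ⟶ U) ≫ c = 1 ∧
      ∀ g : PT ⟶ U, g ≫ c ∈ low (H := PT ⟶ U) n
  | 0, x, _ => ⟨𝟙 U, ⟨x, Category.comp_id x⟩, Category.comp_id _, fun _ => trivial⟩
  | n + 1, _, ⟨a, ha, b, hb, rfl⟩ => by
    obtain ⟨c, ⟨g, hg⟩, h1, hc⟩ := exists_map_low n a ha
    have he : ∀ g : PT ⟶ U, g ≫ (⁅c, toUnit U ≫ b⁆ : U ⟶ U) = ⁅g ≫ c, b⁆ := fun g => by
      rw [comp_commutator, ← Category.assoc g (toUnit U), toUnit_unique (g ≫ toUnit U) (𝟙 _), Category.id_comp]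
    refine ⟨⁅c, toUnit U ≫ b⁆, ⟨g, by rw [he, hg]⟩, by rw [he, h1, commutatorElement_one_left],
      fun g => he g ▸ ⟨_, hc g, b, hb, rfl⟩⟩

open WordSeries in
/-- The two series of a connected group are trivial as soon as they are finite. -/
theorem series_eq_bot_of_finite {U : Over (Spec (CommRingCat.of K))} [GrpObj U] [LocallyOfFiniteType U.hom]
    [ConnectedSpace U.left] {S : Set (PT ⟶ U)} (hS : S.Finite) (n : ℕ) :
    ((derivedSeries (PT ⟶ U) n : Set (PT ⟶ U)) ⊆ S → derivedSeries (PT ⟶ U) n = ⊥) ∧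
      ((Subgroup.lowerCentralSeries (⊤ : Subgroup (PT ⟶ U)) n : Set (PT ⟶ U)) ⊆ S →
        Subgroup.lowerCentralSeries (⊤ : Subgroup (PT ⟶ U)) n = ⊥) := by
  refine ⟨fun h => ?_, fun h => ?_⟩
  · rw [derivedSeries_eq] at h ⊢
    refine (Subgroup.closure_eq_bot_iff).mpr fun x hx => ?_
    obtain ⟨c, ⟨g, rfl⟩, h1, hc⟩ := exists_map_der n x hx
    exact (const_of_finite c hS (fun y => h (Subgroup.subset_closure (hc y))) 1 g).trans h1
  · rw [lowerCentralSeries_eq] at h ⊢
    refine (Subgroup.closure_eq_bot_iff).mpr fun x hx => ?_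
    obtain ⟨c, ⟨g, rfl⟩, h1, hc⟩ := exists_map_low n x hx
    exact (const_of_finite c hS (fun y => h (Subgroup.subset_closure (hc y))) 1 g).trans h1

section Props

variable {U V : Over (Spec (CommRingCat.of K))} [GrpObj U] [GrpObj V] [Smooth U.hom] [Smooth V.hom] (p : U ⟶ V)
  [IsMonHom p] [IsFinite p.left]

include p

theorem isSolvableGrp_target [Surjective p.left] (h : Red.IsSolvableGrp U) : Red.IsSolvableGrp V := by
  obtain ⟨n, hn⟩ := h
  haveI := AntiAffine.isSeparated_grp V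
  refine ProperSpace.isSolvableGrp_of_pts n ?_
  let φ : (PT ⟶ U) →* (PT ⟶ V) := MonoidHom.mk' (· ≫ p) fun x y => MonObj.mul_comp x y p
  have hs : Function.Surjective φ := fun v =>
    exists_of_mem_range p v (p.left.surjective (cp v))
  rw [← map_derivedSeries_eq hs n, hn, Subgroup.map_bot]

theorem series_source [ConnectedSpace U.left] (n : ℕ) :
    (derivedSeries (PT ⟶ V) n = ⊥ → derivedSeries (PT ⟶ U) n = ⊥) ∧
      (Subgroup.lowerCentralSeries (⊤ : Subgroup (PT ⟶ V)) n = ⊥ →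
        Subgroup.lowerCentralSeries (⊤ : Subgroup (PT ⟶ U)) n = ⊥) := by
  let φ : (PT ⟶ U) →* (PT ⟶ V) := MonoidHom.mk' (· ≫ p) fun x y => MonObj.mul_comp x y p
  obtain ⟨h1, h2⟩ := series_eq_bot_of_finite (U := U) (finite_ker_pts p) n
  refine ⟨fun h => h1 fun x hx => ?_, fun h => h2 fun x hx => ?_⟩
  · have := map_derivedSeries_le_derivedSeries φ n ⟨x, hx, rfl⟩
    rwa [h, Subgroup.mem_bot] at this
  · have hle : (Subgroup.lowerCentralSeries (⊤ : Subgroup (PT ⟶ U)) n).map φ ≤ ⊥ := by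
      rw [Subgroup.map_lowerCentralSeries]
      exact (Subgroup.lowerCentralSeries_mono n le_top).trans h.le
    exact Subgroup.mem_bot.mp (hle ⟨x, hx, rfl⟩)

theorem isSolvableGrp_source [ConnectedSpace U.left] (h : Red.IsSolvableGrp V) : Red.IsSolvableGrp U := by
  obtain ⟨n, hn⟩ := h
  exact ProperSpace.isSolvableGrp_of_pts n ((series_source p n).1 (hn _))

theorem hasNoSubtorus_target [IsAffine U.left] [IsAffine V.left] [ConnectedSpace U.left] [Surjective p.left]
    (h : Red.HasNoSubtorus K U) : Red.HasNoSubtorus K V := by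
  haveI : IsReduced U.left := isReduced_of_smooth_field U.hom
  haveI : IsReduced V.left := isReduced_of_smooth_field V.hom
  refine hasNoSubtorus_of_isUnipPt fun v => ?_
  obtain ⟨x, rfl⟩ := exists_of_mem_range p v (p.left.surjective (cp v))
  exact (map_isSsPt_isUnipPt p x).2 (isUnipPt_of_hasNoSubtorus h x)

theorem hasNoSubtorus_source [IsAffine V.left] [ConnectedSpace V.left] (h : Red.HasNoSubtorus K V) :
    Red.HasNoSubtorus K U := by
  intro T _ j _ _ hT
  haveI : IsReduced V.left := isReduced_of_smooth_field V.hom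
  obtain ⟨haT, hsT, hcT, -⟩ := torus_props hT
  haveI := haT
  haveI := hsT
  haveI := hcT
  haveI : IsReduced T.left := isReduced_of_smooth_field T.hom
  have h1 : ∀ t : PT ⟶ T, (t ≫ j) ≫ p = 1 := fun t => by
    rw [Category.assoc]
    exact eq_one_of_isSsPt_isUnipPt (isSsPt_of_torus hT (j ≫ p) t) (isUnipPt_of_hasNoSubtorus h _)
  have hfin : (Set.univ : Set (PT ⟶ T)).Finite :=
    ((finite_ker_pts p).preimage fun a _ b _ hab => (cancel_mono j).mp hab).subset fun t _ => h1 t
  have htop : (⊥ : Subgroup (PT ⟶ T)) = ⊤ := by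
    refine eq_top_of_finite ⊥ ?_ Set.univ hfin fun g => ⟨g, trivial, by simp⟩
    rw [Subgroup.coe_bot]
    exact ptsClosed_one
  exact isTrivialGrp_of_pts fun x => Subgroup.mem_bot.mp (htop ▸ Subgroup.mem_top x)

end Props

end Groth.Agent.GrpSchLib.IsogSub
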