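import Groth.Agent.SolvGrp.Radical
import Groth.Agent.SolvGrp.Fibre
import Groth.Agent.GrpSchLib.KernelGrp
import Groth.Agent.GrpSchLib.AntiAffineHom
import Groth.Agent.GrpSchLib.HomSplitLocal
import Groth.Agent.S14638
import Groth.Prelude.Def_SGA7IX

/-! Isogenies and tori. -/

set_option autoImplicit false
set_option backward.isDefEq.respectTransparency.types false
set_option linter.style.haveILetI false
set_option maxHeartbeats 1000000

universe u

open CategoryTheory CategoryTheory.Limits MonoidalCategory CartesianMonoidalCategory MonObj AlgebraicGeometry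

namespace Groth.Agent.GrpSchLib.IsogTorus

open SolvGrp

section Closed

variable {K : Type u} [Field K] [IsAlgClosed K]

local notation "PT" => 𝟙_ (Over (Spec (CommRingCat.of K)))

variable {A B : Over (Spec (CommRingCat.of K))} [GrpObj A] [GrpObj B] [IsAffine A.left] [IsAffine B.left]
  [Smooth A.hom] [Smooth B.hom] [ConnectedSpace A.left] [ConnectedSpace B.left] (F : A ⟶ B) [IsMonHom F]

/-- The image of a torus is a torus. -/
theorem isTorus_target [Surjective F.left] (hA : Red.IsTorus A) : Red.IsTorus B := by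
  haveI : IsReduced B.left := isReduced_of_smooth_field B.hom
  haveI : LocallyOfFiniteType (F.left ≫ B.hom) := by rw [Over.w F]; infer_instance
  haveI : LocallyOfFiniteType F.left := locallyOfFiniteType_of_comp F.left B.hom
  have key : ∀ g : PT ⟶ B, ∃ x : PT ⟶ A, x ≫ F = g := fun g => by
    obtain ⟨q, hq⟩ := S14638.exists_lift_pt (σ := 𝟙 (Spec (CommRingCat.of K))) F g (F.left.surjective _)
    exact ⟨q, hq⟩
  refine isTorus_of_pts B (fun g => ?_) fun g g' => ?_
  · obtain ⟨x, rfl⟩ := key g
    exact isSsPt_of_torus hA F x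
  · obtain ⟨x, rfl⟩ := key g
    obtain ⟨y, rfl⟩ := key g'
    show (x ≫ F) * (y ≫ F) = (y ≫ F) * (x ≫ F)
    rw [← MonObj.mul_comp, ← MonObj.mul_comp, (torus_commute hA x y).eq]

/-- A connected group mapping to a torus with finitely many points in the kernel is a torus. -/
theorem isTorus_source (hfin : {g : PT ⟶ A | g ≫ F = 1}.Finite) (hB : Red.IsTorus B) : Red.IsTorus A := by
  haveI : IsReduced A.left := isReduced_of_smooth_field A.hom
  haveI : IsReduced B.left := isReduced_of_smooth_field B.hom
  refine isTorus_of_unip_trivial fun U _ i _ hci hsm hconn hns => ?_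
  haveI := hci
  haveI := hsm
  haveI := hconn
  obtain ⟨haU, hlU, -, hmono, -⟩ := sub_props i
  haveI := haU
  haveI := hlU
  haveI := hmono
  haveI : IsReduced U.left := isReduced_of_smooth_field U.hom
  have hU : ∀ x : PT ⟶ U, (x ≫ i) ≫ F = 1 := fun x =>
    eq_one_of_isSsPt_isUnipPt ((torus_props hB).2.2.2 _)
      ((map_isSsPt_isUnipPt F _).2 ((map_isSsPt_isUnipPt i x).2 (isUnipPt_of_hasNoSubtorus hns x)))
  have huniv : (Set.univ : Set (PT ⟶ U)).Finite :=
    (hfin.preimage (fun a _ b _ hab => (cancel_mono i).mp hab)).subset fun x _ => hU x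
  have htop : (⊥ : Subgroup (PT ⟶ U)) = ⊤ := by
    refine eq_top_of_finite ⊥ ?_ Set.univ huniv fun g => ⟨g, trivial, by simp⟩
    rw [Subgroup.coe_bot]
    exact ptsClosed_one
  exact isTrivialGrp_of_pts fun x => Subgroup.mem_bot.mp (htop ▸ Subgroup.mem_top x)

/-- A finite scheme over an algebraically closed field has finitely many points. -/
theorem finite_pts (N : Over (Spec (CommRingCat.of K))) [IsFinite N.hom] : Finite (PT ⟶ N) := by
  haveI : Finite N.left := by
    haveI := N.hom.finite_preimage_singleton (IsLocalRing.closedPoint K)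
    exact Set.finite_univ_iff.mp ((N.hom.finite_preimage_singleton (IsLocalRing.closedPoint K)).subset
      fun x _ => @Subsingleton.elim (PrimeSpectrum K) _ _ _)
  exact Finite.of_injective AGFLib.Gen.cp fun g h => AGFLib.Gen.cp_injective

end Closed

/-- Being a torus descends from a field extension. -/
theorem isTorus_of_bc {k L : Type u} [Field k] [Field L] (φ : k →+* L)
    {G : Over (Spec (CommRingCat.of k))} [GrpObj G]
    (h : Red.IsTorus (Red.bc (Spec.map (CommRingCat.ofHom φ)) G)) : Red.IsTorus G := by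
  algebraize [φ]
  set σ := Spec.map (CommRingCat.ofHom φ) with hσ
  haveI : Surjective σ := ⟨fun y => ⟨IsLocalRing.closedPoint L, @Subsingleton.elim (PrimeSpectrum k) _ _ _⟩⟩
  haveI : Flat σ := (HasRingHomProperty.Spec_iff (P := @Flat)).2
    (RingHom.flat_algebraMap_iff.2 (inferInstance : Module.Flat k L))
  obtain ⟨S', f, hflat, hsurj, hqc, hloc⟩ := h
  refine ⟨S', f ≫ σ, inferInstance, inferInstance, fun V hV => ?_, fun s => ?_⟩
  · obtain ⟨W, hW, hWi⟩ := hqc (σ ⁻¹ᵁ V) (hV.preimage σ)
    refine ⟨W, hW, ?_⟩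
    rw [Scheme.Hom.comp_base, TopCat.coe_comp, Set.image_comp, hWi]
    exact Set.image_preimage_eq _ σ.surjective
  · obtain ⟨U, hU, r, ⟨e⟩⟩ := hloc s
    obtain ⟨e₁⟩ := MultTypeBC.bc_bc (U.ι ≫ f) σ G
    obtain ⟨e₂⟩ := MultTypeBC.bc_congr (show (U.ι ≫ f) ≫ σ = U.ι ≫ f ≫ σ from Category.assoc _ _ _) G
    exact ⟨U, hU, r, ⟨e₂.symm ≪≫ e₁.symm ≪≫ e⟩⟩

section Field

variable {k : Type u} [Field k] {G' G : Over (Spec (CommRingCat.of k))} [GrpObj G'] [GrpObj G]
  [Smooth G'.hom] [ConnectedSpace G'.left] [IsAffine G'.left]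
  [Smooth G.hom] [ConnectedSpace G.left] [IsAffine G.left]

/-- An isogeny respects being a torus. -/
theorem isTorus_iff (f : G' ⟶ G) [IsMonHom f] (hf : SGA7.IsIsogenyOver f) : Red.IsTorus G' ↔ Red.IsTorus G := by
  let σ := Spec.map (CommRingCat.ofHom (algebraMap k (AlgebraicClosure k)))
  haveI : IsAffine (Red.bc σ G').left := inferInstanceAs (IsAffine (pullback G'.hom σ))
  haveI : IsAffine (Red.bc σ G).left := inferInstanceAs (IsAffine (pullback G.hom σ))
  haveI : Smooth (Red.bc σ G').hom := inferInstanceAs (Smooth (pullback.snd G'.hom σ))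
  haveI : Smooth (Red.bc σ G).hom := inferInstanceAs (Smooth (pullback.snd G.hom σ))
  haveI : ConnectedSpace (Red.bc σ G').left := AntiAffine.connectedSpace_bc G' (algebraMap k (AlgebraicClosure k))
  haveI : ConnectedSpace (Red.bc σ G).left := AntiAffine.connectedSpace_bc G (algebraMap k (AlgebraicClosure k))
  let F := (Over.pullback σ).map f
  haveI := hf.1
  haveI : Surjective F.left :=
    MorphismProperty.of_isPullback (P := @Surjective) (HomSplitLocal.isPullback_map f σ) inferInstance
  constructor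
  · exact fun h => isTorus_of_bc _ (isTorus_target F (SolvGrp.isTorus_bc σ h))
  · intro h
    haveI := AntiAffine.isSeparated_grp G
    obtain ⟨N, _, i, _, -, -, hk⟩ := exists_kernel f
    haveI : IsFinite N.hom := hf.2 N i hk
    haveI : IsFinite ((Over.pullback σ).obj N).hom := inferInstanceAs (IsFinite (pullback.snd N.hom σ))
    haveI := finite_pts ((Over.pullback σ).obj N)
    refine isTorus_of_bc _ (isTorus_source F ?_ (SolvGrp.isTorus_bc σ h))
    refine (Set.finite_range (fun z => z ≫ (Over.pullback σ).map i)).subset fun g hg => ?_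
    have hsq := hk.map (Over.pullback σ)
    obtain ⟨e, he⟩ : ∃ e : 𝟙_ (Over (Spec (CommRingCat.of (AlgebraicClosure k)))) ⟶ (Over.pullback σ).obj (𝟙_ _),
        g ≫ F = e ≫ (Over.pullback σ).map η[G] :=
      ⟨Functor.LaxMonoidal.ε (Over.pullback σ), hg.trans rfl⟩
    exact ⟨hsq.lift g e he, hsq.lift_fst g e he⟩

end Field

end Groth.Agent.GrpSchLib.IsogTorus
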