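import Groth.Agent.GrpSchLib.HomFlat
import Groth.Agent.GrpSchLib.AntiAffineHom
import Groth.Agent.GrpSchLib.IsogenyFibre
import Groth.Agent.GrpSchLib.SmoothReduced
import Groth.Agent.H23.Isogeny
import Groth.Agent.S0348

/-! Surjective endomorphisms of connected smooth groups over a field are finite. -/

set_option backward.isDefEq.respectTransparency false
set_option backward.isDefEq.respectTransparency.types false
set_option linter.style.haveILetI false

universe u

open CategoryTheory Limits AlgebraicGeometry TopologicalSpace MonoidalCategory CartesianMonoidalCategory MonObj GrpObj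

namespace Groth.Agent.GrpSchLib

/-- A surjective endomorphism of a connected smooth group of finite type over a field is finite. -/
theorem isFinite_of_surjective_endo {k : Type u} [Field k] {G : Over (Spec (CommRingCat.of k))} [GrpObj G]
    [Smooth G.hom] [QuasiCompact G.hom] [ConnectedSpace G.left] (f : G ⟶ G) [IsMonHom f] [Surjective f.left] :
    IsFinite f.left := by
  haveI : IrreducibleSpace G.left := S0348.result k G
  haveI : IsReduced G.left := isReduced_of_smooth_field G.hom
  haveI : IsIntegral G.left := isIntegral_of_irreducibleSpace_of_isReduced G.left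
  haveI : IsSeparated G.hom := AntiAffine.isSeparated_grp G
  haveI : QuasiCompact f.left := by
    haveI : QuasiCompact (f.left ≫ G.hom) := by rw [Over.w f]; infer_instance
    exact QuasiCompact.of_comp f.left G.hom
  haveI : LocallyOfFiniteType f.left := by
    haveI : LocallyOfFiniteType (f.left ≫ G.hom) := by rw [Over.w f]; infer_instance
    exact locallyOfFiniteType_of_comp f.left G.hom
  haveI : Flat f.left := flat_of_surjective_hom f
  haveI : IsLocallyNoetherian G.left := LocallyOfFiniteType.isLocallyNoetherian G.hom
  have h0 : ∀ x, VarDim.fdeg f.left x = 0 := fun x => by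
    obtain ⟨b, hb, -, -⟩ := VarDim.exists_deg_add_stalk G.hom x
    obtain ⟨b', hb', -, hle'⟩ := VarDim.exists_deg_add_stalk G.hom (f.left x)
    obtain ⟨c, hc, ⟨ξ, hξ, hξd⟩, -⟩ := VarDim.exists_deg_add_stalk G.hom x
    have hbb : b' ≤ b := by
      have := H23.Isogeny.ringKrullDim_le_of_flat (f.left.stalkMap x).hom (Flat.stalkMap f.left x)
      rw [hb, hb'] at this
      exact_mod_cast this
    have hcb : c = b := by exact_mod_cast hc.symm.trans hb
    have h1 : VarDim.deg G.hom ξ ≤ VarDim.deg G.hom (genericPoint G.left) :=
      VarDim.deg_le_of_specializes G.hom (genericPoint_specializes ξ)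
    have h2 := hle' _ (genericPoint_specializes (f.left x))
    have h3 := VarDim.deg_eq_add f.left G.hom (Over.w f) x
    omega
  haveI : LocallyQuasiFinite f.left := .of_finite_preimage_singleton f.left fun y => by
    haveI : IsLocallyNoetherian (f.left.fiber y) :=
      LocallyOfFiniteType.isLocallyNoetherian (f.left.fiberToSpecResidueField y)
    haveI : CompactSpace (f.left.fiber y) := QuasiCompact.compactSpace_of_compactSpace (f.left.fiberToSpecResidueField y)
    haveI : IsNoetherian (f.left.fiber y) := { }
    have hcl : ∀ z : f.left.fiber y, IsClosed ({z} : Set (f.left.fiber y)) := fun z =>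
      (VarDim.closedPoint_iff_deg_eq_zero (k := G.left.residueField y) (f.left.fiberToSpecResidueField y) z).2
        (by rw [VarDim.deg_fiber]; exact h0 _)
    haveI : Finite (f.left.fiber y) := by
      have : (Set.univ : Set (f.left.fiber y)).Finite := by
        refine ((NoetherianSpace.finite_irreducibleComponents (α := f.left.fiber y)).biUnion (t := fun C => C)
          fun C hC => ?_).subset fun z _ =>
          Set.mem_biUnion (irreducibleComponent_mem_irreducibleComponents z) mem_irreducibleComponent
        have hg := hC.1.isGenericPoint_genericPoint (isClosed_of_mem_irreducibleComponents C hC)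
        rw [← hg.def, (hcl _).closure_eq]
        exact Set.finite_singleton _
      exact Set.finite_univ_iff.1 this
    rw [← f.left.range_fiberι y]
    exact Set.finite_range _
  exact (IsogenyFibre.finite_surjective_field f).1

end Groth.Agent.GrpSchLib
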