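import Groth.Agent.GrpSchLib.SemiabLine
import Groth.Agent.GrpSchLib.IsogSub
import Groth.Agent.GrpSchLib.IsogTorus
import Groth.Agent.TorusQI.TorsionChar
import Groth.Agent.S18067
import Mathlib.Algebra.CharP.Lemmas

/-! In positive characteristic unipotent groups have finite exponent, so anti-affine groups contain none. -/

set_option autoImplicit false
set_option backward.isDefEq.respectTransparency false
set_option backward.isDefEq.respectTransparency.types false
set_option linter.style.haveILetI false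
set_option maxHeartbeats 1000000

universe u

open CategoryTheory CategoryTheory.Limits MonoidalCategory CartesianMonoidalCategory MonObj AlgebraicGeometry

namespace Groth.Agent.GrpSchLib.CharPUnip

open GrpSchLib GrpSchLib.Kunneth GrpSchLib.LineGroups WeilCmp.Unip SolvGrp

variable {k : Type u} [Field k] (p : ℕ) [Fact p.Prime] [CharP k p]

local notation "PT" => 𝟙_ (Over (Spec (CommRingCat.of k)))

/-- Unipotent points have a common exponent. -/
theorem exists_exponent (U : Over (Spec (CommRingCat.of k))) [GrpObj U] [IsAffine U.left]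
    [LocallyOfFiniteType U.hom] : ∃ m : ℕ, ∀ g : PT ⟶ U, IsUnipPt g → g ^ p ^ m = 1 := by
  classical
  obtain ⟨F, hF⟩ := (AGFLib.finiteType_fn U).out
  obtain ⟨W, _, hFW, hst⟩ := exists_space (G := U) F
  obtain ⟨m, hm⟩ : ∃ m : ℕ, Module.finrank k W ≤ p ^ m :=
    ⟨_, (Nat.lt_pow_self (Fact.out : p.Prime).one_lt).le⟩
  refine ⟨m, fun g hg => rl_inj ?_⟩
  let f : Module.End k W := (rl g).restrict (hst g)
  have hk : ∀ (j : ℕ) (w : W), (((f - 1) ^ j) w : Fn U) = ((rl g - 1) ^ j) w.1 := by
    intro j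
    induction j with
    | zero => exact fun w => rfl
    | succ j ih =>
      intro w
      rw [pow_succ', pow_succ', Module.End.mul_apply, Module.End.mul_apply, ← ih]
      rfl
  have hnil : IsNilpotent (f - 1) := by
    refine Module.End.isNilpotent_iff_of_finite.mpr fun w => ?_
    obtain ⟨j, hj⟩ := hg w.1
    exact ⟨j, Subtype.ext ((hk j w).trans hj)⟩
  obtain ⟨N, hN⟩ := hnil
  have h1 : (f - 1) ^ Module.finrank k W = 0 := by
    have h := LinearMap.aeval_self_charpoly (f - 1)
    rwa [IsNilpotent.charpoly_eq_X_pow_finrank ⟨N, hN⟩, map_pow, Polynomial.aeval_X] at h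
  have h2 : (f - 1) ^ p ^ m = 0 := pow_eq_zero_of_le hm h1
  haveI : Nontrivial (Fn U) := (vl (1 : PT ⟶ U)).toRingHom.domain_nontrivial
  haveI : CharP (Module.End k (Fn U)) p := charP_of_injective_algebraMap (algebraMap k (Module.End k (Fn U))).injective p
  have h3 : ∀ w ∈ W, (rl g ^ p ^ m) w = w := fun w hw => by
    have e := hk (p ^ m) ⟨w, hw⟩
    rw [h2, sub_pow_char_pow_of_commute _ _ (Commute.one_right (rl g)), one_pow] at e
    exact sub_eq_zero.mp e.symm
  rw [rl_one, rl_pow]
  have h4 : rt (g ^ p ^ m) = AlgHom.id k (Fn U) := AlgHom.ext_of_adjoin_eq_top hF fun w hw => by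
    have := h3 w (hFW hw)
    rw [← rl_pow] at this
    exact this
  rw [← rl_pow]
  exact LinearMap.ext fun v => AlgHom.congr_fun h4 v

variable [IsAlgClosed k]

include p in
/-- An anti-affine group in positive characteristic contains no connected group of unipotent points. -/
theorem pts_trivial {G U : Over (Spec (CommRingCat.of k))} [GrpObj G] [GrpObj U] [Smooth G.hom] [QuasiCompact G.hom]
    (hG : Function.Bijective ((Scheme.ΓSpecIso (CommRingCat.of k)).inv ≫ G.hom.appTop).hom)
    [IsAffine U.left] [Smooth U.hom] [ConnectedSpace U.left] (j : U ⟶ G) [IsMonHom j] [Mono j]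
    (hu : ∀ g : PT ⟶ U, IsUnipPt g) (x : PT ⟶ U) : x = 1 := by
  obtain ⟨m, hm⟩ := exists_exponent p U
  have hN : (0 : ℕ) < p ^ m := pow_pos (Fact.out : p.Prime).pos m
  obtain ⟨-, hfin⟩ := S18067.result k G hG ((p ^ m : ℕ) : ℤ) (by exact_mod_cast hN.ne')
  rw [zpow_natCast] at hfin
  haveI : IsFinite (𝟙 G ^ p ^ m : G ⟶ G).left := hfin
  let ν : G ⟶ G := 𝟙 G ^ p ^ m
  let K : Over (Spec (CommRingCat.of k)) := Over.mk (pullback.snd ν.left η[G].left)
  haveI : IsFinite ν.left := hfin
  haveI : IsFinite K.hom := inferInstanceAs (IsFinite (pullback.snd ν.left η[G].left))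
  haveI := IsogTorus.finite_pts K
  let ιK : K ⟶ G := Over.homMk (pullback.fst ν.left η[G].left) (by
    rw [← Over.w ν, pullback.condition_assoc, Over.w η[G]]; exact Category.comp_id _)
  have hmem : ∀ g : PT ⟶ U, g ≫ j ∈ Set.range (fun z : PT ⟶ K => z ≫ ιK) := fun g => by
    have h : (g ≫ j) ≫ ν = (1 : PT ⟶ G) := by
      rw [TorusQI.comp_npow, Category.comp_id, ← TorusQI.npow_comp, hm g (hu g), MonObj.one_comp]
    have h' : (g ≫ j).left ≫ ν.left = (PT : Over (Spec (CommRingCat.of k))).hom ≫ η[G].left := by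
      rw [← Over.comp_left, h]
      exact congrArg CommaMorphism.left (Hom.one_def.trans (by rw [toUnit_unique (toUnit PT) (𝟙 _), Category.id_comp]))
    exact ⟨Over.homMk (pullback.lift _ _ h') (pullback.lift_snd _ _ _), Over.OverMorphism.ext (pullback.lift_fst _ _ _)⟩
  rw [← cancel_mono j, IsogSub.const_of_finite j (Set.finite_range _) hmem 1 x]

include p in
/-- Anti-affine groups in positive characteristic are semi-abelian. -/
theorem semiab {G : Over (Spec (CommRingCat.of k))} [GrpObj G] [Smooth G.hom] [QuasiCompact G.hom] [ConnectedSpace G.left]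
    (hG : Function.Bijective ((Scheme.ΓSpecIso (CommRingCat.of k)).inv ≫ G.hom.appTop).hom) :
    ∃ (T : Over (Spec (CommRingCat.of k))) (_ : GrpObj T) (i : T ⟶ G) (A : Over (Spec (CommRingCat.of k)))
      (_ : GrpObj A) (q : G ⟶ A), IsMonHom i ∧ IsClosedImmersion i.left ∧ Red.IsTorus T ∧ IsMonHom q ∧
        Surjective q.left ∧ Flat q.left ∧ AlgGrp.IsKernel i q ∧ IsProper A.hom ∧ Smooth A.hom ∧
        ConnectedSpace ↥A.left := by

  obtain ⟨N, _, i, ⟨hi, hic, hNs, hNc, hNa, hNn⟩, hmax, -⟩ := S11398.result k G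
  haveI := hi
  haveI := hic
  haveI := hNs
  haveI := hNc
  haveI := hNa
  obtain ⟨A, _, q, hq, hAp, hAs, hAc, hqs, hqf, hqk⟩ := AGFLib.QuasiComp.exists_abelian_quot i hNn hmax
  refine ⟨N, inferInstance, i, A, inferInstance, q, hi, hic, ?_, hq, hqs, hqf, hqk, hAp, hAs, hAc⟩
  haveI := AGFLib.BorelExist.mono_of_closedImmersion i
  refine isTorus_of_unip_trivial fun U _ j _ hjc hsU hcU hns => ?_
  haveI := hjc
  haveI := hsU
  haveI := hcU
  haveI := AGFLib.BorelExist.mono_of_closedImmersion j
  haveI : IsAffine U.left := isAffine_of_isAffineHom j.left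
  haveI : IsReduced U.left := isReduced_of_smooth_field U.hom
  exact isTrivialGrp_of_pts fun x => pts_trivial p hG (j ≫ i) (fun g => isUnipPt_of_hasNoSubtorus hns g) x

end Groth.Agent.GrpSchLib.CharPUnip
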