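import Groth.Agent.GrpSchLib.EndoFlat
import Groth.Agent.GrpSchLib.HomFibre
import Groth.Agent.H23.MulTangent

/-! Multiplication by an integer prime to the characteristic is étale near the unit. -/

universe u

open CategoryTheory Limits AlgebraicGeometry MonoidalCategory CartesianMonoidalCategory MonObj TrivSqZeroExt
open Groth.Agent.GrpSchLib Groth.Agent.H23.MulTangent

namespace Groth.Agent.GrpSchLib.PowEtale

variable {K : Type u} [Field K] {X : Over (Spec (CommRingCat.of K))} [GrpObj X]

/-- In charts around the unit the cotangent map of the power map is onto. -/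
theorem ker_le (n : ℕ) (hn : (n : K) ≠ 0) {A B : Type u} [CommRing A] [CommRing B] [Algebra K A] [Algebra K B]
    [Algebra A B] [IsScalarTower K A B]
    (jA : Spec (CommRingCat.of A) ⟶ X.left)
    (jB : Spec (CommRingCat.of B) ⟶ X.left) [IsOpenImmersion jB]
    (hjB : jB ≫ X.hom = Spec.map (CommRingCat.ofHom (algebraMap K B)))
    (hcomp : jB ≫ (𝟙 X ^ n : X ⟶ X).left = Spec.map (CommRingCat.ofHom (algebraMap A B)) ≫ jA)
    {χ : B →ₐ[K] K} (hone : pt jB hjB χ = 1) :
    RingHom.ker χ ≤ (RingHom.ker (χ.comp (IsScalarTower.toAlgHom K A B))).map (algebraMap A B) ⊔ RingHom.ker χ ^ 2 := by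
  intro b hb
  by_contra hbI
  let I : Ideal B := (RingHom.ker (χ.comp (IsScalarTower.toAlgHom K A B))).map (algebraMap A B) ⊔ RingHom.ker χ ^ 2
  have hI : I ≤ RingHom.ker χ := by
    refine sup_le (Ideal.map_le_iff_le_comap.mpr fun a ha => ?_) (Ideal.pow_le_self two_ne_zero)
    exact ha
  let S : Submodule K B := I.restrictScalars K ⊔ Submodule.span K {1}
  have hbS : b ∉ S := by
    intro h
    obtain ⟨c, hc, r, hr, rfl⟩ := Submodule.mem_sup.1 h
    obtain ⟨r, rfl⟩ := Submodule.mem_span_singleton.1 hr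
    have hr0 : r = 0 := by
      have := (RingHom.mem_ker).1 hb
      rw [map_add, (RingHom.mem_ker).1 (hI hc), zero_add, map_smul, map_one] at this
      simpa using this
    rw [hr0, zero_smul, add_zero] at hbI
    exact hbI hc
  obtain ⟨l, hl, hl0⟩ := Submodule.exists_dual_map_eq_bot_of_notMem hbS inferInstance
  have hl1 : ∀ x ∈ S, l x = 0 := fun x hx => by
    have : l x ∈ S.map l := ⟨x, hx, rfl⟩
    rw [hl0] at this; simpa using this
  have h1 : ∀ r : K, l (algebraMap K B r) = 0 := fun r => hl1 _ (Submodule.mem_sup_right (by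
    rw [Algebra.algebraMap_eq_smul_one]; exact Submodule.smul_mem _ r (Submodule.subset_span rfl)))
  have hD : ∀ a c, l (a * c) = χ a * l c + χ c * l a := by
    intro a c
    have h2 : l ((a - algebraMap K B (χ a)) * (c - algebraMap K B (χ c))) = 0 := by
      refine hl1 _ (Submodule.mem_sup_left ?_)
      refine Submodule.mem_sup_right ?_
      rw [pow_two]
      exact Ideal.mul_mem_mul (by simp [RingHom.mem_ker]) (by simp [RingHom.mem_ker])
    rw [show (a - algebraMap K B (χ a)) * (c - algebraMap K B (χ c)) =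
      a * c - χ a • c - χ c • a + algebraMap K B (χ a * χ c) by simp [Algebra.smul_def]; ring] at h2
    simp only [map_add, map_sub, map_smul, h1, smul_eq_mul] at h2
    linear_combination h2
  have hlA : ∀ a : A, l (algebraMap A B a) = 0 := fun a => by
    have h2 : algebraMap A B (a - algebraMap K A (χ (algebraMap A B a))) ∈ S := by
      refine Submodule.mem_sup_left (Submodule.mem_sup_left (Ideal.mem_map_of_mem _ ?_))
      rw [RingHom.mem_ker]
      show χ (algebraMap A B (a - _)) = 0
      rw [map_sub, map_sub, ← IsScalarTower.algebraMap_apply K A B, AlgHom.commutes]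
      simp
    have := hl1 _ h2
    rwa [map_sub, map_sub, ← IsScalarTower.algebraMap_apply K A B, h1, sub_zero] at this
  obtain ⟨g, hg⟩ := exists_algHom_of_derivation χ l hD
  let cst : B →ₐ[K] TrivSqZeroExt K K := (TrivSqZeroExt.inlAlgHom K K K).comp χ
  have hgA : ∀ c : A, g (algebraMap A B c) = cst (algebraMap A B c) := fun c => by
    rw [hg]; simp [hlA, cst]
  have hfn : ∀ (C : Type u) [CommRing C] [Algebra K C] (h : B →ₐ[K] C),
      (pt jB hjB h ^ n).left = Spec.map (CommRingCat.ofHom (h.toRingHom.comp (algebraMap A B))) ≫ jA := by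
    intro C _ _ h
    have e1 : pt jB hjB h ^ n = pt jB hjB h ≫ (𝟙 X ^ n) := by
      rw [MonObj.comp_pow, Category.comp_id]
    rw [e1, CommRingCat.ofHom_comp, Spec.map_comp, Category.assoc, ← hcomp]
    exact Category.assoc _ _ _
  have hcst : pt jB hjB cst = 1 := by rw [← pt_comp, hone, MonObj.comp_one]
  have hpow : pt jB hjB g ^ n = 1 := by
    have e : pt jB hjB g ^ n = pt jB hjB cst ^ n := by
      ext1
      rw [hfn, hfn]
      congr 3
      exact RingHom.ext hgA
    rw [e, hcst, _root_.one_pow]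
  have h3 := eq_one_of_pow jB hjB K hone hn (pt jB hjB g) (by
    rw [pt_comp, show (TrivSqZeroExt.fstHom K K K).comp g = χ by ext x; simp [hg], hone]) hpow
  have h4 : g = cst := pt_injective jB hjB (h3.trans hcst.symm)
  refine hl ?_
  have := congrArg TrivSqZeroExt.snd (AlgHom.congr_fun h4 b)
  simpa [hg, cst] using this

theorem loc_etale [LocallyOfFiniteType X.hom] (n : ℕ) (hn : (n : K) ≠ 0) :
    η[X].left (IsLocalRing.closedPoint K) ∈ Loci.loc @Etale (𝟙 X ^ n : X ⟶ X).left := by
  set f := (𝟙 X ^ n : X ⟶ X).left with hf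
  let e₀ := η[X].left (IsLocalRing.closedPoint K)
  have hfe : f e₀ = e₀ := by
    have : η[X] ≫ (𝟙 X ^ n) = η[X] := by
      rw [MonObj.comp_pow, Category.comp_id]
      have : η[X] = 1 := by rw [Hom.one_def, toUnit_unique (toUnit (𝟙_ _)) (𝟙 _), Category.id_comp]
      rw [this, _root_.one_pow]
    show f (η[X].left _) = _
    rw [← Scheme.Hom.comp_apply, ← Over.comp_left, this]
  obtain ⟨W, hW, heW, -⟩ := exists_isAffineOpen_mem_and_subset (X := X.left) (x := e₀) (U := ⊤) trivial
  obtain ⟨V, hV, heV, hVW⟩ := exists_isAffineOpen_mem_and_subset (X := X.left) (x := e₀) (U := f ⁻¹ᵁ W)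
    (show f e₀ ∈ W by rw [hfe]; exact heW)
  obtain ⟨φA, hφA⟩ := Spec.map_surjective (hW.fromSpec ≫ X.hom)
  obtain ⟨φB, hφB⟩ := Spec.map_surjective (hV.fromSpec ≫ X.hom)
  let A := Γ(X.left, W)
  let B := Γ(X.left, V)
  let : Algebra K A := φA.hom.toAlgebra
  let : Algebra K B := φB.hom.toAlgebra
  let : Algebra A B := (f.appLE W V hVW).hom.toAlgebra
  have hw : f ≫ X.hom = X.hom := Over.w (𝟙 X ^ n : X ⟶ X)
  have hcomp : φA ≫ f.appLE W V hVW = φB := by
    apply Spec.map_injective
    rw [Spec.map_comp, hφA, hφB, IsAffineOpen.SpecMap_appLE_fromSpec_assoc f hW hV hVW, hw]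
  have : IsScalarTower K A B := IsScalarTower.of_algebraMap_eq fun c =>
    (congrArg (fun q => q.hom c) hcomp).symm
  have hftA : Algebra.FiniteType K A := by
    have h : LocallyOfFiniteType (hW.fromSpec ≫ X.hom) := inferInstance
    rw [← hφA, HasRingHomProperty.Spec_iff (P := @LocallyOfFiniteType)] at h
    exact h
  have hftB : Algebra.FiniteType K B := by
    have h : LocallyOfFiniteType (hV.fromSpec ≫ X.hom) := inferInstance
    rw [← hφB, HasRingHomProperty.Spec_iff (P := @LocallyOfFiniteType)] at h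
    exact h
  have : Algebra.FiniteType A B := Algebra.FiniteType.of_restrictScalars_finiteType K A B
  have : IsNoetherianRing A := Algebra.FiniteType.isNoetherianRing K A
  have : IsNoetherianRing B := Algebra.FiniteType.isNoetherianRing K B
  have : Algebra.FinitePresentation A B := Algebra.FinitePresentation.of_finiteType.mp ‹_›
  obtain ⟨χ, hχ⟩ := exists_pt_of_range hV.fromSpec hφB.symm (1 : specOver K K ⟶ X) (by
    rintro _ ⟨q, rfl⟩
    rw [hV.range_fromSpec]
    have : (1 : specOver K K ⟶ X).left q = e₀ := by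
      show ((toUnit (specOver K K)).left ≫ η[X].left) q = _
      exact congrArg η[X].left (Subsingleton.elim (α := PrimeSpectrum K) _ _)
    rw [this]; exact heV)
  have hker := ker_le n hn hW.fromSpec hV.fromSpec hφB.symm
    (IsAffineOpen.SpecMap_appLE_fromSpec f hW hV hVW).symm hχ
  let m := RingHom.ker χ
  let p := RingHom.ker (χ.comp (IsScalarTower.toAlgHom K A B))
  haveI : m.IsMaximal := RingHom.ker_isMaximal_of_surjective _ fun c => ⟨algebraMap K B c, χ.commutes c⟩
  haveI : p.IsPrime := RingHom.ker_isPrime _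
  haveI : m.LiesOver p := ⟨rfl⟩
  let Ap := Localization.AtPrime p
  let Bm := Localization.AtPrime m
  letI : Algebra Ap Bm := Localization.AtPrime.algebraOfLiesOver p m
  haveI : IsScalarTower A Ap Bm := inferInstance
  -- the maximal ideal
  have hle : IsLocalRing.maximalIdeal Bm = m.map (algebraMap B Bm) := (Localization.AtPrime.map_eq_maximalIdeal).symm
  have hmax : p.map (algebraMap A Bm) = IsLocalRing.maximalIdeal Bm := by
    have h1 : IsLocalRing.maximalIdeal Bm ≤ p.map (algebraMap A Bm) ⊔ IsLocalRing.maximalIdeal Bm • IsLocalRing.maximalIdeal Bm := by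
      rw [hle, smul_eq_mul, ← pow_two, ← Ideal.map_pow, IsScalarTower.algebraMap_eq A B Bm, ← Ideal.map_map, ← Ideal.map_sup]
      exact Ideal.map_mono hker
    refine le_antisymm ?_ (Submodule.le_of_le_smul_of_le_jacobson_bot (IsNoetherian.noetherian _)
      (IsLocalRing.maximalIdeal_le_jacobson _) h1)
    rw [hle, IsScalarTower.algebraMap_eq A B Bm, ← Ideal.map_map]
    exact Ideal.map_mono (Ideal.map_le_iff_le_comap.mpr fun a ha => ha)
  -- residues
  have hres : ∀ b : Bm, ∃ a : A, b - algebraMap A Bm a ∈ IsLocalRing.maximalIdeal Bm := by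
    intro b
    obtain ⟨⟨x, s⟩, hxs⟩ := IsLocalization.surj m.primeCompl b
    have hs : χ s ≠ 0 := s.2
    let c : K := χ x / χ s
    refine ⟨algebraMap K A c, ?_⟩
    rw [← IsScalarTower.algebraMap_apply, IsScalarTower.algebraMap_apply K B Bm]
    refine (Ideal.unit_mul_mem_iff_mem _ (IsLocalization.map_units Bm s)).mp ?_
    rw [mul_sub, mul_comm _ b, hxs, ← map_mul, ← map_sub, hle]
    refine Ideal.mem_map_of_mem _ ?_
    show χ (x - s * algebraMap K B c) = 0
    rw [map_sub, map_mul, AlgHom.commutes, Algebra.algebraMap_self, RingHom.id_apply, sub_eq_zero]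
    exact (mul_div_cancel₀ _ hs).symm
  have hflat : Module.Flat Ap Bm := by
    let zA : PrimeSpectrum A := ⟨p, inferInstance⟩
    let zB : PrimeSpectrum B := ⟨m, inferInstance⟩
    have hzB : hV.fromSpec zB = e₀ := by
      have h := congrArg (fun t : specOver K K ⟶ X => t.left (IsLocalRing.closedPoint K)) hχ
      refine Eq.trans ?_ (h.trans ?_)
      · show _ = (Spec.map (CommRingCat.ofHom χ.toRingHom) ≫ hV.fromSpec) (IsLocalRing.closedPoint K)
        rw [Scheme.Hom.comp_apply]
        refine congrArg _ (PrimeSpectrum.ext ?_)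
        show RingHom.ker χ = Ideal.comap χ.toRingHom _
        rw [show (IsLocalRing.closedPoint K).asIdeal = (⊥ : Ideal K) from
          IsLocalRing.maximalIdeal_eq_bot]
        rfl
      · show ((toUnit (specOver K K)).left ≫ η[X].left) _ = _
        exact congrArg η[X].left (Subsingleton.elim (α := PrimeSpectrum K) _ _)
    have hzA : hW.fromSpec zA = e₀ := by
      have h := congrArg (fun t : Spec (CommRingCat.of B) ⟶ X.left => t zB) (IsAffineOpen.SpecMap_appLE_fromSpec f hW hV hVW)
      simp only [Scheme.Hom.comp_apply] at h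
      refine Eq.trans ?_ (h.trans (by rw [hzB, hfe]))
      rfl
    haveI : (p.map (algebraMap A Bm)).IsPrime := hmax ▸ inferInstance
    have eA : Nonempty (Ap ≃+* X.left.presheaf.stalk e₀) := by
      rw [← hzA]
      have hz : hW.fromSpec zA ∈ W := by rw [hzA]; exact heW
      letI := TopCat.Presheaf.algebra_section_stalk X.left.presheaf ⟨hW.fromSpec zA, hz⟩
      haveI : IsLocalization p.primeCompl (X.left.presheaf.stalk (hW.fromSpec zA)) := hW.isLocalization_stalk' zA hz
      exact ⟨(IsLocalization.algEquiv p.primeCompl _ _).toRingEquiv⟩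
    have eB : Nonempty (Bm ≃+* X.left.presheaf.stalk e₀) := by
      rw [← hzB]
      have hz : hV.fromSpec zB ∈ V := by rw [hzB]; exact heV
      letI := TopCat.Presheaf.algebra_section_stalk X.left.presheaf ⟨hV.fromSpec zB, hz⟩
      haveI : IsLocalization m.primeCompl (X.left.presheaf.stalk (hV.fromSpec zB)) := hV.isLocalization_stalk' zB hz
      exact ⟨(IsLocalization.algEquiv m.primeCompl _ _).toRingEquiv⟩
    obtain ⟨eA⟩ := eA
    obtain ⟨eB⟩ := eB
    refine EndoFlat.flat (eB.trans eA.symm) ?_ fun b => ?_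
    · rw [← Localization.AtPrime.map_eq_maximalIdeal, Ideal.map_map, ← IsScalarTower.algebraMap_eq, hmax]
    · obtain ⟨a, ha⟩ := hres b
      exact ⟨algebraMap A Ap a, by rw [← IsScalarTower.algebraMap_apply]; exact ha⟩
  have hunr : Algebra.IsUnramifiedAt A m := by
    haveI : Algebra.EssFiniteType A B := inferInstance
    haveI : Algebra.IsSeparable p.ResidueField m.ResidueField := by
      have hs : Function.Surjective (algebraMap p.ResidueField m.ResidueField) := by
        intro x
        obtain ⟨b, rfl⟩ := IsLocalRing.residue_surjective x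
        obtain ⟨a, ha⟩ := hres b
        refine ⟨algebraMap A p.ResidueField a, ?_⟩
        rw [← IsScalarTower.algebraMap_apply, eq_comm, ← sub_eq_zero]
        exact (map_sub (IsLocalRing.residue Bm) b _).symm.trans ((IsLocalRing.residue_eq_zero_iff _).mpr ha)
      exact Algebra.IsSeparable.of_equiv_equiv (A₁ := p.ResidueField) (B₁ := p.ResidueField)
        (RingEquiv.refl _) (RingEquiv.ofBijective _ ⟨(algebraMap p.ResidueField m.ResidueField).injective, hs⟩) (by ext; rfl)
    exact (Algebra.isUnramifiedAt_iff_map_eq A p m).mpr ⟨inferInstance, hmax⟩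
  -- translate to schemes
  let ψ := Spec.map (CommRingCat.ofHom (algebraMap A B))
  haveI : LocallyOfFinitePresentation ψ := by
    rw [HasRingHomProperty.Spec_iff (P := @LocallyOfFinitePresentation)]
    exact RingHom.finitePresentation_algebraMap.mpr ‹_›
  let zB : PrimeSpectrum B := ⟨m, inferInstance⟩
  have h1 : zB ∈ Loci.loc Loci.FL ψ := by
    refine (HomFibre.mem_loc_FL_iff ψ zB).mpr ?_
    exact (RingHom.Flat.respectsIso.arrow_mk_iso_iff (Scheme.arrowStalkMapSpecIso _ _)).mpr hflat
  obtain ⟨U, hzU, hU, hUfp⟩ : zB ∈ Loci.loc Loci.UR ψ := by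
    obtain ⟨U, hz, hU⟩ := (MorLib.UnrLocus.loc_Spec_iff A B zB).mpr hunr
    exact ⟨U, hz, hU, MorphismProperty.comp_mem @LocallyOfFinitePresentation _ _ inferInstance ‹_›⟩
  obtain ⟨U', hzU', hU', -⟩ := h1
  haveI : Etale ((U ⊓ U').ι ≫ ψ) := Etale.iff_flat_and_formallyUnramified.mpr ⟨by
      rw [← Scheme.homOfLE_ι _ (inf_le_right : U ⊓ U' ≤ U'), Category.assoc]
      exact IsZariskiLocalAtSource.comp hU' _, by
      rw [← Scheme.homOfLE_ι _ (inf_le_left : U ⊓ U' ≤ U), Category.assoc]
      exact IsZariskiLocalAtSource.comp hU _, by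
      exact MorphismProperty.comp_mem @LocallyOfFinitePresentation _ _ inferInstance ‹_›⟩
  have hz : ((U ⊓ U').ι ≫ hV.fromSpec) ⟨zB, hzU, hzU'⟩ = e₀ := by
    have h := congrArg (fun t : specOver K K ⟶ X => t.left (IsLocalRing.closedPoint K)) hχ
    refine Eq.trans ?_ (h.trans ?_)
    · show hV.fromSpec zB = (Spec.map (CommRingCat.ofHom χ.toRingHom) ≫ hV.fromSpec) (IsLocalRing.closedPoint K)
      rw [Scheme.Hom.comp_apply]
      refine congrArg _ (PrimeSpectrum.ext ?_)
      show RingHom.ker χ = Ideal.comap χ.toRingHom _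
      rw [show (IsLocalRing.closedPoint K).asIdeal = (⊥ : Ideal K) from IsLocalRing.maximalIdeal_eq_bot]
      rfl
    · show ((toUnit (specOver K K)).left ≫ η[X].left) _ = _
      exact congrArg η[X].left (Subsingleton.elim (α := PrimeSpectrum K) _ _)
  refine ⟨((U ⊓ U').ι ≫ hV.fromSpec).opensRange, ⟨_, hz⟩, ?_⟩
  rw [← Scheme.Hom.isoOpensRange_inv_comp ((U ⊓ U').ι ≫ hV.fromSpec), Category.assoc]
  refine (MorphismProperty.cancel_left_of_respectsIso @Etale _ _).mpr ?_
  rw [Category.assoc, ← IsAffineOpen.SpecMap_appLE_fromSpec f hW hV hVW]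
  show Etale ((U ⊓ U').ι ≫ ψ ≫ hW.fromSpec)
  rw [← Category.assoc]
  infer_instance

end Groth.Agent.GrpSchLib.PowEtale
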