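import Groth.Agent.GrpSchLib.RankOneTransfer
import Groth.Agent.GrpSchLib.HomFlat
import Mathlib.AlgebraicGeometry.Morphisms.FlatMono
import Mathlib.AlgebraicGeometry.Morphisms.Smooth
import Groth.Prelude.Def_AlgGrp

/-! A rank-one group is covered by quotients of two cell points; homomorphisms which respect the cell. -/

set_option autoImplicit false
set_option linter.style.haveILetI false

universe u

open CategoryTheory CategoryTheory.Limits AlgebraicGeometry MonoidalCategory CartesianMonoidalCategory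
open scoped MonObj

noncomputable section

namespace Groth.Agent.GrpSchLib.RankOne

theorem flat_of_comp {P Q R : Scheme.{u}} (p : P ⟶ Q) (q : Q ⟶ R) [Flat p] [Surjective p] [Flat (p ≫ q)] :
    Flat q := by
  refine Flat.of_stalkMap q fun y => ?_
  obtain ⟨x, rfl⟩ := p.surjective y
  have h1 := Flat.stalkMap (p ≫ q) x
  rw [Scheme.Hom.stalkMap_comp] at h1
  have h2 := Flat.stalkMap p x
  have h3 : IsLocalHom (p.stalkMap x).hom := inferInstance
  algebraize [(p.stalkMap x).hom, (q.stalkMap (p.base x)).hom, (p.stalkMap x).hom.comp (q.stalkMap (p.base x)).hom]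
  haveI : Module.Flat (R.presheaf.stalk (q.base (p.base x))) (P.presheaf.stalk x) := h1
  haveI : IsLocalHom (algebraMap (Q.presheaf.stalk (p.base x)) (P.presheaf.stalk x)) := h3
  haveI : Module.FaithfullyFlat (Q.presheaf.stalk (p.base x)) (P.presheaf.stalk x) :=
    Module.FaithfullyFlat.of_flat_of_isLocalHom
  exact SmallFlat.flat_of_faithfullyFlat_tower (R.presheaf.stalk (q.base (p.base x))) (Q.presheaf.stalk (p.base x))
    (P.presheaf.stalk x)

variable {S : Scheme.{u}}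

theorem property_tensorHom {A B C D : Over S} (g : A ⟶ B) (h : C ⟶ D) (P : MorphismProperty Scheme.{u})
    [P.IsStableUnderBaseChange] [P.IsStableUnderComposition] [P.RespectsIso] (hg : P g.left) (hh : P h.left) :
    P (g ⊗ₘ h).left := by
  have hw : C ≅ C := Iso.refl C
  have h2 : P (B ◁ h).left := by
    have e : (B ◁ h) = (β_ B C).hom ≫ (h ▷ B) ≫ (β_ D B).hom := by ext <;> simp
    rw [e, Over.comp_left, Over.comp_left]
    haveI : IsIso (β_ B C).hom.left := ((Over.forget S).mapIso (β_ B C)).isIso_hom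
    haveI : IsIso (β_ D B).hom.left := ((Over.forget S).mapIso (β_ D B)).isIso_hom
    rw [MorphismProperty.cancel_left_of_respectsIso P, MorphismProperty.cancel_right_of_respectsIso P]
    exact property_whiskerRight h B P hh
  rw [MonoidalCategory.tensorHom_def, Over.comp_left]
  exact P.comp_mem _ _ (property_whiskerRight g C P hg) h2

variable {G T : Over S} [GrpObj G] [GrpObj T] {i : T ⟶ G} [IsMonHom i] {pp pm : Red.Ga S ⟶ G} [IsMonHom pp]
  [IsMonHom pm]

/-- The quotient of two points. -/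
abbrev divMap (G : Over S) [GrpObj G] : G ⊗ G ⟶ G := fst G G * (snd G G)⁻¹

variable (i pp pm) in
/-- Quotients of two cell points. -/
abbrev divCell : ((Red.Ga S ⊗ T) ⊗ Red.Ga S) ⊗ ((Red.Ga S ⊗ T) ⊗ Red.Ga S) ⟶ G :=
  (cellMap i pp pm ⊗ₘ cellMap i pp pm) ≫ divMap G

theorem flat_divMap (hG : Smooth G.hom) : Flat (divMap G).left := by
  let Θ : G ⊗ G ≅ G ⊗ G :=
    { hom := lift (fst G G * (snd G G)⁻¹) (snd G G)
      inv := lift (fst G G * snd G G) (snd G G)
      hom_inv_id := by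
        apply CartesianMonoidalCategory.hom_ext
        · rw [Category.assoc, lift_fst, MonObj.comp_mul, lift_fst, lift_snd, inv_mul_cancel_right, Category.id_comp]
        · simp
      inv_hom_id := by
        apply CartesianMonoidalCategory.hom_ext
        · rw [Category.assoc, lift_fst, MonObj.comp_mul, GrpObj.comp_inv, lift_fst, lift_snd, mul_inv_cancel_right,
            Category.id_comp]
        · simp }
  have e : divMap G = Θ.hom ≫ fst G G := (lift_fst _ _).symm
  rw [e, Over.comp_left]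
  haveI : IsIso Θ.hom.left := ((Over.forget S).mapIso Θ).isIso_hom
  haveI : Flat (fst G G).left := inferInstanceAs (Flat (pullback.fst G.hom G.hom))
  infer_instance

theorem flat_divCell (hG : Smooth G.hom) (hΩ : IsOpenImmersion (cellMap i pp pm).left) :
    Flat (divCell i pp pm).left := by
  rw [Over.comp_left]
  haveI := flat_divMap hG
  haveI : Flat (cellMap i pp pm).left := inferInstance
  haveI : Flat (cellMap i pp pm ⊗ₘ cellMap i pp pm).left :=
    property_tensorHom _ _ @Flat inferInstance inferInstance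
  infer_instance

theorem surjective_divCell (hG : Red.IsReductive G) (hΩ : IsOpenImmersion (cellMap i pp pm).left) :
    Surjective (divCell i pp pm).left := by
  refine ⟨fun x => ?_⟩
  let K := AlgebraicClosure (G.left.residueField x)
  let g₀ : Spec (CommRingCat.of K) ⟶ G.left :=
    Spec.map (CommRingCat.ofHom (algebraMap (G.left.residueField x) K)) ≫ G.left.fromSpecResidueField x
  let g : Over.mk (g₀ ≫ G.hom) ⟶ G := Over.homMk g₀ rfl
  obtain ⟨a, t, d, a', t', d', he⟩ := exists_cell_translate hG hΩ g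
  have hg : g = lift (lift (lift a' t') d') (lift (lift a t) d) ≫ divCell i pp pm := by
    have e : lift (lift (lift a' t') d') (lift (lift a t) d) ≫ (cellMap i pp pm ⊗ₘ cellMap i pp pm) =
        lift ((a' ≫ pm) * (t' ≫ i) * (d' ≫ pp)) ((a ≫ pm) * (t ≫ i) * (d ≫ pp)) := by
      rw [lift_map, cell_comp, cell_comp]
    rw [← Category.assoc, e, MonObj.comp_mul, GrpObj.comp_inv, lift_fst, lift_snd, ← he, mul_inv_cancel_right]
  let pt : Spec (CommRingCat.of K) := IsLocalRing.closedPoint K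
  have hx : g₀ pt = x := by
    have hm : g₀ pt ∈ Set.range (G.left.fromSpecResidueField x) :=
      ⟨Spec.map (CommRingCat.ofHom (algebraMap (G.left.residueField x) K)) pt, rfl⟩
    rwa [Scheme.range_fromSpecResidueField, Set.mem_singleton_iff] at hm
  refine ⟨(lift (lift (lift a' t') d') (lift (lift a t) d)).left pt, ?_⟩
  exact (congrArg (fun k : Over.mk (g₀ ≫ G.hom) ⟶ G => k.left pt) hg).symm.trans hx

section Hom

variable {G' T' : Over S} [GrpObj G'] [GrpObj T'] {i' : T' ⟶ G'} [IsMonHom i'] {pp' pm' : Red.Ga S ⟶ G'}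
  [IsMonHom pp'] [IsMonHom pm'] (f : G ⟶ G') [IsMonHom f] {sp sm : Red.Ga S ⟶ Red.Ga S} {fT : T ⟶ T'}
  (hp : pp ≫ f = sp ≫ pp') (hm : pm ≫ f = sm ≫ pm') (hi : i ≫ f = fT ≫ i')

include hp hm hi in
omit [IsMonHom i] [IsMonHom pp] [IsMonHom pm] [IsMonHom i'] [IsMonHom pp'] [IsMonHom pm'] in
theorem cellMap_comp : cellMap i pp pm ≫ f = ((sm ⊗ₘ fT) ⊗ₘ sp) ≫ cellMap i' pp' pm' := by
  have h1 : ∀ {X : Over S} (a : X ⟶ Red.Ga S) (t : X ⟶ T) (d : X ⟶ Red.Ga S),
      lift (lift a t) d ≫ cellMap i pp pm ≫ f =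
        lift (lift a t) d ≫ ((sm ⊗ₘ fT) ⊗ₘ sp) ≫ cellMap i' pp' pm' := fun a t d => by
    rw [← Category.assoc, cell_comp, MonObj.mul_comp, MonObj.mul_comp, Category.assoc, Category.assoc, Category.assoc,
      hp, hm, hi, ← Category.assoc (lift (lift a t) d), lift_map, lift_map, cell_comp]
    simp only [Category.assoc]
  have e : lift (lift (fst _ _ ≫ fst _ _) (fst _ _ ≫ snd _ _)) (snd _ _) =
      𝟙 ((Red.Ga S ⊗ T) ⊗ Red.Ga S) := by ext <;> simp
  have h2 := h1 (fst _ _ ≫ fst (Red.Ga S) T) (fst _ (Red.Ga S) ≫ snd (Red.Ga S) T) (snd (Red.Ga S ⊗ T) (Red.Ga S))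
  rwa [e, Category.id_comp, Category.id_comp] at h2

include hp hm hi in
/-- A homomorphism respecting the cells faithfully flatly is faithfully flat. -/
theorem flat_surjective_of_cell (hG : Red.IsReductive G) (hG' : Red.IsReductive G')
    (hΩ : IsOpenImmersion (cellMap i pp pm).left) (hΩ' : IsOpenImmersion (cellMap i' pp' pm').left)
    (hsp : IsIso sp) (hsm : IsIso sm) (hfl : Flat fT.left) (hsu : Surjective fT.left) :
    Flat f.left ∧ Surjective f.left := by
  haveI := flat_divCell hG.2.1 hΩ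
  haveI := surjective_divCell hG hΩ
  haveI := flat_divCell hG'.2.1 hΩ'
  haveI := surjective_divCell hG' hΩ'
  let fΩ := (sm ⊗ₘ fT) ⊗ₘ sp
  have hdiv : divMap G ≫ f = (f ⊗ₘ f) ≫ divMap G' := by
    rw [MonObj.mul_comp, GrpObj.inv_comp, MonObj.comp_mul, GrpObj.comp_inv, tensorHom_fst, tensorHom_snd]
  have hcomm : divCell i pp pm ≫ f = (fΩ ⊗ₘ fΩ) ≫ divCell i' pp' pm' := by
    rw [Category.assoc, hdiv, ← Category.assoc, MonoidalCategory.tensorHom_comp_tensorHom,
      cellMap_comp f hp hm hi, ← MonoidalCategory.tensorHom_comp_tensorHom, Category.assoc]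
  haveI : IsIso sp.left := inferInstanceAs (IsIso ((Over.forget S).map sp))
  haveI : IsIso sm.left := inferInstanceAs (IsIso ((Over.forget S).map sm))
  haveI := hfl
  haveI := hsu
  haveI : Flat fΩ.left := property_tensorHom _ _ @Flat (property_tensorHom _ _ @Flat inferInstance hfl) inferInstance
  haveI : Surjective fΩ.left :=
    property_tensorHom _ _ @Surjective (property_tensorHom _ _ @Surjective inferInstance hsu) inferInstance
  haveI : Flat (fΩ ⊗ₘ fΩ).left := property_tensorHom _ _ @Flat inferInstance inferInstance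
  haveI : Surjective (fΩ ⊗ₘ fΩ).left := property_tensorHom _ _ @Surjective inferInstance inferInstance
  have h : (divCell i pp pm).left ≫ f.left = (fΩ ⊗ₘ fΩ).left ≫ (divCell i' pp' pm').left :=
    congrArg CommaMorphism.left hcomm
  haveI : Flat ((divCell i pp pm).left ≫ f.left) := by rw [h]; infer_instance
  haveI : Surjective ((divCell i pp pm).left ≫ f.left) := by rw [h]; infer_instance
  exact ⟨flat_of_comp (divCell i pp pm).left f.left, Surjective.of_comp (divCell i pp pm).left f.left⟩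

variable {α : T ⟶ Red.Gm S}

include hp hm hi in
/-- The kernel of a homomorphism respecting the cells lies in the torus. -/
theorem exists_torus_of_ker (hG : Red.IsReductive G) (hT : Red.IsTorus T)
    (hpm : ∀ (X : Over S) (t : X ⟶ T) (y : X ⟶ Red.Ga S), ∃ y' : X ⟶ Red.Ga S,
      y' ≫ pm = (t ≫ i) * (y ≫ pm) * (t ≫ i)⁻¹ ∧ Red.gaFn y' * Red.gmFn (t ≫ α) = Red.gaFn y)
    (hΩ : IsOpenImmersion (cellMap i pp pm).left) (hΩ' : IsOpenImmersion (cellMap i' pp' pm').left)
    (hsp : IsIso sp) (hsm : IsIso sm) [IsMonHom fT]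
    (hker : ∀ (X : Over S) (t : X ⟶ T), t ≫ fT = 1 → GmPts.unitOfPt (t ≫ α) = 1)
    {X : Over S} (g : X ⟶ G) (hg : g ≫ f = 1) : ∃ t : X ⟶ T, g = t ≫ i ∧ t ≫ fT = 1 := by
  obtain ⟨a, t, d, he⟩ := exists_coords hΩ g fun K hK b j hroot => by
    letI := hK.toField
    haveI : IsAlgClosed K := IsAlgClosed.of_exists_root _ fun q _ hq =>
      hroot q (Irreducible.natDegree_pos hq).ne'
    obtain ⟨a, t, d, a', t', d', hc⟩ := exists_cell_translate (K := (K : Type u)) (b := b) hG hΩ (j ≫ g)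
    have h := congrArg (· ≫ f) hc
    simp only [MonObj.mul_comp, Category.assoc, hg, MonObj.comp_one, hp, hm, hi, _root_.one_mul] at h
    simp only [← Category.assoc] at h
    obtain ⟨h1, h2, h3⟩ := cell_ext hΩ' h
    rw [cancel_mono] at h1 h3
    subst h1 h3
    have hq : (t' * t⁻¹) ≫ fT = 1 := by rw [MonObj.mul_comp, GrpObj.inv_comp, ← h2, mul_inv_cancel]
    have hα := hker _ _ hq
    have hc2 : ((t' * t⁻¹) ≫ i) * (a ≫ pm) * ((t' * t⁻¹) ≫ i)⁻¹ = a ≫ pm := by
      rw [conj_pm hpm, hα, inv_one, Units.val_one, _root_.one_mul, ← ga_eq_ptOfFn]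
    refine ⟨1, t' * t⁻¹, 1, ?_⟩
    rw [MonObj.one_comp, MonObj.one_comp, _root_.one_mul, _root_.mul_one]
    calc j ≫ g = ((a ≫ pm) * (t' ≫ i) * (d ≫ pp)) * ((a ≫ pm) * (t ≫ i) * (d ≫ pp))⁻¹ := by
          rw [← hc, mul_inv_cancel_right]
      _ = (a ≫ pm) * ((t' * t⁻¹) ≫ i) * (a ≫ pm)⁻¹ := by rw [MonObj.mul_comp, GrpObj.inv_comp]; group
      _ = _ := by
        rw [mul_inv_eq_iff_eq_mul.1 hc2 |>.symm]
        group
  have h := congrArg (· ≫ f) he
  simp only [MonObj.mul_comp, Category.assoc, hg, hp, hm, hi] at h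
  simp only [← Category.assoc] at h
  obtain ⟨h1, h2, h3⟩ := cell_ext hΩ' ((show ((1 : X ⟶ Red.Ga S) ≫ pm') * ((1 : X ⟶ T') ≫ i') *
      ((1 : X ⟶ Red.Ga S) ≫ pp') = 1 by
    rw [MonObj.one_comp, MonObj.one_comp, MonObj.one_comp, _root_.one_mul, _root_.one_mul]).trans h)
  refine ⟨t, ?_, h2.symm⟩
  have hz : ∀ (p : Red.Ga S ⟶ G') [IsMonHom p] (q : Red.Ga S ⟶ G) [IsMonHom q] (s : Red.Ga S ⟶ Red.Ga S),
      q ≫ f = s ≫ p → (1 : X ⟶ Red.Ga S) ≫ s ≫ p = 1 := fun p _ q _ s hs => by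
    rw [← hs, ← Category.assoc, MonObj.one_comp, MonObj.one_comp]
  have ha1 : a = 1 := by
    have hsm0 : (1 : X ⟶ Red.Ga S) ≫ sm = 1 := by
      have hh := hz pm' pm sm hm
      rw [← Category.assoc] at hh
      exact (cell_ext hΩ' (a := (1 : X ⟶ Red.Ga S) ≫ sm) (t := (1 : X ⟶ T')) (d := (1 : X ⟶ Red.Ga S))
        (a' := 1) (t' := 1) (d' := 1) (by rw [hh, MonObj.one_comp pm'])).1
    rw [← cancel_mono sm, ← h1, hsm0]
  have hd1 : d = 1 := by
    have hsp0 : (1 : X ⟶ Red.Ga S) ≫ sp = 1 := by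
      have hh := hz pp' pp sp hp
      rw [← Category.assoc] at hh
      exact (cell_ext hΩ' (a := (1 : X ⟶ Red.Ga S)) (t := (1 : X ⟶ T')) (d := (1 : X ⟶ Red.Ga S) ≫ sp)
        (a' := 1) (t' := 1) (d' := 1) (by rw [hh, MonObj.one_comp pp'])).2.2
    rw [← cancel_mono sp, ← h3, hsp0]
  rw [he, ha1, hd1, MonObj.one_comp, MonObj.one_comp, _root_.one_mul, _root_.mul_one]

end Hom

/-- Scaling of the additive group by a global unit. -/
def scaleIso (c : 𝟙_ (Over S) ⟶ Red.Gm S) : Red.Ga S ≅ Red.Ga S where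
  hom := GaPts.ptOfFn (Red.gmFn (toUnit (Red.Ga S) ≫ c) * Red.gaFn (𝟙 (Red.Ga S)))
  inv := GaPts.ptOfFn ((((GmPts.unitOfPt (toUnit (Red.Ga S) ≫ c))⁻¹ : _ˣ) : Γ((Red.Ga S).left, ⊤)) *
    Red.gaFn (𝟙 (Red.Ga S)))
  hom_inv_id := GaPts.gaFn_injective (by
    dsimp only
    rw [GaPts.gaFn_comp, GaPts.gaFn_ptOfFn, map_mul, ← GaPts.gaFn_comp, Category.comp_id, GaPts.gaFn_ptOfFn,
      ← mul_assoc]
    convert _root_.one_mul _
    rw [show (GmPts.unitOfPt (toUnit (Red.Ga S) ≫ c))⁻¹ = GmPts.unitOfPt (toUnit (Red.Ga S) ≫ c⁻¹) by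
      rw [GrpObj.comp_inv, GmPts.unitOfPt_inv], GmPts.val_unitOfPt, ← GmPts.gmFn_comp, ← Category.assoc,
      toUnit_unique (_ ≫ toUnit _) (toUnit _), ← GmPts.gmFn_mul, ← MonObj.comp_mul, inv_mul_cancel, MonObj.comp_one,
      GmPts.gmFn_one])
  inv_hom_id := GaPts.gaFn_injective (by
    dsimp only
    rw [GaPts.gaFn_comp, GaPts.gaFn_ptOfFn, map_mul, ← GaPts.gaFn_comp, Category.comp_id, GaPts.gaFn_ptOfFn,
      ← GmPts.gmFn_comp, ← Category.assoc, toUnit_unique (_ ≫ toUnit _) (toUnit _), ← GmPts.val_unitOfPt,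
      Units.mul_inv_cancel_left])

theorem scaleIso_hom (c : 𝟙_ (Over S) ⟶ Red.Gm S) {X : Over S} (x : X ⟶ Red.Ga S) :
    Red.gaFn (x ≫ (scaleIso c).hom) = Red.gmFn (toUnit X ≫ c) * Red.gaFn x := by
  simp only [scaleIso]
  rw [GaPts.gaFn_comp, GaPts.gaFn_ptOfFn, map_mul, ← GaPts.gaFn_comp, Category.comp_id, ← GmPts.gmFn_comp,
    ← Category.assoc, toUnit_unique (x ≫ toUnit _) (toUnit X)]

theorem scaleIso_inv (c : 𝟙_ (Over S) ⟶ Red.Gm S) {X : Over S} (x : X ⟶ Red.Ga S) :
    Red.gmFn (toUnit X ≫ c) * Red.gaFn (x ≫ (scaleIso c).inv) = Red.gaFn x := by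
  rw [← scaleIso_hom, Category.assoc, Iso.inv_hom_id, Category.comp_id]

end Groth.Agent.GrpSchLib.RankOne
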