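import Groth.Agent.GrpSchLib.AntiAffineSmooth
import Groth.Agent.GrpSchLib.Cartier
import Groth.Agent.GrpSchLib.AntiAffineHom

/-! Anti-affine groups over any field are smooth. -/

universe u

open CategoryTheory Limits AlgebraicGeometry MonoidalCategory CartesianMonoidalCategory MonObj

set_option linter.style.haveILetI false

namespace Groth.Agent.GrpSchLib.AntiAffineSmooth

variable {k : Type u} [Field k] {G : Over (Spec (CommRingCat.of k))} [GrpObj G] [LocallyOfFiniteType G.hom]
  [QuasiCompact G.hom]

theorem smooth (hG : Function.Bijective G.hom.appTop) : Smooth G.hom := by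
  obtain ⟨p, hp⟩ := ExpChar.exists k
  cases hp with
  | zero => exact smooth_of_charZero G
  | @prime p hp =>
    haveI : Fact p.Prime := ⟨hp⟩
    refine smooth_of_isReduced_baseChange G ?_
    let σ := Spec.map (CommRingCat.ofHom (algebraMap k (AlgebraicClosure k)))
    obtain ⟨h1, h2, h3⟩ := AntiAffine.bc_hyp hG σ
    haveI := h1; haveI := h2
    haveI : CharP (AlgebraicClosure k) p := charP_of_injective_algebraMap (algebraMap k _).injective p
    exact isReduced_charP (G := Red.bc σ G) p h3

end Groth.Agent.GrpSchLib.AntiAffineSmooth
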