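import Mathlib.Algebra.Polynomial.Laurent
import Mathlib.Algebra.MonoidAlgebra.MapDomain
import Mathlib.GroupTheory.MonoidLocalization.UniqueFactorization
import Mathlib.RingTheory.Polynomial.UniqueFactorization
import Mathlib.RingTheory.UniqueFactorizationDomain.GCDMonoid
import Mathlib.RingTheory.PicardGroup
import Mathlib.Algebra.Group.Equiv.TypeTags

/-! Group algebras of lattices are factorial, so have trivial Picard group. -/

universe u

namespace Groth.Agent.GrpSchLib.LaurentPic

theorem ufd_of_ringEquiv {A B : Type*} [CommRing A] [CommRing B] (e : A ≃+* B) [IsDomain A]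
    [UniqueFactorizationMonoid A] : IsDomain B ∧ UniqueFactorizationMonoid B :=
  ⟨e.symm.toMulEquiv.isDomain A, e.toMulEquiv.uniqueFactorizationMonoid inferInstance⟩

theorem ufd_laurent (D : Type*) [CommRing D] [IsDomain D] [UniqueFactorizationMonoid D] :
    IsDomain (MonoidAlgebra D (Multiplicative ℤ)) ∧ UniqueFactorizationMonoid (MonoidAlgebra D (Multiplicative ℤ)) := by
  haveI : UniqueFactorizationMonoid (LaurentPolynomial D) :=
    UniqueFactorizationMonoid.of_isLocalization (Submonoid.powers (Polynomial.X : Polynomial D)) _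
  haveI : IsDomain (LaurentPolynomial D) :=
    IsLocalization.isDomain_of_le_nonZeroDivisors (M := Submonoid.powers (Polynomial.X : Polynomial D)) _
      (powers_le_nonZeroDivisors_of_noZeroDivisors Polynomial.X_ne_zero)
  exact ufd_of_ringEquiv (AddMonoidAlgebra.toMultiplicative (R := D) (M := ℤ))

theorem ufd_lattice (k : Type u) [Field k] : ∀ r : ℕ,
    IsDomain (MonoidAlgebra k (Multiplicative (Fin r → ℤ))) ∧
      UniqueFactorizationMonoid (MonoidAlgebra k (Multiplicative (Fin r → ℤ)))
  | 0 => ufd_of_ringEquiv (MonoidAlgebra.uniqueRingEquiv (R := k) (Multiplicative (Fin 0 → ℤ))).symm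
  | r + 1 => by
    obtain ⟨h1, h2⟩ := ufd_lattice k r
    obtain ⟨h3, h4⟩ := ufd_laurent (MonoidAlgebra k (Multiplicative (Fin r → ℤ)))
    let e : Multiplicative ℤ × Multiplicative (Fin r → ℤ) ≃* Multiplicative (Fin (r + 1) → ℤ) :=
      (MulEquiv.prodMultiplicative ℤ (Fin r → ℤ)).symm.trans (AddEquiv.toMultiplicative
        { Fin.consEquiv (fun _ : Fin (r + 1) => ℤ) with
          map_add' := fun x y => by
            funext i
            refine Fin.cases ?_ (fun j => ?_) i <;> simp [Fin.consEquiv] })
    exact ufd_of_ringEquiv ((MonoidAlgebra.curryRingEquiv (R := k) (M := Multiplicative ℤ)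
      (N := Multiplicative (Fin r → ℤ))).symm.trans (MonoidAlgebra.mapDomainRingEquiv k e))

theorem subsingleton_pic (k : Type u) [Field k] (r : ℕ) :
    Subsingleton (CommRing.Pic (MonoidAlgebra k (Multiplicative (Fin r → ℤ)))) := by
  obtain ⟨h1, h2⟩ := ufd_lattice k r
  infer_instance

end Groth.Agent.GrpSchLib.LaurentPic
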