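import Groth.Agent.GrpSchLib.SemiabLine
import Groth.Agent.GrpSchLib.IsogTorus
import Groth.Agent.GrpSchLib.ImageFactor
import Groth.Agent.GrpSchLib.QuotAffine
import Groth.Agent.GrpSchLib.GenQuot
import Groth.Agent.AGFLib.GeomBC
import Groth.Agent.FBaseLib.Basic
import Groth.Agent.QCoh.ProperOver
import Groth.Agent.NIsog.Kernel
import Groth.Agent.AGFLib.QuasiComp.Semiab
import Groth.Agent.AGFLib.LinPart

/-! Subgroups, quotients and extensions of semi-abelian varieties. -/

set_option autoImplicit false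
set_option backward.isDefEq.respectTransparency false
set_option backward.isDefEq.respectTransparency.types false
set_option linter.style.haveILetI false
set_option maxHeartbeats 1000000

universe u

open CategoryTheory CategoryTheory.Limits MonoidalCategory CartesianMonoidalCategory MonObj AlgebraicGeometry

namespace Groth.Agent.GrpSchLib.SemiabExt

open LineInUnip SemiabLine

variable {k : Type u} [Field k] [IsAlgClosed k]

local notation "PT" => 𝟙_ (Over (Spec (CommRingCat.of k)))

/-- Only constant maps from the affine line. -/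
def LineConst (G : Over (Spec (CommRingCat.of k))) : Prop :=
  ∀ f : A1 k ⟶ G, ∃ g : 𝟙_ (Over (Spec (CommRingCat.of k))) ⟶ G, f = toUnit _ ≫ g

/-- Being semi-abelian. -/
def IsSemiab (G : Over (Spec (CommRingCat.of k))) [GrpObj G] : Prop :=
  ∃ (T : Over (Spec (CommRingCat.of k))) (_ : GrpObj T) (i : T ⟶ G) (A : Over (Spec (CommRingCat.of k)))
    (_ : GrpObj A) (q : G ⟶ A), IsMonHom i ∧ IsClosedImmersion i.left ∧ Red.IsTorus T ∧ IsMonHom q ∧
    Surjective q.left ∧ Flat q.left ∧ AlgGrp.IsKernel i q ∧ IsProper A.hom ∧ Smooth A.hom ∧ ConnectedSpace ↥A.left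

variable {G' G G'' : Over (Spec (CommRingCat.of k))} [GrpObj G'] [GrpObj G] [GrpObj G'']

theorem lineConst_of_semiab [Smooth G.hom] (h : IsSemiab G) : LineConst G := fun f => by
  obtain ⟨T, _, i, A, _, q, hi, _, hT, hq, _, _, hk, hA, hAs, hAc⟩ := h
  haveI := hi; haveI := hq; haveI := hA; haveI := hAs; haveI := hAc
  exact const_of_semiab i hT q hk f

theorem semiab_iff [Smooth G.hom] [QuasiCompact G.hom] [ConnectedSpace G.left] : IsSemiab G ↔ LineConst G :=
  ⟨lineConst_of_semiab, semiab_of_const⟩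

theorem lineConst_sub (j : G' ⟶ G) [Mono j] (h : LineConst G) : LineConst G' := fun f => by
  obtain ⟨g, hg⟩ := h (f ≫ j)
  let p : PT ⟶ A1 k := Over.homMk
    (AffineSpace.homOfVector (PT : Over (Spec (CommRingCat.of k))).hom fun _ => algebraMap k (Kunneth.Fn PT) 0)
    (AffineSpace.homOfVector_over _ _)
  refine ⟨p ≫ f, ?_⟩
  rw [← cancel_mono j, Category.assoc, Category.assoc, hg, pt_toUnit]

theorem lineConst_ext (j : G' ⟶ G) (p : G ⟶ G'') [IsMonHom p] (hk : AlgGrp.IsKernel j p) (h' : LineConst G')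
    (h'' : LineConst G'') : LineConst G := fun f => by
  obtain ⟨a, ha⟩ := h'' (f ≫ p)
  let o : PT ⟶ A1 k := Over.homMk
    (AffineSpace.homOfVector (PT : Over (Spec (CommRingCat.of k))).hom fun _ => algebraMap k (Kunneth.Fn PT) 0)
    (AffineSpace.homOfVector_over _ _)
  have hq : (f * (toUnit _ ≫ o ≫ f)⁻¹) ≫ p = 1 := by
    rw [MonObj.mul_comp, GrpObj.inv_comp, Category.assoc, Category.assoc, ha, pt_toUnit, mul_inv_cancel]
  obtain ⟨x, hx⟩ : ∃ x : A1 k ⟶ G', x ≫ j = f * (toUnit _ ≫ o ≫ f)⁻¹ :=
    ⟨hk.lift _ (toUnit _) hq, hk.lift_fst _ _ _⟩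
  obtain ⟨y, rfl⟩ := h' x
  refine ⟨o ≫ f, mul_inv_eq_one.mp ?_⟩
  have h0 := congrArg (o ≫ ·) hx
  simp only [Category.assoc, pt_toUnit, MonObj.comp_mul, GrpObj.comp_inv, mul_inv_cancel] at h0
  rw [← hx, Category.assoc, h0, MonObj.comp_one]

/-- A quotient of a semi-abelian variety is one. -/
theorem semiab_quot [Smooth G.hom] [QuasiCompact G.hom] [ConnectedSpace G.left] [Smooth G''.hom]
    [QuasiCompact G''.hom] [ConnectedSpace G''.left] (p : G ⟶ G'') [IsMonHom p] [Surjective p.left]
    (h : IsSemiab G) : IsSemiab G'' := by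
  obtain ⟨T, _, i, A, _, q, hi, hic, hT, hq, hqs, hqf, hk, hA, hAs, hAc⟩ := h
  haveI := hi; haveI := hic; haveI := hq; haveI := hqs; haveI := hqf; haveI := hA; haveI := hAs; haveI := hAc
  haveI : IsCommMonObj G := AGFLib.QuasiComp.comm_of_semiabelian i hT q hk
  obtain ⟨hTa, hTs, hTc, -⟩ := SolvGrp.torus_props hT
  haveI := hTa; haveI := hTs; haveI := hTc
  haveI : QuasiCompact T.hom := by rw [← Over.w i]; infer_instance
  obtain ⟨I, _, r, j, hr, hj, hrj, hjc, hrf, hrs, hIl, hIq⟩ := ImageFactor.exists_image (i ≫ p)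
  haveI := hr; haveI := hj; haveI := hjc; haveI := hrf; haveI := hrs; haveI := hIl; haveI := hIq
  haveI : IsAffine I.left := isAffine_of_quotient r
  haveI : IsReduced T.left := isReduced_of_smooth_field T.hom
  haveI : IsReduced I.left := FBaseLib.isReduced_of_flat_surjective r.left
  haveI : Smooth I.hom := smooth_of_isReduced_of_isAlgClosed I
  haveI : ConnectedSpace I.left := r.left.surjective.connectedSpace r.left.continuous
  have hI : Red.IsTorus I := IsogTorus.isTorus_target r hT
  haveI := AGFLib.BorelExist.mono_of_closedImmersion j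
  have hn : AlgGrp.IsNormalHom j := by
    have key : ∀ (g : PT ⟶ G'') (x : PT ⟶ I), g * (x ≫ j) * g⁻¹ = x ≫ j := fun g x => by
      haveI : LocallyOfFiniteType p.left := by
        haveI : LocallyOfFiniteType (p.left ≫ G''.hom) := by rw [Over.w p]; infer_instance
        exact locallyOfFiniteType_of_comp p.left G''.hom
      obtain ⟨a, ha⟩ := S14638.exists_lift_pt (σ := 𝟙 (Spec (CommRingCat.of k))) p g (p.left.surjective _)
      change a ≫ p = g at ha
      haveI : LocallyOfFiniteType r.left := by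
        haveI : LocallyOfFiniteType (r.left ≫ I.hom) := by rw [Over.w r]; infer_instance
        exact locallyOfFiniteType_of_comp r.left I.hom
      obtain ⟨t, ht⟩ := S14638.exists_lift_pt (σ := 𝟙 (Spec (CommRingCat.of k))) r x (r.left.surjective _)
      change t ≫ r = x at ht
      rw [← ha, ← ht, Category.assoc, hrj, ← Category.assoc t i p, ← GrpObj.inv_comp, ← MonObj.mul_comp,
        ← MonObj.mul_comp, _root_.mul_comm a (t ≫ i), mul_inv_cancel_right]
    exact AGFLib.LinPart.isNormal_of_pts _ fun g x => ⟨x, key g x⟩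
  obtain ⟨R, _, s, hs, hss, hsf, -, hRl, hRq, hRsep, hsk, -⟩ := GenQuot.exists_quot j hn
  haveI := hs; haveI := hss; haveI := hsf; haveI := hRl; haveI := hRq; haveI := hRsep
  haveI : Smooth (s.left ≫ R.hom) := by rw [Over.w s]; infer_instance
  haveI : Smooth R.hom := GrpSchLib.smooth_of_flat_surjective s.left R.hom
  haveI : ConnectedSpace R.left := s.left.surjective.connectedSpace s.left.continuous
  have hjs : j ≫ s = 1 := by rw [hsk.w]; rfl
  obtain ⟨φ, hφ, hqφ, -⟩ := S3280.result k G T A R q i hk (p ≫ s) (by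
    rw [← Category.assoc, ← hrj, Category.assoc, hjs, MonObj.comp_one]
    rfl)
  haveI : Surjective (q.left ≫ φ.left) := by
    rw [← Over.comp_left, hqφ]; exact inferInstanceAs (Surjective (p.left ≫ s.left))
  haveI : Surjective φ.left := Surjective.of_comp q.left φ.left
  haveI : IsProper (φ.left ≫ R.hom) := by rw [Over.w φ]; infer_instance
  haveI : IsProper φ.left := IsProper.of_comp φ.left R.hom
  haveI : IsProper R.hom := QCoh.isProper_of_comp_surjective φ.left R.hom
  exact ⟨I, inferInstance, j, R, inferInstance, s, hj, hjc, hI, hs, hss, hsf, hsk, inferInstance, inferInstance,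
    inferInstance⟩

end Groth.Agent.GrpSchLib.SemiabExt
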