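import Groth.Agent.GrpSchLib.RankOneDense
import Groth.Agent.GrpSchLib.FieldSubgroup
import Groth.Agent.S0351
import Groth.Agent.S8392
import Mathlib.LinearAlgebra.SymmetricAlgebra.Basis
import Mathlib.RingTheory.RingHom.Smooth
import Groth.Agent.GrpSchLib.AffineHopf
import Groth.Agent.DSPtsLib.Basic
import Groth.Agent.GrpSchLib.SmoothReduced

/-! The opposite root groups of a rank-one system do not commute on any geometric fibre. -/

set_option autoImplicit false
set_option linter.style.haveILetI false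

universe u

open CategoryTheory CategoryTheory.Limits AlgebraicGeometry MonoidalCategory CartesianMonoidalCategory
open scoped MonObj TensorProduct

noncomputable section

attribute [-instance] ULift.module ULift.module'

namespace Groth.Agent.GrpSchLib.RankOne

/-- The additive group is smooth. -/
theorem smooth_ga (S : Scheme.{u}) : Smooth (Red.Ga S).hom := by
  let R := ULift.{u} ℤ
  haveI : Smooth Red.GaZ.{u}.hom := by
    show Smooth (Spec.map (CommRingCat.ofHom (algebraMap R (SymmetricAlgebra R R))))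
    rw [HasRingHomProperty.Spec_iff (P := @Smooth)]
    show RingHom.Smooth (algebraMap R (SymmetricAlgebra R R))
    rw [RingHom.smooth_algebraMap]
    haveI : Algebra.Smooth R (MvPolynomial PUnit.{1} R) := ⟨inferInstance, inferInstance⟩
    exact Algebra.Smooth.of_equiv
      (SymmetricAlgebra.equivMvPolynomial (Module.Basis.singleton PUnit.{1} R)).symm
  exact inferInstanceAs (Smooth (pullback.snd Red.GaZ.hom _))

/-- The additive group over a field, pulled back from any base, is irreducible. -/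
theorem irreducible_ga {S : Scheme.{u}} {K : Type u} [Field K] (q : Spec (CommRingCat.of K) ⟶ S) :
    IrreducibleSpace ↥(Red.bc q (Red.Ga S)).left := by
  let R := ULift.{u} ℤ
  let : Algebra R K := ((algebraMap ℤ K).comp (ULift.ringEquiv.toRingHom)).toAlgebra
  let A := SymmetricAlgebra R R
  let t := IsTerminal.from specULiftZIsTerminal S
  have ht : q ≫ t = Spec.map (CommRingCat.ofHom (algebraMap R K)) := specULiftZIsTerminal.hom_ext _ _
  let e : (Red.bc q (Red.Ga S)).left ≅ Spec (CommRingCat.of (A ⊗[R] K)) :=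
    (pullbackLeftPullbackSndIso Red.GaZ.hom t q ≪≫ pullback.congrHom rfl ht) ≪≫ pullbackSpecIso R A K
  let f : A ⊗[R] K ≃+* Polynomial K :=
    ((Algebra.TensorProduct.comm R A K).toRingEquiv.trans
      (Algebra.TensorProduct.congr (AlgEquiv.refl : K ≃ₐ[K] K)
        ((SymmetricAlgebra.equivMvPolynomial (Module.Basis.singleton PUnit.{1} R)).trans
          (MvPolynomial.uniqueAlgEquiv R PUnit.{1}))).toRingEquiv).trans (polyEquivTensor' R K).symm.toRingEquiv
  haveI : IsDomain (A ⊗[R] K) := MulEquiv.isDomain (Polynomial K) f.toMulEquiv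
  exact e.hom.homeomorph.irreducibleSpace_iff.mpr inferInstance

/-- A morphism multiplicative on points is a homomorphism. -/
theorem isMonHom_of_comp {S : Scheme.{u}} {A B : Over S} [GrpObj A] [GrpObj B] (φ : A ⟶ B)
    (h : ∀ (Y : Over S) (a b : Y ⟶ A), (a * b) ≫ φ = (a ≫ φ) * (b ≫ φ)) : IsMonHom φ where
  one_hom := by
    have h1 := h _ (1 : 𝟙_ (Over S) ⟶ A) 1
    rw [_root_.one_mul] at h1
    have h2 : (1 : 𝟙_ (Over S) ⟶ A) ≫ φ = 1 := left_eq_mul.mp h1
    simpa [Hom.one_def] using h2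
  mul_hom := by
    have h1 := h _ (fst A A) (snd A A)
    simpa [Hom.mul_def] using h1

/-- Reduced sources factor through a closed immersion containing the closed points of their image. -/
theorem exists_fac_of_closedPoints {W X Y : Scheme.{u}} [AlgebraicGeometry.IsReduced W] [JacobsonSpace ↥W]
    (i : X ⟶ Y) [IsClosedImmersion i] (c : W ⟶ Y) (h : ∀ w ∈ closedPoints ↥W, c w ∈ Set.range i) :
    ∃ l : W ⟶ X, l ≫ i = c := by
  let p := pullback.fst c i
  haveI : Surjective p := ⟨fun w => by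
    have hcl : IsClosed (c ⁻¹' Set.range i) := i.isClosedEmbedding.isClosed_range.preimage c.continuous
    have hall : Set.univ ⊆ c ⁻¹' Set.range i := by
      rw [← closure_closedPoints]
      exact hcl.closure_subset_iff.mpr fun x hx => h x hx
    obtain ⟨x, hx⟩ := hall (Set.mem_univ w)
    obtain ⟨z, hz, -⟩ := Scheme.Pullback.exists_preimage_pullback (f := c) (g := i) w x hx.symm
    exact ⟨z, hz⟩⟩
  haveI : IsIso p := isIso_of_isClosedImmersion_of_surjective p
  exact ⟨inv p ≫ pullback.snd c i, by rw [Category.assoc, ← pullback.condition, IsIso.inv_hom_id_assoc]⟩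

/-- A torus is of multiplicative type. -/
theorem isMultTypeFT_of_isTorus {S : Scheme.{u}} {T : Over S} [GrpObj T] (hT : Red.IsTorus T) :
    SGA3x.IsMultTypeFT T := by
  obtain ⟨S', f, hf, hs, hqc, hloc⟩ := hT
  refine ⟨S', f, hf, hs, hqc, fun s => ?_⟩
  obtain ⟨U, hU, r, he⟩ := hloc s
  exact ⟨U, hU, Fin r → ℤ, inferInstance, inferInstance, he⟩

variable {S : Scheme.{u}} {G T : Over S} [GrpObj G] [GrpObj T] {i : T ⟶ G} [IsMonHom i]
  {α : T ⟶ Red.Gm S} {pp pm : Red.Ga S ⟶ G} [IsMonHom pp] [IsMonHom pm]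

theorem theta_map {U : Scheme.{u}} (q : U ⟶ S) {Y : Over U} {H H' : Over S} (a : Y ⟶ Red.bc q H) (f : H ⟶ H') :
    DSPtsLib.theta q (a ≫ (Over.pullback q).map f) = DSPtsLib.theta q a ≫ f :=
  (Over.mapPullbackAdj q).homEquiv_naturality_right_symm a f

theorem theta_conj {U : Scheme.{u}} (q : U ⟶ S) {Y : Over U} {H H' : Over S} [GrpObj H'] (g : Y ⟶ Red.bc q H')
    (v : Y ⟶ Red.bc q H) (f : H ⟶ H') :
    DSPtsLib.theta q (g * (v ≫ (Over.pullback q).map f) * g⁻¹) =
      DSPtsLib.theta q g * (DSPtsLib.theta q v ≫ f) * (DSPtsLib.theta q g)⁻¹ := by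
  rw [DSPtsLib.theta_mul, DSPtsLib.theta_mul, theta_map,
    show DSPtsLib.theta q g⁻¹ = (DSPtsLib.theta q g)⁻¹ from
      map_inv (MonoidHom.mk' (DSPtsLib.theta q) (DSPtsLib.theta_mul q)) g]

theorem comp_conj {W P G' : Over S} [GrpObj G'] (p : P ⟶ W) (a b : W ⟶ G') :
    p ≫ (a * b * a⁻¹) = (p ≫ a) * (p ≫ b) * (p ≫ a)⁻¹ := by
  rw [MonObj.comp_mul, MonObj.comp_mul, GrpObj.comp_inv]

theorem isImmersion_root (hΩ : IsOpenImmersion (cellMap i pp pm).left) : IsImmersion pp.left := by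
  let z : Red.Ga S ⟶ (Red.Ga S ⊗ T) ⊗ Red.Ga S := lift (lift 1 1) (𝟙 _)
  have hz : z ≫ cellMap i pp pm = pp := by
    rw [cell_comp, MonObj.one_comp, MonObj.one_comp, _root_.one_mul, _root_.one_mul, Category.id_comp]
  haveI : IsImmersion (z.left ≫ (snd (Red.Ga S ⊗ T) (Red.Ga S)).left) := by
    rw [← Over.comp_left, lift_snd, Over.id_left]
    infer_instance
  haveI : IsImmersion z.left := IsImmersion.of_comp z.left (snd (Red.Ga S ⊗ T) (Red.Ga S)).left
  haveI := hΩ
  rw [← hz, Over.comp_left]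
  exact inferInstanceAs (IsImmersion (z.left ≫ (cellMap i pp pm).left))

theorem conj_root (hG : Red.IsReductive G) (hΩ : IsOpenImmersion (cellMap i pp pm).left)
    (hpp : ∀ (X : Over S) (t : X ⟶ T) (x : X ⟶ Red.Ga S), ∃ x' : X ⟶ Red.Ga S,
      x' ≫ pp = (t ≫ i) * (x ≫ pp) * (t ≫ i)⁻¹ ∧ Red.gaFn x' = Red.gmFn (t ≫ α) * Red.gaFn x)
    {K : Type u} [Field K] [IsAlgClosed K] {b : Spec (CommRingCat.of K) ⟶ S}
    (hc : ∀ x y : Over.mk b ⟶ Red.Ga S, (x ≫ pp) * (y ≫ pm) = (y ≫ pm) * (x ≫ pp))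
    (g : Over.mk b ⟶ G) (v : Over.mk b ⟶ Red.Ga S) :
    ∃ v' : Over.mk b ⟶ Red.Ga S, g * (v ≫ pp) * g⁻¹ = v' ≫ pp := by
  let Q : (Over.mk b ⟶ G) → Prop := fun g => ∀ v, ∃ v' : Over.mk b ⟶ Red.Ga S, g * (v ≫ pp) * g⁻¹ = v' ≫ pp
  have Qmul : ∀ g h, Q g → Q h → Q (g * h) := fun g h hg hh v => by
    obtain ⟨v₁, e₁⟩ := hh v
    obtain ⟨v₂, e₂⟩ := hg v₁
    exact ⟨v₂, by rw [← e₂, ← e₁]; group⟩
  have Qpp : ∀ d : Over.mk b ⟶ Red.Ga S, Q (d ≫ pp) := fun d v =>
    ⟨d * v * d⁻¹, by rw [MonObj.mul_comp, MonObj.mul_comp, GrpObj.inv_comp]⟩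
  have Qpm : ∀ a : Over.mk b ⟶ Red.Ga S, Q (a ≫ pm) := fun a v => ⟨v, by rw [← hc v a, mul_inv_cancel_right]⟩
  have Qt : ∀ t : Over.mk b ⟶ T, Q (t ≫ i) := fun t v => by
    obtain ⟨v', e, -⟩ := hpp _ t v
    exact ⟨v', e.symm⟩
  obtain ⟨a, t, d, a', t', d', e⟩ := exists_cell_translate hG hΩ g
  have hg : g = ((a' ≫ pm) * (t' ≫ i) * (d' ≫ pp)) * ((d⁻¹ ≫ pp) * (t⁻¹ ≫ i) * (a⁻¹ ≫ pm)) := by
    rw [← e, GrpObj.inv_comp, GrpObj.inv_comp, GrpObj.inv_comp]
    group
  have : Q g := by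
    rw [hg]
    exact Qmul _ _ (Qmul _ _ (Qmul _ _ (Qpm _) (Qt _)) (Qpp _)) (Qmul _ _ (Qmul _ _ (Qpp _) (Qt _)) (Qpm _))
  exact this v

theorem hasNoSubtorus_ga {K : Type u} [Field K] (q : Spec (CommRingCat.of K) ⟶ S) :
    Red.HasNoSubtorus K (Red.bc q (Red.Ga S)) := by
  intro T' _ j _ _ hT'
  let φ : (Red.bc q (Red.Ga S)) ⟶ Red.Ga (Spec (CommRingCat.of K)) :=
    GaPts.ptOfFn (T := (Red.bc q (Red.Ga S))) (Red.gaFn (X := (Over.map q).obj (Red.bc q (Red.Ga S))) (DSPtsLib.theta q (𝟙 (Red.bc q (Red.Ga S)))))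
  have hval : ∀ {Y : Over (Spec (CommRingCat.of K))} (a : Y ⟶ (Red.bc q (Red.Ga S))),
      Red.gaFn (a ≫ φ) = Red.gaFn (X := (Over.map q).obj Y) (DSPtsLib.theta q a) := by
    intro Y a
    rw [GaPts.gaFn_comp, GaPts.gaFn_ptOfFn]
    refine Eq.trans ?_ (congrArg Red.gaFn (DSPtsLib.theta_comp q a (𝟙 (Red.bc q (Red.Ga S)))).symm |>.trans (by rw [Category.comp_id]))
    exact (GaPts.gaFn_comp ((Over.map q).map a) _).symm
  haveI : IsMonHom φ := isMonHom_of_comp φ fun Y a b => GaPts.gaFn_injective (by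
    show Red.gaFn _ = Red.gaFn _
    rw [GaPts.gaFn_mul, hval, hval, hval, DSPtsLib.theta_mul]
    exact GaPts.gaFn_mul _ _)
  have h1 : j ≫ φ = 1 := Groth.Agent.S8392.result _ T' (isMultTypeFT_of_isTorus hT') (j ≫ φ)
  have h2 : j = 1 := by
    refine (DSPtsLib.theta_bijective q).injective (GaPts.gaFn_injective ?_)
    show Red.gaFn _ = Red.gaFn _
    rw [← hval, ← hval, h1]
    exact congrArg Red.gaFn (MonObj.one_comp φ).symm
  have h3 : 𝟙 T' = 1 := by
    rw [← cancel_mono j, h2, MonObj.comp_one, MonObj.comp_one]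
  rw [Hom.one_def] at h3
  refine ⟨η[T'].left, ?_, ?_⟩
  · exact (congrArg CommaMorphism.left h3).symm
  · exact Over.w η[T']

/-- The opposite root groups do not commute on a geometric fibre. -/
theorem exists_not_commute (hG : Red.IsReductive G) (hΩ : IsOpenImmersion (cellMap i pp pm).left)
    (hpp : ∀ (X : Over S) (t : X ⟶ T) (x : X ⟶ Red.Ga S), ∃ x' : X ⟶ Red.Ga S,
      x' ≫ pp = (t ≫ i) * (x ≫ pp) * (t ≫ i)⁻¹ ∧ Red.gaFn x' = Red.gmFn (t ≫ α) * Red.gaFn x)
    (s : S) :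
    ∃ (X : Over (Spec (CommRingCat.of (AlgebraicClosure (S.residueField s)))))
      (x y : X ⟶ Red.bc (Red.geomPt s) (Red.Ga S)),
      (x ≫ (Over.pullback (Red.geomPt s)).map pp) * (y ≫ (Over.pullback (Red.geomPt s)).map pm) ≠
        (y ≫ (Over.pullback (Red.geomPt s)).map pm) * (x ≫ (Over.pullback (Red.geomPt s)).map pp) := by
  by_contra! hcomm
  let K := AlgebraicClosure (S.residueField s)
  let q : Spec (CommRingCat.of K) ⟶ S := Red.geomPt s
  let U := Red.bc q (Red.Ga S)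
  let iU : U ⟶ Red.bc q G := (Over.pullback q).map pp
  obtain ⟨-, hsm, -, hrad⟩ := hG.2.2 s
  haveI : IsImmersion iU.left :=
    MorphismProperty.baseChange_map (P := @IsImmersion) q pp (isImmersion_root hΩ)
  haveI hcl : IsClosedImmersion iU.left := Groth.Agent.S0351.result K U (Red.bc q G) iU
  haveI hUs : Smooth U.hom := by
    haveI := smooth_ga S
    exact inferInstanceAs (Smooth (pullback.snd (Red.Ga S).hom q))
  haveI := irreducible_ga q
  have hnormal : AlgGrp.IsNormalHom iU := by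
    let Gb := Red.bc q G
    let W := Gb ⊗ U
    let c : W ⟶ Gb := fst _ _ * (snd _ _ ≫ iU) * (fst _ _)⁻¹
    haveI : Smooth Gb.hom := hsm
    haveI : Smooth W.hom := inferInstanceAs (Smooth (pullback.fst Gb.hom U.hom ≫ Gb.hom))
    haveI : AlgebraicGeometry.IsReduced W.left := isReduced_of_smooth_field W.hom
    haveI : JacobsonSpace ↥W.left := LocallyOfFiniteType.jacobsonSpace W.hom
    obtain ⟨l, hl⟩ := exists_fac_of_closedPoints iU.left c.left fun w hw => by
      let p : Over.mk (𝟙 (Spec (CommRingCat.of K))) ⟶ W :=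
        Over.homMk (pointOfClosedPoint W.hom w hw) (pointOfClosedPoint_comp W.hom w hw)
      let b : Spec (CommRingCat.of K) ⟶ S := 𝟙 _ ≫ q
      have hc : ∀ x y : Over.mk b ⟶ Red.Ga S, (x ≫ pp) * (y ≫ pm) = (y ≫ pm) * (x ≫ pp) := fun x y => by
        obtain ⟨x', rfl⟩ := (DSPtsLib.theta_bijective q (Y := Over.mk (𝟙 _))).surjective x
        obtain ⟨y', rfl⟩ := (DSPtsLib.theta_bijective q (Y := Over.mk (𝟙 _))).surjective y
        have h := congrArg (DSPtsLib.theta q) (hcomm _ x' y')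
        rw [DSPtsLib.theta_mul, DSPtsLib.theta_mul, theta_map, theta_map] at h
        exact h
      obtain ⟨v', e⟩ := conj_root hG hΩ hpp (b := b) hc (DSPtsLib.theta q (p ≫ fst _ _))
        (DSPtsLib.theta q (p ≫ snd _ _))
      obtain ⟨v'', rfl⟩ := (DSPtsLib.theta_bijective q (Y := Over.mk (𝟙 _))).surjective v'
      have hp : p ≫ c = v'' ≫ iU := by
        refine (DSPtsLib.theta_bijective q).injective ?_
        refine Eq.trans ?_ (e.trans (theta_map q v'' pp).symm)
        exact (congrArg (DSPtsLib.theta q) (comp_conj p _ _)).trans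
          ((congrArg (fun z => DSPtsLib.theta q ((p ≫ fst _ _) * z * (p ≫ fst _ _)⁻¹)) (Category.assoc _ _ _).symm).trans
            (theta_conj q (p ≫ fst _ _) (p ≫ snd _ _) pp))
      refine ⟨v''.left (IsLocalRing.closedPoint K), ?_⟩
      have := congrArg (fun k : Over.mk (𝟙 (Spec (CommRingCat.of K))) ⟶ Gb => k.left (IsLocalRing.closedPoint K)) hp
      refine this.symm.trans ?_
      show c.left (pointOfClosedPoint W.hom w hw (IsLocalRing.closedPoint K)) = c.left w
      exact congrArg _ (pointOfClosedPoint_apply W.hom w hw _)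
    intro T' g n
    refine ⟨lift g n ≫ Over.homMk l (by rw [← Over.w iU, ← Category.assoc, hl, Over.w c]), ?_⟩
    have hl' : (Over.homMk l (by rw [← Over.w iU, ← Category.assoc, hl, Over.w c]) : W ⟶ U) ≫ iU = c :=
      Over.OverMorphism.ext hl
    rw [Category.assoc, hl']
    simp [c, MonObj.comp_mul, GrpObj.comp_inv]
  haveI : IsIso U.hom := hrad U iU hcl hUs inferInstance hnormal (hasNoSubtorus_ga q)
  let Y : Over (Spec (CommRingCat.of K)) := Over.mk (𝟙 _)
  have hsub : ∀ a a' : Y ⟶ U, a = a' := fun a a' =>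
    Over.OverMorphism.ext ((cancel_mono U.hom).mp ((Over.w a).trans (Over.w a').symm))
  obtain ⟨a, ha⟩ := (DSPtsLib.theta_bijective q (Y := Y)).surjective (GaPts.ptOfFn 1 : (Over.map q).obj Y ⟶ Red.Ga S)
  obtain ⟨a', ha'⟩ := (DSPtsLib.theta_bijective q (Y := Y)).surjective (GaPts.ptOfFn 0 : (Over.map q).obj Y ⟶ Red.Ga S)
  have h01 : (1 : Γ(Spec (CommRingCat.of K), ⊤)) = 0 := by
    have := congrArg Red.gaFn ((ha.symm.trans (congrArg (DSPtsLib.theta q) (hsub a a'))).trans ha')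
    rw [GaPts.gaFn_ptOfFn, GaPts.gaFn_ptOfFn] at this
    exact this
  have := congrArg (Scheme.ΓSpecIso (CommRingCat.of K)).hom.hom h01
  rw [map_one, map_zero] at this
  exact one_ne_zero this

end Groth.Agent.GrpSchLib.RankOne
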