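import Groth.Agent.GrpSchLib.Cartier
import Groth.Agent.GrpSchLib.RankOneNonComm
import Groth.Agent.GrpSchLib.SmoothReduced
import Groth.Agent.GrpSchLib.FieldTop

/-! Points with values in an algebraically closed field detect morphisms out of smooth schemes. -/

open CategoryTheory AlgebraicGeometry Limits MonoidalCategory CartesianMonoidalCategory MonObj

namespace Groth.Agent.GrpSchLib.CharZeroPts

universe u

variable {k K : Type u} [Field k] [Field K] [Algebra k K]

noncomputable abbrev P (k K : Type u) [Field k] [Field K] [Algebra k K] : Over (Spec (CommRingCat.of k)) :=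
  Over.mk (Spec.map (CommRingCat.ofHom (algebraMap k K)))

theorem fac_of_points [IsAlgClosed K] {H A Y : Over (Spec (CommRingCat.of k))} [Smooth H.hom]
    (i : A ⟶ Y) [IsClosedImmersion i.left] (c : P k K ⊗ H ⟶ Y)
    (h : ∀ x : P k K ⟶ H, ∃ a : P k K ⟶ A, a ≫ i = lift (𝟙 _) x ≫ c) :
    ∃ l : P k K ⊗ H ⟶ A, l ≫ i = c := by
  let q : pullback (P k K).hom H.hom ⟶ Spec (CommRingCat.of K) := pullback.fst (P k K).hom H.hom
  haveI : Smooth q := inferInstanceAs (Smooth (pullback.fst (P k K).hom H.hom))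
  haveI : AlgebraicGeometry.IsReduced (P k K ⊗ H).left := isReduced_of_smooth_field q
  haveI : JacobsonSpace ↥(P k K ⊗ H).left := LocallyOfFiniteType.jacobsonSpace q
  obtain ⟨l, hl⟩ := RankOne.exists_fac_of_closedPoints (W := (P k K ⊗ H).left) i.left c.left fun w hw => by
    let s := (pointEquivClosedPoint q).symm ⟨w, hw⟩
    have hs1 : s.1 ≫ pullback.fst (P k K).hom H.hom = 𝟙 _ := s.2
    have hw' : (s.1 ≫ pullback.snd (P k K).hom H.hom) ≫ H.hom = (P k K).hom := by
      have := congrArg (fun t => t ≫ (P k K).hom) hs1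
      simp only [Category.assoc, pullback.condition] at this
      rw [Category.assoc]
      exact this.trans (Category.id_comp _)
    let x : P k K ⟶ H := Over.homMk (s.1 ≫ pullback.snd (P k K).hom H.hom) hw'
    obtain ⟨a, ha⟩ := h x
    have hlift : (lift (𝟙 (P k K)) x).left = s.1 := by
      apply pullback.hom_ext
      · rw [hs1]
        exact congrArg CommaMorphism.left (lift_fst (𝟙 (P k K)) x)
      · exact congrArg CommaMorphism.left (lift_snd (𝟙 (P k K)) x)
    have hpt : s.1 (IsLocalRing.closedPoint K) = w :=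
      congrArg Subtype.val ((pointEquivClosedPoint q).apply_symm_apply ⟨w, hw⟩)
    refine ⟨a.left (IsLocalRing.closedPoint K), ?_⟩
    have := congrArg (fun t : P k K ⟶ Y => t.left (IsLocalRing.closedPoint K)) ha
    simp only [Over.comp_left, Scheme.Hom.comp_base, TopCat.comp_app] at this
    rw [this, hlift, hpt]
  exact ⟨Over.homMk l (by rw [← Over.w i, ← Category.assoc, hl, Over.w c]), Over.OverMorphism.ext hl⟩

theorem hom_ext_of_points [IsAlgClosed K] {H Y : Over (Spec (CommRingCat.of k))} [Smooth H.hom]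
    [IsSeparated Y.hom] (u v : P k K ⊗ H ⟶ Y)
    (h : ∀ x : P k K ⟶ H, lift (𝟙 _) x ≫ u = lift (𝟙 _) x ≫ v) : u = v := by
  haveI : IsClosedImmersion (lift (𝟙 Y) (𝟙 Y)).left :=
    inferInstanceAs (IsClosedImmersion (pullback.diagonal Y.hom))
  obtain ⟨l, hl⟩ := fac_of_points (lift (𝟙 Y) (𝟙 Y)) (lift u v) fun x =>
    ⟨lift (𝟙 _) x ≫ u, by rw [comp_lift, comp_lift, Category.comp_id, h x]⟩
  have h1 := congrArg (fun t => t ≫ fst Y Y) hl
  have h2 := congrArg (fun t => t ≫ snd Y Y) hl
  simp only [Category.assoc, lift_fst, lift_snd, Category.comp_id] at h1 h2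
  exact h1.symm.trans h2

theorem isSeparated_grp (G : Over (Spec (CommRingCat.of k))) [GrpObj G] : IsSeparated G.hom :=
  (isSeparated_iff G.hom).mpr ((GrpSchLib.diagonal_iff_unit @IsClosedImmersion).mpr inferInstance)

end Groth.Agent.GrpSchLib.CharZeroPts
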