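import Groth.Agent.GrpSchLib.FieldAllComp
import Groth.Prelude.Def_SGA3x
import Groth.Prelude.Def_Red

/-! The union of the neutral components of the fibres. -/

universe u

open CategoryTheory Limits AlgebraicGeometry MonoidalCategory CartesianMonoidalCategory MonObj GrpObj
  TopologicalSpace
open scoped CategoryTheory.Obj

namespace Groth.Agent.GrpSchLib.Neutral

variable {S : Scheme.{u}} (G : Over S) [GrpObj G]

/-- The fibre group over a point. -/
noncomputable abbrev fib (s : S) : Over (Spec (CommRingCat.of (S.residueField s))) :=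
  (Over.pullback (S.fromSpecResidueField s)).obj G

/-- The unit section, as a morphism of schemes. -/
noncomputable abbrev unit : S ⟶ G.left := (η[G]).left

@[simp]
theorem hom_unit (s : S) : G.hom (unit G s) = s :=
  congrArg (fun f : S ⟶ S => f s) (Over.w η[G])

omit [GrpObj G] in
theorem map_fst {A B : Over S} (g : A ⟶ B) (s : S) (z : ((Over.pullback (S.fromSpecResidueField s)).obj A).left) :
    pullback.fst B.hom (S.fromSpecResidueField s)
        (((Over.pullback (S.fromSpecResidueField s)).map g).left z) =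
      g.left (pullback.fst A.hom (S.fromSpecResidueField s) z) :=
  congrArg (fun m : ((Over.pullback (S.fromSpecResidueField s)).obj A).left ⟶ B.left => m z)
    (pullback.lift_fst _ _ _)

theorem fst_unit (s : S) (z : Spec (S.residueField s)) :
    pullback.fst G.hom (S.fromSpecResidueField s) (η[fib G s].left z) = unit G s := by
  have h : η[fib G s] = Functor.LaxMonoidal.ε (Over.pullback (S.fromSpecResidueField s)) ≫
      (Over.pullback (S.fromSpecResidueField s)).map η[G] := rfl
  rw [h, left_comp_apply, map_fst]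
  refine congrArg (η[G]).left ?_
  rw [show pullback.fst (𝟙_ (Over S)).hom (S.fromSpecResidueField s) =
    pullback.fst (𝟙_ (Over S)).hom (S.fromSpecResidueField s) ≫ (𝟙_ (Over S)).hom from
      (Category.comp_id _).symm, pullback.condition, Scheme.Hom.comp_apply]
  exact Scheme.fromSpecResidueField_apply _ _

theorem connectedComponentIn_eq (s : S) :
    connectedComponentIn (G.hom ⁻¹' {s}) (unit G s) =
      pullback.fst G.hom (S.fromSpecResidueField s) ''
        connectedComponent (η[fib G s].left (IsLocalRing.closedPoint (S.residueField s))) := by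
  let π := pullback.fst G.hom (S.fromSpecResidueField s)
  have hπ : Topology.IsEmbedding π := (G.hom.fiberι s).isEmbedding
  have hr : Set.range π = G.hom ⁻¹' {s} := Scheme.Hom.range_fiberι G.hom s
  refine subset_antisymm ?_ ?_
  · have hsub : connectedComponentIn (G.hom ⁻¹' {s}) (unit G s) ⊆ Set.range π :=
      hr ▸ connectedComponentIn_subset _ _
    rw [← Set.image_preimage_eq_of_subset hsub]
    refine Set.image_mono ?_
    refine _root_.IsPreconnected.subset_connectedComponent ?_ ?_
    · rw [← hπ.isInducing.isPreconnected_image, Set.image_preimage_eq_of_subset hsub]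
      exact isPreconnected_connectedComponentIn
    · show π _ ∈ connectedComponentIn (G.hom ⁻¹' {s}) (unit G s)
      rw [fst_unit]
      exact mem_connectedComponentIn (hom_unit G s)
  · refine (isPreconnected_connectedComponent.image _ π.continuous.continuousOn).subset_connectedComponentIn
      ⟨_, mem_connectedComponent, fst_unit G s _⟩ ?_
    rw [← hr]
    exact Set.image_subset_range _ _

theorem mem_neutralSet_iff {x : G.left} :
    x ∈ SGA3x.neutralSet G ↔
      x ∈ connectedComponentIn (G.hom ⁻¹' {G.hom x}) (unit G (G.hom x)) := by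
  refine ⟨fun h => ?_, fun h => Set.mem_iUnion.mpr ⟨(G.hom x : S), h⟩⟩
  obtain ⟨p, hp⟩ := Set.mem_iUnion.mp h
  have : G.hom x = (𝟙_ (Over S)).hom p :=
    (connectedComponentIn_subset (G.hom ⁻¹' {(𝟙_ (Over S)).hom p}) ((η[G]).left p) hp : _)
  rw [this]
  exact hp

theorem unit_mem_neutralSet (s : S) : unit G s ∈ SGA3x.neutralSet G := by
  rw [mem_neutralSet_iff, hom_unit]
  exact mem_connectedComponentIn (hom_unit G s)

/-- A point of a neutral component is a product of two points of any neighbourhood of the unit. -/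
theorem exists_mul {x : G.left} (hx : x ∈ SGA3x.neutralSet G) (W : G.left.Opens)
    (he : unit G (G.hom x) ∈ W) :
    ∃ p : (G ⊗ G).left, (fst G G).left p ∈ W ∧ (snd G G).left p ∈ W ∧ μ[G].left p = x := by
  let F := Over.pullback (S.fromSpecResidueField (G.hom x))
  let π := pullback.fst G.hom (S.fromSpecResidueField (G.hom x))
  rw [mem_neutralSet_iff, connectedComponentIn_eq] at hx
  obtain ⟨y, hy, hyx⟩ := hx
  let V : Set (fib G (G.hom x)).left := π ⁻¹' (W : Set G.left)
  have hV : IsOpen V := W.isOpen.preimage π.continuous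
  have heV : η[fib G (G.hom x)].left (IsLocalRing.closedPoint (S.residueField (G.hom x))) ∈ V := by
    show π _ ∈ W
    rw [fst_unit]
    exact he
  obtain ⟨c, hc, hce⟩ := exists_isMaxPt
    (η[fib G (G.hom x)].left (IsLocalRing.closedPoint (S.residueField (G.hom x))))
  rw [connectedComponent_one (G := fib G (G.hom x)) hc hce] at hy
  obtain ⟨p, ⟨hp1, hp2⟩, hp⟩ := exists_mul_eq_of_specializes
    (specializes_iff_mem_closure.mpr hy) hV heV (hce.mem_open hV heV)
  refine ⟨pullback.fst (G ⊗ G).hom (S.fromSpecResidueField (G.hom x))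
    ((Functor.LaxMonoidal.μ F G G).left p), ?_, ?_, ?_⟩
  · rw [← map_fst, ← left_comp_apply, Functor.Monoidal.μ_fst]
    exact hp1
  · rw [← map_fst, ← left_comp_apply, Functor.Monoidal.μ_snd]
    exact hp2
  · rw [← map_fst, ← left_comp_apply]
    have h : μ[F.obj G] = Functor.LaxMonoidal.μ F G G ≫ F.map μ[G] := rfl
    rw [← h]
    exact (congrArg π hp).trans hyx

/-- Near every point of the base the neutral components lie in a compact set. -/
theorem exists_compact (s : S) : ∃ (V : S.Opens) (C : Set G.left), s ∈ V ∧ IsAffineOpen V ∧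
    IsCompact C ∧ C ⊆ G.hom ⁻¹' (V : Set S) ∧ SGA3x.neutralSet G ∩ G.hom ⁻¹' (V : Set S) ⊆ C := by
  obtain ⟨S₁, hS₁, hs₁, -⟩ := exists_isAffineOpen_mem_and_subset (show s ∈ (⊤ : S.Opens) from trivial)
  obtain ⟨U, hU, heU, hUS⟩ := exists_isAffineOpen_mem_and_subset
    (show unit G s ∈ G.hom ⁻¹ᵁ S₁ by show G.hom (unit G s) ∈ S₁; rwa [hom_unit])
  obtain ⟨V, hV, hsV, hVU⟩ := exists_isAffineOpen_mem_and_subset
    (show s ∈ S₁ ⊓ unit G ⁻¹ᵁ U from ⟨hs₁, heU⟩)
  let W : G.left.Opens := U ⊓ G.hom ⁻¹ᵁ V
  have hWV : W ≤ G.hom ⁻¹ᵁ V := inf_le_right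
  haveI : IsAffine (S₁ : Scheme.{u}) := hS₁
  haveI : IsAffine (U : Scheme.{u}) := hU
  haveI : IsAffine (V : Scheme.{u}) := hV
  have hW : IsAffineOpen W := by
    have hU' : U ≤ G.hom ⁻¹ᵁ S₁ := hUS
    have h1 : (G.hom.resLE S₁ U hU') ⁻¹ᵁ (S₁.ι ⁻¹ᵁ V) = U.ι ⁻¹ᵁ (G.hom ⁻¹ᵁ V) := by
      rw [← Scheme.Hom.comp_preimage, Scheme.Hom.resLE_comp_ι, Scheme.Hom.comp_preimage]
    have h2 : IsAffineOpen (S₁.ι ⁻¹ᵁ V) := hV.preimage_of_isOpenImmersion S₁.ι (by
      rw [Scheme.Opens.opensRange_ι]; exact fun z hz => (hVU hz).1)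
    haveI : IsAffineHom (G.hom.resLE S₁ U hU') := isAffineHom_of_isAffine _
    have h3 := h2.preimage (G.hom.resLE S₁ U hU')
    rw [h1] at h3
    have h4 := h3.image_of_isOpenImmersion U.ι
    rwa [Scheme.Hom.image_preimage_eq_opensRange_inf, Scheme.Opens.opensRange_ι] at h4
  haveI : IsAffine (W : Scheme.{u}) := hW
  let a := G.hom.resLE V W hWV
  haveI : IsAffineHom a := isAffineHom_of_isAffine _
  let m : pullback a a ⟶ (G ⊗ G).left :=
    pullback.map a a G.hom G.hom W.ι W.ι V.ι (Scheme.Hom.resLE_comp_ι _ _)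
      (Scheme.Hom.resLE_comp_ι _ _)
  refine ⟨V, Set.range (m ≫ μ[G].left), hsV, hV, isCompact_range (m ≫ μ[G].left).continuous, ?_, ?_⟩
  · rintro _ ⟨q, rfl⟩
    show G.hom ((m ≫ μ[G].left) q) ∈ V
    have h : (m ≫ μ[G].left) ≫ G.hom = (pullback.fst a a ≫ a) ≫ V.ι := by
      rw [Category.assoc, Over.w μ[G], show (G ⊗ G).hom = pullback.fst G.hom G.hom ≫ G.hom from rfl,
        Category.assoc, Scheme.Hom.resLE_comp_ι]
      exact pullback.lift_fst_assoc _ _ _ _
    rw [← Scheme.Hom.comp_apply, h, Scheme.Hom.comp_apply]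
    exact ((pullback.fst a a ≫ a) q).2
  · rintro x ⟨hxN, hxV⟩
    obtain ⟨p, hp1, hp2, hp⟩ := exists_mul G hxN W
      ⟨(hVU hxV).2, by show G.hom (unit G _) ∈ V; rw [hom_unit]; exact hxV⟩
    have hr : Set.range m = (fst G G).left ⁻¹' Set.range W.ι ∩ (snd G G).left ⁻¹' Set.range W.ι :=
      Scheme.Pullback.range_map _ _ _ _ _ _ _ _ _
    obtain ⟨q, hq⟩ : p ∈ Set.range m := by
      rw [hr, Scheme.Opens.range_ι]; exact ⟨hp1, hp2⟩
    exact ⟨q, by rw [Scheme.Hom.comp_apply, hq]; exact hp⟩

theorem neutralSet_eq_univ (hconn : ∀ s : S, _root_.IsPreconnected (G.hom ⁻¹' {s})) :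
    SGA3x.neutralSet G = Set.univ := by
  refine Set.eq_univ_of_forall fun x => (mem_neutralSet_iff G).mpr ?_
  exact (hconn _).subset_connectedComponentIn (hom_unit G (G.hom x)) subset_rfl rfl


theorem bc_unit {S' : Scheme.{u}} (f : S' ⟶ S) (s' : S') :
    pullback.fst G.hom f (unit (Red.bc f G) s') = unit G (f s') := by
  have h : η[Red.bc f G] = Functor.LaxMonoidal.ε (Over.pullback f) ≫ (Over.pullback f).map η[G] := rfl
  show pullback.fst G.hom f ((η[Red.bc f G]).left s') = _
  have h1 : ((Over.pullback f).map η[G]).left ≫ pullback.fst G.hom f =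
      pullback.fst (𝟙_ (Over S)).hom f ≫ (η[G]).left := pullback.lift_fst _ _ _
  have h2 : (Functor.LaxMonoidal.ε (Over.pullback f)).left ≫ pullback.fst (𝟙_ (Over S)).hom f = f := by
    have h4 : (Functor.LaxMonoidal.ε (Over.pullback f)).left ≫ pullback.snd (𝟙_ (Over S)).hom f = 𝟙 _ :=
      Over.w (Functor.LaxMonoidal.ε (Over.pullback f))
    have h5 : pullback.fst (𝟙_ (Over S)).hom f = pullback.snd (𝟙_ (Over S)).hom f ≫ f := by
      rw [← pullback.condition]
      exact (Category.comp_id _).symm
    rw [h5, reassoc_of% h4]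
  have h3 : (η[Red.bc f G]).left ≫ pullback.fst G.hom f = f ≫ (η[G]).left := by
    rw [h, Over.comp_left, Category.assoc, h1, reassoc_of% h2]
  exact congrArg (fun m : S' ⟶ G.left => m s') h3

/-- Formation of the neutral components commutes with base change. -/
theorem neutralSet_bc {S' : Scheme.{u}} (f : S' ⟶ S) :
    SGA3x.neutralSet (Red.bc f G) = pullback.fst G.hom f ⁻¹' SGA3x.neutralSet G := by
  let q := pullback.fst G.hom f
  let r := pullback.snd G.hom f
  have hqr : ∀ z, G.hom (q z) = f (r z) := fun z =>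
    congrArg (fun m : pullback G.hom f ⟶ S => m z) pullback.condition
  ext x
  refine ⟨fun hx => ?_, fun hx => ?_⟩
  · rw [mem_neutralSet_iff] at hx
    refine (mem_neutralSet_iff G).mpr ?_
    have hC : _root_.IsPreconnected (q '' connectedComponentIn ((Red.bc f G).hom ⁻¹' {(Red.bc f G).hom x})
        (unit (Red.bc f G) ((Red.bc f G).hom x))) :=
      isPreconnected_connectedComponentIn.image _ q.continuous.continuousOn
    refine hC.subset_connectedComponentIn ⟨_, mem_connectedComponentIn (hom_unit _ _), ?_⟩ ?_ ⟨x, hx, rfl⟩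
    · rw [show q x = pullback.fst G.hom f x from rfl, bc_unit]
      exact congrArg (unit G) (hqr x).symm
    · rintro _ ⟨z, hz, rfl⟩
      show G.hom (q z) = G.hom (q x)
      rw [hqr, hqr]
      exact congrArg f (connectedComponentIn_subset ((Red.bc f G).hom ⁻¹' {(Red.bc f G).hom x}) _ hz : _)
  · rw [Set.mem_preimage, mem_neutralSet_iff, connectedComponentIn_eq] at hx
    rw [mem_neutralSet_iff]
    let s' : S' := r x
    let s : S := G.hom (q x)
    let H := fib G s
    let π := pullback.fst G.hom (S.fromSpecResidueField s)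
    obtain ⟨c, hc, hce⟩ := exists_isMaxPt
      (η[fib G s].left (IsLocalRing.closedPoint (S.residueField s)))
    obtain ⟨T, j, hj, hjr⟩ := exists_over_range_eq (closure {c}) isClosed_closure
    have hgi := geometricallyIrreducible_one (G := fib G s) hc hce j hjr
    rw [connectedComponent_one (G := fib G s) hc hce, ← hjr] at hx
    obtain ⟨_, ⟨yT, rfl⟩, hyx⟩ := hx
    obtain ⟨eT, heT⟩ : η[fib G s].left (IsLocalRing.closedPoint (S.residueField s)) ∈ Set.range j.left :=
      hjr ▸ hce.mem_closure
    have hfs : f s' = s := (hqr x).symm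
    let φ : Spec (S'.residueField s') ⟶ Spec (S.residueField s) :=
      Spec.map ((S.residueFieldCongr hfs).inv ≫ f.residueFieldMap s')
    have hφ : φ ≫ S.fromSpecResidueField s = S'.fromSpecResidueField s' ≫ f := by
      simp only [φ, Spec.map_comp, Category.assoc]
      rw [Scheme.residueFieldCongr_inv, Scheme.residueFieldCongr_fromSpecResidueField,
        Scheme.Hom.SpecMap_residueFieldMap_fromSpecResidueField]
    haveI : IrreducibleSpace ↥(pullback T.hom φ) :=
      GeometricallyIrreducible.geometrically_irreducibleSpace _ _ _ (IsPullback.of_hasPullback _ _)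
    let ψ : pullback T.hom φ ⟶ (Red.bc f G).left :=
      pullback.lift (pullback.fst T.hom φ ≫ j.left ≫ π) (pullback.snd T.hom φ ≫ S'.fromSpecResidueField s') (by
        rw [Category.assoc, Category.assoc, Category.assoc, pullback.condition (f := G.hom), ← hφ,
          ← pullback.condition_assoc]
        exact congrArg (pullback.fst T.hom φ ≫ ·) (Over.w_assoc j _))
    have hmem : ∀ z ∈ (Red.bc f G).hom ⁻¹' {s'}, ∀ y, π (j.left y) = q z → z ∈ Set.range ψ := by
      intro z hz y hy
      -- the point `z` is determined by a point of the fibre product of its images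
      let zT : Spec ((Red.bc f G).left.residueField z) ⟶ (Red.bc f G).left :=
        (Red.bc f G).left.fromSpecResidueField z
      let κ := Spec ((Red.bc f G).left.residueField z)
      have hz' : r z = s' := hz
      let θ : S'.residueField s' ⟶ (Red.bc f G).left.residueField z :=
        (S'.residueFieldCongr hz').inv ≫ r.residueFieldMap z
      have hp : Spec.map θ ≫ S'.fromSpecResidueField s' = zT ≫ r := by
        simp only [θ, Spec.map_comp, Category.assoc]
        rw [Scheme.residueFieldCongr_inv, Scheme.residueFieldCongr_fromSpecResidueField,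
          Scheme.Hom.SpecMap_residueFieldMap_fromSpecResidueField]
        rfl
      have hbase : (Spec.map θ ≫ φ) ≫ S.fromSpecResidueField s = (zT ≫ q) ≫ G.hom := by
        rw [Category.assoc, hφ, reassoc_of% hp, Category.assoc, pullback.condition]
      let zH : κ ⟶ (fib G s).left := pullback.lift (zT ≫ q) (Spec.map θ ≫ φ) hbase.symm
      have hzH : zH (IsLocalRing.closedPoint _) = j.left y := by
        apply (G.hom.fiberι s).isEmbedding.injective
        show π (zH _) = π (j.left y)
        rw [hy, ← Scheme.Hom.comp_apply, pullback.lift_fst, Scheme.Hom.comp_apply]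
        exact congrArg q (Scheme.fromSpecResidueField_apply _ _)
      obtain ⟨w, hw⟩ : ∃ w : κ ⟶ T.left, w ≫ j.left = zH := by
        haveI : Nonempty ↥(pullback zH j.left) :=
          ⟨(Scheme.Pullback.exists_preimage_pullback (f := zH) (g := j.left) _ y hzH).choose⟩
        haveI : Surjective (pullback.fst zH j.left) := ⟨fun v =>
          ⟨Classical.arbitrary _, @Subsingleton.elim ↥κ inferInstance _ _⟩⟩
        haveI := isIso_of_isClosedImmersion_of_surjective (pullback.fst zH j.left)
        exact ⟨inv (pullback.fst zH j.left) ≫ pullback.snd _ _, by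
          rw [Category.assoc, ← pullback.condition, IsIso.inv_hom_id_assoc]⟩
      have hwφ : w ≫ T.hom = Spec.map θ ≫ φ := by
        rw [← Over.w j, reassoc_of% hw]
        exact pullback.lift_snd _ _ _
      refine ⟨pullback.lift w (Spec.map θ) hwφ (IsLocalRing.closedPoint _), ?_⟩
      have h : pullback.lift w (Spec.map θ) hwφ ≫ ψ = zT := by
        apply pullback.hom_ext
        · rw [Category.assoc, pullback.lift_fst, pullback.lift_fst_assoc, reassoc_of% hw]
          exact pullback.lift_fst _ _ _
        · rw [Category.assoc, pullback.lift_snd, pullback.lift_snd_assoc, hp]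
      rw [← Scheme.Hom.comp_apply, h]
      exact Scheme.fromSpecResidueField_apply _ _
    have hψ : _root_.IsPreconnected (Set.range ψ) := by
      rw [← Set.image_univ]
      exact ((IrreducibleSpace.isIrreducible_univ _).image _ ψ.continuous.continuousOn).isPreirreducible.isPreconnected
    have hsub : Set.range ψ ⊆ (Red.bc f G).hom ⁻¹' {s'} := by
      rintro _ ⟨w, rfl⟩
      show r (ψ w) = s'
      rw [← Scheme.Hom.comp_apply, pullback.lift_snd, Scheme.Hom.comp_apply]
      exact Scheme.fromSpecResidueField_apply _ _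
    refine hψ.subset_connectedComponentIn ?_ hsub (hmem x rfl yT hyx)
    refine hmem _ (hom_unit (Red.bc f G) s') eT ?_
    rw [heT, fst_unit, show q _ = pullback.fst G.hom f _ from rfl, bc_unit]
    exact congrArg (unit G) hfs.symm

/-- An open subgroup contains the neutral components and has the same ones. -/
theorem openSubgroup (H : Over S) [GrpObj H] (i : H ⟶ G) [IsMonHom i] [IsOpenImmersion i.left] :
    SGA3x.neutralSet G ⊆ Set.range i.left ∧ i.left '' SGA3x.neutralSet H = SGA3x.neutralSet G := by
  have hunit : ∀ s, i.left (unit H s) = unit G s := fun s =>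
    congrArg (fun m : 𝟙_ (Over S) ⟶ G => m.left s) (IsMonHom.one_hom i)
  have hfib : ∀ z, G.hom (i.left z) = H.hom z := fun z =>
    congrArg (fun m : H.left ⟶ S => m z) (Over.w i)
  have hsub : SGA3x.neutralSet G ⊆ Set.range i.left := by
    intro x hx
    obtain ⟨p, hp1, hp2, hp⟩ := exists_mul G hx i.left.opensRange ⟨_, hunit _⟩
    have hr : Set.range (i ⊗ₘ i).left =
        (fst G G).left ⁻¹' Set.range i.left ∩ (snd G G).left ⁻¹' Set.range i.left := by
      have e : (i ⊗ₘ i).left = pullback.map H.hom H.hom G.hom G.hom i.left i.left (𝟙 S)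
          (by rw [Category.comp_id, Over.w i]) (by rw [Category.comp_id, Over.w i]) := Over.tensorHom_left i i
      rw [e]
      exact Scheme.Pullback.range_map _ _ _ _ _ _ _ _ _
    obtain ⟨q, hq⟩ : p ∈ Set.range (i ⊗ₘ i).left := hr ▸ ⟨hp1, hp2⟩
    refine ⟨μ[H].left q, ?_⟩
    rw [← hp, ← hq, ← left_comp_apply, ← left_comp_apply, IsMonHom.mul_hom]
  refine ⟨hsub, subset_antisymm ?_ fun x hx => ?_⟩
  · rintro _ ⟨z, hz, rfl⟩
    rw [mem_neutralSet_iff] at hz
    rw [mem_neutralSet_iff, hfib]
    refine (isPreconnected_connectedComponentIn.image _ i.left.continuous.continuousOn).subset_connectedComponentIn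
      ⟨_, mem_connectedComponentIn (hom_unit H _), hunit _⟩ ?_ ⟨z, hz, rfl⟩
    rintro _ ⟨w, hw, rfl⟩
    show G.hom (i.left w) = H.hom z
    rw [hfib]
    exact (connectedComponentIn_subset (H.hom ⁻¹' {H.hom z}) _ hw : _)
  · obtain ⟨z, rfl⟩ := hsub hx
    refine ⟨z, ?_, rfl⟩
    rw [mem_neutralSet_iff] at hx ⊢
    have hC : connectedComponentIn (G.hom ⁻¹' {G.hom (i.left z)}) (unit G (G.hom (i.left z))) ⊆
        Set.range i.left := fun y hy => hsub <| by
      have : G.hom y = G.hom (i.left z) := connectedComponentIn_subset (G.hom ⁻¹' {G.hom (i.left z)}) _ hy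
      rw [mem_neutralSet_iff, this]
      exact hy
    refine _root_.IsPreconnected.subset_connectedComponentIn
      (s := i.left ⁻¹' connectedComponentIn (G.hom ⁻¹' {G.hom (i.left z)}) (unit G (G.hom (i.left z)))) ?_ ?_ ?_ hx
    · rw [← i.left.isOpenEmbedding.isInducing.isPreconnected_image, Set.image_preimage_eq_of_subset hC]
      exact isPreconnected_connectedComponentIn
    · show i.left (unit H (H.hom z)) ∈ connectedComponentIn (G.hom ⁻¹' {G.hom (i.left z)}) _
      rw [hunit, hfib]
      exact mem_connectedComponentIn (hom_unit G _)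
    · intro w hw
      show H.hom w = H.hom z
      rw [← hfib, ← hfib]
      exact (connectedComponentIn_subset (G.hom ⁻¹' {G.hom (i.left z)}) _ hw : _)

end Groth.Agent.GrpSchLib.Neutral
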