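import Groth.Agent.GrpSchLib.FieldAllComp
import Groth.Prelude.Def_AlgGrp

/-! Connected fibres of group schemes, and homogeneous spaces under them. -/

universe u

open CategoryTheory Limits AlgebraicGeometry MonoidalCategory CartesianMonoidalCategory MonObj GrpObj
  TopologicalSpace

open scoped CategoryTheory.Obj

namespace Groth.Agent.GrpSchLib.FibreIrr

variable {S : Scheme.{u}} (G : Over S) [GrpObj G]

/-- The fibre group over a point. -/
noncomputable abbrev fib (s : S) : Over (Spec (CommRingCat.of (S.residueField s))) :=
  (Over.pullback (S.fromSpecResidueField s)).obj G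

omit [GrpObj G] in
theorem range_fst (s : S) :
    Set.range (pullback.fst G.hom (S.fromSpecResidueField s)) = G.hom ⁻¹' {s} :=
  Scheme.Hom.range_fiberι G.hom s

omit [GrpObj G] in
theorem connectedSpace_fib (s : S) (h : _root_.IsConnected (G.hom ⁻¹' {s})) :
    ConnectedSpace (fib G s).left :=
  haveI := isConnected_iff_connectedSpace.mp h
  (G.hom.fiberHomeo s).symm.surjective.connectedSpace (G.hom.fiberHomeo s).symm.continuous

theorem geometricallyIrreducible_fib (s : S) [LocallyOfFiniteType G.hom]
    (h : _root_.IsConnected (G.hom ⁻¹' {s})) :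
    GeometricallyIrreducible (fib G s).hom ∧ IrreducibleSpace (fib G s).left := by
  haveI := connectedSpace_fib G s h
  obtain ⟨c, hc, hce⟩ := exists_isMaxPt (η[fib G s].left (IsLocalRing.closedPoint (S.residueField s)))
  have huniv : closure ({c} : Set (fib G s).left) = Set.univ := by
    rw [← connectedComponent_one (G := fib G s) hc hce]
    exact PreconnectedSpace.connectedComponent_eq_univ _
  haveI : IsClosedImmersion (𝟙 (fib G s) : fib G s ⟶ fib G s).left := by
    rw [Over.id_left]; infer_instance
  refine ⟨geometricallyIrreducible_one hc hce (𝟙 (fib G s)) ?_, ?_⟩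
  · rw [huniv, Over.id_left]
    exact Set.range_eq_univ.mpr fun y => ⟨y, rfl⟩
  · rw [irreducibleSpace_def, Set.top_eq_univ, ← huniv]
    exact isIrreducible_singleton.closure

variable {G} {X : Over S}

theorem surjective_orbit_point (a : AlgGrp.Action G X) (hΦ : Surjective (lift a.act (snd G X)).left)
    {T : Over S} (x : T ⟶ X) :
    Surjective (lift (lift (fst G T) (snd G T ≫ x) ≫ a.act) (snd G T)).left := by
  let F : G ⊗ T ⟶ X ⊗ T := lift (lift (fst G T) (snd G T ≫ x) ≫ a.act) (snd G T)
  have hpb : IsPullback (G ◁ x) F (lift a.act (snd G X)) (X ◁ x) := by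
    refine IsPullback.of_isLimit' ⟨?_⟩ ?_
    · refine CartesianMonoidalCategory.hom_ext _ _ ?_ ?_
      · simp only [F, Category.assoc, lift_fst, whiskerLeft_fst]
        congr 1
      · simp [F]
    · refine PullbackCone.IsLimit.mk _
        (fun c => lift (c.fst ≫ fst G X) (c.snd ≫ snd X T)) ?_ ?_ ?_
      · intro c
        refine CartesianMonoidalCategory.hom_ext _ _ ?_ ?_
        · simp
        · simpa using (congrArg (· ≫ snd X X) c.condition).symm
      · intro c
        have h1 := congrArg (· ≫ fst X X) c.condition
        have h2 := congrArg (· ≫ snd X X) c.condition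
        simp only [Category.assoc, lift_fst, lift_snd, whiskerLeft_fst, whiskerLeft_snd] at h1 h2
        refine CartesianMonoidalCategory.hom_ext _ _ ?_ ?_
        · simp only [F, Category.assoc, lift_fst, comp_lift_assoc, lift_fst, lift_snd_assoc]
          rw [← h1]
          congr 1
          refine CartesianMonoidalCategory.hom_ext _ _ ?_ ?_ <;> simp [h2]
        · simp [F]
      · intro c m hm1 hm2
        refine CartesianMonoidalCategory.hom_ext _ _ ?_ ?_
        · rw [lift_fst, ← hm1]; simp
        · rw [lift_snd, ← hm2]; simp [F]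
  exact MorphismProperty.of_isPullback (P := @Surjective) (hpb.map (Over.forget S)) hΦ

/-- A homogeneous space under a group with connected fibres has irreducible fibres. -/
theorem isPreirreducible_fibre [LocallyOfFiniteType G.hom]
    (hconn : ∀ s : S, _root_.IsConnected (G.hom ⁻¹' {s}))
    (a : AlgGrp.Action G X) (hΦ : Surjective (lift a.act (snd G X)).left) (s : S) :
    IsPreirreducible (X.hom ⁻¹' {s}) := by
  rcases Set.eq_empty_or_nonempty (X.hom ⁻¹' {s}) with he | ⟨p, hp⟩
  · rw [he]; exact isPreirreducible_empty
  obtain rfl : X.hom p = s := hp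
  let t : Spec (X.left.residueField p) ⟶ S := X.left.fromSpecResidueField p ≫ X.hom
  let T : Over S := Over.mk t
  let x : T ⟶ X := Over.homMk (X.left.fromSpecResidueField p) rfl
  obtain ⟨hgi, -⟩ := geometricallyIrreducible_fib G (X.hom p) (hconn (X.hom p))
  haveI hgi' : GeometricallyIrreducible (G.hom.fiberToSpecResidueField (X.hom p)) := hgi
  have ht : t = Spec.map (X.hom.residueFieldMap p) ≫ S.fromSpecResidueField (X.hom p) :=
    (Scheme.Hom.SpecMap_residueFieldMap_fromSpecResidueField _ _).symm
  haveI : IrreducibleSpace (G ⊗ T).left := by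
    let e : (G ⊗ T).left ≅ pullback (G.hom.fiberToSpecResidueField (X.hom p)) (Spec.map (X.hom.residueFieldMap p)) :=
      pullback.congrHom rfl ht ≪≫
        (pullbackLeftPullbackSndIso G.hom (S.fromSpecResidueField (X.hom p)) _).symm
    haveI : IrreducibleSpace ↥(pullback (G.hom.fiberToSpecResidueField (X.hom p))
        (Spec.map (X.hom.residueFieldMap p))) := GeometricallyIrreducible.geometrically_irreducibleSpace
          _ _ _ (IsPullback.of_hasPullback _ _)
    rw [irreducibleSpace_def, Set.top_eq_univ,
      ← (Set.range_eq_univ.mpr e.inv.homeomorph.surjective : Set.range e.inv = _), ← Set.image_univ]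
    exact (IrreducibleSpace.isIrreducible_univ _).image _ e.inv.continuous.continuousOn
  let F : G ⊗ T ⟶ X ⊗ T := lift (lift (fst G T) (snd G T ≫ x) ≫ a.act) (snd G T)
  have himg : X.hom ⁻¹' {X.hom p} = (F ≫ fst X T).left '' Set.univ := by
    refine subset_antisymm (fun y hy => ?_) ?_
    · obtain ⟨z, hz, -⟩ := Scheme.Pullback.exists_preimage_pullback (f := X.hom) (g := t) y
        (IsLocalRing.closedPoint _) (by
          rw [Scheme.Hom.comp_apply, Scheme.fromSpecResidueField_apply]; exact hy)
      obtain ⟨w, hw⟩ := (surjective_orbit_point a hΦ x).surj z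
      refine ⟨w, trivial, ?_⟩
      rw [Over.comp_left, Scheme.Hom.comp_apply, hw]
      exact hz
    · rintro _ ⟨w, -, rfl⟩
      show X.hom ((F ≫ fst X T).left w) = X.hom p
      rw [← Scheme.Hom.comp_apply, Over.w, ← Over.w (snd G T), Scheme.Hom.comp_apply]
      exact congrArg X.hom (Scheme.fromSpecResidueField_apply _ _)
  rw [himg]
  exact (IrreducibleSpace.isIrreducible_univ _).isPreirreducible.image _
    (F ≫ fst X T).left.continuous.continuousOn

end Groth.Agent.GrpSchLib.FibreIrr
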