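import Groth.Agent.GrpSchLib.PointsClosure
import Groth.Agent.GrpSchLib.Reduced
import Mathlib.AlgebraicGeometry.Pullbacks
import Mathlib.AlgebraicGeometry.Properties
import Mathlib.AlgebraicGeometry.PullbackCarrier

/-! Reduced schemes over a field with dense rational points: products stay reduced, with dense points. -/

open TensorProduct CategoryTheory AlgebraicGeometry Limits

namespace Groth.Agent.GrpSchLib.DenseRed

universe u

variable {k : Type u} [Field k]

theorem eq_zero_of_forall {A B : Type u} [CommRing A] [Algebra k A] [CommRing B] [Algebra k B]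
    {P : Type*} (σ : P → A →ₐ[k] k) (hσ : ∀ a, (∀ p, σ p a = 0) → a = 0) (z : A ⊗[k] B)
    (h : ∀ p, Algebra.TensorProduct.lid k B (Algebra.TensorProduct.map (σ p) (AlgHom.id k B) z) = 0) : z = 0 := by
  have h1 : ∀ p, ((σ p).toLinearMap.lTensor B) (TensorProduct.comm k A B z) = 0 := by
    intro p
    have h3 : ∀ w : A ⊗[k] B, TensorProduct.rid k B (((σ p).toLinearMap.lTensor B) (TensorProduct.comm k A B w)) =
        Algebra.TensorProduct.lid k B (Algebra.TensorProduct.map (σ p) (AlgHom.id k B) w) := by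
      intro w
      induction w using TensorProduct.induction_on with
      | zero => simp
      | tmul a b => simp
      | add s t hs ht => simp only [map_add, hs, ht]
    exact (TensorProduct.rid k B).injective (by rw [h3, h p, map_zero])
  obtain ⟨s, c, hz, hc⟩ := exists_sum_tmul_of_forall_lTensor (fun p => (σ p).toLinearMap) (TensorProduct.comm k A B z) h1
  apply (TensorProduct.comm k A B).injective
  rw [hz, map_zero]
  exact Finset.sum_eq_zero fun l _ => by rw [hσ (c l) (hc l), tmul_zero]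

theorem isReduced_tensor {A B : Type u} [CommRing A] [Algebra k A] [CommRing B] [Algebra k B] [_root_.IsReduced B]
    {P : Type*} (σ : P → A →ₐ[k] k) (hσ : ∀ a, (∀ p, σ p a = 0) → a = 0) : _root_.IsReduced (A ⊗[k] B) :=
  ⟨fun z hz => eq_zero_of_forall σ hσ z fun p => ((hz.map _).map (Algebra.TensorProduct.lid k B)).eq_zero⟩

/-- A set of rational points meeting every nonempty open. -/
def Dense' {X : Scheme.{u}} (f : X ⟶ Spec (CommRingCat.of k)) (P : Set (Spec (CommRingCat.of k) ⟶ X)) : Prop :=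
  (∀ s ∈ P, s ≫ f = 𝟙 _) ∧ ∀ U : X.Opens, (U : Set X).Nonempty → ∃ s ∈ P, s (IsLocalRing.closedPoint k) ∈ U

theorem exists_sep {X : Scheme.{u}} [AlgebraicGeometry.IsReduced X] {f : X ⟶ Spec (CommRingCat.of k)}
    {P : Set (Spec (CommRingCat.of k) ⟶ X)} (hP : Dense' f P) {A : Type u} [CommRing A] [Algebra k A]
    (j : Spec (CommRingCat.of A) ⟶ X) [IsOpenImmersion j]
    (hj : j ≫ f = Spec.map (CommRingCat.ofHom (algebraMap k A))) :
    ∀ a : A, (∀ σ : A →ₐ[k] k, Spec.map (CommRingCat.ofHom σ.toRingHom) ≫ j ∈ P → σ a = 0) → a = 0 := by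
  intro a ha
  haveI : AlgebraicGeometry.IsReduced (Spec (CommRingCat.of A)) := isReduced_of_isOpenImmersion j
  haveI : _root_.IsReduced A := (affine_isReduced_iff (CommRingCat.of A)).mp inferInstance
  by_contra hne
  obtain ⟨x, hx⟩ : ((PrimeSpectrum.basicOpen a : TopologicalSpace.Opens (PrimeSpectrum A)) : Set (PrimeSpectrum A)).Nonempty := by
    rw [Set.nonempty_iff_ne_empty]
    intro he
    exact hne (IsReduced.eq_zero a (PrimeSpectrum.basicOpen_eq_bot_iff a |>.mp (TopologicalSpace.Opens.ext he)))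
  obtain ⟨s, hs, hsU⟩ := hP.2 (j ''ᵁ (PrimeSpectrum.basicOpen a)) ⟨j x, x, hx, rfl⟩
  obtain ⟨y, hy, hy'⟩ := hsU
  have hrange : Set.range s ⊆ Set.range j := by
    rintro _ ⟨t, rfl⟩
    rw [Subsingleton.elim t (IsLocalRing.closedPoint k)]
    exact ⟨y, hy'⟩
  let l := IsOpenImmersion.lift j s hrange
  obtain ⟨φ, hφ⟩ := Spec.map_surjective l
  have hlj : l ≫ j = s := IsOpenImmersion.lift_fac _ _ _
  let σ : A →ₐ[k] k := AlgHom.mk φ.hom fun c => by
    have h1 : Spec.map (CommRingCat.ofHom (algebraMap k A) ≫ φ) = Spec.map (𝟙 (CommRingCat.of k)) := by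
      rw [Spec.map_comp, hφ, Spec.map_id, ← hj, ← Category.assoc, hlj]
      exact hP.1 s hs
    exact congrArg (fun r => r.hom c) (Spec.map_injective h1)
  have hσl : Spec.map (CommRingCat.ofHom σ.toRingHom) = l := hφ
  have h0 := ha σ (by rw [hσl, hlj]; exact hs)
  have hyl : l (IsLocalRing.closedPoint k) = y := j.isOpenEmbedding.injective (by
    show (l ≫ j) (IsLocalRing.closedPoint k) = j y
    rw [hlj]; exact hy'.symm)
  rw [← hyl, ← hσl] at hy
  exact hy (show σ.toRingHom a ∈ IsLocalRing.maximalIdeal k by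
    show σ a ∈ _
    rw [h0]; exact Ideal.zero_mem _)

section
variable {X Y : Scheme.{u}} {f : X ⟶ Spec (CommRingCat.of k)} {g : Y ⟶ Spec (CommRingCat.of k)}
  [AlgebraicGeometry.IsReduced X] [AlgebraicGeometry.IsReduced Y]
  {P : Set (Spec (CommRingCat.of k) ⟶ X)} (hP : Dense' f P)

/-- Charts of a product over a field. -/
theorem exists_chart (w : ↥(pullback f g)) :
    ∃ (A B : Type u) (_ : CommRing A) (_ : CommRing B) (_ : Algebra k A) (_ : Algebra k B)
      (jA : Spec (CommRingCat.of A) ⟶ X) (jB : Spec (CommRingCat.of B) ⟶ Y)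
      (v : Spec (CommRingCat.of (A ⊗[k] B)) ⟶ pullback f g),
      IsOpenImmersion jA ∧ IsOpenImmersion jB ∧ IsOpenImmersion v ∧ w ∈ Set.range v ∧
      jA ≫ f = Spec.map (CommRingCat.ofHom (algebraMap k A)) ∧ jB ≫ g = Spec.map (CommRingCat.ofHom (algebraMap k B)) ∧
      v ≫ pullback.fst f g = Spec.map (CommRingCat.ofHom (Algebra.TensorProduct.includeLeftRingHom (R := k) (A := A) (B := B))) ≫ jA ∧
      v ≫ pullback.snd f g = Spec.map (CommRingCat.ofHom (Algebra.TensorProduct.includeRight (R := k) (A := A) (B := B)).toRingHom) ≫ jB := by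
  obtain ⟨a, ha⟩ := X.affineOpenCover.covers (pullback.fst f g w)
  obtain ⟨b, hb⟩ := Y.affineOpenCover.covers (pullback.snd f g w)
  let A := X.affineOpenCover.X (X.affineOpenCover.idx (pullback.fst f g w))
  let B := Y.affineOpenCover.X (Y.affineOpenCover.idx (pullback.snd f g w))
  let jA : Spec A ⟶ X := X.affineOpenCover.f (X.affineOpenCover.idx (pullback.fst f g w))
  let jB : Spec B ⟶ Y := Y.affineOpenCover.f (Y.affineOpenCover.idx (pullback.snd f g w))
  have hjA : IsOpenImmersion jA := X.affineOpenCover.map_prop _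
  have hjB : IsOpenImmersion jB := Y.affineOpenCover.map_prop _
  obtain ⟨sA, hsA⟩ := Spec.map_surjective (jA ≫ f)
  obtain ⟨sB, hsB⟩ := Spec.map_surjective (jB ≫ g)
  letI : Algebra k A := sA.hom.toAlgebra
  letI : Algebra k B := sB.hom.toAlgebra
  have hA : jA ≫ f = Spec.map (CommRingCat.ofHom (algebraMap k A)) := hsA.symm
  have hB : jB ≫ g = Spec.map (CommRingCat.ofHom (algebraMap k B)) := hsB.symm
  let m := pullback.map (Spec.map (CommRingCat.ofHom (algebraMap k A))) (Spec.map (CommRingCat.ofHom (algebraMap k B))) f g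
    jA jB (𝟙 _) (by rw [Category.comp_id]; exact hA.symm) (by rw [Category.comp_id]; exact hB.symm)
  haveI : IsOpenImmersion m := inferInstance
  refine ⟨A, B, inferInstance, inferInstance, inferInstance, inferInstance, jA, jB,
    (pullbackSpecIso k A B).inv ≫ m, hjA, hjB, inferInstance, ?_, hA, hB, ?_, ?_⟩
  · have hm : w ∈ Set.range m := by
      rw [Scheme.Pullback.range_map]
      exact ⟨⟨a, ha⟩, ⟨b, hb⟩⟩
    obtain ⟨z, hz⟩ := hm
    refine ⟨(pullbackSpecIso k A B).hom z, ?_⟩
    rw [← Scheme.Hom.comp_apply, Iso.hom_inv_id_assoc, hz]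
  · rw [Category.assoc, show m ≫ pullback.fst f g = pullback.fst _ _ ≫ jA from pullback.lift_fst _ _ _, ← Category.assoc,
      pullbackSpecIso_inv_fst]
  · rw [Category.assoc, show m ≫ pullback.snd f g = pullback.snd _ _ ≫ jB from pullback.lift_snd _ _ _, ← Category.assoc,
      pullbackSpecIso_inv_snd]
    rfl

include hP in
theorem isReduced_pullback : AlgebraicGeometry.IsReduced (pullback f g) := by
  refine @isReduced_of_isReduced_stalk _ fun w => ?_
  obtain ⟨A, B, _, _, _, _, jA, jB, v, _, _, _, ⟨z, rfl⟩, hA, hB, -, -⟩ := exists_chart (f := f) (g := g) w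
  haveI : AlgebraicGeometry.IsReduced (Spec (CommRingCat.of B)) := isReduced_of_isOpenImmersion jB
  haveI : _root_.IsReduced B := (affine_isReduced_iff (CommRingCat.of B)).mp inferInstance
  haveI : _root_.IsReduced (A ⊗[k] B) :=
    isReduced_tensor (fun σ : {σ : A →ₐ[k] k // Spec.map (CommRingCat.ofHom σ.toRingHom) ≫ jA ∈ P} => σ.1)
      (fun a ha => exists_sep hP jA hA a fun σ hσ => ha ⟨σ, hσ⟩)
  exact isReduced_of_injective (asIso (v.stalkMap z)).commRingCatIsoToRingEquiv (RingEquiv.injective _)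

variable {Q : Set (Spec (CommRingCat.of k) ⟶ Y)} (hQ : Dense' g Q)

include hP hQ in
theorem eq_top_of_forall_mem (C : Set ↥(pullback f g)) (hC : IsClosed C)
    (h : ∀ s ∈ P, ∀ t ∈ Q, ∀ c : Spec (CommRingCat.of k) ⟶ pullback f g, c ≫ pullback.fst f g = s → c ≫ pullback.snd f g = t →
      c (IsLocalRing.closedPoint k) ∈ C) : C = Set.univ := by
  by_contra hne
  obtain ⟨w, hw⟩ := Set.nonempty_compl.mpr hne
  obtain ⟨A, B, _, _, _, _, jA, jB, v, _, _, _, ⟨z, rfl⟩, hA, hB, hv1, hv2⟩ := exists_chart (f := f) (g := g) w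
  obtain ⟨_, ⟨r, rfl⟩, hzr, hr⟩ := PrimeSpectrum.isTopologicalBasis_basic_opens.exists_subset_of_mem_open
    (show z ∈ v ⁻¹' Cᶜ from hw) (hC.isOpen_compl.preimage v.continuous)
  have hr0 : r ≠ 0 := fun h0 => by subst h0; exact hzr (Ideal.zero_mem _)
  apply hr0
  refine eq_zero_of_forall (fun σ : {σ : A →ₐ[k] k // Spec.map (CommRingCat.ofHom σ.toRingHom) ≫ jA ∈ P} => σ.1)
    (fun a ha => exists_sep hP jA hA a fun σ hσ => ha ⟨σ, hσ⟩) r fun σ => ?_
  refine exists_sep hQ jB hB _ fun τ hτ => ?_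
  let ψ : A ⊗[k] B →ₐ[k] k :=
    τ.comp ((Algebra.TensorProduct.lid k B).toAlgHom.comp (Algebra.TensorProduct.map σ.1 (AlgHom.id k B)))
  by_contra hψ
  let c : Spec (CommRingCat.of k) ⟶ pullback f g := Spec.map (CommRingCat.ofHom ψ.toRingHom) ≫ v
  have e1 : ψ.toRingHom.comp (Algebra.TensorProduct.includeLeftRingHom (R := k) (A := A) (B := B)) = σ.1.toRingHom := by
    ext a
    show τ (Algebra.TensorProduct.lid k B (σ.1 a ⊗ₜ[k] (1 : B))) = σ.1 a
    simp
  have e2 : ψ.toRingHom.comp (Algebra.TensorProduct.includeRight (R := k) (A := A) (B := B)).toRingHom = τ.toRingHom := by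
    ext b
    show τ (Algebra.TensorProduct.lid k B (σ.1 1 ⊗ₜ[k] b)) = τ b
    simp
  have hc := h _ σ.2 _ hτ c
    (by rw [Category.assoc, hv1, ← Category.assoc, ← Spec.map_comp, ← CommRingCat.ofHom_comp, e1])
    (by rw [Category.assoc, hv2, ← Category.assoc, ← Spec.map_comp, ← CommRingCat.ofHom_comp, e2])
  refine hr (show Spec.map (CommRingCat.ofHom ψ.toRingHom) (IsLocalRing.closedPoint k) ∈ PrimeSpectrum.basicOpen r from ?_) hc
  show ψ r ∉ IsLocalRing.maximalIdeal k
  rw [IsLocalRing.maximalIdeal_eq_bot]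
  exact fun h0 => hψ (Ideal.mem_bot.mp h0)

end

end Groth.Agent.GrpSchLib.DenseRed
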