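import Groth.Agent.GrpSchLib.RankOne
import Mathlib.AlgebraicGeometry.Morphisms.FlatDescent
import Mathlib.AlgebraicGeometry.Group.Affine

/-! Affine test objects over a scheme, and commutativity of tori. -/

set_option autoImplicit false
set_option linter.style.haveILetI false

universe u

open CategoryTheory CategoryTheory.Limits AlgebraicGeometry MonoidalCategory CartesianMonoidalCategory
open scoped MonObj

noncomputable section

namespace Groth.Agent.GrpSchLib.RankOne

variable {S : Scheme.{u}}

/-- Global functions on an affine test object. -/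
def sval {A : CommRingCat.{u}} (b : Spec A ⟶ S) : Γ((Over.mk b).left, ⊤) ≃+* A :=
  (Scheme.ΓSpecIso A).commRingCatIsoToRingEquiv

/-- Morphisms of affine test objects. -/
def specHom {A B : CommRingCat.{u}} {b : Spec A ⟶ S} {b' : Spec B ⟶ S} (φ : A →+* B)
    (h : Spec.map (CommRingCat.ofHom φ) ≫ b = b') : Over.mk b' ⟶ Over.mk b :=
  Over.homMk (Spec.map (CommRingCat.ofHom φ)) h

theorem sval_specHom {A B : CommRingCat.{u}} {b : Spec A ⟶ S} {b' : Spec B ⟶ S} (φ : A →+* B)
    (h : Spec.map (CommRingCat.ofHom φ) ≫ b = b') (x : Γ((Over.mk b).left, ⊤)) :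
    sval b' ((specHom φ h).left.appTop x) = φ (sval b x) :=
  congrArg (fun ψ => (ConcreteCategory.hom ψ) x) (Scheme.ΓSpecIso_naturality (CommRingCat.ofHom φ))

theorem appTop_specHom {A B : CommRingCat.{u}} {b : Spec A ⟶ S} {b' : Spec B ⟶ S} (φ : A →+* B)
    (h : Spec.map (CommRingCat.ofHom φ) ≫ b = b') (a : A) :
    (specHom φ h).left.appTop ((sval b).symm a) = (sval b').symm (φ a) :=
  (sval b').injective ((sval_specHom φ h _).trans (by simp))

theorem specHom_ptOfFn {A B : CommRingCat.{u}} {b : Spec A ⟶ S} {b' : Spec B ⟶ S} (φ : A →+* B)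
    (h : Spec.map (CommRingCat.ofHom φ) ≫ b = b') (a : A) :
    specHom φ h ≫ (GaPts.ptOfFn ((sval b).symm a) : Over.mk b ⟶ Red.Ga S) = GaPts.ptOfFn ((sval b').symm (φ a)) :=
  GaPts.gaFn_injective (by simp only [GaPts.gaFn_comp, GaPts.gaFn_ptOfFn, appTop_specHom])

/-- Morphisms are determined by their values on affine test objects. -/
theorem ext_spec {X Y : Over S} {f g : X ⟶ Y}
    (h : ∀ (A : CommRingCat.{u}) (b : Spec A ⟶ S) (j : Over.mk b ⟶ X), j ≫ f = j ≫ g) : f = g := by
  ext1
  refine X.left.affineCover.hom_ext _ _ fun i => ?_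
  exact congrArg CommaMorphism.left (h _ (X.left.affineCover.f i ≫ X.hom) (Over.homMk (X.left.affineCover.f i) rfl))

/-- Points in an affine `S`-scheme are determined after an injective ring map. -/
theorem eq_of_injective {G : Over S} [IsAffineHom G.hom] {A B : CommRingCat.{u}} {b : Spec A ⟶ S} {b' : Spec B ⟶ S}
    (φ : A →+* B) (h : Spec.map (CommRingCat.ofHom φ) ≫ b = b') (hφ : Function.Injective φ)
    {g g' : Over.mk b ⟶ G} (hg : specHom φ h ≫ g = specHom φ h ≫ g') : g = g' := by
  haveI : IsAffineHom (pullback.snd G.hom b) := inferInstance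
  haveI : IsAffine (pullback G.hom b) := isAffine_of_isAffineHom (pullback.snd G.hom b)
  let l : (Over.mk b ⟶ G) → (Spec A ⟶ pullback G.hom b) := fun k =>
    pullback.lift k.left (𝟙 _) ((Over.w k).trans (Category.id_comp _).symm)
  have hl : l g = l g' := by
    refine ext_of_isAffine ?_
    have : Spec.map (CommRingCat.ofHom φ) ≫ l g = Spec.map (CommRingCat.ofHom φ) ≫ l g' := by
      apply pullback.hom_ext
      · simp only [l, Category.assoc, pullback.lift_fst]
        exact congrArg CommaMorphism.left hg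
      · simp only [l, Category.assoc, pullback.lift_snd]
    refine CommRingCat.hom_ext (RingHom.ext fun x => ?_)
    refine (sval b).injective (hφ ?_)
    have e := congrArg (fun ψ : Spec B ⟶ _ => ψ.appTop x) this
    rw [GmPts.appTop_comp_apply, GmPts.appTop_comp_apply] at e
    exact (sval_specHom φ h _).symm.trans ((congrArg (sval b') e).trans (sval_specHom φ h _))
  ext1
  have e := congrArg (fun k => k ≫ pullback.fst G.hom b) hl
  exact (pullback.lift_fst _ _ _).symm.trans (e.trans (pullback.lift_fst _ _ _))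

theorem isCommMonObj_bc {S' : Scheme.{u}} (f : S' ⟶ S) (D : Over S) [GrpObj D] [IsCommMonObj D] :
    IsCommMonObj (Red.bc f D) where
  mul_comm := by
    show (β_ _ _).hom ≫ Functor.LaxMonoidal.μ (Over.pullback f) D D ≫ (Over.pullback f).map μ[D] =
      Functor.LaxMonoidal.μ (Over.pullback f) D D ≫ (Over.pullback f).map μ[D]
    rw [← Functor.LaxBraided.braided_assoc, ← Functor.map_comp, IsCommMonObj.mul_comm]

theorem isCommMonObj_of_iso {G H : Over S} [GrpObj G] [GrpObj H] [IsCommMonObj H] (e : G ⟶ H) [IsMonHom e] [Mono e]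
    (X : Over S) (a b : X ⟶ G) : a * b = b * a := by
  rw [← cancel_mono e, MonObj.mul_comp, MonObj.mul_comp, mul_comm]

/-- A torus is commutative. -/
theorem torus_mul_comm {T : Over S} [GrpObj T] (hT : Red.IsTorus T) (X : Over S) (a b : X ⟶ T) : a * b = b * a := by
  obtain ⟨S', f, hf, hs, -, hloc⟩ := hT
  let p := pullback.fst X.hom f
  haveI : Epi p := Flat.epi_of_flat_of_surjective p
  ext1
  rw [← cancel_epi p]
  refine Scheme.Cover.hom_ext ((S'.openCoverOfIsOpenCover (fun s : S' => (hloc s).choose) ?_).pullback₁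
    (pullback.snd X.hom f)) _ _ fun s => ?_
  · exact TopologicalSpace.IsOpenCover.mk (top_le_iff.1 fun s _ =>
      TopologicalSpace.Opens.mem_iSup.2 ⟨s, (hloc s).choose_spec.1⟩)
  obtain ⟨r, ⟨e⟩⟩ := (hloc s).choose_spec.2
  let U := (hloc s).choose
  let g := U.ι ≫ f
  haveI : IsCommMonObj (Red.DS (U : Scheme.{u}) (Fin r → ℤ)) := isCommMonObj_bc _ _
  haveI : IsMonHom e.hom.hom.hom := e.hom.hom.isMonHom_hom
  haveI : IsIso e.hom.hom.hom := ((Grp.forget _).mapIso e).isIso_hom
  haveI : Mono e.hom.hom.hom := inferInstance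
  have hc := isCommMonObj_of_iso e.hom.hom.hom (Red.bc g X) ((Over.pullback g).map a) ((Over.pullback g).map b)
  rw [← Functor.map_mul, ← Functor.map_mul] at hc
  let Z := pullback (pullback.snd X.hom f) U.ι
  let k : Z ⟶ (Red.bc g X).left := pullback.lift (pullback.fst _ _ ≫ p) (pullback.snd _ _) (by
    rw [Category.assoc, pullback.condition, pullback.condition_assoc])
  have h1 := congrArg (fun ψ => k ≫ ψ.left ≫ pullback.fst T.hom g) hc
  simp only [Over.pullback_map_left, pullback.lift_fst] at h1
  have e1 : k ≫ pullback.fst X.hom g = pullback.fst _ _ ≫ p := pullback.lift_fst _ _ _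
  have h2 := (Category.assoc k (pullback.fst X.hom g) (a * b).left).trans
    (h1.trans (Category.assoc k (pullback.fst X.hom g) (b * a).left).symm)
  rw [e1] at h2
  simp only [Category.assoc] at h2
  exact h2

end Groth.Agent.GrpSchLib.RankOne
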