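import Groth.Agent.GrpSchLib.FieldComp
import Mathlib.AlgebraicGeometry.Noetherian

/-! All connected components of a group scheme over a field. -/

open CategoryTheory AlgebraicGeometry MonoidalCategory CartesianMonoidalCategory MonObj GrpObj
open Limits TopologicalSpace
open scoped CategoryTheory.Obj

namespace Groth.Agent.GrpSchLib

universe u

variable {K : Type u} [Field K] {G : Over (Spec (CommRingCat.of K))} [GrpObj G]

theorem connectedComponent_eq_closure {c x : G.left} (hc : IsMaxPt c) (hcx : c ⤳ x) :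
    connectedComponent x = closure {c} := by
  refine subset_antisymm (fun y hy => ?_)
    (isIrreducible_singleton.closure.isPreirreducible.isPreconnected.subset_connectedComponent
      hcx.mem_closure)
  by_contra hyc
  obtain ⟨cy, hcy, hcyy⟩ := exists_isMaxPt y
  have hx : x ∉ closure {cy} := fun h => hyc <| by
    rw [hc.eq uniComp hcy hcx (specializes_iff_mem_closure.mpr h)]
    exact hcyy.mem_closure
  obtain ⟨V, hV, hxV, hVs⟩ := exists_isAffineOpen_mem_and_subset
    (U := (⟨(closure {cy})ᶜ, isClosed_closure.isOpen_compl⟩ : G.left.Opens)) hx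
  have hclopen : IsClopen (hull (V : Set G.left)) :=
    ⟨isClosed_hull V.2 hV.isCompact, isOpen_hull V.2⟩
  obtain ⟨d, hdV, hd⟩ := hclopen.connectedComponent_subset ⟨_, hxV, specializes_rfl⟩ hy
  exact hVs hdV (hcy.specializes uniComp hcyy hd).mem_closure

/-- Every point is a product of a point of a neighbourhood of the unit with a point of a
neighbourhood of any of its generalisations. -/
theorem exists_mul_eq_of_specializes {c x : G.left} (hcx : c ⤳ x) {V W : Set G.left}
    (hV : IsOpen V) (heV : η[G].left (IsLocalRing.closedPoint K) ∈ V) (hcW : c ∈ W) :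
    ∃ p ∈ prodSet V W, μ[G].left p = x := by
  let T : Over (Spec (CommRingCat.of K)) := Over.mk (G.left.fromSpecResidueField x ≫ G.hom)
  let xT : T ⟶ G := Over.homMk (G.left.fromSpecResidueField x) rfl
  let w₀ : T.left := IsLocalRing.closedPoint (G.left.residueField x)
  have hxT : xT.left w₀ = x := G.left.fromSpecResidueField_apply x _
  haveI : Flat (snd T G).left := by
    obtain ⟨φ, hφ⟩ := Spec.map_surjective (G.left.fromSpecResidueField x ≫ G.hom)
    haveI : Flat (G.left.fromSpecResidueField x ≫ G.hom) := by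
      rw [← hφ]
      exact flat_spec_map_field φ.hom
    change Flat (pullback.snd (G.left.fromSpecResidueField x ≫ G.hom) G.hom)
    infer_instance
  let δ : (T ⊗ G).left := (lift (𝟙 T) xT).left w₀
  have hδ : (snd T G).left δ = x := by
    rw [← left_comp_apply, lift_snd]
    exact hxT
  obtain ⟨w, hwδ, hw⟩ := Flat.generalizingMap (snd T G).left (show c ⤳ (snd T G).left δ from hδ.symm ▸ hcx)
  let r : T ⊗ G ⟶ G ⊗ G := lift ((fst T G ≫ xT) * (snd T G)⁻¹) (snd T G)
  refine ⟨r.left w, ⟨?_, ?_⟩, ?_⟩
  · have h := (hwδ : w ⤳ δ).map (r ≫ fst G G).left.continuous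
    refine (h.mem_open hV ?_ :)
    rw [lift_fst, ← left_comp_apply]
    have h1 : lift (𝟙 T) xT ≫ ((fst T G ≫ xT) * (snd T G)⁻¹) = toUnit T ≫ η[G] := by
      simp [MonObj.comp_mul, GrpObj.comp_inv, MonObj.one_eq_one]
    rw [h1, apply_pointSection]
    exact heV
  · rw [Set.mem_preimage, ← left_comp_apply, lift_snd, hw]
    exact hcW
  · have h1 : r ≫ μ[G] = fst T G ≫ xT := by
      rw [← Hom.mul_def, inv_mul_cancel_right]
    rw [← left_comp_apply, h1, left_comp_apply]
    exact (congrArg xT.left
      (@Subsingleton.elim ↥(Spec (G.left.residueField x)) inferInstance _ w₀)).trans hxT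

theorem isCompact_connectedComponent (x : G.left) : IsCompact (connectedComponent x) := by
  obtain ⟨c, hc, hcx⟩ := exists_isMaxPt x
  rw [connectedComponent_eq_closure hc hcx]
  obtain ⟨V, hV, heV, -⟩ := exists_isAffineOpen_mem_and_subset
    (show η[G].left (IsLocalRing.closedPoint K) ∈ (⊤ : G.left.Opens) from trivial)
  obtain ⟨W, hW, hcW, -⟩ := exists_isAffineOpen_mem_and_subset
    (show c ∈ (⊤ : G.left.Opens) from trivial)
  let j : Over.mk (V.ι ≫ G.hom) ⟶ G := Over.homMk V.ι rfl
  let j' : Over.mk (W.ι ≫ G.hom) ⟶ G := Over.homMk W.ι rfl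
  have : IsAffine V.toScheme := hV
  have : IsAffine W.toScheme := hW
  have : IsAffineHom (V.ι ≫ G.hom) := isAffineHom_of_isAffine (V.ι ≫ G.hom)
  have : IsAffineHom (W.ι ≫ G.hom) := isAffineHom_of_isAffine (W.ι ≫ G.hom)
  have : CompactSpace (Over.mk (V.ι ≫ G.hom) ⊗ Over.mk (W.ι ≫ G.hom)).left :=
    inferInstanceAs (CompactSpace ↥(pullback (V.ι ≫ G.hom) (W.ι ≫ G.hom)))
  refine ((isCompact_range (j ⊗ₘ j').left.continuous).image μ[G].left.continuous).of_isClosed_subset
    isClosed_closure fun y hy => ?_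
  obtain ⟨p, hp, hpy⟩ := exists_mul_eq_of_specializes
    (specializes_iff_mem_closure.mpr hy) V.2 heV hcW
  refine ⟨p, ?_, hpy⟩
  rw [range_tensorHom]
  show p ∈ prodSet (Set.range V.ι) (Set.range W.ι)
  rw [Scheme.Opens.range_ι, Scheme.Opens.range_ι]
  exact hp

theorem isOpen_connectedComponent [IsLocallyNoetherian G.left] (x : G.left) :
    IsOpen (connectedComponent x) := by
  obtain ⟨c, hc, hcx⟩ := exists_isMaxPt x
  rw [connectedComponent_eq_closure hc hcx]
  refine isOpen_iff_forall_mem_open.mpr fun y hy => ?_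
  have hcy : c ⤳ y := specializes_iff_mem_closure.mpr hy
  obtain ⟨V, hV, hyV, -⟩ := exists_isAffineOpen_mem_and_subset (show y ∈ (⊤ : G.left.Opens) from trivial)
  haveI : IsNoetherianRing Γ(G.left, V) := IsLocallyNoetherian.component_noetherian ⟨V, hV⟩
  haveI : NoetherianSpace (V : Set G.left) := noetherianSpace_of_isAffineOpen V hV
  let bad : Set (Set (V : Set G.left)) := {Z ∈ irreducibleComponents _ | (⟨y, hyV⟩ : (V : Set G.left)) ∉ Z}
  have hbad : bad.Finite := NoetherianSpace.finite_irreducibleComponents.subset fun Z h => h.1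
  have hB : IsClosed (⋃₀ bad) := by
    rw [Set.sUnion_eq_biUnion]
    exact hbad.isClosed_biUnion fun Z hZ => isClosed_of_mem_irreducibleComponents Z hZ.1
  refine ⟨Subtype.val '' (⋃₀ bad)ᶜ, ?_, V.2.isOpenMap_subtype_val _ hB.isOpen_compl,
    ⟨⟨y, hyV⟩, fun ⟨Z, hZ, hyZ⟩ => hZ.2 hyZ, rfl⟩⟩
  rintro _ ⟨z, hz, rfl⟩
  let Z : Set (V : Set G.left) := irreducibleComponent z
  have hyZ : (⟨y, hyV⟩ : (V : Set G.left)) ∈ Z := by
    by_contra h
    exact hz ⟨Z, ⟨irreducibleComponent_mem_irreducibleComponents z, h⟩, mem_irreducibleComponent⟩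
  have hirr : IsIrreducible (Subtype.val '' Z : Set G.left) :=
    isIrreducible_irreducibleComponent.image _ continuous_subtype_val.continuousOn
  obtain ⟨d, hd, hdg⟩ := exists_isMaxPt hirr.genericPoint
  have hg := hirr.isGenericPoint_genericPoint_closure
  have hgy := hg.specializes (subset_closure ⟨_, hyZ, rfl⟩)
  have hgz := hg.specializes (subset_closure ⟨_, mem_irreducibleComponent, rfl⟩)
  rw [hc.eq uniComp hd hcy (hdg.trans hgy)]
  exact (hdg.trans hgz).mem_closure


/-- Points of the neutral component are stable under conjugation. -/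
theorem conj_mem_closure {g : G.left} (hg : IsMaxPt g) (hge : g ⤳ η[G].left (IsLocalRing.closedPoint K))
    {p : (G ⊗ G).left} (hp : (snd G G).left p ∈ closure {g}) :
    (fst G G * snd G G * (fst G G)⁻¹).left p ∈ closure {g} := by
  obtain ⟨T, j, hj, hjr⟩ := exists_over_range_eq (closure {g}) isClosed_closure
  have := geometricallyIrreducible_one hg hge j hjr
  let a : G.left := (fst G G).left p
  let c : G ⊗ T ⟶ G := fst G T * (snd G T ≫ j) * (fst G T)⁻¹
  have : GeometricallyIrreducible (fst G T).left :=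
    inferInstanceAs (GeometricallyIrreducible (pullback.fst G.hom T.hom))
  have : UniversallyOpen (fst G T).left :=
    inferInstanceAs (UniversallyOpen (pullback.fst G.hom T.hom))
  have hfib : IsIrreducible ((fst G T).left ⁻¹' {a}) :=
    (fst G T).left.isIrreducible_preimage (fst G T).left.isOpenMap isIrreducible_singleton
  obtain ⟨q, hq⟩ : p ∈ Set.range (G ◁ j).left := by
    have := range_tensorHom (𝟙 G) j
    rw [MonoidalCategory.id_tensorHom] at this
    rw [this, hjr]
    exact ⟨⟨(fst G G).left p, rfl⟩, hp⟩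
  obtain ⟨e', he'⟩ : η[G].left (IsLocalRing.closedPoint K) ∈ Set.range j.left := hjr ▸ hge.mem_closure
  obtain ⟨u, hu⟩ : ∃ u : 𝟙_ _ ⟶ T, u ≫ j = η[G] := by
    haveI : Nonempty ↥(pullback (η[G]).left j.left) := by
      obtain ⟨z, -⟩ := Scheme.Pullback.exists_preimage_pullback (f := (η[G]).left) (g := j.left)
        (IsLocalRing.closedPoint K) e' he'.symm
      exact ⟨z⟩
    haveI : Surjective (pullback.fst (η[G]).left j.left) := ⟨fun y =>
      ⟨Classical.arbitrary _, @Subsingleton.elim ↥(Spec (CommRingCat.of K)) inferInstance _ _⟩⟩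
    haveI : IsReduced (𝟙_ (Over (Spec (CommRingCat.of K)))).left :=
      inferInstanceAs (IsReduced (Spec (CommRingCat.of K)))
    haveI := isIso_of_isClosedImmersion_of_surjective (pullback.fst (η[G]).left j.left)
    refine ⟨Over.homMk (inv (pullback.fst (η[G]).left j.left) ≫ pullback.snd _ _) ?_, ?_⟩
    · rw [Category.assoc, IsIso.inv_comp_eq]
      have h1 : pullback.fst (η[G]).left j.left ≫ (η[G]).left ≫ G.hom =
          pullback.snd (η[G]).left j.left ≫ j.left ≫ G.hom := pullback.condition_assoc _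
      rw [Over.w η[G], Over.w j] at h1
      exact h1.symm
    · apply Over.OverMorphism.ext
      simp only [Over.comp_left, Over.homMk_left, Category.assoc, IsIso.inv_comp_eq]
      exact (pullback.condition).symm
  have he : η[G].left (IsLocalRing.closedPoint K) ∈ c.left '' ((fst G T).left ⁻¹' {a}) := by
    refine ⟨(lift (𝟙 G) (toUnit G ≫ u)).left a, ?_, ?_⟩
    · show (fst G T).left _ = a
      rw [← left_comp_apply, lift_fst]
      rfl
    · have h1 : lift (𝟙 G) (toUnit G ≫ u) ≫ c = toUnit G ≫ η[G] := by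
        simp [c, MonObj.comp_mul, GrpObj.comp_inv, hu, MonObj.one_eq_one]
      rw [← left_comp_apply, h1, apply_pointSection]
  have hconn : _root_.IsPreconnected (c.left '' ((fst G T).left ⁻¹' {a})) :=
    hfib.isPreirreducible.isPreconnected.image _ c.left.continuous.continuousOn
  have hmem : (fst G G * snd G G * (fst G G)⁻¹).left p ∈ c.left '' ((fst G T).left ⁻¹' {a}) := by
    refine ⟨q, ?_, ?_⟩
    · show (fst G T).left q = (fst G G).left p
      rw [← hq, ← left_comp_apply, whiskerLeft_fst]
    · rw [← hq, ← left_comp_apply]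
      simp [c, MonObj.comp_mul, GrpObj.comp_inv]
  rw [← connectedComponent_one hg hge]
  exact hconn.subset_connectedComponent he hmem

end Groth.Agent.GrpSchLib
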