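import Groth.Agent.GrpSchLib.Loci
import Groth.Agent.GrpSchLib.FieldAllComp
import Groth.Agent.GrpSchLib.Shear
import Groth.Agent.GrpSchLib.HomFlatLft
import Groth.Agent.FBaseLib.Basic
import Groth.Agent.GrpSchLib.Neutral
import Mathlib.AlgebraicGeometry.Morphisms.LocalFlatDescent
import Mathlib.AlgebraicGeometry.Morphisms.FlatDescent
import Mathlib.AlgebraicGeometry.AlgClosed.Basic

/-! A group scheme over a field is locally of finite type as soon as it is so on one nonempty open. -/

open CategoryTheory AlgebraicGeometry MonoidalCategory CartesianMonoidalCategory MonObj GrpObj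
open Limits TopologicalSpace
open scoped CategoryTheory.Obj

namespace Groth.Agent.GrpSchLib.LftFromOpen

universe u

/-- The points near which a scheme is locally of finite type over the base. -/
abbrev lft {A B : Scheme.{u}} (f : A ⟶ B) : Set A := Loci.loc @LocallyOfFiniteType f

variable {K : Type u} [Field K] {G : Over (Spec (CommRingCat.of K))} [GrpObj G]

variable (G) in
/-- The unit point. -/
noncomputable abbrev e₀ : G.left := η[G].left (IsLocalRing.closedPoint K)

theorem unit_mem_of_isAlgClosed [IsAlgClosed K] {x : G.left} (hx : x ∈ lft G.hom) :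
    (e₀ G) ∈ lft G.hom := by
  obtain ⟨W, hxW, hW⟩ := hx
  haveI := hW
  haveI : JacobsonSpace W.toScheme := LocallyOfFiniteType.jacobsonSpace (W.ι ≫ G.hom)
  obtain ⟨y, -, hy⟩ := nonempty_inter_closedPoints (Z := (Set.univ : Set W.toScheme)) ⟨⟨x, hxW⟩, trivial⟩
    isClosed_univ.isLocallyClosed
  let s := (pointEquivClosedPoint (W.ι ≫ G.hom)).symm ⟨y, hy⟩
  let a : 𝟙_ (Over (Spec (CommRingCat.of K))) ⟶ G := Over.homMk (s.1 ≫ W.ι) (by
    rw [Category.assoc, s.2]; rfl)
  let τ := HomFlatLft.rTrans a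
  haveI : IsIso τ.hom.left := ((Over.forget _).mapIso τ).isIso_hom
  refine ⟨τ.hom.left ⁻¹ᵁ W, ?_, ?_⟩
  · show τ.hom.left (e₀ G) ∈ W
    have : η[G] ≫ τ.hom = a := by
      simp only [τ, HomFlatLft.rTrans, MonObj.comp_mul, Category.comp_id, ← Category.assoc, comp_toUnit,
        toUnit_unique (toUnit (𝟙_ (Over (Spec (CommRingCat.of K))))) (𝟙 _), Category.id_comp]
      rw [show η[G] = (1 : 𝟙_ (Over (Spec (CommRingCat.of K))) ⟶ G) by
        rw [Hom.one_def, toUnit_unique (toUnit (𝟙_ _)) (𝟙 _), Category.id_comp], _root_.one_mul]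
    rw [← Scheme.Hom.comp_apply, ← Over.comp_left, this]
    exact (s.1 (IsLocalRing.closedPoint K)).2
  · rw [← Over.w τ.hom, ← morphismRestrict_ι_assoc]
    exact MorphismProperty.comp_mem @LocallyOfFiniteType _ _ inferInstance hW

theorem mem_of_bc {L : Type u} [Field L] (φ : K →+* L) {x : G.left} (hx : x ∈ lft G.hom)
    (z : ((Over.pullback (Spec.map (CommRingCat.ofHom φ))).obj G).left)
    (hz : pullback.fst G.hom (Spec.map (CommRingCat.ofHom φ)) z = x) :
    z ∈ lft ((Over.pullback (Spec.map (CommRingCat.ofHom φ))).obj G).hom := by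
  obtain ⟨U, hxU, hU⟩ := hx
  exact ⟨_, show z ∈ pullback.fst G.hom (Spec.map (CommRingCat.ofHom φ)) ⁻¹ᵁ U from (by show pullback.fst G.hom (Spec.map (CommRingCat.ofHom φ)) z ∈ U; rw [hz]; exact hxU),
    MorphismProperty.of_isPullback (P := @LocallyOfFiniteType)
      (Loci.isPullback_restrict (IsPullback.of_hasPullback G.hom (Spec.map (CommRingCat.ofHom φ))) U) hU⟩

theorem component_subset (h : (e₀ G) ∈ lft G.hom) : connectedComponent (e₀ G) ⊆ lft G.hom := by
  obtain ⟨U, heU, hU⟩ := h
  haveI := hU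
  intro x hx
  obtain ⟨g, hg, hge⟩ := exists_isMaxPt (e₀ G)
  rw [connectedComponent_one hg hge] at hx
  obtain ⟨p, ⟨hp1, hp2⟩, hpx⟩ := exists_mul_eq hg hge hx U.2 U.2
    ⟨_, heU, specializes_iff_mem_closure.mp hge⟩ ⟨_, heU, specializes_iff_mem_closure.mp hge⟩
  let T : Over (Spec (CommRingCat.of K)) := Over.mk (U.ι ≫ G.hom)
  let j : T ⟶ G := Over.homMk U.ι rfl
  haveI : LocallyOfFiniteType T.hom := hU
  haveI : LocallyOfFinitePresentation T.hom :=
    LocallyOfFinitePresentation.iff_locallyOfFiniteType.mpr hU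
  haveI : Flat T.hom := inferInstance
  haveI : IsOpenImmersion (T ◁ j).left := by
    have e : (T ◁ j).left = pullback.map T.hom T.hom T.hom G.hom (𝟙 _) j.left (𝟙 _)
        (by simp) (by rw [Category.comp_id]; exact (Over.w j).symm) := Over.whiskerLeft_left j
    rw [e]
    haveI : IsOpenImmersion j.left := inferInstanceAs (IsOpenImmersion U.ι)
    infer_instance
  let m : (T ⊗ T).left ⟶ G.left := ((T ◁ j) ≫ (shearIso j).hom ≫ snd T G).left
  haveI : Flat (snd T G).left := inferInstanceAs (Flat (pullback.snd T.hom G.hom))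
  haveI : LocallyOfFinitePresentation (snd T G).left :=
    inferInstanceAs (LocallyOfFinitePresentation (pullback.snd T.hom G.hom))
  have hm : Flat m ∧ LocallyOfFinitePresentation m := by
    simp only [m, Over.comp_left]
    exact ⟨inferInstance, inferInstance⟩
  haveI := hm.1
  haveI := hm.2
  have hm' : (T ◁ j) ≫ (shearIso j).hom ≫ snd T G = (j ⊗ₘ j) ≫ μ[G] := by
    rw [shearIso_hom_snd, ← Category.assoc]
    congr 1
    exact (tensorHom_def' j j).symm
  obtain ⟨q, hq⟩ : p ∈ Set.range (j ⊗ₘ j).left := by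
    have e : (j ⊗ₘ j).left = pullback.map T.hom T.hom G.hom G.hom j.left j.left (𝟙 _)
        (by rw [Category.comp_id, Over.w j]) (by rw [Category.comp_id, Over.w j]) := Over.tensorHom_left j j
    rw [e]
    refine (Scheme.Pullback.range_map _ _ _ _ _ _ _ _ _).ge ?_
    refine ⟨?_, ?_⟩
    · exact (Scheme.Opens.range_ι U).ge hp1
    · exact (Scheme.Opens.range_ι U).ge hp2
  let V : G.left.Opens := ⟨Set.range m, m.isOpenMap.isOpen_range⟩
  have hle : ⊤ ≤ m ⁻¹ᵁ V := fun z _ => ⟨z, rfl⟩
  refine ⟨V, ⟨q, by simp only [m, hm']; rw [Over.comp_left, Scheme.Hom.comp_apply, hq]; exact hpx⟩, ?_⟩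
  let r : (T ⊗ T).left ⟶ V.toScheme := IsOpenImmersion.lift V.ι m (by rw [Scheme.Opens.range_ι]; rfl)
  have hr : r ≫ V.ι = m := IsOpenImmersion.lift_fac _ _ _
  haveI : Flat r := MorphismProperty.of_postcomp (W' := @IsOpenImmersion) @Flat r V.ι inferInstance (by rw [hr]; infer_instance)
  haveI : LocallyOfFinitePresentation r :=
    MorphismProperty.of_postcomp (W' := @IsOpenImmersion) @LocallyOfFinitePresentation r V.ι inferInstance (by rw [hr]; infer_instance)
  haveI : Surjective r := ⟨fun ⟨y, z, hz⟩ => ⟨z, Subtype.ext (by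
    exact (Scheme.Hom.comp_apply r V.ι z).symm.trans (by rw [hr]; exact hz))⟩⟩
  haveI : LocallyOfFiniteType (r ≫ V.ι ≫ G.hom) := by
    have : r ≫ V.ι ≫ G.hom = (T ⊗ T).hom := by
      rw [← Category.assoc, hr]; exact Over.w _
    rw [this]
    exact inferInstanceAs (LocallyOfFiniteType (pullback.fst T.hom T.hom ≫ T.hom))
  exact SrcDescent.locallyOfFiniteType_of_fppf_comp r _

theorem isOpen_component (h : (e₀ G) ∈ lft G.hom) : IsOpen (connectedComponent (e₀ G)) := by
  obtain ⟨c, hc, hcx⟩ := exists_isMaxPt (e₀ G)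
  have hsub := component_subset h
  rw [connectedComponent_one hc hcx] at hsub ⊢
  refine isOpen_iff_forall_mem_open.mpr fun y hy => ?_
  have hcy : c ⤳ y := specializes_iff_mem_closure.mpr hy
  obtain ⟨W, hyW, hW⟩ := hsub hy
  obtain ⟨V, hV, hyV, hVW⟩ := exists_isAffineOpen_mem_and_subset (U := W) hyW
  haveI : IsNoetherianRing Γ(G.left, V) := by
    haveI := hW
    haveI : IsLocallyNoetherian W.toScheme := LocallyOfFiniteType.isLocallyNoetherian (W.ι ≫ G.hom)
    haveI : IsAffine V.toScheme := hV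
    haveI : IsLocallyNoetherian V.toScheme := isLocallyNoetherian_of_isOpenImmersion (G.left.homOfLE hVW)
    haveI := IsLocallyNoetherian.component_noetherian (X := V.toScheme) ⟨⊤, isAffineOpen_top _⟩
    exact isNoetherianRing_of_ringEquiv _ V.topIso.commRingCatIsoToRingEquiv
  haveI : NoetherianSpace (V : Set G.left) := noetherianSpace_of_isAffineOpen V hV
  let bad : Set (Set (V : Set G.left)) := {Z ∈ irreducibleComponents _ | (⟨y, hyV⟩ : (V : Set G.left)) ∉ Z}
  have hbad : bad.Finite := NoetherianSpace.finite_irreducibleComponents.subset fun Z h => h.1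
  have hB : IsClosed (⋃₀ bad) := by
    rw [Set.sUnion_eq_biUnion]
    exact hbad.isClosed_biUnion fun Z hZ => isClosed_of_mem_irreducibleComponents Z hZ.1
  refine ⟨Subtype.val '' (⋃₀ bad)ᶜ, ?_, V.2.isOpenMap_subtype_val _ hB.isOpen_compl,
    ⟨⟨y, hyV⟩, fun ⟨Z, hZ, hyZ⟩ => hZ.2 hyZ, rfl⟩⟩
  rintro _ ⟨z, hz, rfl⟩
  let Z : Set (V : Set G.left) := irreducibleComponent z
  have hyZ : (⟨y, hyV⟩ : (V : Set G.left)) ∈ Z := by
    by_contra h
    exact hz ⟨Z, ⟨irreducibleComponent_mem_irreducibleComponents z, h⟩, mem_irreducibleComponent⟩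
  have hirr : IsIrreducible (Subtype.val '' Z : Set G.left) :=
    isIrreducible_irreducibleComponent.image _ continuous_subtype_val.continuousOn
  obtain ⟨d, hd, hdg⟩ := exists_isMaxPt hirr.genericPoint
  have hg := hirr.isGenericPoint_genericPoint_closure
  have hgy := hg.specializes (subset_closure ⟨_, hyZ, rfl⟩)
  have hgz := hg.specializes (subset_closure ⟨_, mem_irreducibleComponent, rfl⟩)
  rw [hc.eq uniComp hd hcy (hdg.trans hgy)]
  exact (hdg.trans hgz).mem_closure

/-- A rational point lies in a quasi-compact connected clopen set inside the finite type locus. -/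
theorem exists_piece (h : (e₀ G) ∈ lft G.hom) (a : 𝟙_ (Over (Spec (CommRingCat.of K))) ⟶ G) :
    ∃ C : Set G.left, IsClopen C ∧ IsCompact C ∧ _root_.IsConnected C ∧
      a.left (IsLocalRing.closedPoint K) ∈ C ∧ C ⊆ lft G.hom := by
  let τ := HomFlatLft.rTrans a
  haveI : IsIso τ.hom.left := ((Over.forget _).mapIso τ).isIso_hom
  let C₀ := connectedComponent (e₀ G)
  refine ⟨τ.hom.left '' C₀, ⟨τ.hom.left.homeomorph.isClosedMap _ isClosed_connectedComponent,
    τ.hom.left.homeomorph.isOpenMap _ (isOpen_component h)⟩,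
    (isCompact_connectedComponent _).image τ.hom.left.continuous,
    (isConnected_connectedComponent).image _ τ.hom.left.continuous.continuousOn,
    ⟨e₀ G, mem_connectedComponent, ?_⟩, ?_⟩
  · have : η[G] ≫ τ.hom = a := by
      simp only [τ, HomFlatLft.rTrans, MonObj.comp_mul, Category.comp_id, ← Category.assoc, comp_toUnit,
        toUnit_unique (toUnit (𝟙_ (Over (Spec (CommRingCat.of K))))) (𝟙 _), Category.id_comp]
      rw [show η[G] = (1 : 𝟙_ (Over (Spec (CommRingCat.of K))) ⟶ G) by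
        rw [Hom.one_def, toUnit_unique (toUnit (𝟙_ _)) (𝟙 _), Category.id_comp], _root_.one_mul]
    rw [← Scheme.Hom.comp_apply, ← Over.comp_left, this]
  · rintro _ ⟨y, hy, rfl⟩
    obtain ⟨W, hyW, hW⟩ := component_subset h hy
    haveI : IsIso τ.inv.left := ((Over.forget _).mapIso τ.symm).isIso_hom
    refine ⟨τ.inv.left ⁻¹ᵁ W, ?_, ?_⟩
    · show τ.inv.left (τ.hom.left y) ∈ W
      rw [← Scheme.Hom.comp_apply, ← Over.comp_left, τ.hom_inv_id]
      exact hyW
    · rw [← Over.w τ.inv, ← morphismRestrict_ι_assoc]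
      exact MorphismProperty.comp_mem @LocallyOfFiniteType _ _ inferInstance hW

/-- Over an algebraically closed field every point has a neighbourhood of finite type. -/
theorem mem_of_isAlgClosed [IsAlgClosed K] (h : (e₀ G) ∈ lft G.hom) (w : G.left) : w ∈ lft G.hom := by
  let L : Type u := G.left.residueField w
  obtain ⟨φ, hφ⟩ := Spec.map_surjective (G.left.fromSpecResidueField w ≫ G.hom)
  letI : Algebra K L := φ.hom.toAlgebra
  let τ : Spec (CommRingCat.of L) ⟶ Spec (CommRingCat.of K) := Spec.map (CommRingCat.ofHom φ.hom)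
  let GE := (Over.pullback τ).obj G
  let π : GE.left ⟶ G.left := pullback.fst G.hom τ
  let a : 𝟙_ (Over (Spec (CommRingCat.of L))) ⟶ GE :=
    Over.homMk (pullback.lift (G.left.fromSpecResidueField w) (𝟙 _) (by rw [← hφ, Category.id_comp]; rfl))
      (pullback.lift_snd _ _ _)
  have hu : η[GE].left (IsLocalRing.closedPoint L) ∈ lft GE.hom := by
    refine mem_of_bc φ.hom h _ ?_
    refine (Neutral.bc_unit G τ _).trans (congrArg _ ?_)
    exact Subsingleton.elim (α := PrimeSpectrum K) _ _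
  obtain ⟨C, hC, hCc, hCconn, haC, hCl⟩ := exists_piece hu a
  have hπopen : IsOpenMap π := by
    haveI : UniversallyOpen τ := FBaseLib.universallyOpen_spec_map_field φ.hom
    haveI : UniversallyOpen π := inferInstanceAs (UniversallyOpen (pullback.fst G.hom τ))
    exact π.isOpenMap
  let P : G.left.Opens := ⟨π '' C, hπopen _ hC.2⟩
  have hwP : w ∈ P := ⟨_, haC, by
    show π ((pullback.lift (G.left.fromSpecResidueField w) (𝟙 _) _ : _ ⟶ GE.left) _) = w
    rw [← Scheme.Hom.comp_apply, pullback.lift_fst]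
    exact G.left.fromSpecResidueField_apply w _⟩
  have hconn : _root_.IsConnected (π ⁻¹' (P : Set G.left)) :=
    FBaseLib.isConnected_preimage_bcπ G.hom L (hCconn.image _ π.continuous.continuousOn)
  have hsub : π ⁻¹' (P : Set G.left) ⊆ C :=
    hconn.isPreconnected.subset_isClopen hC ⟨_, ⟨_, haC, rfl⟩, haC⟩
  refine ⟨P, hwP, ?_⟩
  have hP : LocallyOfFiniteType ((π ⁻¹ᵁ P).ι ≫ GE.hom) := by
    refine Loci.of_forall_mem @LocallyOfFiniteType _ fun y => ?_
    obtain ⟨W, hyW, hW⟩ := hCl (hsub y.2)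
    refine ⟨(π ⁻¹ᵁ P).ι ⁻¹ᵁ W, hyW, ?_⟩
    rw [show ((π ⁻¹ᵁ P).ι ⁻¹ᵁ W).ι ≫ (π ⁻¹ᵁ P).ι ≫ GE.hom = ((π ⁻¹ᵁ P).ι ∣_ W) ≫ W.ι ≫ GE.hom by
      rw [morphismRestrict_ι_assoc]]
    exact IsZariskiLocalAtSource.comp (P := @LocallyOfFiniteType) hW _
  haveI : Flat τ := flat_spec_map_field φ.hom
  haveI : Surjective τ := surjective_spec_map_field φ.hom
  exact MorphismProperty.of_isPullback_of_descendsAlong (P := @LocallyOfFiniteType)
    (Q := @Surjective ⊓ @Flat ⊓ @QuasiCompact)
    (Loci.isPullback_restrict (IsPullback.of_hasPullback G.hom τ) P).flip ⟨⟨‹_›, ‹_›⟩, inferInstance⟩ hP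

/-- A group over a field with a nonempty open of finite type is locally of finite type. -/
theorem locallyOfFiniteType_of_mem {x : G.left} (hx : x ∈ lft G.hom) : LocallyOfFiniteType G.hom := by
  let L : Type u := AlgebraicClosure K
  let φ : K →+* L := algebraMap K L
  let τ : Spec (CommRingCat.of L) ⟶ Spec (CommRingCat.of K) := Spec.map (CommRingCat.ofHom φ)
  haveI : Flat τ := flat_spec_map_field φ
  haveI : Surjective τ := surjective_spec_map_field φ
  let GE := (Over.pullback τ).obj G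
  haveI : Surjective (pullback.fst G.hom τ) := inferInstance
  obtain ⟨z, hz⟩ := (pullback.fst G.hom τ).surjective x
  have h := unit_mem_of_isAlgClosed (G := GE) (mem_of_bc φ hx z hz)
  have : LocallyOfFiniteType GE.hom := Loci.of_forall_mem @LocallyOfFiniteType _ fun w => mem_of_isAlgClosed h w
  exact MorphismProperty.of_isPullback_of_descendsAlong (P := @LocallyOfFiniteType)
    (Q := @Surjective ⊓ @Flat ⊓ @QuasiCompact)
    (IsPullback.of_hasPullback G.hom τ).flip ⟨⟨‹_›, ‹_›⟩, inferInstance⟩ this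

end Groth.Agent.GrpSchLib.LftFromOpen
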