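import Groth.Agent.GrpSchLib.Homogeneous
import Groth.Agent.GrpSchLib.Action
import Groth.Agent.FibDim.Top
import Groth.Agent.VarDim.Fibre
import Mathlib.Topology.KrullDimension

/-! Boundaries of orbits have smaller dimension and are stable. -/

universe u

open CategoryTheory AlgebraicGeometry MonoidalCategory CartesianMonoidalCategory MonObj GrpObj

namespace Groth.Agent.GrpSchLib.OrbitDim

variable {k : Type u} [Field k]

theorem dim_boundary_lt {X : Scheme.{u}} (f : X ⟶ Spec (CommRingCat.of k)) [LocallyOfFiniteType f] [QuasiCompact f]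
    {R : Set X} (hne : R.Nonempty) (hR : IsLocallyClosed R) :
    topologicalKrullDim ↥(closure R \ R) < topologicalKrullDim ↥R := by
  classical
  have : IsLocallyNoetherian X := LocallyOfFiniteType.isLocallyNoetherian f
  haveI : CompactSpace X := (quasiCompact_iff_compactSpace f).mp inferInstance
  haveI : Nonempty X := ⟨hne.some⟩
  obtain ⟨η₀, -, hN, -⟩ := VarDim.exists_deg_eq_topologicalKrullDim (p := f)
  have hRW : R = coborder R ∩ closure R := (coborder_inter_closure).symm
  obtain ⟨ρ, hρ, hmax⟩ := (show ∃ ρ ∈ R, ∀ z ∈ R, VarDim.deg f z ≤ VarDim.deg f ρ by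
    have hfin : (VarDim.deg f '' R).Finite := (Set.finite_Iic (VarDim.deg f η₀)).subset (by rintro _ ⟨z, -, rfl⟩; exact hN z)
    obtain ⟨_, ⟨ρ, hρ, rfl⟩, hm⟩ := hfin.exists_maximal (hne.image _)
    refine ⟨ρ, hρ, fun z hz => ?_⟩
    rcases le_total (VarDim.deg f z) (VarDim.deg f ρ) with h | h
    · exact h
    · exact hm ⟨z, hz, rfl⟩ h)
  have hdimR : ((VarDim.deg f ρ : ℕ∞) : WithBot ℕ∞) ≤ topologicalKrullDim ↥R := by
    rw [hRW] at hρ ⊢
    rw [FibDim.topologicalKrullDim_locClosed_eq_iSup_deg f hR.isOpen_coborder isClosed_closure]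
    exact le_iSup (fun z : ↥(coborder R ∩ closure R) => ((VarDim.deg f z.1 : ℕ∞) : WithBot ℕ∞)) ⟨ρ, hρ⟩
  refine lt_of_lt_of_le ?_ hdimR
  have hB : IsClosed (closure R \ R) := ⟨hR.isOpen_coborder⟩
  rcases (closure R \ R).eq_empty_or_nonempty with h | h
  · haveI : IsEmpty ↥(closure R \ R) := Set.isEmpty_coe_sort.mpr h
    rw [VarDim.topologicalKrullDim_set_eq_iSup_deg f hB, iSup_of_empty]
    exact WithBot.bot_lt_coe _
  have key : ∀ z ∈ closure R \ R, VarDim.deg f z < VarDim.deg f ρ := by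
    rintro z ⟨hz, hzR⟩
    obtain ⟨V, hzV, hV⟩ := FibDim.exists_nhd_generizing (isClosed_closure (s := R)) z
    obtain ⟨r, hrV, hrR⟩ := mem_closure_iff.mp hz V V.2 hzV
    obtain ⟨ξ, hξC, hξz, hξr⟩ := hV r hrV (subset_closure hrR)
    have hrW : r ∈ coborder R := subset_coborder hrR
    have hξR : ξ ∈ R := hRW ▸ ⟨hξr.mem_open hR.isOpen_coborder hrW, hξC⟩
    refine lt_of_lt_of_le (VarDim.deg_strictMono f (lt_iff_le_not_ge.2 ⟨hξz, fun h' => hzR ?_⟩)) (hmax ξ hξR)
    rwa [(hξz.antisymm h').eq] at hξR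
  obtain ⟨z₀, hz₀⟩ := h
  have h1 := key z₀ hz₀
  rw [VarDim.topologicalKrullDim_set_eq_iSup_deg f hB]
  refine lt_of_le_of_lt (iSup_le fun z => ?_) (b := (((VarDim.deg f ρ - 1 : ℕ) : ℕ∞) : WithBot ℕ∞)) ?_
  · have := key z.1 z.2
    exact WithBot.coe_le_coe.mpr (Nat.cast_le.mpr (by omega))
  · exact WithBot.coe_lt_coe.mpr (Nat.cast_lt.mpr (by omega))

variable [IsAlgClosed k] {G X : Over (Spec (CommRingCat.of k))} [GrpObj G] [Smooth G.hom] [QuasiCompact G.hom]
  [LocallyOfFiniteType X.hom] [QuasiCompact X.hom] (a : AlgGrp.Action G X)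
  (x : 𝟙_ (Over (Spec (CommRingCat.of k))) ⟶ X)

include a in
theorem isLocallyClosed_orbit : IsLocallyClosed (Set.range (a.orbitMap x).left) := by
  have : Nonempty G.left := ⟨(η[G] : 𝟙_ _ ⟶ G).left (IsLocalRing.closedPoint k)⟩
  have : IsLocallyNoetherian X.left := LocallyOfFiniteType.isLocallyNoetherian X.hom
  have : QuasiSeparated X.hom := (quasiSeparated_iff_quasiSeparatedSpace X.hom).mpr inferInstance
  have : QuasiCompact (a.orbitMap x).left := by
    have : QuasiCompact ((a.orbitMap x).left ≫ X.hom) := by rw [Over.w (a.orbitMap x)]; infer_instance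
    exact QuasiCompact.of_comp (a.orbitMap x).left X.hom
  refine isLocallyClosed_range_of_homogeneous (K := k) (a.orbitMap x) fun w w' => ?_
  obtain ⟨S, T, h1, -, h3⟩ := orbitMap_homogeneous a x w w'
  exact ⟨S, T, h1, h3⟩

include a in
theorem nonempty_orbit : (Set.range (a.orbitMap x).left).Nonempty :=
  ⟨_, (η[G] : 𝟙_ _ ⟶ G).left (IsLocalRing.closedPoint k), rfl⟩

include a in
theorem exists_orbit_subset_boundary (hnc : ¬ IsClosed (Set.range (a.orbitMap x).left)) :
    ∃ y : 𝟙_ (Over (Spec (CommRingCat.of k))) ⟶ X, Set.range (a.orbitMap y).left ⊆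
      closure (Set.range (a.orbitMap x).left) \ Set.range (a.orbitMap x).left := by
  classical
  have : JacobsonSpace X.left := LocallyOfFiniteType.jacobsonSpace X.hom
  have : JacobsonSpace G.left := LocallyOfFiniteType.jacobsonSpace G.hom
  let pt : ∀ {Z : Over (Spec (CommRingCat.of k))} [LocallyOfFiniteType Z.hom] (z : Z.left), IsClosed {z} →
      (𝟙_ _ ⟶ Z) := fun {Z} _ z hz => Over.homMk _ ((pointEquivClosedPoint Z.hom).symm ⟨z, hz⟩).2
  have hpt : ∀ {Z : Over (Spec (CommRingCat.of k))} [LocallyOfFiniteType Z.hom] (z : Z.left) (hz : IsClosed {z}),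
      (pt z hz).left (IsLocalRing.closedPoint k) = z := fun {Z} _ z hz =>
    congrArg Subtype.val ((pointEquivClosedPoint Z.hom).apply_symm_apply ⟨z, hz⟩)
  let R : (𝟙_ _ ⟶ X) → Set X.left := fun x => Set.range (a.orbitMap x).left
  -- rational translations preserve the orbit
  have htrans : ∀ g : 𝟙_ _ ⟶ G, ∃ T : X ≅ X, (∀ y : 𝟙_ _ ⟶ X, lift g y ≫ a.act = y ≫ T.hom) ∧
      T.hom.left ⁻¹' R x = R x := by
    intro g
    let T : X ≅ X :=
      { hom := lift (toUnit X ≫ g) (𝟙 X) ≫ a.act
        inv := lift (toUnit X ≫ g)⁻¹ (𝟙 X) ≫ a.act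
        hom_inv_id := by
          rw [← Category.assoc, comp_lift, Category.comp_id, GrpObj.comp_inv, ← Category.assoc (lift _ _ ≫ _),
            comp_toUnit, act_mul, inv_mul_cancel, act_one]
        inv_hom_id := by
          rw [← Category.assoc, comp_lift, Category.comp_id, ← Category.assoc (lift _ _ ≫ _),
            comp_toUnit, act_mul, mul_inv_cancel, act_one] }
    let M : G ≅ G :=
      { hom := (toUnit G ≫ g) * 𝟙 G
        inv := (toUnit G ≫ g)⁻¹ * 𝟙 G
        hom_inv_id := by
          simp only [MonObj.comp_mul, GrpObj.comp_inv, ← Category.assoc, comp_toUnit, Category.comp_id]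
          group
        inv_hom_id := by
          simp only [MonObj.comp_mul, ← Category.assoc, comp_toUnit, Category.comp_id]
          group }
    have hcomm : M.hom ≫ a.orbitMap x = a.orbitMap x ≫ T.hom := by
      simp only [M, T, AlgGrp.Action.orbitMap, ← Category.assoc, comp_lift, Category.comp_id, comp_toUnit]
      rw [act_mul]
    have : IsIso T.hom.left := ((Over.forget _).mapIso T).isIso_hom
    have : IsIso M.hom.left := ((Over.forget _).mapIso M).isIso_hom
    refine ⟨T, fun y => ?_, ?_⟩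
    · simp only [T, ← Category.assoc, comp_lift, Category.comp_id, comp_toUnit, toUnit_unit, Category.id_comp]
    · have hz : ∀ z, T.hom.left ((a.orbitMap x).left z) = (a.orbitMap x).left (M.hom.left z) := fun z =>
        (congrArg (fun e : G ⟶ X => e.left z) hcomm).symm
      ext p
      constructor
      · rintro ⟨z, hz'⟩
        obtain ⟨z', rfl⟩ := M.hom.left.surjective z
        exact ⟨z', T.hom.left.injective ((hz z').trans hz')⟩
      · rintro ⟨z, rfl⟩
        exact ⟨_, (hz z).symm⟩
  have hlc : IsLocallyClosed (R x) := isLocallyClosed_orbit a x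
  let B : Set X.left := closure (R x) \ R x
  have hB : IsClosed B := ⟨hlc.isOpen_coborder⟩
  obtain ⟨y₀, hy₀, hyc⟩ := nonempty_inter_closedPoints (Z := B) (by
    rw [Set.nonempty_iff_ne_empty]
    intro h
    exact hnc (closure_subset_iff_isClosed.mp (Set.sdiff_eq_empty.mp h))) hB.isLocallyClosed
  let y := pt y₀ hyc
  have hR : R y ⊆ B := by
    rintro _ ⟨z, rfl⟩
    by_contra hz
    obtain ⟨c, hc1, hc⟩ := nonempty_inter_closedPoints (Z := ((a.orbitMap y).left ⁻¹' B)ᶜ) ⟨z, hz⟩
      (hB.preimage (a.orbitMap y).left.continuous).isOpen_compl.isLocallyClosed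
    refine hc1 ?_
    obtain ⟨T, hTy, hTR⟩ := htrans (pt c hc)
    have : IsIso T.hom.left := ((Over.forget _).mapIso T).isIso_hom
    have hTcl : T.hom.left ⁻¹' closure (R x) = closure (R x) := by
      rw [T.hom.left.isOpenMap.preimage_closure_eq_closure_preimage T.hom.left.continuous, hTR]
    have e : (a.orbitMap y).left c = T.hom.left y₀ := by
      have h1 : pt c hc ≫ a.orbitMap y = y ≫ T.hom := by
        rw [← hTy y, AlgGrp.Action.orbitMap, ← Category.assoc, comp_lift, Category.comp_id, ← Category.assoc,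
          comp_toUnit, toUnit_unit, Category.id_comp]
      have h2 := congrArg (fun e : 𝟙_ _ ⟶ X => e.left (IsLocalRing.closedPoint k)) h1
      exact ((congrArg (a.orbitMap y).left (hpt c hc)).symm.trans h2).trans (congrArg T.hom.left (hpt y₀ hyc))
    show (a.orbitMap y).left c ∈ B
    rw [e]
    refine ⟨?_, fun h => hy₀.2 ?_⟩
    · show y₀ ∈ T.hom.left ⁻¹' closure (R x)
      rw [hTcl]
      exact hy₀.1
    · rw [← hTR]
      exact h
  exact ⟨y, hR⟩

end Groth.Agent.GrpSchLib.OrbitDim
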