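import Groth.Agent.GeomField.Reduced

/-!
# Geometric reducedness from a dense family of geometrically reduced schemes

A reduced scheme over a field which receives geometrically reduced schemes with jointly dense image is
geometrically reduced.
-/

universe u

open CategoryTheory CategoryTheory.Limits AlgebraicGeometry TensorProduct

set_option backward.isDefEq.respectTransparency false
set_option backward.isDefEq.respectTransparency.types false

namespace Groth.Agent.GrpSchLib.GeomRedDense

attribute [local instance] Curv2.stalkAlgebra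

variable {k : Type u} [Field k]

theorem stalkMap_comp {W X : Scheme.{u}} [W.Over (Spec (CommRingCat.of k))] [X.Over (Spec (CommRingCat.of k))]
    (v : W ⟶ X) (hv : v ≫ (X ↘ Spec (CommRingCat.of k)) = W ↘ Spec (CommRingCat.of k)) (w : W) (a : k) :
    (v.stalkMap w).hom (Curv2.stalkMap k X (v w) a) = Curv2.stalkMap k W w a := by
  simp only [Curv2.stalkMap, RingHom.comp_apply, Coh.toGlobal]
  erw [Scheme.Hom.germ_stalkMap_apply v ⊤ w trivial]
  rw [← hv, Scheme.Hom.comp_appTop]
  rfl

variable {X : Scheme.{u}} [X.Over (Spec (CommRingCat.of k))]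

/-- The chart ring of a reduced scheme embeds into the stalks along a dense family. -/
theorem geometricallyReduced_of_dense [IsReduced X] {A : Type*} (W : A → Scheme.{u})
    [∀ a, (W a).Over (Spec (CommRingCat.of k))] (v : ∀ a, W a ⟶ X)
    (hv : ∀ a, v a ≫ (X ↘ Spec (CommRingCat.of k)) = W a ↘ Spec (CommRingCat.of k))
    (hred : ∀ a, GeometricallyReduced (W a ↘ Spec (CommRingCat.of k)))
    (hd : Dense (⋃ a, Set.range (v a))) : GeometricallyReduced (X ↘ Spec (CommRingCat.of k)) := by
  rw [GeomField.geometricallyReduced_iff]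
  intro x
  rw [GeomField.isGeomReducedAt_iff]
  obtain ⟨c, P, rfl⟩ := GeomField.exists_chart (k := k) x
  obtain ⟨_, _, _⟩ := c.exists_stalk_algebra P
  suffices Algebra.IsGeometricallyReduced k c.R from
    GeomField.gr_localization c.R _ (PrimeSpectrum.asIdeal (R := c.R) P).primeCompl
  haveI : _root_.IsReduced c.R := by
    haveI : IsReduced (Spec (CommRingCat.of c.R)) := isReduced_of_isOpenImmersion c.emb
    exact (affine_isReduced_iff (CommRingCat.of c.R)).1 inferInstance
  rw [GeomField.gr_iff]
  let ι' := Σ a : A, {p : W a × Spec (CommRingCat.of c.R) // (v a) p.1 = c.emb p.2}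
  let F : ∀ i : ι', c.R →ₐ[k] (W i.1).presheaf.stalk i.2.1.1 := fun i =>
    { toRingHom := ((v i.1).stalkMap i.2.1.1).hom.comp
        ((X.presheaf.stalkCongr (Inseparable.of_eq i.2.2.symm)).hom.hom.comp (c.toStalk i.2.1.2))
      commutes' := fun r => by
        show ((v i.1).stalkMap i.2.1.1).hom
          ((X.presheaf.stalkCongr (Inseparable.of_eq i.2.2.symm)).hom.hom
            (c.toStalk i.2.1.2 (algebraMap k c.R r))) = _
        rw [c.toStalk_algebraMap]
        refine Eq.trans ?_ (stalkMap_comp (v i.1) (hv i.1) i.2.1.1 r)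
        congr 1
        simp only [Curv2.stalkMap, RingHom.comp_apply, TopCat.Presheaf.stalkCongr_hom]
        exact TopCat.Presheaf.germ_stalkSpecializes_apply X.presheaf _ _ _ }
  refine GeomField.isReduced_tensor_of_jointly_injective (AlgebraicClosure k)
    (fun i : ι' => ↑((W i.1).presheaf.stalk i.2.1.1)) F (fun f hf => ?_) fun i => ?_
  · by_contra hne
    obtain ⟨p, hp⟩ : ∃ p : PrimeSpectrum c.R, f ∉ p.asIdeal := by
      by_contra hall
      push Not at hall
      refine hne ?_
      have : f ∈ nilradical c.R := by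
        rw [nilradical_eq_sInf]
        exact Ideal.mem_sInf.2 fun {J} hJ => hall ⟨J, hJ⟩
      exact (mem_nilradical.1 this).eq_zero
    obtain ⟨q, hq, y, hy, rfl⟩ := hd.exists_mem_open
      (c.emb.isOpenEmbedding.isOpenMap _ (PrimeSpectrum.isOpen_basicOpen (a := f)))
      ⟨c.emb p, p, hp, rfl⟩
    obtain ⟨a, w, hw⟩ := Set.mem_iUnion.1 hq
    let i : ι' := ⟨a, ⟨(w, y), hw⟩⟩
    have h1 : IsUnit (F i f) := by
      have h0 : IsUnit (c.toStalk y f) := by
        letI := c.stalkAlg y
        haveI := c.isLocalization_stalk y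
        exact IsLocalization.map_units (X.presheaf.stalk (c.emb y))
          (⟨f, hy⟩ : (PrimeSpectrum.asIdeal (R := c.R) y).primeCompl)
      exact (h0.map (X.presheaf.stalkCongr (Inseparable.of_eq hw.symm)).hom.hom).map ((v a).stalkMap w).hom
    rw [hf i] at h1
    exact not_isUnit_zero h1
  · haveI : Algebra.IsGeometricallyReduced k ((W i.1).presheaf.stalk i.2.1.1) :=
      (GeomField.isGeomReducedAt_iff _).1
        ((GeomField.geometricallyReduced_iff (k := k) (X := W i.1)).1 (hred i.1) i.2.1.1)
    exact (GeomField.gr_iff (k := k) _).1 inferInstance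

end Groth.Agent.GrpSchLib.GeomRedDense
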