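import Groth.Agent.GrpSchLib.GLnHom
import Groth.Agent.GrpSchLib.LineGroups

/-! Finitely many members of a family of matrix representations detect the common kernel. -/

universe u v

open CategoryTheory Limits AlgebraicGeometry MonoidalCategory CartesianMonoidalCategory MonObj GrpObj

namespace Groth.Agent.GrpSchLib.RepFamily

open Kunneth LineGroups

variable {k : Type u} [Field k] {G : Over (Spec (CommRingCat.of k))} [LocallyOfFiniteType G.hom] [QuasiCompact G.hom]
  {α : Type v} {d : α → ℕ} (M : ∀ a, Matrix (Fin (d a)) (Fin (d a)) (Fn G))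

/-- Finitely many matrices detect when all matrices of a family are trivial at a point. -/
theorem exists_detect : ∃ F : Finset α, ∀ (T : Over (Spec (CommRingCat.of k))) (g : T ⟶ G),
    (∀ a ∈ F, (M a).map (ev g) = 1) → ∀ a, (M a).map (ev g) = 1 := by
  classical
  haveI : IsLocallyNoetherian G.left := LocallyOfFiniteType.isLocallyNoetherian G.hom
  haveI : CompactSpace G.left := (quasiCompact_iff_compactSpace G.hom).mp inferInstance
  let 𝒰 := G.left.affineCover.finiteSubcover
  let V : ∀ i : 𝒰.I₀, Over (Spec (CommRingCat.of k)) := fun i => Over.mk (𝒰.f i ≫ G.hom)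
  let vι : ∀ i, V i ⟶ G := fun i => Over.homMk (𝒰.f i) rfl
  haveI : ∀ i, IsNoetherianRing (Fn (V i)) := fun i => by
    haveI : IsAffine (V i).left := inferInstanceAs (IsAffine (G.left.affineCover.X _))
    haveI : IsLocallyNoetherian (V i).left := isLocallyNoetherian_of_isOpenImmersion (𝒰.f i)
    exact IsLocallyNoetherian.component_noetherian ⟨⊤, isAffineOpen_top (V i).left⟩
  let ent : ∀ (i : 𝒰.I₀) (a : α), Set (Fn (V i)) := fun i a =>
    Set.range fun p : Fin (d a) × Fin (d a) => ev (vι i) (M a p.1 p.2) - (1 : Matrix _ _ (Fn (V i))) p.1 p.2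
  have hfin : ∀ i, ∃ F : Finset α, ∀ a, ent i a ⊆ Ideal.span (⋃ b ∈ F, ent i b) := by
    intro i
    obtain ⟨s, hs, hspan⟩ := (Submodule.fg_span_iff_fg_span_finset_subset _).mp
      (IsNoetherian.noetherian (Ideal.span (⋃ b, ent i b)))
    choose f hf using fun x : s => Set.mem_iUnion.mp (hs x.2)
    refine ⟨Finset.univ.image f, fun a x hx => ?_⟩
    have hx' : x ∈ Submodule.span (Fn (V i)) (⋃ b, ent i b) := Submodule.subset_span (Set.mem_iUnion.mpr ⟨a, hx⟩)
    rw [hspan] at hx'
    refine Ideal.span_mono ?_ hx'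
    intro z hz
    exact Set.mem_biUnion (Finset.mem_image.mpr ⟨⟨z, hz⟩, Finset.mem_univ _, rfl⟩) (hf ⟨z, hz⟩)
  choose F hF using hfin
  haveI : Finite 𝒰.I₀ := inferInstance
  letI := Fintype.ofFinite 𝒰.I₀
  refine ⟨Finset.univ.biUnion F, fun T g h a => ?_⟩
  refine Matrix.ext fun p q => ?_
  refine sub_eq_zero.mp ?_
  let 𝒯 := 𝒰.pullback₁ g.left
  refine Scheme.zero_of_zero_cover _ 𝒯 fun i => ?_
  let R : Over (Spec (CommRingCat.of k)) := Over.mk (𝒯.f i ≫ T.hom)
  let r : R ⟶ T := Over.homMk (𝒯.f i) rfl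
  let t : R ⟶ V i := Over.homMk (pullback.snd g.left (𝒰.f i)) (by
    show pullback.snd g.left (𝒰.f i) ≫ 𝒰.f i ≫ G.hom = pullback.fst g.left (𝒰.f i) ≫ T.hom
    rw [← pullback.condition_assoc, Over.w g])
  have hrt : r ≫ g = t ≫ vι i := Over.OverMorphism.ext pullback.condition
  show ev r (ev g (M a p q) - (1 : Matrix _ _ (Fn T)) p q) = 0
  have hone : ∀ {S S' : Over (Spec (CommRingCat.of k))} (s : S ⟶ S') (b : α) (c e : Fin (d b)),
      ev s ((1 : Matrix _ _ (Fn S')) c e) = (1 : Matrix _ _ (Fn S)) c e := fun s b c e => by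
    simp [Matrix.one_apply, apply_ite (ev s)]
  have hle : Ideal.span (⋃ b ∈ F i, ent i b) ≤ RingHom.ker (ev t) := by
    refine Ideal.span_le.mpr ?_
    simp only [Set.iUnion_subset_iff]
    rintro b hb _ ⟨⟨c, e⟩, rfl⟩
    show ev t (ev (vι i) (M b c e) - _) = 0
    rw [map_sub, ev_ev, ← hrt, ← ev_ev, hone t b c e, ← hone r b c e, ← map_sub]
    have := congrFun (congrFun (h b (Finset.mem_biUnion.mpr ⟨i, Finset.mem_univ _, hb⟩)) c) e
    rw [show ev g (M b c e) = _ from this, sub_self, map_zero]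
  have h0 : ev t (ev (vι i) (M a p q) - (1 : Matrix _ _ (Fn (V i))) p q) = 0 := hle (hF i a ⟨(p, q), rfl⟩)
  rw [map_sub, ev_ev, ← hrt, ← ev_ev, hone t a p q, ← hone r a p q, ← map_sub] at h0
  exact h0

/-- Finitely many representations combine to one. -/
theorem exists_block [GrpObj G] (hM : ∀ a, IsRepMatrix (M a)) (F : Finset α) :
    ∃ (N : ℕ) (B : Matrix (Fin N) (Fin N) (Fn G)), IsRepMatrix B ∧
      ∀ (T : Over (Spec (CommRingCat.of k))) (g : T ⟶ G), B.map (ev g) = 1 ↔ ∀ a ∈ F, (M a).map (ev g) = 1 := by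
  classical
  let e := Fintype.equivFin (Σ a : F, Fin (d a.1))
  let B₀ : Matrix (Σ a : F, Fin (d a.1)) (Σ a : F, Fin (d a.1)) (Fn G) := Matrix.blockDiagonal' fun a => M a.1
  refine ⟨_, Matrix.reindex e e B₀, ⟨fun T g h => ?_, fun T => ?_⟩, fun T g => ?_⟩
  · simp only [Matrix.reindex_apply, ← Matrix.submatrix_map, Matrix.submatrix_mul_equiv, B₀,
      Matrix.blockDiagonal'_map _ _ (map_zero (ev (g * h))), Matrix.blockDiagonal'_map _ _ (map_zero (ev g)),
      Matrix.blockDiagonal'_map _ _ (map_zero (ev h)), ← Matrix.blockDiagonal'_mul]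
    congr 2
    funext a
    exact (hM a.1).mul T g h
  · simp only [Matrix.reindex_apply, ← Matrix.submatrix_map, B₀,
      Matrix.blockDiagonal'_map _ _ (map_zero (ev (1 : T ⟶ G)))]
    rw [show (fun a : F => (M a.1).map (ev (1 : T ⟶ G))) = 1 from funext fun a => (hM a.1).one T,
      Matrix.blockDiagonal'_one, Matrix.submatrix_one_equiv]
  · simp only [Matrix.reindex_apply, ← Matrix.submatrix_map, B₀, Matrix.blockDiagonal'_map _ _ (map_zero (ev g))]
    rw [← Matrix.submatrix_one_equiv e.symm, ← Matrix.reindex_apply, ← Matrix.reindex_apply,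
      EmbeddingLike.apply_eq_iff_eq, ← Matrix.blockDiagonal'_one, Matrix.blockDiagonal'_inj, funext_iff]
    exact ⟨fun h a ha => h ⟨a, ha⟩, fun h a => h a.1 a.2⟩

end Groth.Agent.GrpSchLib.RepFamily
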