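import Groth.Agent.ComodLib.Chevalley
import Groth.Agent.ComodLib.Antipode
import Groth.Agent.ComodLib.CartierChar0
import Groth.Agent.GrpSchLib.HopfGalois
import Groth.Agent.GrpSchLib.HopfQuotEtale
import Mathlib.RingTheory.Jacobson.Ring
import Mathlib.RingTheory.HopfAlgebra.TensorProduct
import Mathlib.RingTheory.Bialgebra.TensorProduct
import Mathlib.RingTheory.HopfAlgebra.GroupLike
import Mathlib.RingTheory.Bialgebra.GroupLike
import Mathlib.Algebra.CharP.Lemmas
import Mathlib.FieldTheory.IsAlgClosed.AlgebraicClosure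

/-!
# Normal subgroup schemes of affine groups are kernels of representations

Characters of a normal subgroup occurring in representations of the group have their inverses occurring,
up to a power of the residue characteristic; so by Chevalley the subgroup is the stabiliser of a fixed vector,
and the fixed vectors form a representation with that kernel.
-/

universe u

open TensorProduct WithConv

namespace Groth.Agent.ComodLib.Normal

/-- A function vanishing at every rational point is nilpotent. -/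
theorem isNilpotent_of_points {K A : Type u} [Field K] [IsAlgClosed K] [CommRing A] [Algebra K A]
    [Algebra.FiniteType K A] (x : A) (h : ∀ g : A →ₐ[K] K, g x = 0) : IsNilpotent x := by
  haveI : IsJacobsonRing A := isJacobsonRing_of_finiteType (A := K)
  rw [← mem_nilradical, nilradical, Submodule.zero_eq_bot, Ideal.radical_eq_jacobson (⊥ : Ideal A), Ideal.jacobson,
    Ideal.mem_sInf]
  rintro m ⟨-, hm⟩
  haveI := hm
  letI := Ideal.Quotient.field m
  haveI : Module.Finite K (A ⧸ m) := finite_of_finite_type_of_isJacobsonRing K (A ⧸ m)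
  have hbij := IsAlgClosed.algebraMap_bijective_of_isIntegral (k := K) (K := A ⧸ m)
  let e := AlgEquiv.ofBijective (Algebra.ofId K (A ⧸ m)) hbij
  have := h ((e.symm : (A ⧸ m) →ₐ[K] K).comp (Ideal.Quotient.mkₐ K m))
  exact Ideal.Quotient.eq_zero_iff_mem.mp (e.symm.injective (this.trans (map_zero _).symm))

/-- A family of elements of a linearly independent set, up to Frobenius, is locally constant. -/
theorem exists_idem_decomp {K A B : Type u} [Field K] [CommRing A] [Algebra K A] [CommRing B] [Algebra K B]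
    [IsAlgClosed K] [Algebra.FiniteType K A] (p n : ℕ) [ExpChar A p] [ExpChar (A ⊗[K] B) p]
    (hq : ∀ x : A, IsNilpotent x → x ^ p ^ n = 0) {S : Set B} (hS : LinearIndepOn K id S) (θ : A ⊗[K] B)
    (hpt : ∀ g : A →ₐ[K] K, TensorProduct.lid K B (g.toLinearMap.rTensor B θ) ∈ S) :
    ∃ (F : Finset B) (e : B → A), (∀ s ∈ F, s ∈ S) ∧ (∀ s ∈ F, ∀ t ∈ F, s ≠ t → e s * e t = 0) ∧
      (∑ s ∈ F, e s = 1) ∧ θ ^ p ^ n = ∑ s ∈ F, e s ⊗ₜ[K] (s ^ p ^ n) := by
  classical
  let hb := hS.extend (Set.subset_univ _)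
  let b : Module.Basis (hS.extend (Set.subset_univ S)) K B := Module.Basis.extend hS
  let c := TensorProduct.equivFinsuppOfBasisRight (M := A) b θ
  have hθ : θ = ∑ j ∈ c.support, c j ⊗ₜ[K] (b j) := by
    conv_lhs => rw [← (TensorProduct.equivFinsuppOfBasisRight b).symm_apply_apply θ]
    rw [TensorProduct.equivFinsuppOfBasisRight_symm_apply]
    rfl
  have hbj : ∀ j, b j = (j : B) := fun j => Module.Basis.extend_apply_self hS j
  have hg : ∀ (g : A →ₐ[K] K), ∃ j₀ ∈ c.support, (j₀ : B) ∈ S ∧ ∀ j, g (c j) = if j = j₀ then 1 else 0 := by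
    intro g
    have hs := hpt g
    let j₀ : hS.extend (Set.subset_univ S) := ⟨_, hS.subset_extend (Set.subset_univ _) hs⟩
    have hc : ∀ j, g (c j) = b.repr (TensorProduct.lid K B (g.toLinearMap.rTensor B θ)) j := by
      intro j
      rw [hθ]
      simp only [map_sum, LinearMap.rTensor_tmul, TensorProduct.lid_tmul, map_smul, Finsupp.finset_sum_apply,
        Finsupp.smul_apply, Module.Basis.repr_self, AlgHom.toLinearMap_apply, Finsupp.single_apply]
      rw [Finset.sum_eq_single j (fun i _ hi => by simp [hi]) (fun hj => by simp [Finsupp.notMem_support_iff.mp hj])]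
      simp
    have hc' : ∀ j, g (c j) = if j = j₀ then 1 else 0 := by
      intro j
      rw [hc, show TensorProduct.lid K B (g.toLinearMap.rTensor B θ) = b j₀ from (hbj j₀).symm,
        Module.Basis.repr_self, Finsupp.single_apply]
      simp [eq_comm]
    refine ⟨j₀, ?_, hs, hc'⟩
    rw [Finsupp.mem_support_iff]
    intro h0
    have := hc' j₀
    rw [h0, map_zero, if_pos rfl] at this
    exact zero_ne_one this
  let J : Finset (hS.extend (Set.subset_univ S)) := c.support.filter fun j => (j : B) ∈ S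
  have hout : ∀ j : hS.extend (Set.subset_univ S), (j : B) ∉ S → c j ^ p ^ n = 0 := fun j hj => hq _ <| isNilpotent_of_points (K := K) _ fun g => by
    obtain ⟨j₀, -, hj₀, hv⟩ := hg g
    rw [hv, if_neg (fun h => hj (by rw [h]; exact hj₀))]
  have horth : ∀ i j, i ≠ j → c i ^ p ^ n * c j ^ p ^ n = 0 := fun i j hij => by
    rw [← mul_pow]
    refine hq _ (isNilpotent_of_points (K := K) _ fun g => ?_)
    obtain ⟨j₀, -, -, hv⟩ := hg g
    rw [map_mul, hv, hv]
    split_ifs with h1 h2 <;> simp
    exact hij (h1.trans h2.symm)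
  have hsum : ∑ j ∈ J, c j ^ p ^ n = 1 := by
    rw [← sum_pow_char_pow, ← sub_eq_zero]
    have : ((∑ j ∈ J, c j) - 1) ^ p ^ n = 0 := hq _ <| isNilpotent_of_points (K := K) _ fun g => by
      obtain ⟨j₀, hmem, hj₀, hv⟩ := hg g
      rw [map_sub, map_sum, map_one, Finset.sum_eq_single j₀ (fun i _ hi => by rw [hv, if_neg hi])
        (fun h => absurd (Finset.mem_filter.mpr ⟨hmem, hj₀⟩) h), hv, if_pos rfl, sub_self]
    rwa [sub_pow_expChar_pow, one_pow] at this
  let e : B → A := fun s => if h : s ∈ hS.extend (Set.subset_univ S) then c ⟨s, h⟩ ^ p ^ n else 0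
  have he : ∀ j : hS.extend (Set.subset_univ S), e j = c j ^ p ^ n := fun j => by simp [e, j.2]
  refine ⟨J.image Subtype.val, e, ?_, ?_, ?_, ?_⟩
  · simp only [Finset.mem_image]
    rintro s ⟨j, hj, rfl⟩
    exact (Finset.mem_filter.mp hj).2
  · simp only [Finset.mem_image]
    rintro s ⟨i, -, rfl⟩ t ⟨j, -, rfl⟩ hst
    rw [he, he]
    exact horth i j fun h => hst (congrArg Subtype.val h)
  · rw [Finset.sum_image fun a _ b _ h => Subtype.ext h, ← hsum]
    exact Finset.sum_congr rfl fun j _ => he j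
  · rw [Finset.sum_image fun a _ b _ h => Subtype.ext h, hθ, sum_pow_char_pow]
    simp only [Algebra.TensorProduct.tmul_pow, hbj, he]
    refine (Finset.sum_filter_of_ne fun j _ hne => ?_).symm
    by_contra hj
    exact hne (by rw [hout j hj, zero_tmul])

section Points

variable {k : Type u} [Field k] {A B : Type u} [CommRing A] [CommRing B] [HopfAlgebra k A] [HopfAlgebra k B]

variable (π : A →ₐc[k] B)

/-- The subgroup `Spec B → Spec A` is normal, on points. -/
def IsNormalPts : Prop :=
  ∀ (R : Type u) [CommRing R] [Algebra k R] (g : A →ₐ[k] R) (n : B →ₐ[k] R), ∃ n' : B →ₐ[k] R,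
    toConv (n.comp (π : A →ₐ[k] B)) * toConv g = toConv g * toConv (n'.comp (π : A →ₐ[k] B))

variable {π}

theorem mul_orbit {X : Type} [Fintype X] [DecidableEq X] {M : X → X → A} (hM : IsComodMatrix k M)
    {R : Type u} [CommRing R] [Algebra k R] (x y : A →ₐ[k] R) (v : X → k) (i : X) :
    (toConv x * toConv y).ofConv (orbit k M v i) = ∑ l, x (M i l) * y (orbit k M v l) := by
  simp only [orbit, map_sum, map_smul, GrpSchLib.HopfQuot.convMul_apply, hM.comul,
    Algebra.TensorProduct.map_tmul, Algebra.TensorProduct.lmul'_apply_tmul, Finset.mul_sum, mul_smul_comm,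
    Finset.smul_sum]
  exact Finset.sum_comm

theorem comul_orbit {X : Type} [Fintype X] [DecidableEq X] {M : X → X → A} (hM : IsComodMatrix k M) (v : X → k) (i : X) :
    Coalgebra.comul (R := k) (orbit k M v i) = ∑ l, M i l ⊗ₜ[k] orbit k M v l := by
  simp only [orbit, map_sum, map_smul, hM.comul, TensorProduct.tmul_sum, TensorProduct.tmul_smul, Finset.smul_sum]
  exact Finset.sum_comm

variable (hN : IsNormalPts π) (hπ : Function.Surjective π)

include hN in
/-- The equation satisfied by the orbit of an eigenvector of the normal subgroup. -/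
theorem exists_conj : ∃ α : B →ₐ[k] A ⊗[k] B,
    (toConv ((Algebra.TensorProduct.includeRight : B →ₐ[k] A ⊗[k] B).comp (π : A →ₐ[k] B)) *
        toConv (Algebra.TensorProduct.includeLeft : A →ₐ[k] A ⊗[k] B) =
      toConv (Algebra.TensorProduct.includeLeft : A →ₐ[k] A ⊗[k] B) * toConv (α.comp (π : A →ₐ[k] B))) :=
  hN _ _ _

theorem orbit_eq {X : Type} [Fintype X] [DecidableEq X] {M : X → X → A} (hM : IsComodMatrix k M)
    {α : B →ₐ[k] A ⊗[k] B}
    (hα : toConv ((Algebra.TensorProduct.includeRight : B →ₐ[k] A ⊗[k] B).comp (π : A →ₐ[k] B)) *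
        toConv (Algebra.TensorProduct.includeLeft : A →ₐ[k] A ⊗[k] B) =
      toConv (Algebra.TensorProduct.includeLeft : A →ₐ[k] A ⊗[k] B) * toConv (α.comp (π : A →ₐ[k] B)))
    {v : X → k} {χ : B} (hv : ∀ x, π (orbit k M v x) = v x • χ) (x : X) :
    ∑ y, orbit k M v y ⊗ₜ[k] π (M x y) = (orbit k M v x ⊗ₜ[k] (1 : B)) * α χ := by
  have h := congrArg (fun f => f.ofConv (orbit k M v x)) hα
  simp only [mul_orbit hM, AlgHom.comp_apply, Algebra.TensorProduct.includeRight_apply,
    Algebra.TensorProduct.includeLeft_apply, Algebra.TensorProduct.tmul_mul_tmul, one_mul, mul_one,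
    BialgHom.coe_toAlgHom, hv, map_smul] at h
  rw [h]
  conv_rhs => rw [orbit, TensorProduct.sum_tmul, Finset.sum_mul]
  exact Finset.sum_congr rfl fun y _ => by rw [mul_smul_comm, ← smul_tmul', smul_mul_assoc]

end Points

section Main

variable {k : Type u} [Field k] {A B : Type u} [CommRing A] [CommRing B] [HopfAlgebra k A] [HopfAlgebra k B]
  [Algebra.FiniteType k A] {π : A →ₐc[k] B} (hN : IsNormalPts π) (hπ : Function.Surjective π)

variable (K : Type u) [Field K] [Algebra k K]

theorem conv_mul_comm {M : Type*} [Monoid M] {a b g a' b' : M} (ha : a * g = g * a') (hb : b * g = g * b') :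
    a * b * g = g * (a' * b') := by
  rw [mul_assoc a, hb, ← mul_assoc, ha, mul_assoc]

theorem conv_cancel {M : Type*} [Monoid M] {i g x y : M} (hi : i * g = 1) (h : g * x = g * y) : x = y := by
  rw [← one_mul x, ← hi, mul_assoc, h, ← mul_assoc, hi, one_mul]

theorem map_sum_eq {k U V W : Type*} [CommSemiring k] [AddCommMonoid U] [AddCommMonoid V] [AddCommMonoid W] [Module k U]
    [Module k V] [Module k W] {Y : Type*} [Fintype Y] (L : U →ₗ[k] W) (L' : V →ₗ[k] W) (c : Y → k) (f : Y → Y → U)
    (g : Y → Y → V) (h : ∀ x y, L (f x y) = L' (g x y)) :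
    L (∑ x, c x • ∑ y, f x y) = L' (∑ x, c x • ∑ y, g x y) := by
  simp only [map_sum, map_smul, h]

/-- Base change of the two factors. -/
noncomputable def bc : A ⊗[k] B →ₐ[k] (K ⊗[k] A) ⊗[K] (K ⊗[k] B) :=
  Algebra.TensorProduct.lift
    (((Algebra.TensorProduct.includeLeft : K ⊗[k] A →ₐ[K] (K ⊗[k] A) ⊗[K] (K ⊗[k] B)).restrictScalars k).comp
      Algebra.TensorProduct.includeRight)
    (((Algebra.TensorProduct.includeRight : K ⊗[k] B →ₐ[K] (K ⊗[k] A) ⊗[K] (K ⊗[k] B)).restrictScalars k).comp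
      Algebra.TensorProduct.includeRight)
    fun _ _ => Commute.all _ _

theorem bc_tmul (a : A) (b : B) : bc K (a ⊗ₜ[k] b) = ((1 : K) ⊗ₜ[k] a) ⊗ₜ[K] ((1 : K) ⊗ₜ[k] b) := by
  simp [bc]

include hN hπ in
theorem conj_isGroupLike {α : B →ₐ[k] A ⊗[k] B}
    (hα : toConv ((Algebra.TensorProduct.includeRight : B →ₐ[k] A ⊗[k] B).comp (π : A →ₐ[k] B)) *
        toConv (Algebra.TensorProduct.includeLeft : A →ₐ[k] A ⊗[k] B) =
      toConv (Algebra.TensorProduct.includeLeft : A →ₐ[k] A ⊗[k] B) * toConv (α.comp (π : A →ₐ[k] B)))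
    {χ : B} (hχ : IsGroupLikeElem k χ) (h : K ⊗[k] A →ₐ[K] K) :
    IsGroupLikeElem K (TensorProduct.lid K (K ⊗[k] B) (h.toLinearMap.rTensor (K ⊗[k] B) (bc K (α χ)))) := by
  let ψK : (K ⊗[k] A) ⊗[K] (K ⊗[k] B) →ₐ[K] K ⊗[k] B :=
    (Algebra.TensorProduct.lid K (K ⊗[k] B)).toAlgHom.comp (Algebra.TensorProduct.map h (AlgHom.id K _))
  have hψ : ∀ z, TensorProduct.lid K (K ⊗[k] B) (h.toLinearMap.rTensor (K ⊗[k] B) z) = ψK z := by
    intro z
    induction z using TensorProduct.induction_on with
    | zero => simp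
    | tmul x y => simp [ψK]
    | add s t hs ht => simp only [map_add, hs, ht]
  rw [hψ]
  let g : A →ₐ[k] K ⊗[k] B :=
    ((Algebra.ofId K (K ⊗[k] B)).restrictScalars k).comp ((h.restrictScalars k).comp Algebra.TensorProduct.includeRight)
  let n : B →ₐ[k] K ⊗[k] B := Algebra.TensorProduct.includeRight
  let m : B →ₐ[k] K ⊗[k] B := ((ψK.restrictScalars k).comp (bc K)).comp α
  have hm : toConv (n.comp (π : A →ₐ[k] B)) * toConv g = toConv g * toConv (m.comp (π : A →ₐ[k] B)) := by
    have e := congrArg (fun f => toConv (((ψK.restrictScalars k).comp (bc K)).comp f.ofConv)) hα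
    simp only [AlgHom.comp_convMul_distrib, WithConv.ofConv_toConv, WithConv.toConv_ofConv, ← AlgHom.comp_assoc] at e
    have e1 : ((ψK.restrictScalars k).comp (bc K)).comp (Algebra.TensorProduct.includeRight : B →ₐ[k] A ⊗[k] B) = n :=
      AlgHom.ext fun b => by simp [ψK, bc_tmul, n, ← Algebra.TensorProduct.one_def]
    have e2 : ((ψK.restrictScalars k).comp (bc K)).comp (Algebra.TensorProduct.includeLeft : A →ₐ[k] A ⊗[k] B) = g :=
      AlgHom.ext fun a => by simp [ψK, bc_tmul, g, ← Algebra.TensorProduct.one_def, Algebra.algebraMap_eq_smul_one]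
    simpa [e1, e2, m] using e
  show IsGroupLikeElem K (m χ)
  constructor
  · let ε : K ⊗[k] B →ₐ[k] K := (Bialgebra.counitAlgHom K (K ⊗[k] B)).restrictScalars k
    show ε (m χ) = 1
    have e := congrArg (fun f => toConv (ε.comp f.ofConv)) hm
    simp only [AlgHom.comp_convMul_distrib, WithConv.ofConv_toConv, WithConv.toConv_ofConv, ← AlgHom.comp_assoc] at e
    have e1 : toConv ((ε.comp n).comp (π : A →ₐ[k] B)) = 1 := by
      apply WithConv.ofConv_injective
      refine AlgHom.ext fun a => ?_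
      show Coalgebra.counit (R := K) ((1 : K) ⊗ₜ[k] π a) = algebraMap k K (Coalgebra.counit (R := k) a)
      simp [Algebra.algebraMap_eq_smul_one]
    rw [e1, one_mul] at e
    have e2 := congrArg (fun f => toConv ((ε.comp g).comp (HopfAlgebra.antipodeAlgHom k A)) * f) e
    simp only [← mul_assoc, GrpSchLib.HopfQuot.inv_convMul_self, one_mul] at e2
    obtain ⟨a, ha⟩ := hπ χ
    have e3 := congrArg (fun f => f.ofConv a) e2
    simp only [WithConv.ofConv_toConv, AlgHom.comp_apply, BialgHom.coe_toAlgHom, ha] at e3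
    rw [← e3]
    show algebraMap k K (Coalgebra.counit (R := k) a) = 1
    rw [← CoalgHomClass.counit_comp_apply π a, ha, hχ.counit_eq_one, map_one]
  · let j₁ : K ⊗[k] B →ₐ[k] (K ⊗[k] B) ⊗[K] (K ⊗[k] B) :=
      (Algebra.TensorProduct.includeLeft : K ⊗[k] B →ₐ[K] (K ⊗[k] B) ⊗[K] (K ⊗[k] B)).restrictScalars k
    let j₂ : K ⊗[k] B →ₐ[k] (K ⊗[k] B) ⊗[K] (K ⊗[k] B) :=
      (Algebra.TensorProduct.includeRight : K ⊗[k] B →ₐ[K] (K ⊗[k] B) ⊗[K] (K ⊗[k] B)).restrictScalars k
    let Δ : K ⊗[k] B →ₐ[k] (K ⊗[k] B) ⊗[K] (K ⊗[k] B) :=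
      (Bialgebra.comulAlgHom K (K ⊗[k] B)).restrictScalars k
    obtain ⟨G, hG1⟩ : ∃ G, j₁.comp g = G := ⟨_, rfl⟩
    have hGj : j₂.comp g = G := hG1 ▸ AlgHom.ext fun a =>
      ((Algebra.TensorProduct.includeRight : K ⊗[k] B →ₐ[K] (K ⊗[k] B) ⊗[K] (K ⊗[k] B)).commutes _).trans
        ((Algebra.TensorProduct.includeLeft : K ⊗[k] B →ₐ[K] (K ⊗[k] B) ⊗[K] (K ⊗[k] B)).commutes _).symm
    have hGΔ : Δ.comp g = G := hG1 ▸ AlgHom.ext fun a =>
      ((Bialgebra.comulAlgHom K (K ⊗[k] B)).commutes _).trans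
        ((Algebra.TensorProduct.includeLeft : K ⊗[k] B →ₐ[K] (K ⊗[k] B) ⊗[K] (K ⊗[k] B)).commutes _).symm
    have hn : toConv ((Δ.comp n).comp (π : A →ₐ[k] B)) =
        toConv ((j₁.comp n).comp (π : A →ₐ[k] B)) * toConv ((j₂.comp n).comp (π : A →ₐ[k] B)) := by
      rw [← toConv_ofConv (toConv ((j₁.comp n).comp (π : A →ₐ[k] B)) * toConv ((j₂.comp n).comp (π : A →ₐ[k] B)))]
      congr 1
      refine AlgHom.ext fun a => ?_
      rw [GrpSchLib.HopfQuot.convMul_apply]
      show Coalgebra.comul (R := K) ((1 : K) ⊗ₜ[k] π a) = _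
      rw [TensorProduct.comul_tmul, ← CoalgHomClass.map_comp_comul_apply, CommSemiring.comul_apply]
      induction Coalgebra.comul (R := k) a using TensorProduct.induction_on with
      | zero => simp
      | tmul x y => simp [j₁, j₂, n, Algebra.TensorProduct.tmul_mul_tmul]
      | add s t hs ht => simp only [map_add, TensorProduct.tmul_add, hs, ht]
    have e1 := congrArg (fun f => toConv (j₁.comp f.ofConv)) hm
    have e2 := congrArg (fun f => toConv (j₂.comp f.ofConv)) hm
    have e3 := congrArg (fun f => toConv (Δ.comp f.ofConv)) hm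
    simp only [AlgHom.comp_convMul_distrib, WithConv.ofConv_toConv, WithConv.toConv_ofConv, ← AlgHom.comp_assoc, hGj, hGΔ, hG1] at e1 e2 e3
    rw [hn] at e3
    have e3' := conv_mul_comm (M := WithConv (A →ₐ[k] (K ⊗[k] B) ⊗[K] (K ⊗[k] B))) e1 e2
    replace e3 := e3'.symm.trans e3
    have e4 := conv_cancel (M := WithConv (A →ₐ[k] (K ⊗[k] B) ⊗[K] (K ⊗[k] B)))
      (GrpSchLib.HopfQuot.inv_convMul_self G) e3
    obtain ⟨a, ha⟩ := hπ χ
    have e5 := congrArg (fun f => f.ofConv a) e4
    have e6 : Algebra.TensorProduct.map (π : A →ₐ[k] B) (π : A →ₐ[k] B) (Coalgebra.comul (R := k) a) = χ ⊗ₜ[k] χ := by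
      rw [← hχ.comul_eq_tmul_self, ← ha]
      exact CoalgHomClass.map_comp_comul_apply π a
    have e7 : (toConv ((j₁.comp m).comp (π : A →ₐ[k] B)) * toConv ((j₂.comp m).comp (π : A →ₐ[k] B))).ofConv a =
        j₁ (m χ) * j₂ (m χ) := by
      rw [GrpSchLib.HopfQuot.convMul_apply, ← show Algebra.TensorProduct.lmul' k
        (Algebra.TensorProduct.map (j₁.comp m) (j₂.comp m) (χ ⊗ₜ[k] χ)) = j₁ (m χ) * j₂ (m χ) by simp, ← e6]
      congr 1
      generalize Coalgebra.comul (R := k) a = z
      induction z using TensorProduct.induction_on with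
      | zero => simp
      | tmul x y => simp
      | add s t hs ht => simp only [map_add, hs, ht]
    rw [e7] at e5
    show Δ (m χ) = _
    rw [show Δ (m χ) = ((Δ.comp m).comp (π : A →ₐ[k] B)) a by simp [ha]]
    refine e5.symm.trans ?_
    simp [j₁, j₂]

/-- A semi-invariant combination of orbit functions gives one for the inverse character. -/
theorem lTensor_comul_antipode {Y : Type} [Fintype Y] [DecidableEq Y] {N : Y → Y → A} (hNc : IsComodMatrix k N)
    {w : Y → k} {χq : B} (φ₀ : Y → k)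
    (hTe : ∑ x, φ₀ x • (∑ y, orbit k N w y ⊗ₜ[k] π (N x y)) = (∑ x, φ₀ x • orbit k N w x) ⊗ₜ[k] χq) :
    LinearMap.lTensor A π.toLinearMap (Coalgebra.comul (R := k)
        (HopfAlgebraStruct.antipode (R := k) (∑ x, φ₀ x • orbit k N w x))) =
      HopfAlgebraStruct.antipode (R := k) (∑ x, φ₀ x • orbit k N w x) ⊗ₜ[k] HopfAlgebraStruct.antipode (R := k) χq := by
    let a₀ : A := ∑ x, φ₀ x • orbit k N w x
    rw [comul_antipode]
    have hΔ : Coalgebra.comul (R := k) a₀ = ∑ x, φ₀ x • ∑ y, N x y ⊗ₜ[k] orbit k N w y := by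
      rw [map_sum]
      exact Finset.sum_congr rfl fun x _ => by rw [map_smul, comul_orbit hNc]
    rw [hΔ]
    have key := congrArg (TensorProduct.map (HopfAlgebra.antipode k (A := A)) (HopfAlgebra.antipode k (A := B))) hTe
    rw [TensorProduct.map_tmul] at key
    refine Eq.trans ?_ key
    refine map_sum_eq ((π.toLinearMap.lTensor A) ∘ₗ TensorProduct.map (HopfAlgebra.antipode k (A := A))
      (HopfAlgebra.antipode k (A := A)) ∘ₗ (TensorProduct.comm k A A).toLinearMap)
      (TensorProduct.map (HopfAlgebra.antipode k (A := A)) (HopfAlgebra.antipode k (A := B))) φ₀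
      (fun x y => N x y ⊗ₜ[k] orbit k N w y) (fun x y => orbit k N w y ⊗ₜ[k] π (N x y)) fun x y => ?_
    show HopfAlgebra.antipode k (orbit k N w y) ⊗ₜ[k] π (HopfAlgebra.antipode k (N x y)) =
      HopfAlgebra.antipode k (orbit k N w y) ⊗ₜ[k] HopfAlgebra.antipode k (π (N x y))
    exact congrArg _ (GrpSchLib.HopfGalois.antipode_bialgHom π (N x y)).symm

include hN hπ in
/-- A power of the inverse of an occurring character occurs. -/
theorem exists_inverse_occurs (p n : ℕ) [ExpChar k p]
    (hq : ∀ x : AlgebraicClosure k ⊗[k] A, IsNilpotent x → x ^ p ^ n = 0)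
    {X : Type} [Fintype X] [DecidableEq X] {M : X → X → A} (hM : IsComodMatrix k M) {v : X → k} (hv0 : v ≠ 0)
    {χ : B} (hχ : IsGroupLikeElem k χ) (hv : ∀ x, π (orbit k M v x) = v x • χ) :
    ∃ b : A, b ≠ 0 ∧ LinearMap.lTensor A π.toLinearMap (Coalgebra.comul (R := k) b) =
      b ⊗ₜ[k] HopfAlgebraStruct.antipode (R := k) (χ ^ p ^ n) := by
  classical
  set q := p ^ n with hqdef
  set K := AlgebraicClosure k
  obtain ⟨α, hα⟩ := exists_conj hN
  let Y := Fin q → X
  let N := powMatrix M q
  have hNc : IsComodMatrix k N := hM.powMatrix q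
  let w : Y → k := fun j => ∏ l, v (j l)
  let χq := χ ^ q
  have hχq : IsGroupLikeElem k χq := hχ.pow
  have hw : ∀ x, π (orbit k N w x) = w x • χq := fun x => by
    rw [orbit_powMatrix, map_prod, Finset.prod_congr rfl fun l _ => hv (x l)]
    simp only [w, χq, Algebra.smul_def, Finset.prod_mul_distrib, map_prod, Finset.prod_const, Finset.card_univ,
      Fintype.card_fin]
  let A' := K ⊗[k] A
  let B' := K ⊗[k] B
  haveI : Algebra.FiniteType K A' := inferInstance
  haveI : ExpChar K p := expChar_of_injective_algebraMap (algebraMap k K).injective p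
  haveI : ExpChar A' p := by
    haveI : Nontrivial A' := (Bialgebra.counitAlgHom K A').toRingHom.domain_nontrivial
    exact expChar_of_injective_algebraMap (algebraMap K A').injective p
  haveI : ExpChar (A' ⊗[K] B') p := by
    haveI : Nontrivial (A' ⊗[K] B') :=
      (((Algebra.TensorProduct.lid K K).toAlgHom.comp
        (Algebra.TensorProduct.map (Bialgebra.counitAlgHom K A') (Bialgebra.counitAlgHom K B'))).toRingHom).domain_nontrivial
    exact expChar_of_injective_algebraMap (algebraMap K (A' ⊗[K] B')).injective p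
  have hind : LinearIndepOn K id {s : B' | IsGroupLikeElem K s} := linearIndepOn_isGroupLikeElem
  obtain ⟨F, e, hFS, horth, hsum, hdec⟩ := exists_idem_decomp p n hq hind (bc K (α χ))
    (conj_isGroupLike hN hπ K hα hχ)
  have hidem : ∀ t ∈ F, e t * e t = e t := fun t ht => by
    calc e t * e t = e t * ∑ s ∈ F, e s := by
          rw [Finset.mul_sum, Finset.sum_eq_single t (fun s hs hne => horth t ht s hs hne.symm) (fun h => absurd ht h)]
      _ = e t := by rw [hsum, mul_one]
  let o : Y → A' := fun y => (1 : K) ⊗ₜ[k] orbit k N w y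
  let P : Y → Y → B' := fun x y => (1 : K) ⊗ₜ[k] π (N x y)
  let w' : Y → K := fun y => algebraMap k K (w y)
  let χ' : B' := (1 : K) ⊗ₜ[k] χq
  have hχ' : IsGroupLikeElem K χ' := by
    constructor
    · show Coalgebra.counit (R := K) ((1 : K) ⊗ₜ[k] χq) = 1
      rw [TensorProduct.counit_tmul, hχq.counit_eq_one, one_smul, CommSemiring.counit_apply]
    · show Coalgebra.comul (R := K) ((1 : K) ⊗ₜ[k] χq) = _
      rw [TensorProduct.comul_tmul, hχq.comul_eq_tmul_self, CommSemiring.comul_apply,
        AlgebraTensorModule.tensorTensorTensorComm_tmul]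
  have heq : ∀ x, ∑ y, o y ⊗ₜ[K] P x y = ∑ s ∈ F, (o x * e s) ⊗ₜ[K] (s ^ q) := fun x => by
    have h := congrArg (bc K) (orbit_eq hNc hα hw x)
    simp only [map_sum, bc_tmul, map_mul] at h
    rw [map_pow, map_pow, hdec, Finset.mul_sum] at h
    refine h.trans (Finset.sum_congr rfl fun s _ => ?_)
    rw [← Algebra.TensorProduct.one_def, Algebra.TensorProduct.tmul_mul_tmul, one_mul]
  have heq1 : ∀ t ∈ F, ∀ x, ∑ y, (e t * o y) ⊗ₜ[K] P x y = (e t * o x) ⊗ₜ[K] (t ^ q) := fun t ht x => by
    have h := congrArg (fun z => (e t ⊗ₜ[K] (1 : B')) * z) (heq x)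
    simp only [Finset.mul_sum, Algebra.TensorProduct.tmul_mul_tmul, one_mul] at h
    rw [h, Finset.sum_eq_single t (fun s hs hne => by
      rw [mul_left_comm, horth t ht s hs hne.symm, mul_zero, zero_tmul]) (fun h => absurd ht h)]
    rw [mul_left_comm, hidem t ht, mul_comm]
  let Φ : (Y → K) →ₗ[K] (Y → B') := LinearMap.pi fun x => ∑ y, (LinearMap.proj y).smulRight (P x y)
  have hΦ : ∀ u x, Φ u x = ∑ y, u y • P x y := fun u x => by simp [Φ]
  have hΦw : ∀ x, Φ w' x = w' x • χ' := fun x => by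
    rw [hΦ]
    have h := congrArg (fun z => (1 : K) ⊗ₜ[k] z) (hw x)
    simp only [orbit, map_sum, map_smul, TensorProduct.tmul_sum, TensorProduct.tmul_smul] at h
    simpa [P, w', χ', algebraMap_smul] using h
  let E : Submodule K (Y → K) := Submodule.span K
    {u | ∃ s : B', IsGroupLikeElem K s ∧ s ≠ χ' ∧ ∀ x, Φ u x = u x • s}
  have hw'0 : ∃ y, w' y ≠ 0 := by
    obtain ⟨x, hx⟩ := Function.ne_iff.mp hv0
    exact ⟨fun _ => x, by simpa [w', w] using fun h => absurd h hx⟩
  have hwE : w' ∉ E := by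
    intro hmem
    let b : Module.Basis (hind.extend (Set.subset_univ _)) K B' := Module.Basis.extend hind
    let i₀ : hind.extend (Set.subset_univ _) := ⟨χ', hind.subset_extend (Set.subset_univ _) hχ'⟩
    let cf := b.coord i₀
    have hcf : ∀ s (hs : IsGroupLikeElem K s), cf s = if s = χ' then 1 else 0 := by
      intro s hs
      let i : hind.extend (Set.subset_univ _) := ⟨s, hind.subset_extend (Set.subset_univ _) hs⟩
      have hsb : s = b i := (Module.Basis.extend_apply_self hind i).symm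
      by_cases h : s = χ'
      · rw [if_pos h, hsb, Module.Basis.coord_apply, Module.Basis.repr_self,
          show i = i₀ from Subtype.ext h, Finsupp.single_eq_same]
      · rw [if_neg h, hsb, Module.Basis.coord_apply, Module.Basis.repr_self,
          Finsupp.single_eq_of_ne (fun h' => h (congrArg Subtype.val h').symm)]
    have hE : E ≤ LinearMap.ker (LinearMap.pi fun x => cf ∘ₗ LinearMap.proj x ∘ₗ Φ) := by
      refine Submodule.span_le.mpr ?_
      rintro u ⟨s, hs, hne, hu⟩
      refine funext fun x => ?_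
      show cf (Φ u x) = 0
      rw [hu, map_smul, hcf s hs, if_neg hne, smul_zero]
    obtain ⟨y, hy⟩ := hw'0
    have h0 := congrFun (LinearMap.mem_ker.mp (hE hmem)) y
    simp only [LinearMap.pi_apply, LinearMap.comp_apply, LinearMap.proj_apply, Pi.zero_apply] at h0
    rw [hΦw, map_smul, hcf χ' hχ', if_pos rfl, smul_eq_mul, mul_one] at h0
    exact hy h0
  obtain ⟨f, hfw, hfE⟩ := Submodule.exists_dual_map_eq_bot_of_notMem hwE inferInstance
  let φ : Y → K := fun x => f (Pi.single x 1)
  have hf : ∀ u : Y → K, f u = ∑ x, u x * φ x := fun u => by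
    conv_lhs => rw [pi_eq_sum_univ u, map_sum]
    simp [φ, Pi.single_apply, eq_comm]
    refine Finset.sum_congr rfl fun x _ => ?_
    congr 2
    funext y
    simp [Pi.single_apply, eq_comm]
  let a : A' := ∑ x, φ x • o x
  have hkill : ∀ t ∈ F, t ^ q ≠ χ' → e t * a = 0 := fun t ht hne => by
    refine (Module.forall_dual_apply_eq_zero_iff K _).mp fun l => ?_
    let u : Y → K := fun y => l (e t * o y)
    have hu : u ∈ E := Submodule.subset_span ⟨t ^ q, (hFS t ht).pow, hne, fun x => by
      have h := congrArg (fun z => TensorProduct.lid K B' (LinearMap.rTensor B' l z)) (heq1 t ht x)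
      simpa [map_sum, hΦ] using h⟩
    have h0 : f u = 0 := LinearMap.le_ker_iff_map.mpr hfE hu
    rw [hf] at h0
    simpa [a, Finset.mul_sum, map_sum, mul_smul_comm, u, mul_comm] using h0
  have hsol : ∑ x, φ x • ((∑ y, o y ⊗ₜ[K] P x y) - o x ⊗ₜ[K] χ') = 0 := by
    simp only [smul_sub, Finset.sum_sub_distrib, sub_eq_zero, heq, Finset.smul_sum, smul_tmul']
    rw [Finset.sum_comm]
    simp only [← TensorProduct.sum_tmul, ← smul_mul_assoc, ← Finset.sum_mul]
    show ∑ s ∈ F, (a * e s) ⊗ₜ[K] (s ^ q) = a ⊗ₜ[K] χ'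
    conv_rhs => rw [show a = ∑ s ∈ F, a * e s by rw [← Finset.mul_sum, hsum, mul_one], TensorProduct.sum_tmul]
    refine Finset.sum_congr rfl fun s hs => ?_
    by_cases hne : s ^ q = χ'
    · rw [hne]
    · rw [mul_comm a, hkill s hs hne, zero_tmul, zero_tmul]
  -- descend
  let T : (Y → k) →ₗ[k] A ⊗[k] B :=
    ∑ x, (LinearMap.proj x).smulRight ((∑ y, orbit k N w y ⊗ₜ[k] π (N x y)) - orbit k N w x ⊗ₜ[k] χq)
  let ev : (Y → k) →ₗ[k] k := ∑ x, (LinearMap.proj x).smulRight (w x)
  obtain ⟨φ₀, hT, hev⟩ : ∃ φ₀, T φ₀ = 0 ∧ ev φ₀ ≠ 0 := by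
    by_contra hcon
    push_neg at hcon
    have hle : LinearMap.ker T ≤ LinearMap.ker ev := fun z hz => hcon z hz
    obtain ⟨G₀, hG₀⟩ := LinearMap.exists_extend
      (((LinearMap.ker T).liftQ ev hle) ∘ₗ T.quotKerEquivRange.symm.toLinearMap)
    have hG : ∀ z, G₀ (T z) = ev z := fun z => by
      have := LinearMap.congr_fun hG₀ ⟨T z, LinearMap.mem_range_self T z⟩
      simpa [LinearMap.quotKerEquivRange_symm_apply_image] using this
    let G' : A' ⊗[K] B' →ₗ[K] K := (AlgebraTensorModule.rid k K K).toLinearMap ∘ₗ (G₀.baseChange K) ∘ₗ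
      (AlgebraTensorModule.distribBaseChange k K A B).symm.toLinearMap
    have hG' : ∀ z, G' (bc K z) = algebraMap k K (G₀ z) := by
      intro z
      induction z using TensorProduct.induction_on with
      | zero => simp
      | tmul x y =>
        rw [bc_tmul]
        show (AlgebraTensorModule.rid k K K) ((G₀.baseChange K)
          ((AlgebraTensorModule.distribBaseChange k K A B).symm (((1 : K) ⊗ₜ[k] x) ⊗ₜ[K] ((1 : K) ⊗ₜ[k] y)))) = _
        erw [AlgebraTensorModule.distribBaseChange_symm_tmul]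
        simp [Algebra.algebraMap_eq_smul_one]
      | add s t hs ht => simp only [map_add, hs, ht]
    have hTx : ∀ x, algebraMap k K (w x) = G' ((∑ y, o y ⊗ₜ[K] P x y) - o x ⊗ₜ[K] χ') := fun x => by
      have := congrArg (algebraMap k K) (hG (Pi.single x 1))
      rw [show ev (Pi.single x 1) = w x by
          simp only [ev, LinearMap.coe_sum, Finset.sum_apply, LinearMap.smulRight_apply, LinearMap.proj_apply]
          rw [Finset.sum_eq_single x (fun b _ hb => by rw [Pi.single_eq_of_ne hb, zero_smul])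
            (fun h => absurd (Finset.mem_univ x) h), Pi.single_eq_same, one_smul],
        show T (Pi.single x 1) = (∑ y, orbit k N w y ⊗ₜ[k] π (N x y)) - orbit k N w x ⊗ₜ[k] χq by
          simp only [T, LinearMap.coe_sum, Finset.sum_apply, LinearMap.smulRight_apply, LinearMap.proj_apply]
          rw [Finset.sum_eq_single x (fun b _ hb => by rw [Pi.single_eq_of_ne hb, zero_smul])
            (fun h => absurd (Finset.mem_univ x) h), Pi.single_eq_same, one_smul], ← hG'] at this
      rw [← this, map_sub, map_sum]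
      simp only [bc_tmul, o, P, χ']
      rfl
    refine hfw ?_
    rw [hf]
    simp only [w', hTx]
    have := congrArg G' hsol
    rw [map_sum, map_zero] at this
    simpa [mul_comm] using this
  let a₀ : A := ∑ x, φ₀ x • orbit k N w x
  refine ⟨HopfAlgebraStruct.antipode (R := k) a₀, fun h0 => hev ?_, ?_⟩
  · have h1 : a₀ = 0 := by rw [← antipode_antipode_apply (k := k) a₀, h0, map_zero]
    have h2 := congrArg (Coalgebra.counit (R := k)) h1
    simpa [a₀, ev, orbit, hNc.counit, map_sum, mul_comm] using h2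
  · have hTe : ∑ x, φ₀ x • (∑ y, orbit k N w y ⊗ₜ[k] π (N x y)) = a₀ ⊗ₜ[k] χq := by
      rw [← sub_eq_zero, TensorProduct.sum_tmul, ← Finset.sum_sub_distrib]
      simpa [T, smul_sub, smul_tmul'] using hT
    exact lTensor_comul_antipode hNc φ₀ hTe

end Main

end Groth.Agent.ComodLib.Normal
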