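import Groth.Agent.GrpSchLib.AntiAffineCrit
import Groth.Prelude.Def_VecGrp
import Mathlib.LinearAlgebra.Matrix.ToLin
import Mathlib.LinearAlgebra.GeneralLinearGroup.Basic
import Mathlib.RingTheory.TensorProduct.Free

/-! Module functors with an action of an anti-affine group. -/

universe u

open CategoryTheory Limits AlgebraicGeometry MonoidalCategory CartesianMonoidalCategory MonObj GrpObj TensorProduct
open TopologicalSpace Opposite

namespace Groth.Agent.GrpSchLib.Kunneth

variable {k : Type u} [Field k] {G : Over (Spec (CommRingCat.of k))}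

/-- The value of functions at a point. -/
noncomputable def pullFn {B : Type u} [CommRing B] [Algebra k B] (g : VecGrp.pt k B ⟶ G) : Fn G →ₐ[k] B :=
  AlgHom.mk ((g.left.appTop ≫ (Scheme.ΓSpecIso (CommRingCat.of B)).hom).hom) fun c => by
    show (Scheme.ΓSpecIso (CommRingCat.of B)).hom (g.left.appTop (G.hom.appTop ((Scheme.ΓSpecIso (CommRingCat.of k)).inv c))) = _
    rw [← CommRingCat.comp_apply G.hom.appTop g.left.appTop, ← Scheme.Hom.comp_appTop, Over.w g]
    show (Scheme.ΓSpecIso (CommRingCat.of B)).hom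
      ((Spec.map (CommRingCat.ofHom (algebraMap k B))).appTop ((Scheme.ΓSpecIso (CommRingCat.of k)).inv c)) = _
    rw [← CommRingCat.comp_apply (Spec.map (CommRingCat.ofHom (algebraMap k B))).appTop, Scheme.ΓSpecIso_naturality,
      CommRingCat.comp_apply, ← CommRingCat.comp_apply _ (Scheme.ΓSpecIso (CommRingCat.of k)).hom, Iso.inv_hom_id]
    rfl

theorem pullFn_apply {B : Type u} [CommRing B] [Algebra k B] (g : VecGrp.pt k B ⟶ G) (f : Fn G) :
    pullFn g f = (Scheme.ΓSpecIso (CommRingCat.of B)).hom (ev g f) := rfl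

theorem pullFn_ptMap {B B' : Type u} [CommRing B] [Algebra k B] [CommRing B'] [Algebra k B'] (φ : B →ₐ[k] B')
    (g : VecGrp.pt k B ⟶ G) (f : Fn G) : pullFn (VecGrp.ptMap φ ≫ g) f = φ (pullFn g f) := by
  rw [pullFn_apply, pullFn_apply, ← ev_ev]
  show (Scheme.ΓSpecIso (CommRingCat.of B')).hom ((Spec.map (CommRingCat.ofHom φ.toRingHom)).appTop (ev g f)) = _
  rw [← CommRingCat.comp_apply, Scheme.ΓSpecIso_naturality]
  rfl

/-- The functions on an open as an algebra over the base. -/
noncomputable abbrev algOpen {U : G.left.Opens} (hU : IsAffineOpen U) : Algebra k Γ(G.left, U) :=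
  (Spec.preimage (hU.fromSpec ≫ G.hom)).hom.toAlgebra

/-- The point given by an affine open. -/
noncomputable def openPt {U : G.left.Opens} (hU : IsAffineOpen U) :
    letI := algOpen hU; VecGrp.pt k Γ(G.left, U) ⟶ G :=
  letI := algOpen hU
  Over.homMk hU.fromSpec (Spec.map_preimage _).symm

theorem pullFn_openPt {U : G.left.Opens} (hU : IsAffineOpen U) (f : Fn G) :
    letI := algOpen hU; pullFn (openPt hU) f = G.left.presheaf.map (homOfLE le_top).op f := by
  show (Scheme.ΓSpecIso Γ(G.left, U)).hom (hU.fromSpec.appTop f) = _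
  rw [← CommRingCat.comp_apply]
  congr 1
  congr 1
  have h := congrArg (fun p => Scheme.Hom.appTop p ≫ (Scheme.ΓSpecIso Γ(G.left, U)).hom) hU.fromSpec_toSpecΓ
  simp only [Scheme.Hom.comp_appTop, Scheme.toSpecΓ_appTop, Scheme.ΓSpecIso_naturality, Category.assoc] at h
  exact (cancel_epi _).mp h

/-- Restriction to a smaller affine open as an algebra map. -/
noncomputable def resAlg {U V : G.left.Opens} (hU : IsAffineOpen U) (hV : IsAffineOpen V) (h : V ≤ U) :
    letI := algOpen hU; letI := algOpen hV; Γ(G.left, U) →ₐ[k] Γ(G.left, V) :=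
  letI := algOpen hU
  letI := algOpen hV
  AlgHom.mk (G.left.presheaf.map (homOfLE h).op).hom fun c => by
    have e : Spec.preimage (hU.fromSpec ≫ G.hom) ≫ G.left.presheaf.map (homOfLE h).op =
        Spec.preimage (hV.fromSpec ≫ G.hom) := by
      apply Spec.map_injective
      rw [Spec.map_comp, Spec.map_preimage, Spec.map_preimage, ← Category.assoc, hU.map_fromSpec hV]
    exact congr($e c)

theorem ptMap_resAlg {U V : G.left.Opens} (hU : IsAffineOpen U) (hV : IsAffineOpen V) (h : V ≤ U) :
    letI := algOpen hU; letI := algOpen hV; VecGrp.ptMap (resAlg hU hV h) ≫ openPt hU = openPt hV := by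
  exact Over.OverMorphism.ext (hU.map_fromSpec hV (homOfLE h).op)

/-- Zero on every affine open means zero. -/
theorem eq_of_forall_affine {U : G.left.Opens} {s t : Γ(G.left, U)}
    (h : ∀ (V : G.left.Opens) (_ : IsAffineOpen V) (hVU : V ≤ U),
      G.left.presheaf.map (homOfLE hVU).op s = G.left.presheaf.map (homOfLE hVU).op t) : s = t := by
  choose V hV hxV hVU using fun x : U => exists_isAffineOpen_mem_and_subset (x := x.1) (U := U) x.2
  exact G.left.sheaf.eq_of_locally_eq' V U (fun x => homOfLE (hVU x))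
    (fun x hx => Opens.mem_iSup.mpr ⟨⟨x, hx⟩, hxV ⟨x, hx⟩⟩) s t fun x => h _ (hV x) (hVU x)

section MatrixModule

variable [GrpObj G] {n : ℕ} {M : Matrix (Fin n) (Fin n) (Fn G)}

theorem ev_mul_map (h : IsRepMatrix M) {B : Type u} [CommRing B] [Algebra k B] (g g' : VecGrp.pt k B ⟶ G) :
    M.map (pullFn (g * g')) = M.map (pullFn g) * M.map (pullFn g') := by
  have := congrArg (fun A : Matrix (Fin n) (Fin n) (Fn (VecGrp.pt k B)) =>
    A.map ⇑(Scheme.ΓSpecIso (CommRingCat.of B)).hom.hom) (h.mul _ g g')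
  simp only [Matrix.map_mul, Matrix.map_map] at this
  exact this

theorem ev_one_map (h : IsRepMatrix M) (B : Type u) [CommRing B] [Algebra k B] :
    M.map (pullFn (1 : VecGrp.pt k B ⟶ G)) = 1 := by
  have := congrArg (fun A : Matrix (Fin n) (Fin n) (Fn (VecGrp.pt k B)) =>
    A.map ⇑(Scheme.ΓSpecIso (CommRingCat.of B)).hom.hom) (h.one (VecGrp.pt k B))
  simp only [Matrix.map_map, Matrix.map_one _ (map_zero _) (map_one _)] at this
  exact this

/-- The standard basis after extending scalars. -/
noncomputable abbrev stdB (k : Type u) [Field k] (n : ℕ) (B : Type u) [CommRing B] [Algebra k B] :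
    Module.Basis (Fin n) B (B ⊗[k] (Fin n → k)) :=
  Algebra.TensorProduct.basis B (Pi.basisFun k (Fin n))

/-- The endomorphism given by a point. -/
noncomputable def endHom (h : IsRepMatrix M) (B : Type u) [CommRing B] [Algebra k B] :
    (VecGrp.pt k B ⟶ G) →* Module.End B (B ⊗[k] (Fin n → k)) where
  toFun g := Matrix.toLinAlgEquiv (stdB k n B) (M.map (pullFn g))
  map_one' := by rw [ev_one_map h, map_one]
  map_mul' g g' := by rw [ev_mul_map h, map_mul]

theorem endHom_basis (h : IsRepMatrix M) {B : Type u} [CommRing B] [Algebra k B] (g : VecGrp.pt k B ⟶ G) (j : Fin n) :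
    endHom h B g (stdB k n B j) = ∑ i, pullFn g (M i j) • stdB k n B i :=
  Matrix.toLinAlgEquiv_self (stdB k n B) (M.map (pullFn g)) j

theorem Wmap_stdB {B B' : Type u} [CommRing B] [Algebra k B] [CommRing B'] [Algebra k B'] (φ : B →ₐ[k] B') (j : Fin n) :
    VecGrp.Wmap φ (stdB k n B j) = stdB k n B' j := by
  simp [Algebra.TensorProduct.basis_apply]

/-- The module functor of a multiplicative matrix. -/
noncomputable def IsRepMatrix.gmod (h : IsRepMatrix M) : VecGrp.GMod G (Fin n → k) where
  ρ B _ _ := (LinearMap.GeneralLinearGroup.generalLinearEquiv B (B ⊗[k] (Fin n → k))).toMonoidHom.comp (endHom h B).toHomUnits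
  naturality {B B'} _ _ _ _ φ g x := by
    show VecGrp.Wmap φ (endHom h B g x) = endHom h B' (VecGrp.ptMap φ ≫ g) (VecGrp.Wmap φ x)
    have hx := (stdB k n B).sum_repr x
    rw [← hx]
    simp only [map_sum, map_smul, VecGrp.Wmap_smul, endHom_basis, Wmap_stdB, pullFn_ptMap, Finset.smul_sum, smul_smul, map_mul]

theorem IsRepMatrix.eq_one_of_gmod (h : IsRepMatrix M)
    (h1 : ∀ (B : Type u) [CommRing B] [Algebra k B] (g : VecGrp.pt k B ⟶ G), h.gmod.ρ B g = 1) : M = 1 := by
  refine Matrix.ext fun i j => eq_of_forall_affine fun V hV _ => ?_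
  letI := algOpen hV
  have h2 : endHom h Γ(G.left, V) (openPt hV) = 1 :=
    congrArg LinearEquiv.toLinearMap (h1 Γ(G.left, V) (openPt hV))
  have h3 : M.map (pullFn (openPt hV)) = 1 :=
    (Matrix.toLinAlgEquiv (stdB k n Γ(G.left, V))).injective (h2.trans (map_one _).symm)
  have h4 := congrFun (congrFun h3 i) j
  rw [Matrix.map_apply, pullFn_openPt] at h4
  refine h4.trans ?_
  rw [Matrix.one_apply, Matrix.one_apply]
  split_ifs
  · exact (map_one (G.left.presheaf.map (homOfLE _).op).hom).symm
  · exact (map_zero (G.left.presheaf.map (homOfLE _).op).hom).symm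

end MatrixModule

/-- Natural families of values on affine test schemes are constant on an anti-affine group. -/
theorem exists_const (hG : Function.Bijective G.hom.appTop)
    (F : ∀ (B : Type u) [CommRing B] [Algebra k B], (VecGrp.pt k B ⟶ G) → B)
    (hF : ∀ {B B' : Type u} [CommRing B] [Algebra k B] [CommRing B'] [Algebra k B'] (φ : B →ₐ[k] B') (g : VecGrp.pt k B ⟶ G),
      φ (F B g) = F B' (VecGrp.ptMap φ ≫ g)) :
    ∃ c : k, ∀ (B : Type u) [CommRing B] [Algebra k B] (g : VecGrp.pt k B ⟶ G), F B g = algebraMap k B c := by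
  let U : G.left.affineOpens → G.left.Opens := fun V => V.1
  let sf : ∀ V : G.left.affineOpens, Γ(G.left, U V) := fun V => letI := algOpen V.2; F _ (openPt V.2)
  have hres : ∀ {V W : G.left.Opens} (hV : IsAffineOpen V) (hW : IsAffineOpen W) (h : W ≤ V),
      G.left.presheaf.map (homOfLE h).op (sf ⟨V, hV⟩) = sf ⟨W, hW⟩ := by
    intro V W hV hW h
    letI := algOpen hV
    letI := algOpen hW
    exact (hF (resAlg hV hW h) (openPt hV)).trans (by rw [ptMap_resAlg])
  have hcov : (⊤ : G.left.Opens) ≤ iSup U := (iSup_affineOpens_eq_top G.left).ge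
  obtain ⟨s, hs, -⟩ := G.left.sheaf.existsUnique_gluing' U ⊤ (fun b => homOfLE le_top) hcov sf (fun V W => by
    refine eq_of_forall_affine fun Z hZ hZl => ?_
    have e1 := hres V.2 hZ (hZl.trans inf_le_left)
    have e2 := hres W.2 hZ (hZl.trans inf_le_right)
    refine Eq.trans ?_ ((e1.trans e2.symm).trans ?_)
    · refine Eq.trans ?_ rfl
      exact (congr($(G.left.presheaf.map_comp _ _) (sf V))).symm
    · exact congr($(G.left.presheaf.map_comp _ _) (sf W)))
  obtain ⟨c₀, hc₀⟩ := hG.2 s
  let c : k := (Scheme.ΓSpecIso (CommRingCat.of k)).hom c₀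
  refine ⟨c, fun B _ _ g => ?_⟩
  have hsc : algebraMap k (Fn G) c = s := by
    show G.hom.appTop ((Scheme.ΓSpecIso (CommRingCat.of k)).inv ((Scheme.ΓSpecIso (CommRingCat.of k)).hom c₀)) = s
    rw [← CommRingCat.comp_apply (Scheme.ΓSpecIso (CommRingCat.of k)).hom, Iso.hom_inv_id]
    exact hc₀
  have hloc : ∀ V : G.left.affineOpens, letI := algOpen V.2; F _ (openPt V.2) = algebraMap k _ c := fun V => by
    letI := algOpen V.2
    rw [← AlgHom.commutes (pullFn (openPt V.2)), hsc]
    refine Eq.trans ?_ (pullFn_openPt V.2 s).symm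
    exact (hs V).symm
  -- locally on the test scheme
  let S : Set B := {r | ∃ (V : G.left.affineOpens), PrimeSpectrum.basicOpen r ≤ g.left ⁻¹ᵁ (U V)}
  have hspan : Ideal.span S = ⊤ := by
    rw [← PrimeSpectrum.zeroLocus_empty_iff_eq_top, PrimeSpectrum.zeroLocus_span, Set.eq_empty_iff_forall_notMem]
    intro p hp
    obtain ⟨V, hV⟩ := Opens.mem_iSup.mp (hcov (show g.left p ∈ (⊤ : G.left.Opens) from trivial))
    obtain ⟨_, ⟨r, rfl⟩, hr, hle⟩ := PrimeSpectrum.isTopologicalBasis_basic_opens.exists_subset_of_mem_open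
      (show p ∈ ((g.left ⁻¹ᵁ (U V)).carrier : Set (PrimeSpectrum B)) from hV) (g.left ⁻¹ᵁ (U V)).isOpen
    exact hr (hp ⟨V, hle⟩)
  suffices hrad : ∀ r ∈ S, ∃ m : ℕ, r ^ m * (F B g - algebraMap k B c) = 0 by
    let I : Ideal B := LinearMap.ker (LinearMap.toSpanSingleton B B (F B g - algebraMap k B c))
    have hI : ∀ a, a ∈ I ↔ a * (F B g - algebraMap k B c) = 0 := fun a => by simp [I]
    have : I.radical = ⊤ := top_unique (hspan ▸ Ideal.span_le.2 fun r hr => by
      obtain ⟨m, hm⟩ := hrad r hr
      exact ⟨m, (hI _).2 hm⟩)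
    rw [Ideal.radical_eq_top] at this
    exact sub_eq_zero.mp (by simpa using (hI 1).1 (this ▸ trivial))
  intro r hr
  obtain ⟨V, hle⟩ := hr
  letI := algOpen V.2
  let Br := Localization.Away r
  let φ : B →ₐ[k] Br := IsScalarTower.toAlgHom k B Br
  let h := VecGrp.ptMap φ ≫ g
  have hrange : Set.range h.left ⊆ Set.range V.2.fromSpec := by
    rw [V.2.range_fromSpec]
    rintro _ ⟨q, rfl⟩
    refine hle ?_
    have : (PrimeSpectrum.comap (algebraMap B Br) q) ∈ (PrimeSpectrum.basicOpen r : Set _) := by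
      rw [← PrimeSpectrum.localization_away_comap_range Br r]
      exact ⟨q, rfl⟩
    exact this
  haveI := V.2.isOpenImmersion_fromSpec
  let q := Spec.preimage (IsOpenImmersion.lift V.2.fromSpec h.left hrange)
  have hq : Spec.map q ≫ V.2.fromSpec = h.left := by rw [Spec.map_preimage, IsOpenImmersion.lift_fac]
  let ψ : Γ(G.left, V.1) →ₐ[k] Br := AlgHom.mk q.hom fun a => by
    have e : Spec.preimage (V.2.fromSpec ≫ G.hom) ≫ q = CommRingCat.ofHom (algebraMap k Br) := by
      apply Spec.map_injective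
      rw [Spec.map_comp]
      refine (congrArg (Spec.map q ≫ ·) (Spec.map_preimage _)).trans ?_
      rw [← Category.assoc, hq]
      exact Over.w h
    exact congr($e a)
  have hh : VecGrp.ptMap ψ ≫ openPt V.2 = h := Over.OverMorphism.ext hq
  have hz : algebraMap B Br (F B g - algebraMap k B c) = 0 := by
    rw [map_sub, sub_eq_zero]
    calc algebraMap B Br (F B g) = F Br h := hF φ g
      _ = ψ (F _ (openPt V.2)) := by rw [hF ψ, hh]
      _ = algebraMap k Br c := by rw [hloc, AlgHom.commutes]
      _ = _ := IsScalarTower.algebraMap_apply k B Br c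
  obtain ⟨⟨_, m, rfl⟩, hm⟩ := (IsLocalization.map_eq_zero_iff (Submonoid.powers r) Br _).1 hz
  exact ⟨m, hm⟩

variable [GrpObj G]

/-- An anti-affine group acts trivially on every finite module. -/
theorem gmod_eq_one (hG : Function.Bijective G.hom.appTop) {V : Type u} [AddCommGroup V] [Module k V] [Module.Finite k V]
    (m : VecGrp.GMod G V) (B : Type u) [CommRing B] [Algebra k B] (g : VecGrp.pt k B ⟶ G) : m.ρ B g = 1 := by
  classical
  let b := Module.finBasis k V
  have hb : ∀ {B B' : Type u} [CommRing B] [Algebra k B] [CommRing B'] [Algebra k B'] (φ : B →ₐ[k] B') (j),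
      VecGrp.Wmap φ (Algebra.TensorProduct.basis B b j) = Algebra.TensorProduct.basis B' b j := fun φ j => by
    simp [Algebra.TensorProduct.basis_apply]
  have hrepr : ∀ {B B' : Type u} [CommRing B] [Algebra k B] [CommRing B'] [Algebra k B'] (φ : B →ₐ[k] B') (x) (i),
      φ ((Algebra.TensorProduct.basis B b).repr x i) = (Algebra.TensorProduct.basis B' b).repr (VecGrp.Wmap φ x) i := by
    intro B B' _ _ _ _ φ x i
    conv_rhs => rw [← (Algebra.TensorProduct.basis B b).sum_repr x, map_sum, map_sum]
    simp only [VecGrp.Wmap_smul, hb, map_smul, Module.Basis.repr_self, Finsupp.finset_sum_apply, Finsupp.smul_apply,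
      Finsupp.single_apply, smul_eq_mul, mul_ite, _root_.mul_one, MulZeroClass.mul_zero, Finset.sum_ite_eq', Finset.mem_univ, if_true]
  refine LinearEquiv.toLinearMap_injective ((Algebra.TensorProduct.basis B b).ext fun j => ?_)
  show m.ρ B g (Algebra.TensorProduct.basis B b j) = Algebra.TensorProduct.basis B b j
  refine (Algebra.TensorProduct.basis B b).repr.injective (Finsupp.ext fun i => ?_)
  obtain ⟨c, hc⟩ := exists_const hG
    (fun B _ _ g => (Algebra.TensorProduct.basis B b).repr (m.ρ B g (Algebra.TensorProduct.basis B b j)) i)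
    (fun φ g => by rw [hrepr, m.naturality, hb])
  have h1 := hc B g
  have h2 := hc B 1
  simp only [map_one] at h2
  exact h1.trans (h2.symm.trans rfl)

end Groth.Agent.GrpSchLib.Kunneth
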