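import Mathlib.RingTheory.HopfAlgebra.MonoidAlgebra
import Mathlib.RingTheory.Bialgebra.Convolution
import Mathlib.LinearAlgebra.Matrix.Determinant.Basic
import Mathlib.LinearAlgebra.TensorProduct.Basis
import Mathlib.RingTheory.Coalgebra.GroupLike
import Mathlib.LinearAlgebra.FiniteDimensional.Basic
import Mathlib.Algebra.Group.Commute.Units

/-! Characters of Hopf algebras with a central multiplicative subgroup. -/

open TensorProduct WithConv

universe u

namespace Groth.Agent.GrpSchLib.CentralGm

variable {k : Type u} [Field k] {A : Type u} [CommRing A] [HopfAlgebra k A]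

local notation "L" => MonoidAlgebra k (Multiplicative ℤ)

variable (π : A →ₐc[k] MonoidAlgebra k (Multiplicative ℤ))

/-- The coordinate function of `𝔾_m`. -/
noncomputable def tt : MonoidAlgebra k (Multiplicative ℤ) := MonoidAlgebra.single (Multiplicative.ofAdd 1) 1

/-- The coefficient at the coordinate function. -/
noncomputable def c1 : MonoidAlgebra k (Multiplicative ℤ) →ₗ[k] k :=
  (MonoidAlgebra.basis (Multiplicative ℤ) k).coord (Multiplicative.ofAdd 1)

theorem c1_single (g : Multiplicative ℤ) (r : k) :
    c1 (MonoidAlgebra.single g r) = if g = Multiplicative.ofAdd 1 then r else 0 := by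
  classical
  rw [show MonoidAlgebra.single g r = r • MonoidAlgebra.basis (Multiplicative ℤ) k g by simp [MonoidAlgebra.smul_single],
    map_smul, c1, Module.Basis.coord_apply, Module.Basis.repr_self, Finsupp.single_apply]
  simp

theorem lTensor_c1_comul (x : L) :
    TensorProduct.rid k L ((c1 (k := k)).lTensor L (Coalgebra.comul (R := k) x)) = c1 x • tt := by
  induction x using MonoidAlgebra.induction_linear with
  | zero => simp
  | add x y hx hy => simp only [map_add, hx, hy, add_smul]
  | single g r =>
    rw [c1_single]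
    simp only [MonoidAlgebra.comul_single, CommSemiring.comul_apply, TensorProduct.map_tmul, LinearMap.lTensor_tmul,
      TensorProduct.rid_tmul]
    simp only [MonoidAlgebra.lsingle_apply, c1_single]
    split_ifs with h
    · subst h; simp [tt]
    · simp

/-- The weight-one subspace for left translation by the subgroup. -/
noncomputable def wtOne : Submodule k A :=
  LinearMap.ker ((π : A →ₗ[k] L).lTensor A ∘ₗ Coalgebra.comul - (TensorProduct.mk k A L).flip tt)

theorem mem_wtOne (v : A) : v ∈ wtOne π ↔ (π : A →ₗ[k] L).lTensor A (Coalgebra.comul v) = v ⊗ₜ[k] tt := by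
  simp [wtOne, sub_eq_zero]

/-- Contract the right factor. -/
noncomputable def slice (l : A →ₗ[k] k) : A →ₗ[k] A :=
  (TensorProduct.rid k A).toLinearMap ∘ₗ l.lTensor A ∘ₗ Coalgebra.comul

theorem comul_slice (l : A →ₗ[k] k) (a : A) :
    Coalgebra.comul (R := k) (slice l a) =
      ((TensorProduct.rid k A).toLinearMap ∘ₗ l.lTensor A ∘ₗ Coalgebra.comul).lTensor A (Coalgebra.comul (R := k) a) := by
  rw [LinearMap.lTensor_comp, LinearMap.lTensor_comp, LinearMap.comp_apply, LinearMap.comp_apply,
    ← Coalgebra.coassoc_apply]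
  simp only [slice, LinearMap.comp_apply, LinearEquiv.coe_coe]
  generalize Coalgebra.comul (R := k) a = z
  induction z using TensorProduct.induction_on with
  | zero => simp
  | tmul x y =>
    simp only [LinearMap.lTensor_tmul, TensorProduct.rid_tmul, map_smul, LinearMap.rTensor_tmul]
    generalize Coalgebra.comul (R := k) x = w
    induction w using TensorProduct.induction_on with
    | zero => simp
    | tmul p q => simp [TensorProduct.tmul_smul]
    | add s t hs ht => simp only [TensorProduct.add_tmul, map_add, smul_add, hs, ht]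
  | add s t hs ht => simp only [map_add, hs, ht]

theorem slice_mem_wtOne
    (hc : ∀ a, (π : A →ₗ[k] L).rTensor A (Coalgebra.comul a) =
      (π : A →ₗ[k] L).rTensor A (TensorProduct.comm k A A (Coalgebra.comul a)))
    {a : A} (ha : a ∈ wtOne π) (l : A →ₗ[k] k) : slice l a ∈ wtOne π := by
  rw [mem_wtOne] at ha ⊢
  rw [comul_slice, ← LinearMap.comp_apply, ← LinearMap.lTensor_comp]
  -- move the subgroup factor across the second comultiplication
  have key : ∀ b : A, (π : A →ₗ[k] L) (slice l b) =
      TensorProduct.lid k L ((LinearMap.rTensor L l) ((π : A →ₗ[k] L).lTensor A (Coalgebra.comul b))) := by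
    intro b
    have h := congrArg (fun z => TensorProduct.rid k L (l.lTensor L z)) (hc b)
    simp only [slice, LinearMap.comp_apply, LinearEquiv.coe_coe] at h ⊢
    refine Eq.trans ?_ (h.trans ?_)
    · generalize Coalgebra.comul (R := k) b = z
      induction z using TensorProduct.induction_on with
      | zero => simp
      | tmul x y => simp
      | add s t hs ht => simp only [map_add, hs, ht]
    · generalize Coalgebra.comul (R := k) b = z
      induction z using TensorProduct.induction_on with
      | zero => simp
      | tmul x y => simp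
      | add s t hs ht => simp only [map_add, hs, ht]
  have e : (π : A →ₗ[k] L) ∘ₗ ((TensorProduct.rid k A).toLinearMap ∘ₗ l.lTensor A ∘ₗ Coalgebra.comul) =
      (TensorProduct.lid k L).toLinearMap ∘ₗ l.rTensor L ∘ₗ (π : A →ₗ[k] L).lTensor A ∘ₗ Coalgebra.comul :=
    LinearMap.ext key
  rw [e, LinearMap.lTensor_comp, LinearMap.lTensor_comp, LinearMap.lTensor_comp, LinearMap.comp_apply,
    LinearMap.comp_apply, LinearMap.comp_apply, ← Coalgebra.coassoc_apply]
  have h2 : ∀ z : A ⊗[k] A,
      LinearMap.lTensor A (TensorProduct.lid k L).toLinearMap (LinearMap.lTensor A (l.rTensor L)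
        (LinearMap.lTensor A ((π : A →ₗ[k] L).lTensor A)
          (TensorProduct.assoc k A A A ((Coalgebra.comul (R := k) (A := A)).rTensor A z)))) =
      LinearMap.rTensor L (slice l) ((π : A →ₗ[k] L).lTensor A z) := by
    intro z
    induction z using TensorProduct.induction_on with
    | zero => simp
    | tmul x y =>
      simp only [LinearMap.rTensor_tmul, LinearMap.lTensor_tmul, slice, LinearMap.comp_apply, LinearEquiv.coe_coe]
      generalize Coalgebra.comul (R := k) x = w
      induction w using TensorProduct.induction_on with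
      | zero => simp
      | tmul p q => simp [TensorProduct.smul_tmul]
      | add s t hs ht => simp only [TensorProduct.add_tmul, map_add, hs, ht]
    | add s t hs ht => simp only [map_add, hs, ht]
  rw [h2, ha, LinearMap.rTensor_tmul]

theorem exists_weight_one {a : A} (ha : π a = tt) :
    slice (c1 ∘ₗ (π : A →ₗ[k] L)) a ∈ wtOne π ∧ π (slice (c1 ∘ₗ (π : A →ₗ[k] L)) a) = tt := by
  constructor
  · rw [mem_wtOne, comul_slice, ← LinearMap.comp_apply, ← LinearMap.lTensor_comp]
    have e : (π : A →ₗ[k] L) ∘ₗ ((TensorProduct.rid k A).toLinearMap ∘ₗ (c1 ∘ₗ (π : A →ₗ[k] L)).lTensor A ∘ₗ Coalgebra.comul) =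
        LinearMap.toSpanSingleton k L tt ∘ₗ c1 ∘ₗ (π : A →ₗ[k] L) := by
      refine LinearMap.ext fun b => ?_
      simp only [LinearMap.comp_apply, LinearEquiv.coe_coe, LinearMap.toSpanSingleton_apply]
      show π _ = c1 (π b) • tt
      rw [← lTensor_c1_comul, ← CoalgHomClass.map_comp_comul_apply π b]
      generalize Coalgebra.comul (R := k) b = z
      induction z using TensorProduct.induction_on with
      | zero => simp
      | tmul x y => simp
      | add s t hs ht => simp only [map_add, hs, ht]
    rw [e]
    simp only [slice, LinearMap.comp_apply, LinearEquiv.coe_coe]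
    generalize Coalgebra.comul (R := k) a = z
    induction z using TensorProduct.induction_on with
    | zero => simp
    | tmul x y => simp [TensorProduct.smul_tmul]
    | add s t hs ht => simp only [map_add, TensorProduct.add_tmul, hs, ht]
  · have h1 : c1 (tt : L) = (1 : k) := by rw [tt, c1_single]; simp
    have h := lTensor_c1_comul (π a)
    rw [← CoalgHomClass.map_comp_comul_apply π a, ha, h1, one_smul] at h
    conv_rhs => rw [← h]
    simp only [slice, LinearMap.comp_apply, LinearEquiv.coe_coe]
    generalize Coalgebra.comul (R := k) a = z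
    induction z using TensorProduct.induction_on with
    | zero => simp
    | tmul x y => simp
    | add s t hs ht => simp only [map_add, hs, ht]

/-- A central `𝔾_m` has a power extending to a character. -/
theorem exists_groupLike_of_central
    (hc : ∀ a, (π : A →ₗ[k] L).rTensor A (Coalgebra.comul a) =
      (π : A →ₗ[k] L).rTensor A (TensorProduct.comm k A A (Coalgebra.comul a)))
    (ht : ∃ a, π a = tt) :
    ∃ (g : A) (n : ℕ), IsGroupLikeElem k g ∧ 1 ≤ n ∧ π g = tt ^ n := by
  classical
  obtain ⟨a, ha⟩ := ht
  obtain ⟨hw, hπ⟩ := exists_weight_one π ha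
  set a₁ := slice (c1 ∘ₗ (π : A →ₗ[k] L)) a
  let B := Module.Free.chooseBasis k A
  let Δ := TensorProduct.equivFinsuppOfBasisRight B (Coalgebra.comul (R := k) a₁)
  let V : Submodule k A := Submodule.span k (Δ.support.image Δ : Set A)
  haveI : Module.Finite k V := Module.Finite.span_of_finite k (Finset.finite_toSet _)
  have hsum : Coalgebra.comul (R := k) a₁ = ∑ j ∈ Δ.support, Δ j ⊗ₜ[k] B j := by
    conv_lhs => rw [← (TensorProduct.equivFinsuppOfBasisRight B).symm_apply_apply (Coalgebra.comul (R := k) a₁)]
    rw [TensorProduct.equivFinsuppOfBasisRight_symm_apply]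
    rfl
  have hslice : ∀ j, slice (B.coord j) a₁ = Δ j := fun j => by
    show TensorProduct.rid k A ((B.coord j).lTensor A (Coalgebra.comul a₁)) = _
    rw [hsum, map_sum, map_sum]
    by_cases hj : j ∈ Δ.support
    · rw [Finset.sum_eq_single j]
      · simp
      · intro i _ hij; simp [hij]
      · exact fun h => absurd hj h
    · rw [Finsupp.notMem_support_iff.mp hj]
      exact Finset.sum_eq_zero fun i hi => by
        have : i ≠ j := fun h => hj (h ▸ hi)
        simp [this]
  have hVw : V ≤ wtOne π := by
    refine Submodule.span_le.mpr fun x hx => ?_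
    obtain ⟨j, -, rfl⟩ := Finset.mem_image.mp hx
    rw [← hslice]
    exact slice_mem_wtOne π hc hw _
  have ha₁V : a₁ ∈ V := by
    have h := Coalgebra.lTensor_counit_comul (R := k) a₁
    rw [hsum, map_sum] at h
    have h2 := congrArg (TensorProduct.rid k A) h
    rw [map_sum] at h2
    simp only [LinearMap.lTensor_tmul, TensorProduct.rid_tmul, one_smul] at h2
    rw [← h2]
    exact Submodule.sum_mem _ fun j hj => V.smul_mem _ (Submodule.subset_span (Finset.mem_image_of_mem _ hj))
  -- the comultiplication preserves `V`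
  have hΔV : ∀ v ∈ V, Coalgebra.comul (R := k) v ∈ LinearMap.range (V.subtype.rTensor A) := by
    intro v hv
    induction hv using Submodule.span_induction with
    | mem x hx =>
      obtain ⟨j, -, rfl⟩ := Finset.mem_image.mp hx
      rw [← hslice, comul_slice, hsum, map_sum]
      refine Submodule.sum_mem _ fun i hi => ?_
      exact ⟨⟨Δ i, Submodule.subset_span (Finset.mem_image_of_mem _ hi)⟩ ⊗ₜ _, rfl⟩
    | zero => rw [map_zero]; exact zero_mem _
    | add x y _ _ hx hy => rw [map_add]; exact add_mem hx hy
    | smul r x _ hx => rw [map_smul]; exact Submodule.smul_mem _ r hx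
  let w := Module.finBasis k V
  let n := Module.finrank k V
  choose z hz using fun j => hΔV (w j : A) (w j).2
  let c : Matrix (Fin n) (Fin n) A := fun i j => TensorProduct.equivFinsuppOfBasisLeft w (z j) i
  have hΔw : ∀ j, Coalgebra.comul (R := k) (w j : A) = ∑ i, (w i : A) ⊗ₜ[k] c i j := fun j => by
    rw [← hz j]
    conv_lhs => rw [← (TensorProduct.equivFinsuppOfBasisLeft w).symm_apply_apply (z j),
      TensorProduct.equivFinsuppOfBasisLeft_symm_apply]
    rw [Finsupp.sum_fintype _ _ (fun i => by simp), map_sum]
    rfl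
  have huniq : ∀ (P : Type u) [AddCommGroup P] [Module k P] (x y : Fin n → P),
      ∑ i, (w i : A) ⊗ₜ[k] x i = ∑ i, (w i : A) ⊗ₜ[k] y i → x = y := by
    intro P _ _ x y h
    have hinj : Function.Injective (V.subtype.rTensor P) := Module.Flat.rTensor_preserves_injective_linearMap _ V.subtype_injective
    have h' : ∑ i, w i ⊗ₜ[k] x i = ∑ i, w i ⊗ₜ[k] y i := hinj (by simpa using h)
    funext i
    have := congrArg (fun t => TensorProduct.equivFinsuppOfBasisLeft w t i) h'
    simpa [Finsupp.single_apply] using this
  have hε : ∀ i j, Coalgebra.counit (R := k) (c i j) = if i = j then 1 else 0 := by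
    intro i j
    have h := Coalgebra.lTensor_counit_comul (R := k) (w j : A)
    rw [hΔw, map_sum] at h
    simp only [LinearMap.lTensor_tmul] at h
    have h2 := congrFun (huniq k (fun i => Coalgebra.counit (R := k) (c i j)) (fun i => if i = j then 1 else 0)
      (h.trans (by simp [TensorProduct.tmul_ite]))) i
    exact h2
  have hΔc : ∀ i j, Coalgebra.comul (R := k) (c i j) = ∑ l, c i l ⊗ₜ[k] c l j := by
    intro i j
    refine congrFun (huniq _ (fun i => Coalgebra.comul (R := k) (c i j)) (fun i => ∑ l, c i l ⊗ₜ[k] c l j) ?_) i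
    have h := Coalgebra.coassoc_apply (R := k) (w j : A)
    rw [hΔw, map_sum, map_sum, map_sum] at h
    simp only [LinearMap.lTensor_tmul, LinearMap.rTensor_tmul, hΔw, TensorProduct.sum_tmul, map_sum,
      TensorProduct.assoc_tmul] at h
    rw [← h, Finset.sum_comm]
    simp only [TensorProduct.tmul_sum, n]
  have hπc : ∀ i j, π (c i j) = if i = j then tt else 0 := by
    intro i j
    have h := (mem_wtOne π (w j : A)).mp (hVw (w j).2)
    rw [hΔw, map_sum] at h
    simp only [LinearMap.lTensor_tmul] at h
    exact congrFun (huniq L (fun i => π (c i j)) (fun i => if i = j then tt else 0)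
      (h.trans (by simp [TensorProduct.tmul_ite]))) i
  refine ⟨c.det, n, ⟨?_, ?_⟩, ?_, ?_⟩
  · show Bialgebra.counitAlgHom k A c.det = 1
    rw [AlgHom.map_det, show (Bialgebra.counitAlgHom k A).mapMatrix c = 1 from ?_, Matrix.det_one]
    ext i j
    simp [Matrix.one_apply, hε]
  · show Bialgebra.comulAlgHom k A c.det = c.det ⊗ₜ[k] c.det
    rw [AlgHom.map_det, show (Bialgebra.comulAlgHom k A).mapMatrix c =
        (Algebra.TensorProduct.includeLeft : A →ₐ[k] A ⊗[k] A).mapMatrix c *
          (Algebra.TensorProduct.includeRight : A →ₐ[k] A ⊗[k] A).mapMatrix c from ?_,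
      Matrix.det_mul, ← AlgHom.map_det, ← AlgHom.map_det]
    · simp
    · ext i j
      simp [Matrix.mul_apply, hΔc]
  · refine Nat.one_le_iff_ne_zero.mpr fun h0 => ?_
    have h0' : V = ⊥ := Submodule.finrank_eq_zero.mp h0
    have : a₁ = 0 := by simpa [h0'] using ha₁V
    rw [this, map_zero] at hπ
    have := congrArg c1 hπ
    rw [map_zero, tt, c1_single, if_pos rfl] at this
    exact one_ne_zero this.symm
  · show (π : A →ₐ[k] L) c.det = _
    rw [AlgHom.map_det, show (π : A →ₐ[k] L).mapMatrix c = Matrix.scalar (Fin n) (tt : L) from ?_]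
    · simp
    · ext i j
      simp [hπc, Matrix.diagonal_apply]

theorem exists_character {g : A} (hg : IsGroupLikeElem k g) :
    ∃ χ : MonoidAlgebra k (Multiplicative ℤ) →ₐc[k] A, χ tt = g := by
  have hu : IsUnit g := by
    refine IsUnit.of_mul_eq_one (HopfAlgebra.antipode k g) ?_
    have h := HopfAlgebra.mul_antipode_lTensor_comul_apply (R := k) g
    rw [hg.comul_eq_tmul_self, hg.counit_eq_one] at h
    simpa using h
  obtain ⟨u, rfl⟩ := hu
  let f : Multiplicative ℤ →* A := (Units.coeHom A).comp (zpowersHom Aˣ u)
  refine ⟨BialgHom.ofAlgHom (MonoidAlgebra.lift k A (Multiplicative ℤ) f) ?_ ?_,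
    show MonoidAlgebra.lift k A (Multiplicative ℤ) f tt = _ by simp [tt, f]⟩
  · refine MonoidAlgebra.algHom_ext (fun z => ?_) (by ext)
    have h : Units.map (Bialgebra.counitAlgHom k A : A →* k) u = 1 := Units.ext hg.counit_eq_one
    have h2 := congrArg Units.val (map_zpow (Units.map (Bialgebra.counitAlgHom k A : A →* k)) u z.toAdd)
    rw [h, one_zpow] at h2
    have h3 : Coalgebra.counit (R := k) ((u ^ z.toAdd : Aˣ) : A) = 1 := h2
    simp [f]
    exact h3
  · refine MonoidAlgebra.algHom_ext (fun z => ?_) (by ext)
    let il : Aˣ →* (A ⊗[k] A)ˣ := Units.map (Algebra.TensorProduct.includeLeft : A →ₐ[k] A ⊗[k] A)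
    let ir : Aˣ →* (A ⊗[k] A)ˣ := Units.map (Algebra.TensorProduct.includeRight : A →ₐ[k] A ⊗[k] A)
    have h : Units.map (Bialgebra.comulAlgHom k A : A →* A ⊗[k] A) u = il u * ir u := Units.ext (by
      simpa [il, ir] using hg.comul_eq_tmul_self)
    have h2 := congrArg Units.val (map_zpow (Units.map (Bialgebra.comulAlgHom k A : A →* A ⊗[k] A)) u z.toAdd)
    rw [h, mul_zpow, ← map_zpow, ← map_zpow] at h2
    simp only [Units.coe_map, Units.val_mul, il, ir, MonoidHom.coe_coe] at h2
    simp [f] at h2 ⊢
    exact h2.symm

end Groth.Agent.GrpSchLib.CentralGm
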