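import Groth.Agent.GrpSchLib.Kunneth
import Groth.Agent.ProjPt.Poly
import Groth.Agent.ProjPt.Sections
import Groth.Prelude.Def_CohB1

/-! Lines spanned by unimodular vectors of functions, as points of projective space. -/

universe u

open CategoryTheory Limits AlgebraicGeometry MonoidalCategory CartesianMonoidalCategory MvPolynomial

set_option linter.style.haveILetI false

namespace Groth.Agent.GrpSchLib.ProjLine

open Kunneth

variable {k : Type u} [Field k] {n : ℕ}

/-- The projective space as a scheme over k. -/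
noncomputable abbrev Pn (k : Type u) [Field k] (n : ℕ) : Over (Spec (CommRingCat.of k)) :=
  Over.mk (CohB1.ProjSpace.toSpec n k)

theorem isUnit_evalX {Z : Over (Spec (CommRingCat.of k))} (v : Fin (n + 1) → Fn Z) (i : Fin (n + 1)) (hu : IsUnit (v i)) :
    IsUnit (eval₂Hom (str Z) v (X i)) := by
  rwa [eval₂Hom_X']

/-- The point with the coordinates `v`, in the chart `i`. -/
noncomputable def pv {Z : Over (Spec (CommRingCat.of k))} (v : Fin (n + 1) → Fn Z) (i : Fin (n + 1)) (hu : IsUnit (v i)) :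
    Z ⟶ Pn k n :=
  Over.homMk (ProjPt.pt (CohB1.polyGrading n k) (eval₂Hom (str Z) v) (ProjPt.X_mem i) one_pos (isUnit_evalX v i hu)) (by
    show ProjPt.pt _ _ _ _ _ ≫ Proj.toSpecZero (CohB1.polyGrading n k) ≫ _ = Z.hom
    rw [← Category.assoc, ProjPt.pt_toSpecZero, Category.assoc, ← Spec.map_comp, ← CommRingCat.ofHom_comp,
      ProjPt.eq_toSpecΓ Z.hom]
    congr 2
    ext c
    show eval₂Hom (str Z) v (MvPolynomial.C c) = _
    rw [eval₂Hom_C]
    rfl)

theorem comp_pv {Z Z' : Over (Spec (CommRingCat.of k))} (g : Z' ⟶ Z) (v : Fin (n + 1) → Fn Z) (i : Fin (n + 1))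
    (hu : IsUnit (v i)) : g ≫ pv v i hu = pv (fun l => ev g (v l)) i (hu.map (ev g)) := by
  refine Over.OverMorphism.ext ?_
  show g.left ≫ ProjPt.pt _ _ _ _ _ = ProjPt.pt _ _ _ _ _
  rw [ProjPt.comp_pt]
  refine ProjPt.pt_congr _ _ _ ?_ _ _ _ _
  refine MvPolynomial.ringHom_ext (fun r => ?_) fun l => ?_
  · simp only [RingHom.comp_apply, eval₂Hom_C]
    exact (ev g).commutes r
  · simp only [RingHom.comp_apply, eval₂Hom_X']
    rfl

theorem pv_eq_iff {Z : Over (Spec (CommRingCat.of k))} (v w : Fin (n + 1) → Fn Z) (i j : Fin (n + 1))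
    (hi : IsUnit (v i)) (hj : IsUnit (w j)) :
    pv v i hi = pv w j hj ↔ ∀ x q, v x * w q = v q * w x := by
  constructor
  · intro h
    have h' : ProjPt.pt (CohB1.polyGrading n k) (eval₂Hom (str Z) v) (ProjPt.X_mem i) one_pos (isUnit_evalX v i hi) =
        ProjPt.pt (CohB1.polyGrading n k) (eval₂Hom (str Z) w) (ProjPt.X_mem j) one_pos (isUnit_evalX w j hj) :=
      congrArg CommaMorphism.left h
    rw [ProjPt.pt, ProjPt.pt, ← Category.assoc, ← Category.assoc] at h'
    obtain ⟨c, -, hc⟩ := ProjPt.exists_unit_of_agree _ (ProjPt.X_mem i) (ProjPt.X_mem j) _ _ h'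
      _ _ rfl rfl
    have hv : ∀ l, ProjPt.coordHom _ (eval₂Hom (str Z) v) (isUnit_evalX v i hi) (ProjPt.crd i l) * v i = v l := fun l => by
      have := ProjPt.coordHom_mk_mul (CohB1.polyGrading n k) (eval₂Hom (str Z) v) (isUnit_evalX v i hi)
        (ProjPt.X_mem i) 1 (X l) (by rw [one_smul]; exact ProjPt.X_mem l)
      rwa [eval₂Hom_X', eval₂Hom_X', pow_one] at this
    have hw : ∀ l, ProjPt.coordHom _ (eval₂Hom (str Z) w) (isUnit_evalX w j hj) (ProjPt.crd j l) * w j = w l := fun l => by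
      have := ProjPt.coordHom_mk_mul (CohB1.polyGrading n k) (eval₂Hom (str Z) w) (isUnit_evalX w j hj)
        (ProjPt.X_mem j) 1 (X l) (by rw [one_smul]; exact ProjPt.X_mem l)
      rwa [eval₂Hom_X', eval₂Hom_X', pow_one] at this
    intro x q
    rw [← hv x, ← hv q, ← hw q, ← hw x,
      show ProjPt.coordHom _ (eval₂Hom (str Z) w) (isUnit_evalX w j hj) (ProjPt.crd j q) = _ from hc (X q) (ProjPt.X_mem q),
      show ProjPt.coordHom _ (eval₂Hom (str Z) w) (isUnit_evalX w j hj) (ProjPt.crd j x) = _ from hc (X x) (ProjPt.X_mem x)]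
    simp only [ProjPt.crd]
    ring
  · intro h
    obtain ⟨a, ha⟩ := hi
    refine Over.OverMorphism.ext (ProjPt.pt_scale_eval (str Z) v w ((↑a⁻¹ : Fn Z) * w i) (fun l => ?_) i j
      (isUnit_evalX v i ⟨a, ha⟩) (isUnit_evalX w j hj)).symm
    rw [mul_assoc, show w i * v l = v i * w l by rw [mul_comm]; exact h l i, ← ha, Units.inv_mul_cancel_left]

variable (G : Over (Spec (CommRingCat.of k)))

/-- A unimodular vector of functions gives a morphism to projective space remembering exactly its line. -/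
theorem exists_hom (z α : Fin (n + 1) → Fn G) (h1 : ∑ l, α l * z l = 1) :
    ∃ φ : G ⟶ Pn k n, ∀ (T : Over (Spec (CommRingCat.of k))) (g g' : T ⟶ G),
      g ≫ φ = g' ≫ φ ↔ ∀ x q, ev g (z x) * ev g' (z q) = ev g (z q) * ev g' (z x) := by
  classical
  let W : Fin (n + 1) → Over (Spec (CommRingCat.of k)) := fun i => Over.mk ((G.left.basicOpen (z i)).ι ≫ G.hom)
  let wι : ∀ i, W i ⟶ G := fun i => Over.homMk (G.left.basicOpen (z i)).ι rfl
  have hmem : ∀ p : G.left, ∃ i, p ∈ G.left.basicOpen (z i) := by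
    intro p
    by_contra hne
    push_neg at hne
    have hm : (∑ l, G.left.presheaf.germ ⊤ p trivial (α l) * G.left.presheaf.germ ⊤ p trivial (z l)) ∈
        IsLocalRing.maximalIdeal (G.left.presheaf.stalk p) :=
      Ideal.sum_mem _ fun l _ => Ideal.mul_mem_left _ _ (by
        rw [IsLocalRing.mem_maximalIdeal, mem_nonunits_iff, ← Scheme.mem_basicOpen_top G.left (z l) p]
        exact hne l)
    simp only [← map_mul, ← map_sum, h1, map_one] at hm
    exact (IsLocalRing.maximalIdeal.isMaximal _).ne_top ((Ideal.eq_top_iff_one _).mpr hm)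
  have hu : ∀ i, IsUnit (ev (wι i) (z i)) := fun i => by
    have h : (G.left.basicOpen (z i)).toScheme.basicOpen (ev (wι i) (z i)) = ⊤ := by
      rw [ev_apply, ← Scheme.preimage_basicOpen_top]
      exact (G.left.basicOpen (z i)).ι_preimage_self
    refine (W i).left.toLocallyRingedSpace.toRingedSpace.isUnit_of_isUnit_germ ⊤ _ fun x hx => ?_
    exact ((W i).left.mem_basicOpen_top (ev (wι i) (z i)) x).mp ((SetLike.ext_iff.mp h x).mpr hx)
  let 𝒰 : G.left.OpenCover := G.left.openCoverOfIsOpenCover (fun i => G.left.basicOpen (z i))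
    (TopologicalSpace.IsOpenCover.mk (eq_top_iff.2 fun p _ => TopologicalSpace.Opens.mem_iSup.2 (hmem p)))
  let ch : ∀ i, W i ⟶ Pn k n := fun i => pv (fun l => ev (wι i) (z l)) i (hu i)
  have hcompat : ∀ {Z : Over (Spec (CommRingCat.of k))} (a b : Fin (n + 1)) (h₁ : Z ⟶ W a) (h₂ : Z ⟶ W b),
      h₁ ≫ wι a = h₂ ≫ wι b → h₁ ≫ ch a = h₂ ≫ ch b := by
    intro Z a b h₁ h₂ h
    simp only [ch, comp_pv, pv_eq_iff, ev_ev, h]
    exact fun x q => mul_comm _ _
  let φ₀ : G.left ⟶ CohB1.ProjSpace n k := 𝒰.glueMorphisms (fun i => (ch i).left) fun a b => by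
    let Z : Over (Spec (CommRingCat.of k)) := Over.mk (pullback.fst (𝒰.f a) (𝒰.f b) ≫ (W a).hom)
    let h₁ : Z ⟶ W a := Over.homMk (pullback.fst (𝒰.f a) (𝒰.f b)) rfl
    let h₂ : Z ⟶ W b := Over.homMk (pullback.snd (𝒰.f a) (𝒰.f b)) (by
      show pullback.snd (𝒰.f a) (𝒰.f b) ≫ 𝒰.f b ≫ G.hom = pullback.fst (𝒰.f a) (𝒰.f b) ≫ 𝒰.f a ≫ G.hom
      rw [← pullback.condition_assoc])
    exact congrArg CommaMorphism.left (hcompat a b h₁ h₂ (Over.OverMorphism.ext pullback.condition))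
  have hφ₀ : ∀ i, 𝒰.f i ≫ φ₀ = (ch i).left := fun i => Scheme.Cover.ι_glueMorphisms 𝒰 _ _ i
  let φ : G ⟶ Pn k n := Over.homMk φ₀ (Scheme.Cover.hom_ext 𝒰 _ _ fun i => by
    rw [← Category.assoc, hφ₀]
    exact Over.w (ch i))
  have hφ : ∀ i, wι i ≫ φ = ch i := fun i => Over.OverMorphism.ext (hφ₀ i)
  refine ⟨φ, fun T g g' => ?_⟩
  -- the cover of `T` by the preimages of pairs of charts
  let V : Fin (n + 1) × Fin (n + 1) → T.left.Opens := fun p =>
    g.left ⁻¹ᵁ G.left.basicOpen (z p.1) ⊓ g'.left ⁻¹ᵁ G.left.basicOpen (z p.2)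
  let R : Fin (n + 1) × Fin (n + 1) → Over (Spec (CommRingCat.of k)) := fun p => Over.mk ((V p).ι ≫ T.hom)
  let r : ∀ p, R p ⟶ T := fun p => Over.homMk (V p).ι rfl
  let 𝒱 : T.left.OpenCover := T.left.openCoverOfIsOpenCover V
    (TopologicalSpace.IsOpenCover.mk (eq_top_iff.2 fun t _ => TopologicalSpace.Opens.mem_iSup.2 (by
      obtain ⟨a, ha⟩ := hmem (g.left t)
      obtain ⟨b, hb⟩ := hmem (g'.left t)
      exact ⟨(a, b), ha, hb⟩)))
  have hl : ∀ (s : T ⟶ G) (p : Fin (n + 1) × Fin (n + 1)) (a : Fin (n + 1)),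
      V p ≤ s.left ⁻¹ᵁ G.left.basicOpen (z a) → ∃ l : R p ⟶ W a, l ≫ wι a = r p ≫ s := by
    intro s p a hle
    have hr : Set.range ((V p).ι ≫ s.left) ⊆ Set.range (G.left.basicOpen (z a)).ι := by
      rintro _ ⟨t, rfl⟩
      rw [Scheme.Opens.range_ι]
      exact hle t.2
    refine ⟨Over.homMk (IsOpenImmersion.lift (G.left.basicOpen (z a)).ι ((V p).ι ≫ s.left) hr) ?_,
      Over.OverMorphism.ext (IsOpenImmersion.lift_fac _ _ _)⟩
    show _ ≫ (G.left.basicOpen (z a)).ι ≫ G.hom = (V p).ι ≫ T.hom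
    rw [IsOpenImmersion.lift_fac_assoc, Category.assoc, Over.w s]
  have key : ∀ p, r p ≫ g ≫ φ = r p ≫ g' ≫ φ ↔ ∀ x q, ev (r p) (ev g (z x) * ev g' (z q)) = ev (r p) (ev g (z q) * ev g' (z x)) := by
    intro p
    obtain ⟨l, hl1⟩ := hl g p p.1 inf_le_left
    obtain ⟨l', hl2⟩ := hl g' p p.2 inf_le_right
    rw [← reassoc_of% hl1, ← reassoc_of% hl2, hφ, hφ]
    simp only [ch, comp_pv, pv_eq_iff, ev_ev, hl1, hl2, map_mul]
  refine ⟨fun h x q => ?_, fun h => ?_⟩
  · refine sub_eq_zero.mp (Scheme.zero_of_zero_cover _ 𝒱 fun p => ?_)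
    show ev (r p) (_ - _) = 0
    rw [map_sub, sub_eq_zero]
    exact (key p).mp (by rw [h]) x q
  · refine Over.OverMorphism.ext (Scheme.Cover.hom_ext 𝒱 _ _ fun p => ?_)
    exact congrArg CommaMorphism.left ((key p).mpr fun x q => by rw [h x q])

end Groth.Agent.GrpSchLib.ProjLine
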