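import Groth.Agent.H23.RigidApply
import Groth.Agent.H23.RigidGamma
import Groth.Agent.H23.MaxAbelian
import Groth.Agent.S5331
import Groth.Agent.S7806
import Groth.Agent.GrpSchLib.ReducedPoints

/-! Rigidity for maps out of abelian varieties. -/

universe u

open CategoryTheory Limits AlgebraicGeometry MonoidalCategory CartesianMonoidalCategory MonObj GrpObj
open Groth.Agent.H23

namespace Groth.Agent.GrpSchLib.RigidHom

variable {k : Type u} [Field k]

/-- Rigidity over a connected parameter scheme. -/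
theorem exists_factor {V W Z : Over (Spec (CommRingCat.of k))} [IsProper V.hom] [GeometricallyIntegral V.hom]
    [LocallyOfFiniteType W.hom] [PreconnectedSpace W.left] [IsSeparated Z.hom] (φ : V ⊗ W ⟶ Z)
    (w₀ : 𝟙_ (Over (Spec (CommRingCat.of k))) ⟶ W) (z₀ : 𝟙_ (Over (Spec (CommRingCat.of k))) ⟶ Z)
    (h : lift (𝟙 V) (toUnit V ≫ w₀) ≫ φ = toUnit V ≫ z₀) : ∃ g : W ⟶ Z, φ = snd V W ≫ g := by
  have : IsLocallyNoetherian W.left := LocallyOfFiniteType.isLocallyNoetherian W.hom
  have h0 := RigidApply.constFibres_of_geometricallyIntegral V.hom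
  let p := pullback.snd V.hom W.hom
  let pt : ↥(Spec (CommRingCat.of k)) := IsLocalRing.closedPoint k
  let π : pullback V.hom W.hom ⟶ pullback W.hom Z.hom := pullback.lift p φ.left (by
    rw [Over.w φ]; exact pullback.condition.symm)
  have hπ : π ≫ pullback.fst W.hom Z.hom = p := pullback.lift_fst _ _ _
  have hs : w₀.left pt ∈ RigidNoeth.collapsed p π := by
    let s' := lift (𝟙 V) (toUnit V ≫ w₀)
    have H : IsPullback s'.left V.hom p w₀.left := by
      refine IsPullback.of_right ?_ ?_ (IsPullback.of_hasPullback V.hom W.hom)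
      · have e1 : s'.left ≫ pullback.fst V.hom W.hom = 𝟙 _ := congrArg CommaMorphism.left (lift_fst (𝟙 V) _)
        have e2 : w₀.left ≫ W.hom = 𝟙 _ := Over.w w₀
        rw [e1, e2]
        exact IsPullback.of_id_fst
      · exact (congrArg CommaMorphism.left (lift_snd (𝟙 V) (toUnit V ≫ w₀))).trans rfl
    let c : Spec (CommRingCat.of k) ⟶ pullback W.hom Z.hom :=
      pullback.lift w₀.left z₀.left ((Over.w w₀).trans (Over.w z₀).symm)
    refine ⟨c pt, fun x hx => ?_⟩
    obtain ⟨w, hw1, hw2⟩ := Scheme.exists_preimage_of_isPullback H x pt hx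
    have e : s'.left ≫ π = V.hom ≫ c := by
      apply pullback.hom_ext
      · simp only [Category.assoc, hπ, c, pullback.lift_fst]
        exact H.w
      · simp only [Category.assoc, c, π, pullback.lift_snd]
        exact congrArg CommaMorphism.left h
    rw [← hw1, ← Scheme.Hom.comp_apply, e]
    exact congrArg c hw2
  obtain ⟨g', hg', hfac⟩ := RigidApply.factor_of_isProper p (h0.baseChange W.hom) (pullback.fst W.hom Z.hom) π hπ _ hs
  refine ⟨Over.homMk (g' ≫ pullback.snd _ _) ?_, Over.OverMorphism.ext ?_⟩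
  · rw [Category.assoc, ← pullback.condition, ← Category.assoc, hg', Category.id_comp]
  · show φ.left = p ≫ g' ≫ pullback.snd _ _
    rw [← Category.assoc, ← hfac]
    exact (pullback.lift_snd _ _ _).symm

/-- Rigidity: a map trivial on both axes is trivial. -/
theorem eq_one_of_axes {V W Z : Over (Spec (CommRingCat.of k))} [GrpObj Z] [IsProper V.hom] [GeometricallyIntegral V.hom]
    [LocallyOfFiniteType W.hom] [PreconnectedSpace W.left] [IsSeparated Z.hom] (φ : V ⊗ W ⟶ Z)
    (v₀ : 𝟙_ (Over (Spec (CommRingCat.of k))) ⟶ V) (w₀ : 𝟙_ (Over (Spec (CommRingCat.of k))) ⟶ W)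
    (hV : lift (𝟙 V) (toUnit V ≫ w₀) ≫ φ = 1) (hW : lift (toUnit W ≫ v₀) (𝟙 W) ≫ φ = 1) : φ = 1 := by
  obtain ⟨g, rfl⟩ := exists_factor φ w₀ 1 (hV.trans (MonObj.comp_one _).symm)
  rw [← Category.assoc, lift_snd, Category.id_comp] at hW
  rw [hW, MonObj.comp_one]

/-- A pointed map from an abelian variety to a group is a homomorphism. -/
theorem isMonHom_of_one {V Z : Over (Spec (CommRingCat.of k))} [GrpObj V] [GrpObj Z] [IsProper V.hom] [GeometricallyIntegral V.hom]
    [IsSeparated Z.hom] (t : V ⟶ Z) (ht : η[V] ≫ t = 1) : IsMonHom t := by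
  have hte : ∀ X : Over (Spec (CommRingCat.of k)), (1 : X ⟶ V) ≫ t = 1 := fun X => by
    rw [show (1 : X ⟶ V) = toUnit X ≫ η[V] from rfl, Category.assoc, ht, MonObj.comp_one]
  haveI : IsIntegral V.left := GeometricallyIntegral.isIntegral_of_subsingleton V.hom
  let h : V ⊗ V ⟶ Z := (fst V V ≫ t) * (snd V V ≫ t) * ((fst V V * snd V V) ≫ t)⁻¹
  have hh : h = 1 := by
    refine eq_one_of_axes h η[V] η[V] ?_ ?_
    · simp only [h, MonObj.comp_mul, GrpObj.comp_inv, ← Category.assoc, lift_fst, lift_snd]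
      rw [show toUnit V ≫ η[V] = (1 : V ⟶ V) from rfl, hte, _root_.mul_one, _root_.mul_one, Category.id_comp,
        mul_inv_cancel]
    · simp only [h, MonObj.comp_mul, GrpObj.comp_inv, ← Category.assoc, lift_fst, lift_snd]
      rw [show toUnit V ≫ η[V] = (1 : V ⟶ V) from rfl, hte, _root_.one_mul, _root_.one_mul, Category.id_comp,
        mul_inv_cancel]
  have hmul : (fst V V * snd V V) ≫ t = (fst V V ≫ t) * (snd V V ≫ t) := (mul_inv_eq_one.mp hh).symm
  refine ⟨ht, ?_⟩
  have e : lift (fst V V) (snd V V) = 𝟙 (V ⊗ V) := lift_fst_snd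
  have e2 : μ[V] = fst V V * snd V V := by rw [Hom.mul_def, e, Category.id_comp]
  rw [e2, hmul, Hom.mul_def, ← lift_map, e, Category.id_comp]

/-- A nonempty scheme of finite type over an algebraically closed field has a rational point. -/
theorem exists_point [IsAlgClosed k] (S : Over (Spec (CommRingCat.of k))) [LocallyOfFiniteType S.hom]
    [CompactSpace S.left] [Nonempty S.left] : Nonempty (𝟙_ (Over (Spec (CommRingCat.of k))) ⟶ S) := by
  obtain ⟨w, -, hw⟩ := IsClosed.exists_closed_singleton (isClosed_univ (X := S.left)) Set.univ_nonempty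
  obtain ⟨s, -⟩ := exists_point_of_isClosed (k := k) (K := k) S hw
  let e : 𝟙_ (Over (Spec (CommRingCat.of k))) ⟶ Over.mk (Spec.map (CommRingCat.ofHom (algebraMap k k))) :=
    Over.homMk (𝟙 (Spec (CommRingCat.of k))) (by
      show 𝟙 _ ≫ Spec.map (CommRingCat.ofHom (algebraMap k k)) = 𝟙 _
      simp)
  exact ⟨e ≫ s⟩

end Groth.Agent.GrpSchLib.RigidHom
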