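import Groth.Agent.GrpSchLib.CoincidenceBase

/-! Consequences of schematic density of a set of points. -/

open CategoryTheory AlgebraicGeometry Limits MonoidalCategory CartesianMonoidalCategory

namespace Groth.Agent.GrpSchLib

universe u

variable {S : Scheme.{u}}

/-- Every closed subscheme of `X` containing all `P`-points is `X`. -/
def DensePts (P X : Over S) : Prop :=
  ∀ (Z : Over S) (c : Z ⟶ X), IsClosedImmersion c.left → (∀ x : P ⟶ X, ∃ z : P ⟶ Z, z ≫ c = x) → IsIso c

theorem DensePts.hom_ext {P X Y : Over S} (hd : DensePts P X) [IsSeparated Y.hom] {f g : X ⟶ Y}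
    (h : ∀ x : P ⟶ X, x ≫ f = x ≫ g) : f = g := by
  have hab : f.left ≫ Y.hom = g.left ≫ Y.hom := (Over.w f).trans (Over.w g).symm
  let i := pullback.fst (pullback.lift f.left g.left hab) (pullback.diagonal Y.hom)
  have hi : IsClosedImmersion i := exists_closed_equalizer _ _ _ hab
  let c : Over.mk (i ≫ X.hom) ⟶ X := Over.homMk i rfl
  have := hd _ c hi fun x => by
    obtain ⟨l, hl⟩ := (factors_equalizer_iff Y.hom _ _ hab x.left).mpr (congrArg CommaMorphism.left (h x))
    exact ⟨Over.homMk l (by show l ≫ i ≫ X.hom = _; rw [← Category.assoc, hl, Over.w x]),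
      Over.OverMorphism.ext hl⟩
  have h2 := (factors_equalizer_iff Y.hom _ _ hab (𝟙 _)).mp
    ⟨(inv c).left, congrArg CommaMorphism.left (IsIso.inv_hom_id c)⟩
  exact Over.OverMorphism.ext (by simpa using h2)

theorem DensePts.exists_fac {P X Y W : Over S} (hd : DensePts P X) (i : W ⟶ Y) [IsClosedImmersion i.left]
    (f : X ⟶ Y) (h : ∀ x : P ⟶ X, ∃ w : P ⟶ W, w ≫ i = x ≫ f) : ∃ f' : X ⟶ W, f' ≫ i = f := by
  let Z : Over S := Over.mk (pullback.fst f.left i.left ≫ X.hom)
  let c : Z ⟶ X := Over.homMk (pullback.fst f.left i.left) rfl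
  have hc : IsClosedImmersion c.left := inferInstanceAs (IsClosedImmersion (pullback.fst f.left i.left))
  have := hd Z c hc fun x => by
    obtain ⟨w, hw⟩ := h x
    exact ⟨Over.homMk (pullback.lift x.left w.left (congrArg CommaMorphism.left hw).symm)
      (by show pullback.lift _ _ _ ≫ pullback.fst _ _ ≫ X.hom = P.hom
          rw [pullback.lift_fst_assoc, Over.w x]),
      Over.OverMorphism.ext (pullback.lift_fst _ _ _)⟩
  have hw : pullback.snd f.left i.left ≫ W.hom = pullback.fst f.left i.left ≫ X.hom := by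
    rw [← Over.w i, ← pullback.condition_assoc, Over.w f]
  refine ⟨inv c ≫ Over.homMk (pullback.snd f.left i.left) hw, ?_⟩
  rw [Category.assoc, IsIso.inv_comp_eq]
  exact Over.OverMorphism.ext pullback.condition.symm

end Groth.Agent.GrpSchLib
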