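import Groth.Agent.GrpSchLib.SmoothReduced
import Groth.Agent.GrpSchLib.DensePoints
import Groth.Agent.GrpSchLib.GeomIrr
import Mathlib.RingTheory.Etale.Field
import Mathlib.RingTheory.Spectrum.Prime.Chevalley
import Mathlib.RingTheory.Smooth.Flat
import Mathlib.Algebra.MvPolynomial.Funext
import Mathlib.FieldTheory.IsSepClosed
import Mathlib.AlgebraicGeometry.Morphisms.FlatDescent

/-! Rational points of smooth schemes over separably closed fields. -/

open CategoryTheory AlgebraicGeometry Limits TensorProduct

namespace Groth.Agent.GrpSchLib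

universe u

theorem infinite_of_isSepClosed (K : Type u) [Field K] [IsSepClosed K] : Infinite K := by
  by_contra h
  have : Finite K := not_infinite_iff_finite.mp h
  have : IsAlgClosed K := inferInstance
  exact h inferInstance

/-- A nonzero standard smooth algebra over a separably closed field has a rational point. -/
theorem exists_algHom_of_isStandardSmooth (K A : Type u) [Field K] [IsSepClosed K] [CommRing A]
    [Algebra K A] [Algebra.IsStandardSmooth K A] [Nontrivial A] : Nonempty (A →ₐ[K] K) := by
  obtain ⟨ι, σ, _, _, ⟨P⟩⟩ := ‹Algebra.IsStandardSmooth K A›.out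
  have : Algebra.IsStandardSmoothOfRelativeDimension P.dimension K A :=
    ⟨ι, σ, inferInstance, inferInstance, P, rfl⟩
  obtain ⟨g, hg⟩ := Algebra.IsStandardSmoothOfRelativeDimension.exists_etale_mvPolynomial (n := P.dimension) K A
  let R := MvPolynomial (Fin P.dimension) K
  let : Algebra R A := g.toRingHom.toAlgebra
  have : IsScalarTower K R A := IsScalarTower.of_algebraMap_eq fun c => (g.commutes c).symm
  have : Algebra.Etale R A := hg
  have hflat : Module.Flat R A := Algebra.Smooth.flat R A
  have : Algebra.FinitePresentation R A := inferInstance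
  have hopen : IsOpen (Set.range (PrimeSpectrum.comap (algebraMap R A))) :=
    (PrimeSpectrum.isOpenMap_comap_of_hasGoingDown_of_finitePresentation).isOpen_range
  obtain ⟨q⟩ : Nonempty (PrimeSpectrum A) := inferInstance
  obtain ⟨_, ⟨f, rfl⟩, hq, hsub⟩ := PrimeSpectrum.isTopologicalBasis_basic_opens.exists_subset_of_mem_open
    (Set.mem_range_self q) hopen
  have hf : f ≠ 0 := fun h => hq (h ▸ Ideal.zero_mem _)
  have := infinite_of_isSepClosed K
  obtain ⟨a, ha⟩ : ∃ a : Fin P.dimension → K, MvPolynomial.eval a f ≠ 0 := by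
    by_contra h
    simp only [not_exists, not_not] at h
    exact hf (MvPolynomial.funext fun x => by simp [h x])
  let ev : R →ₐ[K] K := MvPolynomial.aeval a
  let : Algebra R K := ev.toRingHom.toAlgebra
  have : IsScalarTower K R K := IsScalarTower.of_algebraMap_eq fun c => (ev.commutes c).symm
  have hne : Nontrivial (K ⊗[R] A) := by
    obtain ⟨x, hx⟩ := hsub (show (PrimeSpectrum.comap (algebraMap R K) ⊥ : PrimeSpectrum R) ∈
        (PrimeSpectrum.basicOpen f : Set (PrimeSpectrum R)) from fun hm => ha (by
      have : ev f = 0 := hm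
      rw [show MvPolynomial.eval a f = ev f from (congrFun (MvPolynomial.aeval_eq_eval a) f).symm]
      exact this))
    let m : Ideal R := RingHom.ker (algebraMap R K)
    have hsurj : Function.Surjective (algebraMap R K) := fun c => ⟨MvPolynomial.C c, MvPolynomial.aeval_C a c⟩
    have hxm : x.asIdeal.comap (algebraMap R A) = m := congrArg PrimeSpectrum.asIdeal hx
    let Q := A ⧸ x.asIdeal
    have : Nontrivial Q := Ideal.Quotient.nontrivial_iff.mpr x.2.ne_top
    let e : R ⧸ m ≃+* K := RingHom.quotientKerEquivOfSurjective hsurj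
    let u : K →+* Q :=
      (Ideal.Quotient.lift m ((Ideal.Quotient.mk x.asIdeal).comp (algebraMap R A)) fun r hr => by
        rw [RingHom.comp_apply, Ideal.Quotient.eq_zero_iff_mem]
        exact (Ideal.mem_comap).mp (hxm.symm ▸ hr)).comp e.symm.toRingHom
    let u' : K →ₐ[R] Q :=
      { u with
        commutes' := fun r => by
          show u (algebraMap R K r) = _
          have : e.symm (algebraMap R K r) = Ideal.Quotient.mk m r :=
            e.symm_apply_eq.mpr (RingHom.quotientKerEquivOfSurjective_apply_mk hsurj r).symm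
          simp [u, this]
          rfl }
    exact RingHom.domain_nontrivial
      (Algebra.TensorProduct.lift u' (Ideal.Quotient.mkₐ R x.asIdeal) fun _ _ => Commute.all _ _).toRingHom
  have : Algebra.Etale K (K ⊗[R] A) := inferInstance
  obtain ⟨p⟩ : Nonempty (PrimeSpectrum (K ⊗[R] A)) := inferInstance
  let π : K ⊗[R] A →ₐ[K] K :=
    (Pi.evalAlgHom K (fun _ : PrimeSpectrum (K ⊗[R] A) => K) p).comp
      (Algebra.FormallyEtale.equivPiOfIsSepClosed K (K ⊗[R] A)).toAlgHom
  exact ⟨π.comp ((Algebra.TensorProduct.includeRight (R := R) (A := K) (B := A)).restrictScalars K)⟩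

/-- A nonempty smooth scheme over a separably closed field has a rational point in every nonempty open. -/
theorem exists_point_of_smooth {K : Type u} [Field K] [IsSepClosed K] {X : Scheme.{u}}
    (f : X ⟶ Spec (CommRingCat.of K)) [Smooth f] (O : X.Opens) {x : X} (hxO : x ∈ O) :
    ∃ s : Spec (CommRingCat.of K) ⟶ X, s ≫ f = 𝟙 _ ∧ s (IsLocalRing.closedPoint K) ∈ O := by
  obtain ⟨U, hU, V, hV, hx, e, hf⟩ := Smooth.exists_isStandardSmooth (O.ι ≫ f) ⟨x, hxO⟩
  obtain rfl : U = ⊤ := top_unique fun y _ =>
    (@Subsingleton.elim (Spec (CommRingCat.of K)) inferInstance y _).symm ▸ e hx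
  let φ := (Scheme.ΓSpecIso (CommRingCat.of K)).inv ≫ (O.ι ≫ f).appLE ⊤ V e
  let : Algebra K Γ(O.toScheme, V) := φ.hom.toAlgebra
  have : Algebra.IsStandardSmooth K Γ(O.toScheme, V) :=
    RingHom.isStandardSmooth_respectsIso.right _
      (Scheme.ΓSpecIso (CommRingCat.of K)).symm.commRingCatIsoToRingEquiv hf
  have : Nontrivial Γ(O.toScheme, V) := by
    have : Nonempty V := ⟨⟨⟨x, hxO⟩, hx⟩⟩
    exact (PrimeSpectrum.nonempty_iff_nontrivial).mp ⟨hV.primeIdealOf ⟨⟨x, hxO⟩, hx⟩⟩
  obtain ⟨π⟩ := exists_algHom_of_isStandardSmooth K Γ(O.toScheme, V)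
  refine ⟨Spec.map (CommRingCat.ofHom π.toRingHom) ≫ hV.fromSpec ≫ O.ι, ?_, ?_⟩
  · rw [Category.assoc, Category.assoc,
      ← IsAffineOpen.SpecMap_appLE_fromSpec (O.ι ≫ f) hU hV e, ← Category.assoc]
    have hcomp : (Scheme.ΓSpecIso (CommRingCat.of K)).inv ≫ (O.ι ≫ f).appLE ⊤ V e ≫
        CommRingCat.ofHom π.toRingHom = 𝟙 _ := CommRingCat.hom_ext (RingHom.ext fun c => π.commutes c)
    rw [← Spec.map_comp, IsAffineOpen.fromSpec_top, Scheme.isoSpec_Spec_inv, ← Spec.map_comp]
    exact (congrArg Spec.map hcomp).trans (Spec.map_id _)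
  · exact ((hV.fromSpec (Spec.map (CommRingCat.ofHom π.toRingHom) (IsLocalRing.closedPoint K)))).2

/-- Points with values in a separably closed field are schematically dense in a smooth scheme. -/
theorem densePts_of_smooth {k K : Type u} [Field k] [Field K] [Algebra k K] [IsSepClosed K]
    (X : Over (Spec (CommRingCat.of k))) [Smooth X.hom] :
    DensePts (Over.mk (Spec.map (CommRingCat.ofHom (algebraMap k K)))) X := by
  intro Z c hc h
  let σ : Spec (CommRingCat.of K) ⟶ Spec (CommRingCat.of k) := Spec.map (CommRingCat.ofHom (algebraMap k K))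
  let p := pullback.fst X.hom σ
  let c' := pullback.snd c.left p
  have : IsReduced (pullback X.hom σ) := isReduced_of_smooth_field (pullback.snd X.hom σ)
  have : IsClosedImmersion c' := inferInstanceAs (IsClosedImmersion (pullback.snd c.left p))
  have : Surjective c' := ⟨fun y => by
    by_contra hy
    obtain ⟨s, hs, hsO⟩ := exists_point_of_smooth (pullback.snd X.hom σ)
      ⟨(Set.range c')ᶜ, c'.isClosedEmbedding.isClosed_range.isOpen_compl⟩ (x := y) (fun ⟨w, hw⟩ => hy ⟨w, hw⟩)
    let x : Over.mk σ ⟶ X := Over.homMk (s ≫ p) (by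
      show (s ≫ p) ≫ X.hom = σ
      rw [Category.assoc, pullback.condition, ← Category.assoc, hs, Category.id_comp])
    obtain ⟨z, hz⟩ := h x
    refine hsO ⟨pullback.lift z.left s (congrArg CommaMorphism.left hz) (IsLocalRing.closedPoint K), ?_⟩
    show (pullback.lift z.left s (congrArg CommaMorphism.left hz) ≫ c') (IsLocalRing.closedPoint K) = _
    exact congrArg (fun m : Spec (CommRingCat.of K) ⟶ pullback X.hom σ => m (IsLocalRing.closedPoint K))
      (pullback.lift_snd _ _ _)⟩
  have : IsIso c' := isIso_of_isClosedImmersion_of_surjective c'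
  have : Surjective σ := surjective_spec_map_field _
  have : Flat σ := flat_spec_map_field _
  have : IsIso c.left :=
    MorphismProperty.of_pullback_snd_of_descendsAlong (P := MorphismProperty.isomorphisms Scheme)
      (Q := @Surjective ⊓ @Flat ⊓ @QuasiCompact) (f := c.left) (g := p)
      ⟨⟨inferInstanceAs (Surjective (pullback.fst X.hom σ)), inferInstanceAs (Flat (pullback.fst X.hom σ))⟩,
        inferInstanceAs (QuasiCompact (pullback.fst X.hom σ))⟩ ‹IsIso c'›
  have : IsIso ((Over.forget _).map c) := this
  exact isIso_of_reflects_iso c (Over.forget _)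

end Groth.Agent.GrpSchLib
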