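import Mathlib.RingTheory.Nullstellensatz
import Mathlib.RingTheory.Jacobson.Ring
import Mathlib.LinearAlgebra.TensorProduct.Basis
import Mathlib.RingTheory.Flat.Basic
import Mathlib.FieldTheory.IsAlgClosed.Basic
import Mathlib.RingTheory.TensorProduct.Maps

/-! Over an algebraically closed field a tensor product of domains is a domain. -/

open TensorProduct

namespace Groth.Agent.GrpSchLib

variable {K A B : Type*} [Field K] [CommRing A] [Algebra K A] [CommRing B] [Algebra K B]

theorem exists_fg_mem_range_rTensor (x : A ⊗[K] B) : ∃ A' : Subalgebra K A, A'.FG ∧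
    x ∈ Set.range (Algebra.TensorProduct.map A'.val (AlgHom.id K B)) := by
  induction x with
  | zero => exact ⟨⊥, Subalgebra.fg_bot, 0, map_zero _⟩
  | tmul a b => exact ⟨Algebra.adjoin K {a}, ⟨{a}, by simp⟩,
      (⟨a, Algebra.subset_adjoin rfl⟩ : Algebra.adjoin K ({a} : Set A)) ⊗ₜ b, rfl⟩
  | add x y hx hy =>
    obtain ⟨S, hS, x, rfl⟩ := hx
    obtain ⟨T, hT, y, rfl⟩ := hy
    refine ⟨S ⊔ T, hS.sup hT,
      Algebra.TensorProduct.map (Subalgebra.inclusion (le_sup_left : S ≤ S ⊔ T)) (AlgHom.id K B) x +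
      Algebra.TensorProduct.map (Subalgebra.inclusion (le_sup_right : T ≤ S ⊔ T)) (AlgHom.id K B) y, ?_⟩
    rw [map_add, ← AlgHom.comp_apply, ← AlgHom.comp_apply, ← Algebra.TensorProduct.map_comp,
      ← Algebra.TensorProduct.map_comp]
    rfl

theorem eq_zero_or_eq_zero_of_finiteType [IsAlgClosed K] [IsDomain A] [Algebra.FiniteType K A]
    [IsDomain B] {x y : A ⊗[K] B} (h : x * y = 0) : x = 0 ∨ y = 0 := by
  classical
  have : IsJacobsonRing A := isJacobsonRing_of_finiteType (A := K)
  let b := Module.Free.chooseBasis K B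
  let e := TensorProduct.equivFinsuppOfBasisRight b (M := A)
  have hx : ∀ (z : A ⊗[K] B) (φ : A →ₐ[K] K),
      Algebra.TensorProduct.lift ((Algebra.ofId K B).comp φ) (AlgHom.id K B) (fun _ _ => Commute.all _ _) z = 0 →
      ∀ i, φ (e z i) = 0 := by
    intro z φ hz i
    have key : ∀ z : A ⊗[K] B, b.repr (Algebra.TensorProduct.lift ((Algebra.ofId K B).comp φ)
        (AlgHom.id K B) (fun _ _ => Commute.all _ _) z) i = φ (e z i) := by
      intro z
      induction z with
      | zero => simp
      | tmul a c =>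
        simp [e, Algebra.ofId_apply, ← Algebra.smul_def, smul_eq_mul, Finsupp.smul_apply]
        ring
      | add u v hu hv => simp [map_add, hu, hv]
    rw [← key, hz, map_zero, Finsupp.zero_apply]
  by_contra! hne
  obtain ⟨i, hi⟩ : ∃ i, e x i ≠ 0 := by
    by_contra! h0; exact hne.1 (e.injective (by ext i; simp [h0 i]))
  obtain ⟨j, hj⟩ : ∃ j, e y j ≠ 0 := by
    by_contra! h0; exact hne.2 (e.injective (by ext i; simp [h0 i]))
  refine mul_ne_zero hi hj ?_
  have : e x i * e y j ∈ (⊥ : Ideal A).jacobson := by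
    refine Ideal.mem_sInf.mpr ?_
    rintro m ⟨-, hm⟩
    let := Ideal.Quotient.field m
    have : Algebra.FiniteType K (A ⧸ m) := inferInstance
    have : Module.Finite K (A ⧸ m) := finite_of_finite_type_of_isJacobsonRing K (A ⧸ m)
    have : Algebra.IsIntegral K (A ⧸ m) := inferInstance
    let ε : (A ⧸ m) ≃ₐ[K] K :=
      (AlgEquiv.ofBijective (Algebra.ofId K (A ⧸ m)) IsAlgClosed.algebraMap_bijective_of_isIntegral).symm
    let φ : A →ₐ[K] K := ε.toAlgHom.comp (Ideal.Quotient.mkₐ K m)
    have hφ : ∀ a, φ a = 0 → a ∈ m := fun a ha => Ideal.Quotient.eq_zero_iff_mem.mp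
      (ε.injective (by simpa [φ] using ha))
    let Φ := Algebra.TensorProduct.lift ((Algebra.ofId K B).comp φ) (AlgHom.id K B)
      (fun _ _ => Commute.all _ _)
    rcases mul_eq_zero.mp (show Φ x * Φ y = 0 by rw [← map_mul, h, map_zero]) with h1 | h1
    · exact m.mul_mem_right _ (hφ _ (hx x φ h1 i))
    · exact m.mul_mem_left _ (hφ _ (hx y φ h1 j))
  rwa [IsJacobsonRing.out' (⊥ : Ideal A) Ideal.isPrime_bot.isRadical, Ideal.mem_bot] at this

theorem isDomain_tensor_of_isAlgClosed [IsAlgClosed K] [IsDomain A] [IsDomain B] :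
    IsDomain (A ⊗[K] B) := by
  have : NoZeroDivisors (A ⊗[K] B) := by
    refine ⟨fun {x y} h => ?_⟩
    obtain ⟨S, hS, x', hx'⟩ := exists_fg_mem_range_rTensor x
    obtain ⟨T, hT, y', hy'⟩ := exists_fg_mem_range_rTensor y
    have : Algebra.FiniteType K ↥(S ⊔ T) := (Subalgebra.fg_iff_finiteType _).mp (hS.sup hT)
    let Φ := Algebra.TensorProduct.map (S ⊔ T).val (AlgHom.id K B)
    let x'' := Algebra.TensorProduct.map (Subalgebra.inclusion (le_sup_left : S ≤ S ⊔ T)) (.id K B) x'
    let y'' := Algebra.TensorProduct.map (Subalgebra.inclusion (le_sup_right : T ≤ S ⊔ T)) (.id K B) y'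
    have hΦ : Function.Injective Φ :=
      Module.Flat.rTensor_preserves_injective_linearMap (M := B) (S ⊔ T).val.toLinearMap
        Subtype.val_injective
    have h1 : Φ x'' = x := by
      rw [← hx', ← AlgHom.comp_apply, ← Algebra.TensorProduct.map_comp]; rfl
    have h2 : Φ y'' = y := by
      rw [← hy', ← AlgHom.comp_apply, ← Algebra.TensorProduct.map_comp]; rfl
    rw [← h1, ← h2, ← map_mul, map_eq_zero_iff Φ hΦ] at h
    rw [← h1, ← h2]
    exact (eq_zero_or_eq_zero_of_finiteType h).imp (fun h => by rw [h, map_zero]) (fun h => by rw [h, map_zero])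
  have : Nontrivial (A ⊗[K] B) := Algebra.TensorProduct.nontrivial_of_algebraMap_injective_of_flat_right K A B
    (algebraMap K A).injective
  exact NoZeroDivisors.to_isDomain _

end Groth.Agent.GrpSchLib
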