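import Mathlib.AlgebraicGeometry.Morphisms.FormallyUnramified
import Mathlib.AlgebraicGeometry.Morphisms.FiniteType
import Mathlib.AlgebraicGeometry.Fiber
import Mathlib.RingTheory.Kaehler.TensorProduct
import Mathlib.RingTheory.Support

/-! A morphism locally of finite type with formally unramified fibres is formally unramified. -/

open CategoryTheory AlgebraicGeometry Limits TensorProduct

namespace Groth.Agent.GrpSchLib

universe u

theorem subsingleton_of_fibres {R A M : Type u} [CommRing R] [CommRing A] [Algebra R A] [AddCommGroup M]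
    [Module R M] [Module A M] [IsScalarTower R A M] [Module.Finite A M]
    (h : ∀ p : PrimeSpectrum R, Subsingleton (p.asIdeal.ResidueField ⊗[R] M)) : Subsingleton M := by
  refine (Module.support_eq_empty_iff (R := A)).mp (Set.eq_empty_iff_forall_notMem.mpr fun q hq => ?_)
  obtain ⟨m, hm, hqm⟩ := Ideal.exists_le_maximal q.asIdeal q.isPrime.ne_top
  have hqM : (⟨m, hm.isPrime⟩ : PrimeSpectrum A) ∈ Module.support A M :=
    Module.mem_support_mono (show q ≤ ⟨m, hm.isPrime⟩ from hqm) hq
  have htop : m • (⊤ : Submodule A M) = ⊤ := by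
    let p : PrimeSpectrum R := ⟨m.comap (algebraMap R A), Ideal.IsPrime.comap _⟩
    have := h p
    let := Ideal.Quotient.field m
    let ι' : p.asIdeal.ResidueField →ₐ[R] A ⧸ m :=
      Ideal.ResidueField.liftₐ p.asIdeal (Algebra.ofId R (A ⧸ m))
        (fun x hx => RingHom.mem_ker.mpr
          ((IsScalarTower.algebraMap_apply R A (A ⧸ m) x).trans (Ideal.Quotient.eq_zero_iff_mem.mpr hx)))
        (fun x hx => by
          refine isUnit_iff_ne_zero.mpr fun h0 => hx ?_
          exact Ideal.mem_comap.mpr (Ideal.Quotient.eq_zero_iff_mem.mp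
            ((IsScalarTower.algebraMap_apply R A (A ⧸ m) x).symm.trans h0)))
    refine eq_top_iff.mpr fun y _ => ?_
    rw [← Submodule.Quotient.mk_eq_zero]
    let β : p.asIdeal.ResidueField ⊗[R] M →ₗ[R] M ⧸ (m • (⊤ : Submodule A M)) :=
      TensorProduct.lift (((LinearMap.lsmul (A ⧸ m) (M ⧸ (m • (⊤ : Submodule A M)))).restrictScalars₁₂ R R).compl₂
        ((Submodule.mkQ (m • (⊤ : Submodule A M))).restrictScalars R) ∘ₗ ι'.toLinearMap)
    have : β (1 ⊗ₜ y) = 0 := by rw [Subsingleton.elim (1 ⊗ₜ[R] y) 0, map_zero]
    simpa [β] using this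
  have hann : ∃ r : A, r - 1 ∈ m ∧ ∀ y : M, r • y = 0 := by
    obtain ⟨r, hr1, hr⟩ := Submodule.exists_sub_one_mem_and_smul_eq_zero_of_fg_of_le_smul m
      (⊤ : Submodule A M) Module.Finite.fg_top htop.ge
    exact ⟨r, hr1, fun y => hr y trivial⟩
  obtain ⟨r, hr1, hr⟩ := hann
  obtain ⟨y, hy⟩ := Module.mem_support_iff_exists_annihilator.mp hqM
  have hrm : r ∈ m := hy (by simpa [Submodule.mem_annihilator_span_singleton] using hr y)
  exact hm.ne_top ((Ideal.eq_top_iff_one m).mpr (by simpa using m.sub_mem hrm hr1))

attribute [local instance] Algebra.TensorProduct.rightAlgebra in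
theorem formallyUnramified_of_fibres_affine {R A : Type u} [CommRing R] [CommRing A] [Algebra R A]
    [Algebra.FiniteType R A]
    (h : ∀ p : PrimeSpectrum R, Algebra.FormallyUnramified p.asIdeal.ResidueField (p.asIdeal.Fiber A)) :
    Algebra.FormallyUnramified R A := by
  refine ⟨subsingleton_of_fibres (R := R) (A := A) fun p => ?_⟩
  have := h p
  exact (KaehlerDifferential.tensorKaehlerEquivBase R p.asIdeal.ResidueField A (p.asIdeal.Fiber A)).injective.subsingleton

set_option backward.isDefEq.respectTransparency.types false in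
theorem formallyUnramified_of_fibres {X Y : Scheme.{u}} (f : X ⟶ Y) [LocallyOfFiniteType f]
    (h : ∀ y : Y, FormallyUnramified (f.fiberToSpecResidueField y)) : FormallyUnramified f := by
  wlog hY : ∃ R, Y = Spec R
  · rw [IsZariskiLocalAtTarget.iff_of_openCover (P := @FormallyUnramified) Y.affineCover]
    intro i
    exact @this _ _ (pullback.snd f (Y.affineCover.f i)) (MorphismProperty.pullback_snd _ _ ‹_›)
      (fun y => MorphismProperty.of_isPullback
        (isPullback_fiberToSpecResidueField_of_isPullback (IsPullback.of_hasPullback f (Y.affineCover.f i)) y)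
        (h _)) ⟨_, rfl⟩
  obtain ⟨R, rfl⟩ := hY
  wlog hX : ∃ S, X = Spec S generalizing X
  · rw [IsZariskiLocalAtSource.iff_of_openCover (P := @FormallyUnramified) X.affineCover]
    intro i
    have hft : LocallyOfFiniteType (X.affineCover.f i ≫ f) := inferInstance
    refine this (X.affineCover.f i ≫ f) (fun y => ?_) ⟨_, rfl⟩
    let g := (pullbackRightPullbackFstIso f ((Spec R).fromSpecResidueField y) (X.affineCover.f i)).inv ≫
      pullback.snd (X.affineCover.f i) (pullback.fst f ((Spec R).fromSpecResidueField y))
    have hg : IsOpenImmersion g :=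
      MorphismProperty.comp_mem _ _ _ inferInstance
        (MorphismProperty.pullback_snd (P := @IsOpenImmersion) _ _ inferInstance)
    have : (X.affineCover.f i ≫ f).fiberToSpecResidueField y = g ≫ f.fiberToSpecResidueField y := by
      simp [g, Scheme.Hom.fiberToSpecResidueField, pullbackRightPullbackFstIso_inv_snd_snd]
    rw [this]
    exact MorphismProperty.comp_mem @FormallyUnramified g _ inferInstance (h y)
  obtain ⟨S, rfl⟩ := hX
  obtain ⟨φ, rfl⟩ := Spec.map_surjective f
  rw [HasRingHomProperty.Spec_iff (P := @FormallyUnramified)]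
  have hft : φ.hom.FiniteType := (HasRingHomProperty.Spec_iff (P := @LocallyOfFiniteType)).mp ‹_›
  algebraize [φ.hom]
  show Algebra.FormallyUnramified R S
  refine formallyUnramified_of_fibres_affine fun p => ?_
  have hp : FormallyUnramified ((Spec.map (CommRingCat.ofHom (algebraMap R S))).fiberToSpecResidueField p) := h p
  have := (MorphismProperty.arrow_mk_iso_iff @FormallyUnramified (Spec.fiberToSpecResidueFieldIso R S p)).mp hp
  rw [HasRingHomProperty.Spec_iff (P := @FormallyUnramified)] at this
  exact RingHom.formallyUnramified_algebraMap.mp this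

end Groth.Agent.GrpSchLib
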