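import Groth.Agent.GrpSchLib.ThickIso
import Groth.Agent.FpqcDescLib.Basic
import Groth.Agent.DSPtsLib.Basic
import Mathlib.AlgebraicGeometry.Morphisms.UniversallyOpen

/-!
# An associative law which is a group law modulo a nilpotent ideal is a group law
-/

universe u

open CategoryTheory CategoryTheory.Limits MonoidalCategory CartesianMonoidalCategory MonObj GrpObj AlgebraicGeometry

namespace Groth.Agent.GrpSchLib.LiftLaw

/-- A flat morphism with a covering hypothesis is an fpqc covering. -/
theorem covers_of_flat_qc_or_lfp {X S : Scheme.{u}} (p : X ⟶ S) [Flat p] [Surjective p]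
    (h : QuasiCompact p ∨ LocallyOfFinitePresentation p) : FpqcDescLib.Covers p := by
  refine FpqcDescLib.covers_of_isCovering (FpqcDescLib.isCovering_of_flat p fun V hV => ?_)
  rcases h with h | h
  · haveI := h
    exact ⟨p ⁻¹ᵁ V, p.isCompact_preimage hV.isCompact, Set.image_preimage_eq _ p.surjective⟩
  · haveI := h
    have hloc : ∀ s ∈ (V : Set S), ∃ A : Set X, IsOpen A ∧ IsCompact A ∧ IsOpen (p '' A) ∧ s ∈ p '' A ∧ p '' A ⊆ V := by
      intro s hs
      obtain ⟨x, rfl⟩ := p.surjective s
      obtain ⟨A, hA, hxA, hsub⟩ := exists_isAffineOpen_mem_and_subset (show x ∈ p ⁻¹ᵁ V from hs)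
      exact ⟨A, A.2, hA.isCompact, p.isOpenMap _ A.2, ⟨x, hxA, rfl⟩, Set.image_subset_iff.mpr fun y hy => hsub hy⟩
    choose! A hAo hAc hAio hsA hAV using hloc
    obtain ⟨F, hFV, hFfin, hF⟩ := hV.isCompact.elim_finite_subcover_image (b := (V : Set S))
      (c := fun t => p '' A t) hAio (fun t ht => Set.mem_iUnion₂.mpr ⟨t, ht, hsA t ht⟩)
    refine ⟨⟨⋃ t ∈ F, A t, isOpen_biUnion fun t h => hAo t (hFV h)⟩,
      hFfin.isCompact_biUnion fun t h => hAc t (hFV h), ?_⟩
    show p '' (⋃ t ∈ F, A t) = _
    rw [Set.image_iUnion₂]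
    exact subset_antisymm (Set.iUnion₂_subset fun t h => hAV t (hFV h)) hF

variable {S : Scheme.{u}} {X : Over S} (P : X ⊗ X ⟶ X)

/-- The product of two points. -/
noncomputable abbrev pmul {T : Over S} (x y : T ⟶ X) : T ⟶ X := lift x y ≫ P

theorem comp_pmul {T T' : Over S} (q : T' ⟶ T) (x y : T ⟶ X) : q ≫ pmul P x y = pmul P (q ≫ x) (q ≫ y) := by
  rw [pmul, ← Category.assoc, comp_lift]

theorem pmul_assoc (hassoc : (P ▷ X) ≫ P = (α_ X X X).hom ≫ (X ◁ P) ≫ P) {T : Over S} (x y z : T ⟶ X) :
    pmul P (pmul P x y) z = pmul P x (pmul P y z) := by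
  have h := congrArg (lift (lift x y) z ≫ ·) hassoc
  simp only [← Category.assoc, lift_whiskerRight] at h
  rw [lift_lift_associator_hom, lift_whiskerLeft] at h
  exact h

/-- An associative law with bijective translations and a covering structure map is a group law. -/
theorem exists_grpObj_of_bijective (hassoc : (P ▷ X) ≫ P = (α_ X X X).hom ≫ (X ◁ P) ≫ P)
    (hl : ∀ (T : Over S) (x : T ⟶ X), Function.Bijective fun y => pmul P x y)
    (hr : ∀ (T : Over S) (x : T ⟶ X), Function.Bijective fun y => pmul P y x)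
    (hX : FpqcDescLib.Covers X.hom) : ∃ _ : GrpObj X, μ[X] = P := by
  have ha := @pmul_assoc _ _ P hassoc
  have hunit : ∀ {T : Over S} (x e : T ⟶ X), pmul P x e = x →
      ∀ y, pmul P e y = y ∧ pmul P y e = y := by
    intro T x e he
    have hee : pmul P e e = e := (hl T x).1 (show pmul P x _ = pmul P x _ by rw [← ha, he, he])
    exact fun y => ⟨(hl T e).1 (show pmul P e _ = pmul P e _ by rw [← ha, hee]),
      (hr T e).1 (show pmul P _ e = pmul P _ e by rw [ha, hee])⟩
  obtain ⟨e₁, he₁⟩ := (hl X (𝟙 X)).2 (𝟙 X)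
  let p : X ⟶ 𝟙_ (Over S) := toUnit X
  have hp : FpqcDescLib.Covers p.left := by
    rw [show p.left = X.hom from (Category.comp_id _).symm.trans (Over.w p)]
    exact hX
  obtain ⟨e, he, -⟩ := hp.over_desc e₁ fun T a b _ => by
    have h : ∀ c : T ⟶ X, pmul P c (c ≫ e₁) = c := fun c => by
      have h1 := congrArg (c ≫ ·) he₁
      simp only [comp_pmul, Category.comp_id] at h1
      exact h1
    exact ((hunit b _ (h b) (a ≫ e₁)).2).symm.trans ((hunit a _ (h a) (b ≫ e₁)).1)
  have hone : ∀ {T : Over S} (x : T ⟶ X), pmul P (toUnit T ≫ e) x = x ∧ pmul P x (toUnit T ≫ e) = x := by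
    intro T x
    have h1 : toUnit T ≫ e = x ≫ e₁ := by
      rw [← he, ← Category.assoc]
      exact congrArg (· ≫ e) (toUnit_unique _ _)
    rw [h1]
    have h2 := congrArg (x ≫ ·) he₁
    simp only [comp_pmul, Category.comp_id] at h2
    exact hunit x _ h2 x
  obtain ⟨i, hi⟩ := (hl X (𝟙 X)).2 (toUnit X ≫ e)
  have hi' : pmul P i (𝟙 X) = toUnit X ≫ e := by
    refine (hl X (𝟙 X)).1 (show pmul P (𝟙 X) _ = pmul P (𝟙 X) _ from ?_)
    rw [← ha, show pmul P (𝟙 X) i = toUnit X ≫ e from hi, (hone _).1, (hone _).2]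
  refine ⟨GrpObj.mk (toMonObj := { one := e
                                   mul := P
                                   one_mul := ?_
                                   mul_one := ?_
                                   mul_assoc := hassoc }) i hi' hi, rfl⟩
  · have h : e ▷ X = lift (toUnit _ ≫ e) (snd _ _) := by
      ext1
      · rw [whiskerRight_fst, lift_fst, toUnit_unique (fst _ _) (toUnit _)]
      · rw [whiskerRight_snd, lift_snd]
    rw [h]
    exact ((hone (snd (𝟙_ (Over S)) X)).1).trans (leftUnitor_hom X).symm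
  · have h : X ◁ e = lift (fst _ _) (toUnit _ ≫ e) := by
      ext1
      · rw [whiskerLeft_fst, lift_fst]
      · rw [whiskerLeft_snd, lift_snd, toUnit_unique (snd _ _) (toUnit _)]
    rw [h]
    exact ((hone (fst X (𝟙_ (Over S)))).2).trans (rightUnitor_hom X).symm

variable {R : Type u} [CommRing R] (I : Ideal R)

/-- A morphism of flat schemes which is an isomorphism modulo a nilpotent ideal is an isomorphism. -/
theorem isIso_of_map (hI : IsNilpotent I) {A B : Over (Spec (CommRingCat.of R))} [Flat A.hom] (φ : A ⟶ B)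
    [IsIso ((Over.pullback (Spec.map (CommRingCat.ofHom (Ideal.Quotient.mk I)))).map φ)] : IsIso φ := by
  set π := Spec.map (CommRingCat.ofHom (Ideal.Quotient.mk I))
  let F := Over.pullback π
  let ψ : pullback A.hom π ≅ pullback B.hom π := (Over.forget _).mapIso (asIso (F.map φ))
  have hψ : ψ.hom ≫ pullback.fst B.hom π = pullback.fst A.hom π ≫ φ.left := pullback.lift_fst _ _ _
  have hψ' : ψ.hom ≫ pullback.snd B.hom π = pullback.snd A.hom π := Over.w (F.map φ)
  have hB : IsPullback (pullback.fst A.hom π ≫ φ.left) (pullback.snd A.hom π) B.hom π :=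
    (IsPullback.of_hasPullback B.hom π).of_iso ψ.symm (Iso.refl _) (Iso.refl _) (Iso.refl _)
      (by
        rw [← cancel_epi ψ.hom, Iso.symm_hom, Iso.hom_inv_id_assoc, Iso.refl_hom, Category.comp_id]
        exact hψ)
      (by
        rw [← cancel_epi ψ.hom, Iso.symm_hom, Iso.hom_inv_id_assoc, Iso.refl_hom, Category.comp_id]
        exact hψ')
      (by rw [Iso.refl_hom, Iso.refl_hom, Category.comp_id, Category.id_comp])
      (by rw [Iso.refl_hom, Iso.refl_hom, Category.comp_id, Category.id_comp])
  haveI := ThickIso.isIso_of_thickening I hI A.hom B.hom _ _ _ (IsPullback.of_hasPullback A.hom π) hB φ.left (Over.w φ) rfl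
  haveI : IsIso ((Over.forget _).map φ) := ‹IsIso φ.left›
  exact CategoryTheory.Functor.ReflectsIsomorphisms.reflects (Over.forget _) φ

theorem exists_grpObj_of_mod_nilpotent (hI : IsNilpotent I) {X : Over (Spec (CommRingCat.of R))} [Flat X.hom]
    (hX : QuasiCompact X.hom ∨ LocallyOfFinitePresentation X.hom) (P : X ⊗ X ⟶ X)
    (hassoc : (P ▷ X) ≫ P = (α_ X X X).hom ≫ (X ◁ P) ≫ P)
    [str : GrpObj ((Over.pullback (Spec.map (CommRingCat.ofHom (Ideal.Quotient.mk I)))).obj X)]
    (hμ : μ[(Over.pullback (Spec.map (CommRingCat.ofHom (Ideal.Quotient.mk I)))).obj X] =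
      Functor.LaxMonoidal.μ (Over.pullback (Spec.map (CommRingCat.ofHom (Ideal.Quotient.mk I)))) X X ≫
        (Over.pullback (Spec.map (CommRingCat.ofHom (Ideal.Quotient.mk I)))).map P) :
    ∃ _ : GrpObj X, μ[X] = P := by
  let π := Spec.map (CommRingCat.ofHom (Ideal.Quotient.mk I))
  let F := Over.pullback π
  haveI : Flat (X ⊗ X).hom := inferInstanceAs (Flat (pullback.fst X.hom X.hom ≫ X.hom))
  have hsurj : Surjective X.hom := by
    haveI : Surjective π := ThickIso.surjective_SpecMap_quotient I hI
    refine ⟨fun s => ?_⟩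
    obtain ⟨s₀, rfl⟩ := π.surjective s
    refine ⟨pullback.fst X.hom π (η[(F.obj X)].left s₀), ?_⟩
    have h : η[(F.obj X)].left ≫ pullback.fst X.hom π ≫ X.hom = π := by
      rw [pullback.condition]
      exact (Category.assoc _ _ _).symm.trans ((congrArg (· ≫ π) (Over.w η[(F.obj X)])).trans (Category.id_comp _))
    rw [← Scheme.Hom.comp_apply, ← Scheme.Hom.comp_apply, h]
  haveI := hsurj
  have eP : ∀ {T : Over (Spec (CommRingCat.of (R ⧸ I)))} (a b : T ⟶ (F.obj X)),
      lift a b ≫ Functor.LaxMonoidal.μ F X X ≫ F.map P = a * b := fun a b => by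
    rw [Hom.mul_def]
    refine congrArg (lift a b ≫ ·) ?_
    exact hμ.symm
  haveI hL : IsIso (lift (fst X X) P) := by
    haveI : IsIso (F.map (lift (fst X X) P)) := by
      let s : (F.obj X) ⊗ (F.obj X) ⟶ (F.obj X) ⊗ (F.obj X) := lift (fst (F.obj X) (F.obj X)) (fst (F.obj X) (F.obj X) * snd (F.obj X) (F.obj X))
      haveI : IsIso s := ⟨lift (fst (F.obj X) (F.obj X)) ((fst (F.obj X) (F.obj X))⁻¹ * snd (F.obj X) (F.obj X)), by
        constructor <;> ext1 <;> simp [s, MonObj.comp_mul, GrpObj.comp_inv, ← _root_.mul_assoc]⟩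
      have h : Functor.LaxMonoidal.μ F X X ≫ F.map (lift (fst X X) P) = s ≫ Functor.LaxMonoidal.μ F X X := by
        rw [← cancel_mono (Functor.OplaxMonoidal.δ F X X)]
        simp only [Category.assoc, Functor.Monoidal.μ_δ, Category.comp_id, Category.id_comp]
        ext1
        · simp only [Category.assoc, Functor.OplaxMonoidal.δ_fst, ← Functor.map_comp, lift_fst, s,
            Functor.Monoidal.μ_fst, Category.id_comp]
        · simp only [Category.assoc, Functor.OplaxMonoidal.δ_snd, ← Functor.map_comp, lift_snd, s]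
          rw [← eP, lift_fst_snd, Category.id_comp]
      have h2 : F.map (lift (fst X X) P) =
          Functor.OplaxMonoidal.δ F X X ≫ s ≫ Functor.LaxMonoidal.μ F X X := by
        rw [← h, Functor.Monoidal.δ_μ_assoc]
      rw [h2]; exact @IsIso.comp_isIso _ _ _ _ _ _ _ inferInstance (@IsIso.comp_isIso _ _ _ _ _ _ _ inferInstance inferInstance)
    exact isIso_of_map I hI _
  haveI hR : IsIso (lift P (snd X X)) := by
    haveI : IsIso (F.map (lift P (snd X X))) := by
      let s : (F.obj X) ⊗ (F.obj X) ⟶ (F.obj X) ⊗ (F.obj X) := lift (fst (F.obj X) (F.obj X) * snd (F.obj X) (F.obj X)) (snd (F.obj X) (F.obj X))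
      haveI : IsIso s := ⟨lift (fst (F.obj X) (F.obj X) * (snd (F.obj X) (F.obj X))⁻¹) (snd (F.obj X) (F.obj X)), by
        constructor <;> ext1 <;> simp [s, MonObj.comp_mul, GrpObj.comp_inv, _root_.mul_assoc]⟩
      have h : Functor.LaxMonoidal.μ F X X ≫ F.map (lift P (snd X X)) = s ≫ Functor.LaxMonoidal.μ F X X := by
        rw [← cancel_mono (Functor.OplaxMonoidal.δ F X X)]
        simp only [Category.assoc, Functor.Monoidal.μ_δ, Category.comp_id, Category.id_comp]
        ext1
        · simp only [Category.assoc, Functor.OplaxMonoidal.δ_fst, ← Functor.map_comp, lift_fst, s]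
          rw [← eP, lift_fst_snd, Category.id_comp]
        · simp only [Category.assoc, Functor.OplaxMonoidal.δ_snd, ← Functor.map_comp, lift_snd, s,
            Functor.Monoidal.μ_snd, Category.id_comp]
      have h2 : F.map (lift P (snd X X)) =
          Functor.OplaxMonoidal.δ F X X ≫ s ≫ Functor.LaxMonoidal.μ F X X := by
        rw [← h, Functor.Monoidal.δ_μ_assoc]
      rw [h2]; exact @IsIso.comp_isIso _ _ _ _ _ _ _ inferInstance (@IsIso.comp_isIso _ _ _ _ _ _ _ inferInstance inferInstance)
    exact isIso_of_map I hI _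
  refine exists_grpObj_of_bijective P hassoc (fun T x => ?_) (fun T x => ?_) (covers_of_flat_qc_or_lfp X.hom hX)
  · constructor
    · intro y z hyz
      have h : lift x y ≫ lift (fst X X) P = lift x z ≫ lift (fst X X) P := by
        rw [comp_lift, comp_lift, lift_fst, lift_fst]
        exact congrArg (lift x) hyz
      rw [cancel_mono] at h
      simpa using congrArg (· ≫ snd X X) h
    · intro z
      have h2 : inv (lift (fst X X) P) ≫ fst X X = fst X X := by
        rw [IsIso.inv_comp_eq, lift_fst]
      refine ⟨lift x z ≫ inv (lift (fst X X) P) ≫ snd X X, ?_⟩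
      have h3 : lift x (lift x z ≫ inv (lift (fst X X) P) ≫ snd X X) = lift x z ≫ inv (lift (fst X X) P) := by
        ext1
        · rw [lift_fst, Category.assoc, h2, lift_fst]
        · rw [lift_snd, Category.assoc]
      have h4 : inv (lift (fst X X) P) ≫ P = snd X X := by
        rw [IsIso.inv_comp_eq, lift_snd]
      show lift x _ ≫ P = z
      rw [h3, Category.assoc, h4, lift_snd]
  · constructor
    · intro y z hyz
      have h : lift y x ≫ lift P (snd X X) = lift z x ≫ lift P (snd X X) := by
        rw [comp_lift, comp_lift, lift_snd, lift_snd]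
        exact congrArg (lift · x) hyz
      rw [cancel_mono] at h
      simpa using congrArg (· ≫ fst X X) h
    · intro z
      have h2 : inv (lift P (snd X X)) ≫ snd X X = snd X X := by
        rw [IsIso.inv_comp_eq, lift_snd]
      refine ⟨lift z x ≫ inv (lift P (snd X X)) ≫ fst X X, ?_⟩
      have h3 : lift (lift z x ≫ inv (lift P (snd X X)) ≫ fst X X) x = lift z x ≫ inv (lift P (snd X X)) := by
        ext1
        · rw [lift_fst, Category.assoc]
        · rw [lift_snd, Category.assoc, h2, lift_snd]
      have h4 : inv (lift P (snd X X)) ≫ P = fst X X := by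
        rw [IsIso.inv_comp_eq, lift_fst]
      show lift _ x ≫ P = z
      rw [h3, Category.assoc, h4, lift_fst]

end Groth.Agent.GrpSchLib.LiftLaw
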