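import Groth.Agent.GrpSchLib.TorsorNorm
import Groth.Agent.H23.RatExt
import Groth.Agent.AVTors.TateInj
import Groth.Agent.S7790
import Groth.Agent.GrpSchLib.SmoothReduced
import Groth.Agent.H23.GeomConn

/-! The norm map of a torsor under an abelian variety over a variety. -/

set_option autoImplicit false
set_option backward.isDefEq.respectTransparency false
set_option backward.isDefEq.respectTransparency.types false
set_option linter.style.haveILetI false
set_option maxHeartbeats 1000000
set_option synthInstance.maxHeartbeats 200000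

universe u

open CategoryTheory CategoryTheory.Limits MonoidalCategory CartesianMonoidalCategory MonObj AlgebraicGeometry
open Groth.Agent.H23

namespace Groth.Agent.GrpSchLib.TorsorFibre

variable {S : Scheme.{u}}

/-- The inclusion of the generic point. -/
noncomputable def genι (P : Over S) [IrreducibleSpace P.left] : RatPoint.gen P ⟶ P :=
  Over.homMk (P.left.fromSpecStalk _) rfl

theorem exists_genMap {P Q : Over S} [IrreducibleSpace P.left] [IrreducibleSpace Q.left] (q : P ⟶ Q)
    [IsDominant q.left] : ∃ j : RatPoint.gen P ⟶ RatPoint.gen Q, j ≫ genι Q = genι P ≫ q := by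
  have hd : closure {q.left (genericPoint P.left)} = Set.univ := by
    refine Set.eq_univ_of_univ_subset ?_
    rw [← q.left.denseRange.closure_range, ← Set.image_univ, ← genericPoint_closure]
    refine (closure_mono ?_).trans (closure_closure (s := {q.left (genericPoint P.left)})).subset
    rintro _ ⟨x, hx, rfl⟩
    have := image_closure_subset_closure_image (s := {genericPoint P.left}) q.left.base.hom.continuous
    rw [Set.image_singleton] at this
    exact this ⟨x, hx, rfl⟩
  have h : q.left (genericPoint P.left) ⤳ genericPoint Q.left :=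
    specializes_iff_mem_closure.mpr (hd ▸ Set.mem_univ _)
  refine ⟨RatPoint.stk q _ ≫ RatPoint.res h, Over.OverMorphism.ext ?_⟩
  show (Spec.map (q.left.stalkMap _) ≫ Spec.map (Q.left.presheaf.stalkSpecializes h)) ≫ Q.left.fromSpecStalk _ =
    P.left.fromSpecStalk _ ≫ q.left
  rw [Category.assoc, Scheme.SpecMap_stalkSpecializes_fromSpecStalk, Scheme.SpecMap_stalkMap_fromSpecStalk]

section Fibre

variable {A X Y : Over S} [GrpObj A] (a : AlgGrp.Action A X) (f : X ⟶ Y)
  {K : CommRingCat.{u}} (σ : Spec K ⟶ S) (ξ : Spec K ⟶ Y.left) (hξ : ξ ≫ Y.hom = σ)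

/-- The fibre over a point. -/
noncomputable abbrev fib : Over (Spec K) := Over.mk (pullback.snd f.left ξ)

include hξ in
theorem fib_w {T : Over (Spec K)} (v : T ⟶ fib f ξ) :
    (v.left ≫ pullback.fst f.left ξ) ≫ X.hom = ((Over.map σ).obj T).hom := by
  have h : v.left ≫ pullback.snd f.left ξ = T.hom := Over.w v
  show _ = T.hom ≫ σ
  rw [← h, ← hξ, ← Over.w f, Category.assoc, Category.assoc, pullback.condition_assoc]

/-- The point of the total space under a point of the fibre. -/
noncomputable def xV {T : Over (Spec K)} (v : T ⟶ fib f ξ) : (Over.map σ).obj T ⟶ X :=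
  Over.homMk (v.left ≫ pullback.fst f.left ξ) (fib_w f σ ξ hξ v)

/-- The structure point. -/
noncomputable def tV (T : Over (Spec K)) : (Over.map σ).obj T ⟶ Y :=
  Over.homMk (T.hom ≫ ξ) (by rw [Category.assoc, hξ]; rfl)

theorem xV_f {T : Over (Spec K)} (v : T ⟶ fib f ξ) : xV f σ ξ hξ v ≫ f = tV σ ξ hξ T := by
  have h : v.left ≫ pullback.snd f.left ξ = T.hom := Over.w v
  refine Over.OverMorphism.ext ?_
  show (v.left ≫ pullback.fst f.left ξ) ≫ f.left = T.hom ≫ ξ
  rw [← h, Category.assoc, Category.assoc, pullback.condition]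

theorem xV_injective {T : Over (Spec K)} {v w : T ⟶ fib f ξ} (h : xV f σ ξ hξ v = xV f σ ξ hξ w) : v = w :=
  Over.OverMorphism.ext (pullback.hom_ext (congrArg CommaMorphism.left h) ((Over.w v).trans (Over.w w).symm))

/-- A point of the fibre from a point of the total space. -/
noncomputable def mkV {T : Over (Spec K)} (x : (Over.map σ).obj T ⟶ X) (h : x ≫ f = tV σ ξ hξ T) : T ⟶ fib f ξ :=
  Over.homMk (pullback.lift x.left T.hom (congrArg CommaMorphism.left h)) (pullback.lift_snd _ _ _)

theorem xV_mkV {T : Over (Spec K)} (x : (Over.map σ).obj T ⟶ X) (h : x ≫ f = tV σ ξ hξ T) :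
    xV f σ ξ hξ (mkV f σ ξ hξ x h) = x :=
  Over.OverMorphism.ext (pullback.lift_fst _ _ _)

theorem xV_comp {T U : Over (Spec K)} (w : U ⟶ T) (v : T ⟶ fib f ξ) :
    xV f σ ξ hξ (w ≫ v) = (Over.map σ).map w ≫ xV f σ ξ hξ v :=
  Over.OverMorphism.ext (Category.assoc _ _ _)

/-- The point of the group under a point of its base change. -/
noncomputable def gA {T : Over (Spec K)} (g : T ⟶ Red.bc σ A) : (Over.map σ).obj T ⟶ A :=
  (AVTors.bcPts σ T A).symm g

theorem gA_mul {T : Over (Spec K)} (g h : T ⟶ Red.bc σ A) : gA σ (g * h) = gA σ g * gA σ h :=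
  map_mul (AVTors.bcPts σ T A).symm g h

theorem gA_one {T : Over (Spec K)} : gA σ (1 : T ⟶ Red.bc σ A) = 1 :=
  map_one (AVTors.bcPts σ T A).symm

theorem gA_pow {T : Over (Spec K)} (g : T ⟶ Red.bc σ A) (n : ℕ) : gA σ (g ^ n) = gA σ g ^ n :=
  map_pow (AVTors.bcPts σ T A).symm g n

theorem gA_comp {T U : Over (Spec K)} (w : U ⟶ T) (g : T ⟶ Red.bc σ A) :
    gA σ (w ≫ g) = (Over.map σ).map w ≫ gA σ g :=
  (Over.mapPullbackAdj σ).homEquiv_naturality_left_symm w g

variable (hinv : a.act ≫ f = snd A X ≫ f)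

include hinv in
theorem lift_act_f {T : Over S} (g : T ⟶ A) (x : T ⟶ X) : (lift g x ≫ a.act) ≫ f = x ≫ f := by
  rw [Category.assoc, hinv, lift_snd_assoc]

/-- The action on the fibre. -/
noncomputable def actV : Red.bc σ A ⊗ fib f ξ ⟶ fib f ξ :=
  mkV f σ ξ hξ (lift (gA σ (fst _ _)) (xV f σ ξ hξ (snd _ _)) ≫ a.act)
    (by rw [lift_act_f a f hinv, xV_f])

theorem pt_actV {T : Over (Spec K)} (g : T ⟶ Red.bc σ A) (v : T ⟶ fib f ξ) :
    xV f σ ξ hξ (lift g v ≫ actV a f σ ξ hξ hinv) = lift (gA σ g) (xV f σ ξ hξ v) ≫ a.act := by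
  rw [xV_comp, actV, xV_mkV, ← Category.assoc, comp_lift, ← gA_comp, ← xV_comp, lift_fst, lift_snd]

theorem pt_one {T : Over (Spec K)} (v : T ⟶ fib f ξ) :
    lift 1 v ≫ actV a f σ ξ hξ hinv = v :=
  xV_injective f σ ξ hξ (by rw [pt_actV, gA_one, GrpSchLib.act_one])

theorem pt_mul {T : Over (Spec K)} (g h : T ⟶ Red.bc σ A) (v : T ⟶ fib f ξ) :
    lift (g * h) v ≫ actV a f σ ξ hξ hinv = lift g (lift h v ≫ actV a f σ ξ hξ hinv) ≫ actV a f σ ξ hξ hinv :=
  xV_injective f σ ξ hξ (by rw [pt_actV, pt_actV, pt_actV, gA_mul, GrpSchLib.act_mul])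

/-- The action of the base change of the group on the fibre. -/
noncomputable def action : AlgGrp.Action (Red.bc σ A) (fib f ξ) where
  act := actV a f σ ξ hξ hinv
  one_act := by
    have e : (η[Red.bc σ A] ▷ fib f ξ) = lift (fst _ _ ≫ η[Red.bc σ A]) (snd _ _) := by
      apply CartesianMonoidalCategory.hom_ext <;> simp
    rw [e, toUnit_unique (fst (𝟙_ (Over (Spec K))) (fib f ξ)) (toUnit _), ← Hom.one_def, pt_one]
    exact (leftUnitor_hom _).symm
  mul_act := by
    have e : (μ[Red.bc σ A] ▷ fib f ξ) = lift ((fst (Red.bc σ A ⊗ Red.bc σ A) (fib f ξ) ≫ fst _ _) *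
        (fst (Red.bc σ A ⊗ Red.bc σ A) (fib f ξ) ≫ snd _ _)) (snd _ _) := by
      apply CartesianMonoidalCategory.hom_ext
      · rw [whiskerRight_fst, lift_fst, ← MonObj.comp_mul, Hom.mul_def, lift_fst_snd, Category.id_comp]
      · simp
    rw [e, pt_mul]
    refine (congrArg (· ≫ _) ?_).trans (Category.assoc _ _ _)
    apply CartesianMonoidalCategory.hom_ext
    · simp
    · simp only [lift_snd, Category.assoc, whiskerLeft_snd]
      rw [← Category.assoc]
      congr 1
      apply CartesianMonoidalCategory.hom_ext <;> simp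

theorem isIso_shear (htors : IsIso (pullback.lift a.act (snd A X) hinv)) :
    IsIso (lift (action a f σ ξ hξ hinv).act (snd (Red.bc σ A) (fib f ξ))) := by
  let Φ := pullback.lift a.act (snd A X) hinv
  haveI : IsIso Φ := htors
  let x := xV f σ ξ hξ (fst (fib f ξ) (fib f ξ))
  let y := xV f σ ξ hξ (snd (fib f ξ) (fib f ξ))
  generalize hp : pullback.lift x y (by rw [xV_f, xV_f]) ≫ inv Φ = p
  have hpΦ : p ≫ Φ = pullback.lift x y (by rw [xV_f, xV_f]) := by
    rw [← hp, Category.assoc, IsIso.inv_hom_id, Category.comp_id]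
  have h1 : p ≫ a.act = x := by
    have := congrArg (· ≫ pullback.fst f f) hpΦ
    simpa [Φ] using this
  have h2 : p ≫ snd A X = y := by
    have := congrArg (· ≫ pullback.snd f f) hpΦ
    simpa [Φ] using this
  refine ⟨lift (AVTors.bcPts σ _ A (p ≫ fst A X)) (snd _ _), ?_, ?_⟩
  · apply CartesianMonoidalCategory.hom_ext
    · rw [Category.assoc, lift_fst, Category.id_comp]
      refine (AVTors.bcPts σ _ A).symm.injective ?_
      show gA σ (lift (action a f σ ξ hξ hinv).act (snd _ _) ≫ _) = gA σ (fst _ _)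
      rw [gA_comp, show gA σ (AVTors.bcPts σ _ A (p ≫ fst A X)) = p ≫ fst A X from MulEquiv.symm_apply_apply _ _,
        ← Category.assoc]
      have e : (Over.map σ).map (lift (action a f σ ξ hξ hinv).act (snd _ _)) ≫ p =
          lift (gA σ (fst (Red.bc σ A) (fib f ξ))) (xV f σ ξ hξ (snd (Red.bc σ A) (fib f ξ))) := by
        rw [← cancel_mono Φ, Category.assoc, hpΦ]
        apply pullback.hom_ext
        · simp only [Category.assoc, Φ, pullback.lift_fst, x, ← xV_comp, lift_fst]
          show xV f σ ξ hξ (actV a f σ ξ hξ hinv) = _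
          rw [actV, xV_mkV]
        · simp only [Category.assoc, Φ, pullback.lift_snd, y, ← xV_comp, lift_snd]
      rw [e, lift_fst]
    · rw [Category.assoc, lift_snd, lift_snd, Category.id_comp]
  · apply CartesianMonoidalCategory.hom_ext
    · rw [Category.assoc, lift_fst, Category.id_comp]
      refine xV_injective f σ ξ hξ ?_
      show xV f σ ξ hξ (lift _ _ ≫ actV a f σ ξ hξ hinv) = x
      rw [pt_actV, show gA σ (AVTors.bcPts σ _ A (p ≫ fst A X)) = p ≫ fst A X from MulEquiv.symm_apply_apply _ _]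
      show lift (p ≫ fst A X) y ≫ a.act = x
      rw [← h2, ← comp_lift, lift_fst_snd, Category.comp_id, h1]
    · rw [Category.assoc, lift_snd, lift_snd, Category.id_comp]

end Fibre

variable {k : Type u} [Field k]

theorem isDominant_of_section {P Q : Over S} (q : P ⟶ Q) (s : Q ⟶ P) (h : s ≫ q = 𝟙 Q) : IsDominant q.left := by
  haveI : Surjective q.left := ⟨fun y => ⟨s.left y, by
    rw [← Scheme.Hom.comp_apply, ← Over.comp_left, h]; rfl⟩⟩
  infer_instance

/-- A torsor under an abelian variety has a norm map. -/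
theorem exists_norm {A X Y : Over (Spec (CommRingCat.of k))} [GrpObj A] [IsProper A.hom] [Smooth A.hom]
    [ConnectedSpace A.left] [Smooth X.hom] [IsSeparated X.hom] [QuasiCompact X.hom] [GeometricallyIntegral X.hom]
    [LocallyOfFiniteType Y.hom] [IsSeparated Y.hom] [IsIntegral Y.left]
    (a : AlgGrp.Action A X) (f : X ⟶ Y) [Surjective f.left]
    (hinv : a.act ≫ f = snd A X ≫ f) (htors : IsIso (pullback.lift a.act (snd A X) hinv)) :
    ∃ (φ : X ⟶ A) (n : ℕ), 0 < n ∧
      ∀ (T : Over (Spec (CommRingCat.of k))) (b : T ⟶ A) (x : T ⟶ X), lift b x ≫ a.act ≫ φ = (x ≫ φ) * b ^ n := by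
  haveI : GeometricallyReduced A.hom := GrpSchLib.geometricallyReduced_of_smooth A.hom
  haveI : GeometricallyConnected A.hom := GeomConn.of_point k A.hom η[A].left (Over.w η[A])
  haveI : GeometricallyIntegral A.hom := MaxAbelian.geometricallyIntegral_of_connected A
  haveI : IsCommMonObj A := S7790.isCommMonObj A
  haveI : IsIntegral X.left := MaxAbelian.isIntegral_of_geometricallyIntegral
  haveI := RatExt.geometricallyIntegral_prod A X
  haveI : IsIntegral (A ⊗ X).left := MaxAbelian.isIntegral_of_geometricallyIntegral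
  haveI := RatExt.isIntegral_sq (X := X)
  let ξ := (genι Y).left
  let σ := (RatPoint.gen Y).hom
  have hξ : ξ ≫ Y.hom = σ := rfl
  let K : Type u := Y.left.functionField
  haveI : LocallyOfFiniteType (f.left ≫ Y.hom) := by rw [Over.w]; infer_instance
  haveI : LocallyOfFiniteType f.left := locallyOfFiniteType_of_comp f.left Y.hom
  haveI : QuasiCompact (f.left ≫ Y.hom) := by rw [Over.w]; infer_instance
  haveI : QuasiCompact f.left := QuasiCompact.of_comp f.left Y.hom
  let σ' : Spec (CommRingCat.of K) ⟶ Spec (CommRingCat.of k) := σ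
  haveI : LocallyOfFiniteType (fib (K := CommRingCat.of K) f ξ).hom :=
    inferInstanceAs (LocallyOfFiniteType (pullback.snd f.left ξ))
  haveI : QuasiCompact (fib (K := CommRingCat.of K) f ξ).hom :=
    inferInstanceAs (QuasiCompact (pullback.snd f.left ξ))
  haveI : Nonempty (fib (K := CommRingCat.of K) f ξ).left := by
    haveI : Surjective (pullback.snd f.left ξ) := inferInstance
    exact ⟨((pullback.snd f.left ξ).surjective (IsLocalRing.closedPoint _)).choose⟩
  haveI : Smooth (Red.bc σ' A).hom := inferInstanceAs (Smooth (pullback.snd A.hom σ'))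
  let aV := action a f (K := CommRingCat.of K) σ' ξ hξ hinv
  haveI := isIso_shear a f (K := CommRingCat.of K) σ' ξ hξ hinv htors
  obtain ⟨φK, n, hn, hφK⟩ := TorsorNorm.exists_norm aV
  -- the rational map
  haveI : IsDominant f.left := inferInstance
  obtain ⟨jY, hjY⟩ := exists_genMap f
  let T₀ : Over (Spec (CommRingCat.of K)) := Over.mk jY.left
  let c₀ : (Over.map σ').obj T₀ ⟶ RatPoint.gen X := Over.homMk (𝟙 _) ((Category.id_comp _).trans (Over.w jY).symm)
  let c₀' : RatPoint.gen X ⟶ (Over.map σ').obj T₀ := Over.homMk (𝟙 _) ((Category.id_comp _).trans (Over.w jY))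
  let v₀ : T₀ ⟶ fib f ξ := mkV f σ' ξ hξ (c₀ ≫ genι X) (by
    rw [Category.assoc, ← hjY]
    exact Over.OverMorphism.ext (Category.id_comp _))
  let φgen : RatPoint.gen X ⟶ A := c₀' ≫ gA σ' (v₀ ≫ φK)
  haveI : (Spec (CommRingCat.of k)).IsSeparated := inferInstance
  haveI : A.left.IsSeparated := ⟨by rw [← terminal.comp_from A.hom]; infer_instance⟩
  obtain ⟨U, hgU, g, hTU, hg, hg₀⟩ := RatExtend.extend X.hom A.hom φgen.left (Over.w φgen) Set.univ fun y _ => by
    obtain ⟨χ, hχ⟩ := RatExt.defAt_of_isProper φgen y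
    exact ⟨χ.left, Over.w χ, congrArg CommaMorphism.left hχ⟩
  obtain rfl : U = ⊤ := top_unique fun y _ => hTU (Set.mem_univ y)
  let φ : X ⟶ A := Over.homMk (X.left.topIso.inv ≫ g) (by
    rw [Category.assoc, hg]; exact X.left.topIso.inv_hom_id_assoc X.hom)
  have hφ₀ : genι X ≫ φ = φgen := by
    refine Over.OverMorphism.ext (Eq.trans ?_ hg₀)
    show X.left.fromSpecStalk _ ≫ X.left.topIso.inv ≫ g = _
    rw [← Category.assoc]
    congr 1
    rw [Iso.comp_inv_eq]
    exact (Scheme.Opens.fromSpecStalkOfMem_ι _ _ _).symm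
  -- at generic points the two maps agree
  have key : ∀ {T : Over (Spec (CommRingCat.of K))} (v : T ⟶ fib f ξ) (u : (Over.map σ').obj T ⟶ RatPoint.gen X),
      u ≫ genι X = xV f σ' ξ hξ v → gA σ' (v ≫ φK) = xV f σ' ξ hξ v ≫ φ := fun {T} v u hu => by
    have hjY' : jY.left ≫ ξ = (genι X).left ≫ f.left := congrArg CommaMorphism.left hjY
    have hu' : u.left ≫ (genι X).left = v.left ≫ pullback.fst f.left ξ := congrArg CommaMorphism.left hu
    haveI : Mono ξ := inferInstanceAs (Mono (Y.left.fromSpecStalk _))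
    have hw : (Over.map σ').map v = u ≫ c₀' ≫ (Over.map σ').map v₀ := by
      refine Over.OverMorphism.ext (pullback.hom_ext ?_ ?_)
      · show v.left ≫ pullback.fst f.left ξ = (u.left ≫ 𝟙 _ ≫ v₀.left) ≫ pullback.fst f.left ξ
        have : v₀.left ≫ pullback.fst f.left ξ = 𝟙 _ ≫ (genι X).left := pullback.lift_fst _ _ _
        simp only [Category.assoc, this, Category.id_comp, hu']
      · show v.left ≫ pullback.snd f.left ξ = (u.left ≫ 𝟙 _ ≫ v₀.left) ≫ pullback.snd f.left ξ
        have h0 : v₀.left ≫ pullback.snd f.left ξ = jY.left := pullback.lift_snd _ _ _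
        simp only [Category.assoc, Category.id_comp, h0]
        rw [← cancel_mono ξ, Category.assoc, Category.assoc, hjY', ← pullback.condition, reassoc_of% hu']
    rw [← hu, Category.assoc, hφ₀, gA_comp, hw]
    simp only [φgen, gA_comp, Category.assoc]
  haveI : IsDominant a.act.left := isDominant_of_section a.act (lift 1 (𝟙 X)) (GrpSchLib.act_one a _)
  haveI : IsDominant (snd A X).left := isDominant_of_section (snd A X) (lift 1 (𝟙 X)) (lift_snd _ _)
  obtain ⟨u₁, hu₁⟩ := exists_genMap (snd A X)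
  obtain ⟨u₂, hu₂⟩ := exists_genMap a.act
  let T : Over (Spec (CommRingCat.of K)) := Over.mk (u₁.left ≫ jY.left)
  let c : (Over.map σ').obj T ⟶ RatPoint.gen (A ⊗ X) := Over.homMk (𝟙 _) (by
    show 𝟙 _ ≫ _ = (u₁.left ≫ jY.left) ≫ σ'
    rw [Category.id_comp, Category.assoc, Over.w jY, Over.w u₁])
  have hf₁ : (c ≫ genι (A ⊗ X) ≫ snd A X) ≫ f = tV σ' ξ hξ T := by
    rw [← hu₁, Category.assoc, Category.assoc, ← hjY]
    exact Over.OverMorphism.ext ((Category.id_comp _).trans (Category.assoc _ _ _).symm)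
  let v : T ⟶ fib f ξ := mkV f σ' ξ hξ _ hf₁
  let b : T ⟶ Red.bc σ' A := AVTors.bcPts σ' T A (c ≫ genι (A ⊗ X) ≫ fst A X)
  have hb : gA σ' b = c ≫ genι (A ⊗ X) ≫ fst A X := MulEquiv.symm_apply_apply _ _
  have hxw : xV f σ' ξ hξ (lift b v ≫ aV.act) = c ≫ genι (A ⊗ X) ≫ a.act := by
    show xV f σ' ξ hξ (lift b v ≫ actV a f σ' ξ hξ hinv) = _
    rw [pt_actV, hb, xV_mkV, ← comp_lift_assoc, ← comp_lift_assoc, lift_fst_snd, Category.id_comp]
  have hmain : genι (A ⊗ X) ≫ a.act ≫ φ = genι (A ⊗ X) ≫ ((snd A X ≫ φ) * fst A X ^ n) := by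
    haveI : IsIso c.left := inferInstanceAs (IsIso (𝟙 _))
    haveI : Epi c.left := inferInstance
    refine Over.OverMorphism.ext ((cancel_epi c.left).mp (congrArg CommaMorphism.left (?_ : c ≫ _ = c ≫ _)))
    have h := congrArg (gA σ') (hφK T b v)
    rw [gA_mul, gA_pow, hb, ← Category.assoc (lift b v), key _ (c ≫ u₂) (by rw [Category.assoc, hu₂, hxw]), hxw,
      key v (c ≫ u₁) (by rw [Category.assoc, hu₁, xV_mkV]), xV_mkV] at h
    simpa only [MonObj.comp_mul, TorusQI.comp_npow, Category.assoc] using h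
  have huniv : a.act ≫ φ = (snd A X ≫ φ) * fst A X ^ n := by
    haveI := RatExtend.isDominant_fromSpecStalk (X := (A ⊗ X).left)
    refine Over.OverMorphism.ext (ext_of_isDominant ((A ⊗ X).left.fromSpecStalk (genericPoint ↥(A ⊗ X).left)) ?_)
    exact congrArg CommaMorphism.left hmain
  refine ⟨φ, n, hn, fun T b x => ?_⟩
  have h := congrArg (lift b x ≫ ·) huniv
  simpa [MonObj.comp_mul, TorusQI.comp_npow] using h

end Groth.Agent.GrpSchLib.TorsorFibre
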