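import Groth.Agent.SolvGrp.Radical
import Groth.Agent.GrpSchLib.FieldDim
import Groth.Agent.GrpSchLib.LineGroups
import Groth.Agent.TorusQI.GreatestSplit
import Groth.Agent.S7976
import Groth.Agent.S7975
import Mathlib.AlgebraicGeometry.AffineSpace
import Mathlib.RingTheory.Ideal.KrullsHeightTheorem
import Mathlib.LinearAlgebra.SymmetricAlgebra.Basis

/-! A nontrivial connected unipotent group receives a nonconstant map from the affine line. -/

set_option autoImplicit false
set_option backward.isDefEq.respectTransparency false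
set_option backward.isDefEq.respectTransparency.types false
set_option linter.style.haveILetI false
set_option maxHeartbeats 1000000

universe u

open CategoryTheory MonoidalCategory CartesianMonoidalCategory MonObj AlgebraicGeometry

namespace Groth.Agent.GrpSchLib.LineInUnip

open SolvGrp GrpSchLib.Kunneth GrpSchLib.LineGroups WeilCmp.Unip AGFLib AGFLib.Gen AGFLib.BorelExist

variable {k : Type u} [Field k] [IsAlgClosed k]

local notation "PT" => 𝟙_ (Over (Spec (CommRingCat.of k)))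

/-- The affine line. -/
noncomputable abbrev A1 (k : Type u) [Field k] : Over (Spec (CommRingCat.of k)) :=
  Over.mk (𝔸(PUnit.{u + 1}; Spec (CommRingCat.of k)) ↘ Spec (CommRingCat.of k))

theorem fn_constants {U : Over (Spec (CommRingCat.of k))} (g : PT ⟶ U) (c : k) :
    vl g (algebraMap k (Fn U) c) = c := by
  rw [AlgHom.commutes]; rfl

variable {U : Over (Spec (CommRingCat.of k))} [GrpObj U] [IsAffine U.left] [Smooth U.hom] [ConnectedSpace U.left]

/-- A nonconstant additive function on a group of unipotent points. -/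
theorem exists_additive (hu : ∀ g : PT ⟶ U, IsUnipPt g) (hne : ∃ g : PT ⟶ U, g ≠ 1) :
    ∃ h : Fn U, (∃ g : PT ⟶ U, vl g h ≠ 0) ∧ ∀ x g : PT ⟶ U, vl (x * g) h = vl x h + vl g h := by
  classical
  haveI : IsReduced U.left := isReduced_of_smooth_field U.hom
  obtain ⟨g₀, hg₀⟩ := hne
  obtain ⟨f, hf⟩ : ∃ f : Fn U, vl g₀ f ≠ vl (1 : PT ⟶ U) f := by
    by_contra h
    push Not at h
    exact hg₀ (vl_ext h)
  obtain ⟨W, hW, hsub, hst⟩ := exists_space (G := U) {1, f}
  let one : W := ⟨1, hsub (by simp)⟩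
  let K : Submodule k W := Submodule.span k {one}
  let r : (g : PT ⟶ U) → Module.End k W := fun g => (rl g).restrict (hst g)
  have hr : ∀ g, r g one = one := fun g => Subtype.ext (map_one (rt g))
  have hK : ∀ g, K ≤ K.comap (r g) := fun g => by
    refine Submodule.span_le.mpr (Set.singleton_subset_iff.mpr ?_)
    show r g one ∈ K
    rw [hr]
    exact Submodule.mem_span_singleton_self one
  let ρ : Representation k (PT ⟶ U) (W ⧸ K) :=
    { toFun := fun g => K.mapQ K (r g) (hK g)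
      map_one' := by
        refine Submodule.linearMap_qext _ (LinearMap.ext fun w => congrArg (Submodule.Quotient.mk (p := K)) (Subtype.ext ?_))
        show rl (1 : PT ⟶ U) (w : Fn U) = w
        rw [rl_one]; rfl
      map_mul' := fun g h => by
        refine Submodule.linearMap_qext _ (LinearMap.ext fun w => congrArg (Submodule.Quotient.mk (p := K)) (Subtype.ext ?_))
        show rl (g * h) (w : Fn U) = rl g (rl h (w : Fn U))
        rw [rl_mul]; rfl }
  have hnil : ∀ g, IsNilpotent (ρ g - 1) := fun g => Module.End.isNilpotent_iff_of_finite.mpr fun v => by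
    obtain ⟨w, rfl⟩ := Submodule.Quotient.mk_surjective K v
    obtain ⟨n, hn⟩ := hu g (w : Fn U)
    refine ⟨n, ?_⟩
    have key : ∀ m : ℕ, ((ρ g - 1) ^ m) (Submodule.Quotient.mk w) = Submodule.Quotient.mk (((r g - 1) ^ m) w) := by
      intro m
      induction m with
      | zero => rfl
      | succ m ih => rw [pow_succ', Module.End.mul_apply, ih, pow_succ', Module.End.mul_apply]; rfl
    have key2 : ∀ m : ℕ, ((((r g - 1) ^ m) w : W) : Fn U) = ((rl g - 1) ^ m) (w : Fn U) := by
      intro m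
      induction m with
      | zero => rfl
      | succ m ih => rw [pow_succ', Module.End.mul_apply, pow_succ', Module.End.mul_apply, ← ih]; rfl
    rw [key, show ((r g - 1) ^ n) w = 0 from Subtype.ext ((key2 n).trans hn)]
    rfl
  haveI : Nontrivial (W ⧸ K) := by
    refine ⟨⟨Submodule.Quotient.mk ⟨f, hsub (by simp)⟩, 0, fun h => hf ?_⟩⟩
    obtain ⟨c, hc⟩ := Submodule.mem_span_singleton.mp ((Submodule.Quotient.mk_eq_zero _).mp h)
    have hc' : c • (1 : Fn U) = f := congrArg Subtype.val hc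
    rw [← hc', map_smul, map_smul, map_one, map_one]
  obtain ⟨v, hv0, hv⟩ := Groth.Agent.S7975.result k (PT ⟶ U) (W ⧸ K) ρ hnil
  obtain ⟨w, rfl⟩ := Submodule.Quotient.mk_surjective K v
  have hc : ∀ g, ∃ c : k, rt g (w : Fn U) = (w : Fn U) + c • 1 := fun g => by
    obtain ⟨c, hc⟩ := Submodule.mem_span_singleton.mp ((Submodule.Quotient.eq K).mp (hv g))
    refine ⟨c, ?_⟩
    have hc' : c • (1 : Fn U) = rt g (w : Fn U) - (w : Fn U) := congrArg Subtype.val hc
    rw [hc']; ring
  refine ⟨(w : Fn U) - vl (1 : PT ⟶ U) (w : Fn U) • 1, ?_, fun x g => ?_⟩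
  · by_contra h
    push Not at h
    refine hv0 ((Submodule.Quotient.mk_eq_zero _).mpr (Submodule.mem_span_singleton.mpr
      ⟨vl (1 : PT ⟶ U) (w : Fn U), Subtype.ext (eq_of_vl fun g => ?_)⟩))
    have h1 := h g
    rw [map_sub, sub_eq_zero] at h1
    exact h1.symm
  · obtain ⟨c, hc⟩ := hc g
    have hgw : ∀ y : PT ⟶ U, vl (y * g) (w : Fn U) = vl y (w : Fn U) + c := fun y => by
      rw [← vl_rt, hc, map_add, map_smul, map_one, smul_eq_mul, _root_.mul_one]
    have hg1 : vl g (w : Fn U) = vl (1 : PT ⟶ U) (w : Fn U) + c := by rw [← hgw, _root_.one_mul]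
    simp only [map_sub, map_smul, map_one, smul_eq_mul, _root_.mul_one, hgw, hg1]
    ring

/-- A group with an additive function with finitely many zeros is one-dimensional. -/
theorem ringKrullDim_eq_one [IsIntegral U.left] (h : Fn U) (h1 : vl (1 : PT ⟶ U) h = 0)
    (hne : ∃ g : PT ⟶ U, vl g h ≠ 0) (hfin : {g : PT ⟶ U | vl g h = 0}.Finite) :
    ringKrullDim (Fn U) = 1 := by
  haveI : IsLocallyNoetherian U.left := LocallyOfFiniteType.isLocallyNoetherian U.hom
  haveI : JacobsonSpace U.left := LocallyOfFiniteType.jacobsonSpace U.hom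
  haveI := AntiAffine.isSeparated_grp U
  have hU := isAffineOpen_top U.left
  haveI : IsNoetherianRing (Fn U) := IsLocallyNoetherian.component_noetherian ⟨⊤, hU⟩
  have hmem : ∀ g : PT ⟶ U, cp g ∈ U.left.basicOpen h ↔ vl g h ≠ 0 := fun g => by
    have hpre : g.left ⁻¹ᵁ U.left.basicOpen h = (PT).left.basicOpen (ev g h) := Scheme.preimage_basicOpen_top _ _
    refine ⟨fun hc h0 => ?_, fun h0 => ?_⟩
    · have h2 : (IsLocalRing.closedPoint k : (PT).left) ∈ g.left ⁻¹ᵁ U.left.basicOpen h := hc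
      rw [hpre, show ev g h = 0 from (ProjAct.toK (k := k)).injective (h0.trans (map_zero _).symm),
        Scheme.basicOpen_zero] at h2
      exact h2
    · show (IsLocalRing.closedPoint k : (PT).left) ∈ g.left ⁻¹ᵁ U.left.basicOpen h
      rw [hpre, Scheme.basicOpen_of_isUnit]
      · trivial
      rw [← ProjAct.algebraMap_toK (k := k) (ev g h)]
      exact (IsUnit.mk0 _ h0).map _
  have hZ : (U.left.basicOpen h : Set U.left)ᶜ ⊆ cp '' {g : PT ⟶ U | vl g h = 0} := by
    intro z hz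
    by_contra hne'
    have hF : IsClosed (cp '' {g : PT ⟶ U | vl g h = 0}) := by
      rw [← Set.biUnion_of_singleton (cp '' {g : PT ⟶ U | vl g h = 0})]
      exact (hfin.image _).isClosed_biUnion fun _ ⟨y, _, e⟩ => e ▸ isClosed_cp y
    obtain ⟨y, ⟨hy1, hy2⟩, hyc⟩ := nonempty_inter_closedPoints (Z := (U.left.basicOpen h : Set U.left)ᶜ \ cp '' {g : PT ⟶ U | vl g h = 0})
      ⟨z, hz, hne'⟩ ((U.left.basicOpen h).isOpen.isClosed_compl.isLocallyClosed.inter hF.isOpen_compl.isLocallyClosed)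
    obtain ⟨g, rfl⟩ := exists_cp hyc
    exact hy2 ⟨g, by_contra fun hg => hy1 ((hmem g).mpr hg), rfl⟩
  let c : U.left := cp (1 : PT ⟶ U)
  have hc : IsClosed ({c} : Set U.left) := isClosed_cp _
  let p := hU.primeIdealOf ⟨c, trivial⟩
  have hpc : hU.fromSpec p = c := hU.fromSpec_primeIdealOf ⟨c, trivial⟩
  have hmem' : ∀ q : PrimeSpectrum Γ(U.left, ⊤), h ∈ q.asIdeal ↔ hU.fromSpec q ∉ U.left.basicOpen h := fun q => by
    have e : hU.fromSpec q ∈ U.left.basicOpen h ↔ q ∈ PrimeSpectrum.basicOpen h := by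
      rw [← hU.fromSpec_preimage_basicOpen h]; rfl
    rw [e, PrimeSpectrum.mem_basicOpen, not_not]
  have hp : h ∈ p.asIdeal := (hmem' p).mpr (hpc ▸ fun hh => (hmem _).mp hh h1)
  have hmin : p.asIdeal ∈ (Ideal.span {h}).minimalPrimes := by
    refine ⟨⟨p.isPrime, Ideal.span_le.mpr (Set.singleton_subset_iff.mpr hp)⟩, fun q hq hqp => ?_⟩
    let q' : PrimeSpectrum Γ(U.left, ⊤) := ⟨q, hq.1⟩
    have hs : q' ⤳ p := (PrimeSpectrum.le_iff_specializes q' p).mp hqp
    have hz := hs.map hU.fromSpec.continuous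
    rw [hpc] at hz
    obtain ⟨g, -, hg⟩ := hZ ((hmem' q').mp (hq.2 (Ideal.mem_span_singleton_self h)))
    have hzc : c = hU.fromSpec q' := by
      refine ((hg ▸ isClosed_cp g : IsClosed ({hU.fromSpec q'} : Set U.left)).closure_eq.le ?_)
      exact specializes_iff_mem_closure.mp hz
    have e : q' = p := hU.fromSpec.isOpenEmbedding.injective (hzc.symm.trans hpc.symm)
    exact (congrArg PrimeSpectrum.asIdeal e).ge
  have hht : p.asIdeal.height ≤ 1 := Ideal.height_le_one_of_isPrincipal_of_mem_minimalPrimes _ _ hmin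
  have hne0 : h ≠ 0 := fun e => by obtain ⟨g, hg⟩ := hne; exact hg (e ▸ map_zero _)
  haveI : Nonempty (⊤ : U.left.Opens) := ⟨⟨c, trivial⟩⟩
  have hpos : p.asIdeal.height ≠ 0 := fun e => hne0 (by
    have h2 := (Ideal.height_eq_zero_iff (I := p.asIdeal)).mp e
    rw [IsDomain.minimalPrimes_eq_singleton_bot] at h2
    exact Ideal.mem_bot.mp ((Set.mem_singleton_iff.mp h2).le hp))
  have h1' : p.asIdeal.height = 1 := le_antisymm hht (Order.one_le_iff_ne_zero.mpr hpos)
  letI := TopCat.Presheaf.algebra_section_stalk U.left.presheaf (⟨c, trivial⟩ : (⊤ : U.left.Opens))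
  haveI : IsLocalization.AtPrime (U.left.presheaf.stalk c) p.asIdeal := hU.isLocalization_stalk ⟨c, trivial⟩
  have hst : ringKrullDim (U.left.presheaf.stalk c) = p.asIdeal.height :=
    IsLocalization.AtPrime.ringKrullDim_eq_height p.asIdeal (U.left.presheaf.stalk c)
  rw [GrpSchLib.ringKrullDim_stalk_eq hc, h1'] at hst
  refine Eq.trans ?_ (hst.trans rfl)
  rw [← PrimeSpectrum.topologicalKrullDim_eq_ringKrullDim]
  exact (IsHomeomorph.topologicalKrullDim_eq _ U.left.isoSpec.hom.homeomorph.isHomeomorph).symm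

/-- A one-dimensional group without subtori is an affine line. -/
theorem exists_polyEquiv [IsIntegral U.left] (hdim : ringKrullDim (Fn U) = 1) (hns : Red.HasNoSubtorus k U)
    (hne : ∃ g : PT ⟶ U, g ≠ 1) : Nonempty (Fn U ≃ₐ[k] Polynomial k) := by
  haveI : Nonempty (⊤ : U.left.Opens) := ⟨⟨cp (1 : PT ⟶ U), trivial⟩⟩
  obtain ⟨A, _, _, ⟨eG⟩⟩ := AffineHopf.exists_hopf U
  let a : AffineHopf.sp k A ≅ U := (Grp.forget _).mapIso eG
  haveI : IsIso a.hom.left := ((Over.forget _).mapIso a).isIso_hom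
  let φ : A ≃ₐ[k] Fn U := (LineVec.toFn (k := k) (A := A)).trans (fnEquiv a.symm)
  haveI : IsDomain A := φ.toMulEquiv.isDomain
  haveI : Algebra.FiniteType k A := by
    haveI := finiteType_fn U
    exact (inferInstance : Algebra.FiniteType k (Fn U)).equiv φ.symm
  rcases Groth.Agent.S7976.result k A (fun e he => IsIdempotentElem.iff_eq_zero_or_one.mp he)
      ((ringKrullDim_eq_of_ringEquiv φ.toRingEquiv).trans hdim) with ⟨⟨e⟩⟩ | ⟨⟨e⟩⟩
  · exfalso
    obtain ⟨d⟩ := AffineHopf.nonempty_DS_iso k ℤ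
    obtain ⟨d'⟩ := TorusQI.nonempty_DS_congr (S := Spec (CommRingCat.of k)) (AddEquiv.funUnique (Fin 1) ℤ)
    have hT : Red.IsTorus U := isTorus_of_iso (eG.symm ≪≫ AffineHopf.spIso e.symm ≪≫ d ≪≫ d') (TorusQI.isTorus_DS 1)
    obtain ⟨g, hg⟩ := hne
    exact hg (pt_eq_one_of_trivial (hns U (𝟙 U) hT) g)
  · let b : SymmetricAlgebra k k ≃ₐ[k] Polynomial k :=
      (SymmetricAlgebra.equivMvPolynomial (Module.Basis.singleton PUnit.{1} k)).trans (MvPolynomial.uniqueAlgEquiv k PUnit.{1})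
    exact ⟨φ.symm.trans (((e : A ≃ₐ[k] SymmetricAlgebra k k)).trans b)⟩

/-- The nonconstant map. -/
theorem exists_line_of_polyEquiv (θ : Fn U ≃ₐ[k] Polynomial k) :
    ∃ (f : A1 k ⟶ U) (p q : PT ⟶ A1 k), p ≫ f ≠ q ≫ f := by
  let ψ : Polynomial k →ₐ[k] Fn (A1 k) :=
    Polynomial.aeval (AffineSpace.coord (Spec (CommRingCat.of k)) PUnit.unit)
  obtain ⟨f, hf⟩ := exists_hom_ev (T := A1 k) (X := U) (ψ.comp θ.toAlgHom)
  let p : k → (PT ⟶ A1 k) := fun c =>
    Over.homMk (AffineSpace.homOfVector (PT : Over (Spec (CommRingCat.of k))).hom fun _ => algebraMap k (Fn PT) c)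
      (AffineSpace.homOfVector_over _ _)
  have hp : ∀ c, vl (p c) (AffineSpace.coord (Spec (CommRingCat.of k)) PUnit.unit : Fn (A1 k)) = c := fun c => by
    show ProjAct.toK (ev (p c) _) = c
    rw [show ev (p c) (AffineSpace.coord (Spec (CommRingCat.of k)) PUnit.unit : Fn (A1 k)) = algebraMap k (Fn PT) c from
      AffineSpace.homOfVector_appTop_coord _ _ _, ProjAct.toK_algebraMap]
  refine ⟨f, p 0, p 1, fun h => ?_⟩
  have h' := congrArg (fun g => vl g (θ.symm Polynomial.X)) h
  simp only [← vl_ev, hf, AlgHom.comp_apply, AlgEquiv.coe_toAlgHom, AlgEquiv.apply_symm_apply, ψ,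
    Polynomial.aeval_X, hp] at h'
  exact zero_ne_one h'

omit U in
/-- A nontrivial connected group of unipotent points receives a nonconstant map from the affine line. -/
theorem exists_line {U₀ : Over (Spec (CommRingCat.of k))} [GrpObj U₀] [IsAffine U₀.left] [Smooth U₀.hom]
    [ConnectedSpace U₀.left] (hu : ∀ g : PT ⟶ U₀, IsUnipPt g) (hne : ∃ g : PT ⟶ U₀, g ≠ 1) :
    ∃ (f : A1 k ⟶ U₀) (p q : PT ⟶ A1 k), p ≫ f ≠ q ≫ f := by
  haveI : IsLocallyNoetherian U₀.left := LocallyOfFiniteType.isLocallyNoetherian U₀.hom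
  haveI : IsNoetherian U₀.left := ⟨⟩
  haveI : IsReduced U₀.left := isReduced_of_smooth_field U₀.hom
  let P : Set (TopologicalSpace.Closeds U₀.left) := {Z | ∃ (V : Over (Spec (CommRingCat.of k))) (_ : GrpObj V)
    (j : V ⟶ U₀), IsMonHom j ∧ IsClosedImmersion j.left ∧ Smooth V.hom ∧ ConnectedSpace V.left ∧
      Set.range j.left = Z ∧ ∃ g : PT ⟶ V, g ≠ 1}
  have hP : P.Nonempty := ⟨⊤, U₀, inferInstance, 𝟙 U₀, inferInstance, inferInstanceAs (IsClosedImmersion (𝟙 U₀.left)),
    inferInstance, inferInstance, by simp, hne⟩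
  obtain ⟨Z, ⟨V, _, j, hj, hjc, hsV, hcV, hrV, hneV⟩, hmin⟩ := wellFounded_lt.has_min P hP
  haveI := hj
  haveI := hjc
  haveI := hsV
  haveI := hcV
  obtain ⟨haV, -, hqV, hmono, hev⟩ := sub_props j
  haveI := haV
  haveI := hqV
  haveI := hmono
  haveI : IsReduced V.left := isReduced_of_smooth_field V.hom
  haveI : IrreducibleSpace V.left := Groth.Agent.S0348.result k V
  haveI : IsIntegral V.left := isIntegral_of_irreducibleSpace_of_isReduced V.left
  have huV : ∀ g : PT ⟶ V, IsUnipPt g := fun g => IsUnipPt.map j hev (hu _)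
  obtain ⟨h, ⟨g₁, hg₁⟩, hadd⟩ := exists_additive huV hneV
  have h0 : vl (1 : PT ⟶ V) h = 0 := by simpa using hadd 1 1
  let Γ : Subgroup (PT ⟶ V) :=
    { carrier := {g | vl g h = 0}
      one_mem' := h0
      mul_mem' := fun {a b} ha hb => by
        show vl (a * b) h = 0
        rw [hadd, show vl a h = 0 from ha, show vl b h = 0 from hb, add_zero]
      inv_mem' := fun {a} ha => by
        have h2 := hadd a a⁻¹
        rw [mul_inv_cancel, h0, show vl a h = 0 from ha, zero_add] at h2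
        exact h2.symm }
  have hΓ : PtsClosed (Γ : Set (PT ⟶ V)) := by
    have e : (Γ : Set (PT ⟶ V)) = {g : PT ⟶ V | ∀ f ∈ ({h} : Set (Fn V)), vl g f = 0} := by
      ext g; simp [Γ]
    rw [e]; exact ptsClosed_zero _
  obtain ⟨D, _, i, hi, hic, hsD, hcD, haD, hle, S, hSf, -, hS⟩ := exists_connSub Γ hΓ
  haveI := hi
  haveI := hic
  have hD : ∀ x : PT ⟶ D, x = 1 := by
    by_contra hne'
    push Not at hne'
    haveI : IsClosedImmersion (i ≫ j).left := inferInstanceAs (IsClosedImmersion (i.left ≫ j.left))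
    refine hmin ⟨_, (i ≫ j).left.isClosedEmbedding.isClosed_range⟩
      ⟨D, inferInstance, i ≫ j, inferInstance, inferInstance, hsD, hcD, rfl, hne'⟩ ?_
    refine lt_of_le_of_ne (fun z => ?_) fun heq => ?_
    · rintro ⟨d, rfl⟩
      exact hrV.le ⟨i.left d, rfl⟩
    · haveI : LocallyOfFiniteType D.hom := inferInstance
      obtain ⟨d, hd⟩ : cp (g₁ ≫ j) ∈ Set.range (i ≫ j).left :=
        (congrArg (fun W : TopologicalSpace.Closeds U₀.left => (W : Set U₀.left)) heq).ge (hrV.le ⟨cp g₁, rfl⟩)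
      haveI := AntiAffine.isSeparated_grp U₀
      obtain ⟨x, hx⟩ := exists_of_mem_range (i ≫ j) (g₁ ≫ j) ⟨d, hd⟩
      rw [← Category.assoc, cancel_mono] at hx
      exact hg₁ (hle ⟨x, hx⟩)
  have hfin : {g : PT ⟶ V | vl g h = 0}.Finite := hSf.subset fun g hg => by
    obtain ⟨s, hs, x, hx⟩ := hS g hg
    change x ≫ i = s⁻¹ * g at hx
    rw [hD x, MonObj.one_comp] at hx
    rwa [← inv_mul_eq_one.mp hx.symm]
  obtain ⟨θ⟩ := exists_polyEquiv (ringKrullDim_eq_one h h0 ⟨g₁, hg₁⟩ hfin) (hasNoSubtorus_of_isUnipPt huV) hneV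
  obtain ⟨f, p, q, hfpq⟩ := exists_line_of_polyEquiv θ
  exact ⟨f ≫ j, p, q, fun e => hfpq (by rwa [← Category.assoc, ← Category.assoc, cancel_mono] at e)⟩

end Groth.Agent.GrpSchLib.LineInUnip
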