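import Groth.Agent.MultTypeQI.Recognize
import Groth.Agent.MultTypeLib.SchemeBridge
import Groth.Agent.MultTypeLib.Artin
import Groth.Agent.MultTypeLib.HopfKer
import Groth.Agent.GrpSchLib.AffineHopfClosed
import Groth.Agent.GrpSchLib.HopfFlat
import Groth.Agent.S17525
import Groth.Agent.S18813
import Groth.Agent.S7965
import Groth.Agent.S16065

/-! A commutative extension of groups of multiplicative type over a field is of multiplicative type. -/

set_option backward.isDefEq.respectTransparency false
set_option backward.isDefEq.respectTransparency.types false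

universe u

open CategoryTheory CategoryTheory.Limits MonoidalCategory CartesianMonoidalCategory MonObj GrpObj AlgebraicGeometry
open TensorProduct

namespace Groth.Agent.GrpSchLib.MultTypeExtension

open AffineHopf MultTypeLib

variable {k : Type u} [Field k]

theorem isCocomm_of_isCommMonObj {A : Type u} [CommRing A] [HopfAlgebra k A]
    (h : ∀ (T : Over (Spec (CommRingCat.of k))) (x y : T ⟶ sp k A), x * y = y * x) : Coalgebra.IsCocomm k A := by
  let l : A →ₐ[k] A ⊗[k] A := Algebra.TensorProduct.includeLeft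
  let r : A →ₐ[k] A ⊗[k] A := Algebra.TensorProduct.includeRight
  have e := h _ (spMap l) (spMap r)
  rw [spMap_mul, spMap_mul] at e
  have e' := spMap_injective e
  refine ⟨LinearMap.ext fun a => ?_⟩
  have h1 : ∀ z : A ⊗[k] A, Algebra.TensorProduct.lmul' k (Algebra.TensorProduct.map l r z) = z := fun z => by
    induction z using TensorProduct.induction_on with
    | zero => simp
    | tmul a b => simp [l, r]
    | add a b ha hb => rw [map_add, map_add, ha, hb]
  have h2 : ∀ z : A ⊗[k] A, Algebra.TensorProduct.lmul' k (Algebra.TensorProduct.map r l z) = TensorProduct.comm k A A z :=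
    fun z => by
    induction z using TensorProduct.induction_on with
    | zero => simp
    | tmul a b => simp [l, r]
    | add a b ha hb => rw [map_add, map_add, ha, hb, map_add]
  have := DFunLike.congr_fun e' a
  rw [AlgHom.convMul_def, AlgHom.convMul_def] at this
  simp only [WithConv.ofConv_toConv, AlgHom.comp_apply, Bialgebra.comulAlgHom_apply] at this
  rw [h1, h2] at this
  exact this.symm

/-- A Hopf algebra of multiplicative type over a field is linearly reductive. -/
theorem isLinearlyReductive_of_isMultType (A : Type u) [CommRing A] [HopfAlgebra k A]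
    (hA : SGA3b.IsMultType k A) : HopfRep.IsLinearlyReductive k A := by
  obtain ⟨s, hs, hC⟩ := hA
  obtain ⟨f, hf, hf0⟩ : ∃ f ∈ s, f ≠ 0 := by
    by_contra hne
    push Not at hne
    have h1 : Ideal.span s ≤ (⊥ : Ideal k) := Ideal.span_le.mpr fun x hx => hne x hx
    rw [hs] at h1
    exact top_ne_bot (le_bot_iff.mp h1)
  obtain ⟨E, _, _, hff, hd⟩ := hC f hf
  let Rf := Localization.Away f
  haveI : Nontrivial Rf := (IsLocalization.injective (M := Submonoid.powers f) Rf
    (powers_le_nonZeroDivisors_of_noZeroDivisors hf0)).nontrivial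
  let _ : Algebra k E := ((algebraMap Rf E).comp (algebraMap k Rf)).toAlgebra
  haveI : IsScalarTower k Rf E := IsScalarTower.of_algebraMap_eq fun _ => rfl
  have hd' : SGA3b.IsDiag E (E ⊗[k] A) := isDiag_congr (baseChangeTrans (R := k) Rf E A).symm hd
  haveI : Nontrivial E := (FaithfulSMul.algebraMap_injective Rf E).nontrivial
  obtain ⟨m, hm⟩ := Ideal.exists_maximal E
  letI := Ideal.Quotient.field m
  obtain ⟨M, _, ⟨e⟩⟩ := isDiag_baseChange (A := A) E (E ⧸ m) hd'
  refine (S18813.result k (E ⧸ m) A).mpr (ComodLib.PrimDiag.isLinearlyReductive_of_isDiagonalizable ?_)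
  rw [HopfRep.IsDiagonalizable, eq_top_iff]
  intro x _
  rw [← e.symm_apply_apply x]
  generalize e x = y
  induction y using MonoidAlgebra.induction_linear with
  | zero => rw [map_zero]; exact zero_mem _
  | add a b ha hb => rw [map_add]; exact add_mem ha hb
  | single g c =>
    rw [show MonoidAlgebra.single g c = c • MonoidAlgebra.single g (1 : E ⧸ m) by
      rw [MonoidAlgebra.smul_single, smul_eq_mul, _root_.mul_one], map_smul]
    exact Submodule.smul_mem _ _ (Submodule.subset_span ((MonoidAlgebra.isGroupLikeElem_single_one g).map e.symm))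

/-- A commutative linearly reductive algebraic group over a field is of multiplicative type. -/
theorem isMultType_of_isLinearlyReductive (A : Type u) [CommRing A] [HopfAlgebra k A] [Algebra.FiniteType k A]
    [Coalgebra.IsCocomm k A] (hA : HopfRep.IsLinearlyReductive k A) : SGA3b.IsMultType k A := by
  refine isMultType_of_flatCover (fun _ : PUnit.{u+1} => AlgebraicClosure k) (fun p hp => ?_)
    fun _ => S16065.isDiag_of_isDiagonalizable (S7965.result k A hA)
  exact ⟨PUnit.unit, ⊥, Ideal.isPrime_bot, by
    rw [(Ideal.eq_bot_or_top p).resolve_right hp.ne_top]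
    exact Ideal.comap_bot_of_injective _ (algebraMap k (AlgebraicClosure k)).injective⟩

/-- A commutative extension of groups of multiplicative type over a field is of multiplicative type. -/
theorem isMultTypeFT_of_extension (H H' Q : Over (Spec (CommRingCat.of k))) [GrpObj H] [GrpObj H'] [GrpObj Q]
    [IsAffine H.left] [LocallyOfFiniteType H.hom] [LocallyOfFiniteType H'.hom] [LocallyOfFiniteType Q.hom]
    (hcomm : ∀ (T : Over (Spec (CommRingCat.of k))) (x y : T ⟶ H), x * y = y * x)
    (i : H' ⟶ H) [IsMonHom i] [IsClosedImmersion i.left] (p : H ⟶ Q) [IsMonHom p] [Flat p.left] [Surjective p.left]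
    (hk : AlgGrp.IsKernel i p) (hH' : SGA3x.IsMultTypeFT H') (hQ : SGA3x.IsMultTypeFT Q) :
    SGA3x.IsMultTypeFT H := by
  obtain ⟨AK, _, _, hAK, ⟨eK⟩⟩ := MultTypeLib.SchemeBridge.exists_hopf_multType H' hH'
  obtain ⟨AQ, _, _, hAQ, ⟨eQ⟩⟩ := MultTypeLib.SchemeBridge.exists_hopf_multType Q hQ
  obtain ⟨A, _, _, ⟨eH⟩⟩ := exists_hopf H
  let a : sp k A ≅ H := (Grp.forget _).mapIso eH
  let b : sp k AK ≅ H' := (Grp.forget _).mapIso eK
  let c : sp k AQ ≅ Q := (Grp.forget _).mapIso eQ
  haveI : IsMonHom a.hom := eH.hom.hom.isMonHom_hom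
  haveI : IsMonHom a.inv := eH.inv.hom.isMonHom_hom
  haveI : IsMonHom b.hom := eK.hom.hom.isMonHom_hom
  haveI : IsMonHom c.inv := eQ.inv.hom.isMonHom_hom
  haveI : IsIso a.hom.left := ((Over.forget _).mapIso a).isIso_hom
  haveI : IsIso a.inv.left := ((Over.forget _).mapIso a).isIso_inv
  haveI : IsIso b.hom.left := ((Over.forget _).mapIso b).isIso_hom
  haveI : IsIso c.hom.left := ((Over.forget _).mapIso c).isIso_hom
  haveI : IsIso c.inv.left := ((Over.forget _).mapIso c).isIso_inv
  have hft : ∀ (B : Type u) [CommRing B] [Algebra k B] (X : Over (Spec (CommRingCat.of k))) [LocallyOfFiniteType X.hom]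
      (e : sp k B ≅ X), Algebra.FiniteType k B := fun B _ _ X _ e => by
    haveI : IsIso e.hom.left := ((Over.forget _).mapIso e).isIso_hom
    exact RingHom.finiteType_algebraMap.mp
      ((HasRingHomProperty.Spec_iff (P := @LocallyOfFiniteType)).mp (by
        show LocallyOfFiniteType (sp k B).hom
        rw [← Over.w e.hom]; infer_instance))
  haveI := hft A H a
  haveI := hft AK H' b
  haveI := hft AQ Q c
  obtain ⟨ψ, hψ⟩ := exists_bialgHom (b.hom ≫ i ≫ a.inv)
  obtain ⟨φ, hφ⟩ := exists_bialgHom (a.hom ≫ p ≫ c.inv)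
  have hψs : Function.Surjective ψ := surjective_of_isClosedImmersion (ψ : A →ₐ[k] AK) (by
    rw [← hψ, Over.comp_left, Over.comp_left]; infer_instance)
  have hφi : Function.Injective φ := by
    haveI : Flat (spMap (φ : AQ →ₐ[k] A)).left := by rw [← hφ, Over.comp_left, Over.comp_left]; infer_instance
    haveI : Surjective (spMap (φ : AQ →ₐ[k] A)).left := by rw [← hφ, Over.comp_left, Over.comp_left]; infer_instance
    have hff : (φ : AQ →ₐ[k] A).toRingHom.FaithfullyFlat := by
      rw [RingHom.FaithfullyFlat.iff_flat_and_comap_surjective]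
      exact ⟨(HasRingHomProperty.Spec_iff (P := @Flat)).mp ‹Flat (spMap (φ : AQ →ₐ[k] A)).left›,
        (spMap (φ : AQ →ₐ[k] A)).left.surjective⟩
    exact RingHom.FaithfullyFlat.injective hff
  let εQ : AQ →ₐ[k] k := Bialgebra.counitAlgHom k AQ
  have hker : RingHom.ker (ψ : A →ₐ[k] AK) = Ideal.map (φ : AQ →ₐ[k] A) (RingHom.ker εQ) := by
    refine le_antisymm (fun x hx => ?_) ?_
    · -- the fibre over the unit is the kernel
      set J : Ideal A := Ideal.map (φ : AQ →ₐ[k] A) (RingHom.ker εQ)
      let π : A →ₐ[k] A ⧸ J := Ideal.Quotient.mkₐ k J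
      have hone : π.comp (φ : AQ →ₐ[k] A) = (Algebra.ofId k (A ⧸ J)).comp εQ := AlgHom.ext fun q => by
        have hq : φ (q - algebraMap k AQ (εQ q)) ∈ J :=
          Ideal.mem_map_of_mem _ (by rw [RingHom.mem_ker, map_sub, AlgHom.commutes]; exact sub_self _)
        rw [map_sub] at hq
        show Ideal.Quotient.mk J (φ q) = algebraMap k (A ⧸ J) (εQ q)
        rw [Ideal.Quotient.eq.mpr hq]
        exact (Ideal.Quotient.mkₐ k J).congr_arg ((φ : AQ →ₐ[k] A).commutes _) |>.trans
          ((Ideal.Quotient.mkₐ k J).commutes _)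
      have h1 : spMap ((Algebra.ofId k (A ⧸ J)).comp εQ) = (1 : sp k (A ⧸ J) ⟶ sp k AQ) := by
        rw [spMap_eq_mapMulEquiv]
        exact map_one Spec.mapMulEquiv
      have h2 : (spMap π ≫ a.hom) ≫ p = toUnit (sp k (A ⧸ J)) ≫ η[Q] := by
        have := congrArg (fun f => spMap π ≫ f ≫ c.hom) hφ
        simp only [Category.assoc, Iso.inv_hom_id, Category.comp_id] at this
        rw [Category.assoc, this, ← Category.assoc, spMap_comp, hone, h1]
        haveI : IsMonHom c.hom := eQ.hom.hom.isMonHom_hom
        rw [MonObj.one_comp c.hom, Hom.one_def]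
      let t := hk.lift (spMap π ≫ a.hom) (toUnit _) h2
      obtain ⟨g, hg⟩ := exists_eq_spMap (t ≫ b.inv)
      have h3 : g.comp (ψ : A →ₐ[k] AK) = π := by
        refine spMap_injective ?_
        rw [← spMap_comp, ← hg, ← hψ]
        simp only [Category.assoc, Iso.inv_hom_id_assoc]
        rw [reassoc_of% (hk.lift_fst (spMap π ≫ a.hom) (toUnit _) h2)]
        simp
      refine Ideal.Quotient.eq_zero_iff_mem.mp ?_
      rw [show Ideal.Quotient.mk J x = π x from rfl, ← h3, AlgHom.comp_apply,
        show (ψ : A →ₐ[k] AK) x = 0 from hx, map_zero]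
    · rw [Ideal.map_le_iff_le_comap]
      intro q hq
      show ψ (φ q) = 0
      have h1 : spMap ((ψ : A →ₐ[k] AK).comp (φ : AQ →ₐ[k] A)) = (1 : sp k AK ⟶ sp k AQ) := by
        rw [← spMap_comp, ← hψ, ← hφ]
        simp only [Category.assoc, Iso.inv_hom_id_assoc]
        rw [reassoc_of% hk.w, reassoc_of% (toUnit_unique (b.hom ≫ toUnit H') (toUnit _))]
        rw [← Category.assoc, ← Hom.one_def, MonObj.one_comp c.inv]
      have h0 : spMap ((Algebra.ofId k AK).comp εQ) = (1 : sp k AK ⟶ sp k AQ) := by
        rw [spMap_eq_mapMulEquiv]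
        exact map_one Spec.mapMulEquiv
      have := AlgHom.congr_fun (spMap_injective (h1.trans h0.symm)) q
      rw [AlgHom.comp_apply, AlgHom.comp_apply, show εQ q = 0 from hq, map_zero] at this
      exact this
  haveI : Coalgebra.IsCocomm k A := isCocomm_of_isCommMonObj fun T x y => by
    rw [← cancel_mono a.hom, MonObj.mul_comp, MonObj.mul_comp, hcomm]
  have hlr := (S17525.result k AQ A AK φ hφi ψ hψs hker).mpr
    ⟨isLinearlyReductive_of_isMultType AK hAK, isLinearlyReductive_of_isMultType AQ hAQ⟩
  exact MultTypeQI.isMultTypeFT_of_etale_locally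
    (fun s => MultTypeQI.etale_nhd_of_hopf ‹Algebra.FiniteType k A› (isMultType_of_isLinearlyReductive A hlr) H eH s)

end Groth.Agent.GrpSchLib.MultTypeExtension
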