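import Groth.Agent.TorusQI.HomExtend
import Groth.Agent.GrpSchLib.HomFlat

/-! Rigidity of homomorphisms between groups of multiplicative type in connected families. -/

set_option backward.isDefEq.respectTransparency false
set_option backward.isDefEq.respectTransparency.types false

universe u

open CategoryTheory Limits MonoidalCategory CartesianMonoidalCategory MonObj GrpObj AlgebraicGeometry

namespace Groth.Agent.GrpSchLib.MultTypeRigid

/-- A family of homomorphisms between groups of multiplicative type over a connected base with a section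
is constant. -/
theorem hom_eq_const {S : Scheme.{u}} {M N G : Over S} [GrpObj M] [GrpObj N] [ConnectedSpace G.left]
    [Nonempty S] (hM : SGA3x.IsMultTypeFT M) (hN : SGA3x.IsMultTypeFT N) (φ : M ⊗ G ⟶ N)
    (hφ : AutFam.IsHomFamily M N φ) (o : 𝟙_ (Over S) ⟶ G) {X : Over S} (m : X ⟶ M) (g : X ⟶ G) :
    lift m g ≫ φ = lift m (toUnit X ≫ o) ≫ φ := by
  obtain ⟨A, υ, hA, _, _, -⟩ := Groth.Agent.TorusQI.exists_homScheme hM hN
  obtain ⟨a, ha, -⟩ := hA.2 G φ hφ
  let c₀ := o ≫ a
  let σ : S ⟶ A.left := c₀.left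
  have hσ : σ ≫ A.hom = 𝟙 S := Over.w c₀
  haveI : Etale (σ ≫ A.hom) := by rw [hσ]; infer_instance
  haveI : Etale σ := Etale.of_comp σ A.hom
  haveI : IsClosedImmersion (σ ≫ A.hom) := by rw [hσ]; infer_instance
  haveI : IsClosedImmersion σ := IsClosedImmersion.of_comp σ A.hom
  haveI : IsOpenImmersion σ := IsOpenImmersion.of_flat_of_mono σ
  let W : Set G.left := a.left ⁻¹' Set.range σ
  have hW : IsClopen W := ⟨σ.isClosedEmbedding.isClosed_range.preimage a.left.continuous,
    σ.isOpenEmbedding.isOpen_range.preimage a.left.continuous⟩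
  have hT : W = Set.univ := hW.eq_univ ⟨o.left (Classical.arbitrary S), Classical.arbitrary S, rfl⟩
  let a' : G.left ⟶ S := IsOpenImmersion.lift σ a.left (by
    rintro _ ⟨x, rfl⟩
    exact hT.symm.subset (Set.mem_univ x))
  have ha' : a' ≫ σ = a.left := IsOpenImmersion.lift_fac _ _ _
  have haa : a = toUnit G ≫ c₀ := Over.OverMorphism.ext (by
    have h1 : a' = G.hom := by
      have := congrArg (· ≫ A.hom) ha'
      simp only [Category.assoc, hσ, Category.comp_id, Over.w] at this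
      exact this
    rw [← ha', h1]
    rfl)
  rw [← ha, lift_whiskerLeft_assoc, lift_whiskerLeft_assoc]
  congr 2
  rw [haa, ← Category.assoc, comp_toUnit, Category.assoc, ← Category.assoc o, toUnit_unique (o ≫ toUnit G) (𝟙 _),
    Category.id_comp]

/-- A map invariant under the kernel of a faithfully flat homomorphism descends. -/
theorem exists_desc {S : Scheme.{u}} {N H Q Z X : Over S} [GrpObj N] [GrpObj H] [GrpObj Q] (i : N ⟶ H)
    (p : H ⟶ Q) [IsMonHom p] [Flat p.left] [Surjective p.left] [LocallyOfFinitePresentation p.left]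
    (hp : AlgGrp.IsKernel i p) (φ : H ⊗ Z ⟶ X)
    (hφ : ∀ (Y : Over S) (h : Y ⟶ H) (n : Y ⟶ N) (z : Y ⟶ Z), lift ((n ≫ i) * h) z ≫ φ = lift h z ≫ φ) :
    ∃ e : Q ⊗ Z ⟶ X, ∀ (Y : Over S) (h : Y ⟶ H) (z : Y ⟶ Z), lift (h ≫ p) z ≫ e = lift h z ≫ φ := by
  let P := p ▷ Z
  haveI : IsPullback (p ▷ Z).left (fst H Z).left (fst Q Z).left p.left :=
    GrpSchLib.isPullback_whiskerRight p Z
  have hP : Flat P.left ∧ Surjective P.left ∧ LocallyOfFinitePresentation P.left :=
    ⟨MorphismProperty.of_isPullback (P := @Flat) this.flip ‹_›,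
      MorphismProperty.of_isPullback (P := @Surjective) this.flip ‹_›,
      MorphismProperty.of_isPullback (P := @LocallyOfFinitePresentation) this.flip ‹_›⟩
  obtain ⟨_, _, _⟩ := hP
  have key : ∀ (Y : Over S) (w₁ w₂ : Y ⟶ H ⊗ Z), w₁ ≫ P = w₂ ≫ P → w₁ ≫ φ = w₂ ≫ φ := by
    intro Y w₁ w₂ hw
    have h1 : (w₁ ≫ fst H Z) ≫ p = (w₂ ≫ fst H Z) ≫ p := by
      have := congrArg (· ≫ fst Q Z) hw
      simpa [P] using this
    have h2 : w₁ ≫ snd H Z = w₂ ≫ snd H Z := by
      have := congrArg (· ≫ snd Q Z) hw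
      simpa [P] using this
    have h0 : ((w₁ ≫ fst H Z) * (w₂ ≫ fst H Z)⁻¹) ≫ p = toUnit Y ≫ η[Q] := by
      rw [MonObj.mul_comp _ _ p, h1, ← MonObj.mul_comp _ _ p, mul_inv_cancel, MonObj.one_comp p, Hom.one_def]
    have h := hφ Y (w₂ ≫ fst H Z) (hp.lift _ _ h0) (w₂ ≫ snd H Z)
    rw [hp.lift_fst, inv_mul_cancel_right] at h
    have e1 : lift (w₁ ≫ fst H Z) (w₂ ≫ snd H Z) = w₁ := by
      rw [← h2, ← comp_lift, lift_fst_snd, Category.comp_id]
    rw [e1, ← comp_lift, lift_fst_snd, Category.comp_id] at h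
    exact h
  let e₀ := EffectiveEpi.desc P.left φ.left fun {Y} g₁ g₂ hg => by
    have hw : g₂ ≫ (H ⊗ Z).hom = g₁ ≫ (H ⊗ Z).hom := by rw [← Over.w P, ← Category.assoc, ← hg, Category.assoc]
    exact congrArg CommaMorphism.left
      (key (Over.mk (g₁ ≫ (H ⊗ Z).hom)) (Over.homMk g₁ rfl) (Over.homMk g₂ hw) (Over.OverMorphism.ext hg))
  have he : P.left ≫ e₀ = φ.left := EffectiveEpi.fac _ _ _
  refine ⟨Over.homMk e₀ (by rw [← cancel_epi P.left, reassoc_of% he, Over.w φ, Over.w P]), fun Y h z => ?_⟩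
  have : P ≫ Over.homMk e₀ (by rw [← cancel_epi P.left, reassoc_of% he, Over.w φ, Over.w P]) = φ :=
    Over.OverMorphism.ext he
  conv_rhs => rw [← this]
  rw [← Category.assoc (lift h z), lift_whiskerRight]

end Groth.Agent.GrpSchLib.MultTypeRigid
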