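import Groth.Agent.GrpSchLib.HopfQuot
import Mathlib.RingTheory.Spectrum.Prime.FreeLocus
import Mathlib.RingTheory.LocalRing.Module
import Mathlib.RingTheory.Artinian.Ring
import Mathlib.RingTheory.LocalRing.ResidueField.Ideal
import Mathlib.RingTheory.IsTensorProduct

/-! Ranks over the invariants of a finite Hopf algebra modulo a quotient Hopf algebra. -/

set_option autoImplicit false

universe u v

open TensorProduct

noncomputable section

namespace Groth.Agent.GrpSchLib.HopfQuot

variable {R : Type u} [CommRing R] {A H : Type v} [CommRing A] [CommRing H] [HopfAlgebra R A] [HopfAlgebra R H]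
  [Module.Finite R H] [Module.Projective R H] (π : A →ₐc[R] H) (hπ : Function.Surjective π)

include hπ in
/-- The rank over the invariants is the rank of the quotient. -/
theorem rankAtStalk_inv (p : PrimeSpectrum (inv π)) :
    Module.rankAtStalk A p = Module.rankAtStalk H (p.comap (algebraMap R (inv π))) := by
  haveI := faithfullyFlat π hπ
  haveI := finite π hπ
  obtain ⟨P, rfl⟩ := PrimeSpectrum.comap_surjective_of_faithfullyFlat (A := inv π) (B := A) p
  have h1 : Module.rankAtStalk (A ⊗[inv π] A) P = Module.rankAtStalk A (P.comap (algebraMap (inv π) A)) :=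
    Module.rankAtStalk_baseChange P
  have h2 : Module.rankAtStalk (A ⊗[R] H) P = Module.rankAtStalk H (P.comap (algebraMap R A)) :=
    Module.rankAtStalk_baseChange P
  rw [← h1, Module.rankAtStalk_eq_of_equiv (galoisEquiv π hπ).toLinearEquiv, h2]
  rw [← PrimeSpectrum.comap_comp_apply, ← IsScalarTower.algebraMap_eq]

/-- A finite projective module over a semilocal ring with constant rank is free. -/
theorem nonempty_basis_of_rank {B M : Type*} [CommRing B] [Finite (MaximalSpectrum B)] [AddCommGroup M] [Module B M]
    [Module.Finite B M] [Module.Flat B M] (n : ℕ) (h : ∀ p : PrimeSpectrum B, Module.rankAtStalk M p = n) :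
    Nonempty (Module.Basis (Fin n) B M) := by
  refine Module.nonempty_basis_of_flat_of_finrank_eq (R := B) M n fun P => ?_
  haveI := P.2
  letI := Ideal.Quotient.field P.1
  have h1 := Module.rankAtStalk_baseChange (R := B) (M := M) (S := B ⧸ P.1) ⟨⊥, Ideal.isPrime_bot⟩
  rw [h, Module.rankAtStalk_eq_finrank_of_free] at h1
  exact h1

include hπ in
/-- The invariants are a direct summand. -/
theorem exists_retraction : ∃ r : A →ₗ[inv π] inv π, r 1 = 1 := by
  haveI := faithfullyFlat π hπ
  haveI := projective π hπ
  let J : Ideal (inv π) := LinearMap.range (LinearMap.applyₗ (1 : A) : (A →ₗ[inv π] inv π) →ₗ[inv π] inv π)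
  suffices h : J = ⊤ by exact (LinearMap.range_eq_top.1 h) 1
  by_contra hne
  obtain ⟨m, hm, hle⟩ := Ideal.exists_le_maximal _ hne
  refine Module.FaithfullyFlat.submodule_ne_top (R := inv π) (M := A) hm (eq_top_iff.2 fun a _ => ?_)
  obtain ⟨s, hs⟩ := Module.Projective.out (R := inv π) (P := A)
  have h1 : (1 : A) ∈ m • (⊤ : Submodule (inv π) A) := by
    rw [← hs 1, Finsupp.linearCombination_apply]
    refine Submodule.sum_mem _ fun i _ => Submodule.smul_mem_smul (hle ?_) Submodule.mem_top
    exact ⟨(Finsupp.lapply i).comp s, rfl⟩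
  have h2 : a • (1 : A) ∈ m • (⊤ : Submodule (inv π) A) := by
    refine Submodule.smul_induction_on h1 (fun b hb x _ => ?_) (fun x y hx hy => ?_)
    · rw [smul_comm]; exact Submodule.smul_mem_smul hb Submodule.mem_top
    · rw [smul_add]; exact add_mem hx hy
  simpa using h2

include hπ in
theorem projective_inv [Module.Projective R A] : Module.Projective R (inv π) := by
  obtain ⟨r, hr⟩ := exists_retraction π hπ
  refine Module.Projective.of_split (inv π).val.toLinearMap (r.restrictScalars R) (LinearMap.ext fun b => ?_)
  show r (b : A) = b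
  rw [show (b : A) = b • (1 : A) by rw [Subalgebra.smul_def, smul_eq_mul, _root_.mul_one], map_smul, hr, smul_eq_mul,
    _root_.mul_one]

include hπ in
theorem finite_inv [Module.Finite R A] : Module.Finite R (inv π) := by
  obtain ⟨r, hr⟩ := exists_retraction π hπ
  refine Module.Finite.of_surjective (r.restrictScalars R) fun b => ⟨(b : A), ?_⟩
  show r (b : A) = b
  rw [show (b : A) = b • (1 : A) by rw [Subalgebra.smul_def, smul_eq_mul, _root_.mul_one], map_smul, hr, smul_eq_mul,
    _root_.mul_one]

include hπ in
/-- The order of a group is the product of those of the subgroup and the coset space. -/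
theorem rankAtStalk_mul [Module.Finite R A] [Module.Projective R A] (q : PrimeSpectrum R) :
    Module.rankAtStalk A q = Module.rankAtStalk H q * Module.rankAtStalk (inv π) q := by
  haveI := finite π hπ
  haveI := projective π hπ
  haveI := finite_inv π hπ
  haveI := projective_inv π hπ
  let K := q.asIdeal.ResidueField
  letI : Algebra (inv π) (K ⊗[R] inv π) := Algebra.TensorProduct.rightAlgebra
  have hK : ∀ (M : Type v) [AddCommGroup M] [Module R M] [Module.Finite R M] [Module.Projective R M],
      Module.finrank K (K ⊗[R] M) = Module.rankAtStalk M q := fun M _ _ _ _ => (Module.rankAtStalk_eq q).symm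
  haveI : IsArtinianRing (K ⊗[R] inv π) := IsArtinianRing.of_finite K _
  rcases subsingleton_or_nontrivial (K ⊗[R] inv π) with hB | hB
  · have h0 : Module.rankAtStalk (inv π) q = 0 := by
      rw [← hK]; exact Module.finrank_zero_of_subsingleton
    haveI : Subsingleton ((K ⊗[R] inv π) ⊗[inv π] A) := Module.subsingleton (K ⊗[R] inv π) _
    haveI : Subsingleton (K ⊗[R] A) :=
      (Algebra.IsPushout.cancelBaseChange R K (inv π) (K ⊗[R] inv π) A).toEquiv.symm.subsingleton
    rw [h0, mul_zero, ← hK]
    exact Module.finrank_zero_of_subsingleton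
  · obtain ⟨b⟩ := nonempty_basis_of_rank (B := K ⊗[R] inv π) (M := (K ⊗[R] inv π) ⊗[inv π] A)
      (Module.rankAtStalk H q) fun p => by
        rw [Module.rankAtStalk_baseChange, rankAtStalk_inv π hπ]
        congr 1
        rw [← PrimeSpectrum.comap_comp_apply, ← IsScalarTower.algebraMap_eq,
          IsScalarTower.algebraMap_eq R K (K ⊗[R] inv π), PrimeSpectrum.comap_comp_apply,
          Subsingleton.elim (p.comap (algebraMap K (K ⊗[R] inv π))) ⟨⊥, Ideal.isPrime_bot⟩]
        refine PrimeSpectrum.ext ?_
        show Ideal.comap (algebraMap R K) ⊥ = q.asIdeal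
        rw [← RingHom.ker_eq_comap_bot, Ideal.ker_algebraMap_residueField]
    haveI := Module.Free.of_basis b
    rw [← hK A, ← (Algebra.IsPushout.cancelBaseChange R K (inv π) (K ⊗[R] inv π) A).finrank_eq, ← hK (inv π),
      mul_comm]
    rw [← Module.finrank_mul_finrank K (K ⊗[R] inv π) ((K ⊗[R] inv π) ⊗[inv π] A), Module.finrank_eq_card_basis b,
      Fintype.card_fin]

end Groth.Agent.GrpSchLib.HopfQuot
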