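import Groth.Agent.GrpSchLib.SplitTorusPoints
import Groth.Agent.GrpSchLib.HomFlat
import Groth.Agent.GrpSchLib.WordClosure
import Groth.Agent.SpecLib.Constr
import Groth.Agent.TwConstEtLib.Piece
import Mathlib.GroupTheory.FiniteAbelian.Duality
import Mathlib.FieldTheory.IsSepClosed
import Mathlib.GroupTheory.Perm.Cycle.Type

/-! Connectedness of the kernel of a map to a torus carrying no characters. -/

universe u

set_option autoImplicit false
set_option backward.isDefEq.respectTransparency false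
set_option backward.isDefEq.respectTransparency.types false

open CategoryTheory MonoidalCategory CartesianMonoidalCategory MonObj GrpObj AlgebraicGeometry

namespace Groth.Agent.GrpSchLib.ConnKernel

open Kunneth SplitTorusPoints AffineHopf

theorem eq_one_of_pow_eq_one {k : Type u} [Field k] {c : k} :
    ∀ {n : ℕ}, 0 < n → (∀ ℓ : ℕ, ℓ.Prime → ℓ ∣ n → (ℓ : k) = 0) → c ^ n = 1 → c = 1 := by
  intro n
  induction n using Nat.strong_induction_on generalizing c with
  | _ n ih =>
    intro hn hdvd hc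
    by_cases h1 : n = 1
    · rwa [h1, pow_one] at hc
    · obtain ⟨p, hp, ⟨m, rfl⟩⟩ := Nat.exists_prime_and_dvd h1
      haveI : Fact p.Prime := ⟨hp⟩
      haveI : CharP k p := by
        obtain ⟨q, hq⟩ := CharP.exists k
        have h0 := (CharP.cast_eq_zero_iff k q p).1 (hdvd p hp (dvd_mul_right _ _))
        rcases (Nat.dvd_prime hp).1 h0 with rfl | rfl
        · exact absurd rfl (CharP.char_ne_one k 1)
        · exact hq
      have hm : 0 < m := Nat.pos_of_mul_pos_left hn
      have hcp : c ^ p = 1 :=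
        ih m (lt_mul_of_one_lt_left hm hp.one_lt) hm (fun ℓ hℓ hd => hdvd ℓ hℓ (hd.mul_left _))
          (by rwa [← pow_mul])
      refine sub_eq_zero.1 (eq_zero_of_pow_eq_zero (n := p) ?_)
      rw [sub_pow_char, hcp, one_pow, sub_self]

theorem eq_one_of_nilpotent {A : Type u} [CommRing A] {F : A} {n : ℕ} (hn : IsUnit (n : A))
    (hN : IsNilpotent (F - 1)) (hF : F ^ n = 1) : F = 1 := by
  have h1 : (∑ i ∈ Finset.range n, F ^ i) * (F - 1) = 0 := by rw [geom_sum_mul, hF, sub_self]
  have h2 : IsUnit (∑ i ∈ Finset.range n, F ^ i) := by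
    have e : ∑ i ∈ Finset.range n, F ^ i = (n : A) + ∑ i ∈ Finset.range n, (F ^ i - 1) := by
      rw [Finset.sum_sub_distrib]; simp
    rw [e]
    refine IsNilpotent.isUnit_add_left_of_commute ?_ hn (Commute.all _ _)
    refine isNilpotent_sum fun i _ => ?_
    rw [← geom_sum_mul]
    exact (Commute.all _ _).isNilpotent_mul_left hN
  exact sub_eq_zero.1 (h2.mul_right_eq_zero.1 h1)

variable {k : Type u} [Field k] [IsAlgClosed k]

/-- The image of a point. -/
noncomputable def pt {X : Over (Spec (CommRingCat.of k))} (x : 𝟙_ (Over (Spec (CommRingCat.of k))) ⟶ X) : X.left :=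
  x.left (IsLocalRing.closedPoint k)

theorem pt_comp {X Y : Over (Spec (CommRingCat.of k))} (x : 𝟙_ (Over (Spec (CommRingCat.of k))) ⟶ X) (f : X ⟶ Y) :
    pt (x ≫ f) = f.left (pt x) := rfl

theorem exists_pt {X : Over (Spec (CommRingCat.of k))} [LocallyOfFiniteType X.hom] {x : X.left}
    (hx : x ∈ closedPoints X.left) : ∃ s : 𝟙_ (Over (Spec (CommRingCat.of k))) ⟶ X, pt s = x :=
  ⟨Over.homMk (pointOfClosedPoint X.hom x hx) (pointOfClosedPoint_comp X.hom x hx),
    pointOfClosedPoint_apply X.hom x hx _⟩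

theorem exists_nonempty_inter_pt {X : Over (Spec (CommRingCat.of k))} [LocallyOfFiniteType X.hom] {V : Set X.left}
    (hV : IsOpen V) (hne : V.Nonempty) : ∃ s : 𝟙_ (Over (Spec (CommRingCat.of k))) ⟶ X, pt s ∈ V := by
  haveI : JacobsonSpace X.left := LocallyOfFiniteType.jacobsonSpace X.hom
  obtain ⟨c, hc1, hc⟩ := nonempty_inter_closedPoints hne hV.isLocallyClosed
  obtain ⟨s, hs⟩ := exists_pt hc
  exact ⟨s, hs ▸ hc1⟩

section Char

variable {H : Over (Spec (CommRingCat.of k))} [GrpObj H] [LocallyOfFiniteType H.hom] [QuasiCompact H.hom]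

/-- Finite order characters of the component group give characters. -/
theorem exists_char {ℓ : ℕ} (hℓ : IsUnit (ℓ : k)) (χ : (𝟙_ (Over (Spec (CommRingCat.of k))) ⟶ H) →* k)
    (hχℓ : ∀ m, χ m ^ ℓ = 1)
    (hχ : ∀ m m', connectedComponent (pt m) = connectedComponent (pt m') → χ m = χ m') :
    ∃ ψ : H ⟶ D k ℤ, IsMonHom ψ ∧ ∀ m, evPt m (ev ψ (mon k (1 : ℤ))) = χ m := by
  classical
  haveI : IsLocallyNoetherian (Spec (CommRingCat.of k)) := inferInstance
  haveI : IsLocallyNoetherian H.left := LocallyOfFiniteType.isLocallyNoetherian H.hom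
  haveI := TwConstEtLib.locallyConnectedSpace H.left
  haveI : CompactSpace H.left := (quasiCompact_iff_compactSpace H.hom).mp inferInstance
  let U : H.left → H.left.Opens := fun x => ⟨connectedComponent x, isOpen_connectedComponent⟩
  let 𝒰 : H.left.OpenCover := H.left.openCoverOfIsOpenCover U
    (TopologicalSpace.IsOpenCover.mk (eq_top_iff.2 fun x _ => TopologicalSpace.Opens.mem_iSup.2 ⟨x, mem_connectedComponent⟩))
  have hrep : ∀ x : H.left, ∃ m : 𝟙_ (Over (Spec (CommRingCat.of k))) ⟶ H, connectedComponent (pt m) = connectedComponent x :=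
    fun x => by
      obtain ⟨m, hm⟩ := exists_nonempty_inter_pt (isOpen_connectedComponent (x := x)) ⟨x, mem_connectedComponent⟩
      exact ⟨m, (connectedComponent_eq hm).symm⟩
  choose rep hrep using hrep
  have hcst : ∀ m, ∃ z : 𝟙_ (Over (Spec (CommRingCat.of k))) ⟶ D k ℤ,
      ev z (mon k (1 : ℤ)) = algebraMap k (Fn (𝟙_ (Over (Spec (CommRingCat.of k))))) (χ m) := fun m =>
    exists_hom_int (((Group.isUnit m).map χ).map _)
  choose cst hcst using hcst
  have hcc : ∀ m m', connectedComponent (pt m) = connectedComponent (pt m') → cst m = cst m' := fun m m' e =>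
    ext_mon_int (by rw [hcst, hcst, hχ m m' e])
  let g : ∀ x, 𝒰.X x ⟶ (D k ℤ).left := fun x => ((U x).ι ≫ H.hom) ≫ (cst (rep x)).left
  have hg : ∀ x y : H.left, Limits.pullback.fst (𝒰.f x) (𝒰.f y) ≫ g x = Limits.pullback.snd (𝒰.f x) (𝒰.f y) ≫ g y := by
    intro x y
    by_cases hxy : connectedComponent x = connectedComponent y
    · have e : cst (rep x) = cst (rep y) := hcc _ _ (by rw [hrep, hrep, hxy])
      show Limits.pullback.fst (U x).ι (U y).ι ≫ ((U x).ι ≫ H.hom) ≫ (cst (rep x)).left =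
        Limits.pullback.snd (U x).ι (U y).ι ≫ ((U y).ι ≫ H.hom) ≫ (cst (rep y)).left
      rw [e, Category.assoc, Limits.pullback.condition_assoc, Category.assoc]
    · haveI : IsEmpty ↥(Limits.pullback (𝒰.f x) (𝒰.f y)) := by
        refine Scheme.isEmpty_pullback _ _ ?_
        show Disjoint (Set.range (U x).ι) (Set.range (U y).ι)
        rw [Scheme.Opens.range_ι, Scheme.Opens.range_ι]
        exact connectedComponent_disjoint hxy
      exact isInitialOfIsEmpty.hom_ext _ _
  let ψ₀ := 𝒰.glueMorphisms g hg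
  let ψ : H ⟶ D k ℤ := Over.homMk ψ₀ (by
    refine Scheme.Cover.hom_ext 𝒰 _ _ fun x => ?_
    rw [← Category.assoc, Scheme.Cover.ι_glueMorphisms]
    show (((U x).ι ≫ H.hom) ≫ (cst (rep x)).left) ≫ (D k ℤ).hom = (U x).ι ≫ H.hom
    rw [Category.assoc, Over.w (cst (rep x))]
    exact Category.comp_id _)
  let W : H.left → Over (Spec (CommRingCat.of k)) := fun x => Over.mk ((U x).ι ≫ H.hom)
  let w : ∀ x, W x ⟶ H := fun x => Over.homMk (U x).ι rfl
  have hw : ∀ x, w x ≫ ψ = toUnit (W x) ≫ cst (rep x) := fun x =>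
    Over.OverMorphism.ext (Scheme.Cover.ι_glueMorphisms 𝒰 g hg x)
  have hval : ∀ m, evPt m (ev ψ (mon k (1 : ℤ))) = χ m := fun m => by
    have hin : pt m ∈ Set.range (U (pt m)).ι := by
      rw [Scheme.Opens.range_ι]; exact mem_connectedComponent
    obtain ⟨m', hm'⟩ : ∃ m' : 𝟙_ (Over (Spec (CommRingCat.of k))) ⟶ W (pt m), m' ≫ w (pt m) = m := by
      have hr : Set.range m.left ⊆ Set.range (U (pt m)).ι := by
        rintro _ ⟨y, rfl⟩
        haveI : Subsingleton ↥(𝟙_ (Over (Spec (CommRingCat.of k)))).left :=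
          inferInstanceAs (Subsingleton ↥(Spec (CommRingCat.of k)))
        rw [Subsingleton.elim y (IsLocalRing.closedPoint k)]
        exact hin
      refine ⟨Over.homMk (IsOpenImmersion.lift (U (pt m)).ι m.left hr) ?_, Over.OverMorphism.ext (IsOpenImmersion.lift_fac _ _ hr)⟩
      show IsOpenImmersion.lift (U (pt m)).ι m.left hr ≫ (U (pt m)).ι ≫ H.hom = _
      rw [IsOpenImmersion.lift_fac_assoc]
      exact Over.w m
    conv_lhs => rw [← hm', evPt_comp, Category.assoc, hw, ← Category.assoc, toUnit_unique (m' ≫ toUnit _) (𝟙 _),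
      Category.id_comp, ← Category.id_comp (cst _), ← evPt_comp, hcst, AlgHom.commutes, Algebra.algebraMap_self_apply]
    exact hχ _ _ (hrep (pt m))
  let f := ev ψ (mon k (1 : ℤ))
  have hfℓ : f ^ ℓ = 1 := by
    obtain ⟨y, hy⟩ := exists_hom_int (Z := H) ((isUnit_ev_mon ψ 1).pow ℓ)
    suffices y = 1 by
      show ev ψ (mon k (1 : ℤ)) ^ ℓ = 1
      rw [← hy, this, ev_one_mon]
    refine Over.OverMorphism.ext (Scheme.Cover.hom_ext 𝒰 _ _ fun x => ?_)
    refine congrArg CommaMorphism.left (show w x ≫ y = w x ≫ 1 from ext_mon_int ?_)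
    rw [MonObj.comp_one, ev_one_mon, ← ev_ev, hy, map_pow, ev_ev, hw, ← ev_ev, hcst, AlgHom.commutes, ← map_pow,
      hχℓ, map_one]
  refine ⟨ψ, isMonHom_of ψ fun n => ?_, hval⟩
  have h1 : ev μ[H] f = ev (fst H H) f * ev (snd H H) f := by
    haveI : LocallyOfFiniteType (H ⊗ H).hom :=
      inferInstanceAs (LocallyOfFiniteType (Limits.pullback.fst H.hom H.hom ≫ H.hom))
    haveI : QuasiCompact (H ⊗ H).hom :=
      inferInstanceAs (QuasiCompact (Limits.pullback.fst H.hom H.hom ≫ H.hom))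
    haveI : CompactSpace (H ⊗ H).left := (quasiCompact_iff_compactSpace (H ⊗ H).hom).mp inferInstance
    let a := ev μ[H] f
    let b := ev (fst H H) f * ev (snd H H) f
    have hb : IsUnit b := ((isUnit_ev_mon ψ 1).map _).mul ((isUnit_ev_mon ψ 1).map _)
    obtain ⟨b', hb'⟩ := hb.exists_left_inv
    suffices b' * a = 1 by
      show a = b
      calc a = b * (b' * a) := by rw [← _root_.mul_assoc, mul_comm b, hb', _root_.one_mul]
        _ = b := by rw [this, _root_.mul_one]
    refine eq_one_of_nilpotent (n := ℓ) (by rw [← map_natCast (algebraMap k (Fn (H ⊗ H)))]; exact hℓ.map _) ?_ ?_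
    · rw [Scheme.isNilpotent_iff_basicOpen_eq_bot]
      by_contra hne
      obtain ⟨y, hy⟩ := exists_nonempty_inter_pt ((H ⊗ H).left.basicOpen (b' * a - 1)).isOpen
        (TopologicalSpace.Opens.ne_bot_iff_nonempty _ |>.mp hne)
      have h0 : evPt y (b' * a - 1) = 0 := by
        rw [map_sub, map_mul, map_one, sub_eq_zero]
        have e1 : evPt y a = evPt y b := by
          show evPt y (ev μ[H] f) = evPt y (ev (fst H H) f * ev (snd H H) f)
          rw [map_mul, evPt_comp y μ[H] f, evPt_comp y (fst H H) f, evPt_comp y (snd H H) f]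
          show evPt (y ≫ μ[H]) (ev ψ (mon k (1 : ℤ))) =
            evPt (y ≫ fst H H) (ev ψ (mon k (1 : ℤ))) * evPt (y ≫ snd H H) (ev ψ (mon k (1 : ℤ)))
          rw [hval, hval, hval, ← map_mul, Hom.mul_def, ← comp_lift_assoc,
            lift_fst_snd, Category.id_comp]
        rw [e1, ← map_mul, hb', map_one]
      have h2 : IsLocalRing.closedPoint k ∈ (Spec (CommRingCat.of k)).basicOpen (y.left.appTop (b' * a - 1)) :=
        (Scheme.preimage_basicOpen_top y.left (b' * a - 1)) ▸ hy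
      have h4 : y.left.appTop (b' * a - 1) = 0 := by
        apply (ConcreteCategory.bijective_of_isIso (Scheme.ΓSpecIso (CommRingCat.of k)).hom).1
        exact h0.trans (map_zero _).symm
      rw [h4, Scheme.basicOpen_zero] at h2
      exact h2
    · have ha : a ^ ℓ = 1 := by rw [← map_pow, hfℓ, map_one]
      have hbℓ : b ^ ℓ = 1 := by rw [mul_pow, ← map_pow (ev (fst H H)), ← map_pow (ev (snd H H)), hfℓ, map_one, map_one, _root_.one_mul]
      calc (b' * a) ^ ℓ = b' ^ ℓ * b ^ ℓ := by rw [mul_pow, ha, hbℓ]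
        _ = 1 := by rw [← mul_pow, hb', one_pow]
  induction n using Int.induction_on with
  | zero => simp [ev_zero]
  | succ n ih => rw [ev_add, map_mul, map_mul, map_mul, ih, h1]; ring
  | pred n ih =>
    have e : ev ψ (mon k (-(n : ℤ))) = ev ψ (mon k (-(n : ℤ) - 1)) * f := by rw [← ev_add, sub_add_cancel]
    rw [e, map_mul, map_mul, map_mul, h1] at ih
    refine (((isUnit_ev_mon ψ 1).map (ev (fst H H))).mul ((isUnit_ev_mon ψ 1).map (ev (snd H H)))).mul_right_cancel ?_
    rw [ih]; ring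

end Char

section Conn

variable {G : Over (Spec (CommRingCat.of k))} [GrpObj G] [LocallyOfFiniteType G.hom] [QuasiCompact G.hom]
  [IrreducibleSpace G.left] {Q : Over (Spec (CommRingCat.of k))} [GrpObj Q] [IsSeparated Q.hom]
  [LocallyOfFiniteType Q.hom]
  (q : G ⟶ Q) [IsMonHom q] {H : Over (Spec (CommRingCat.of k))} [GrpObj H] (h : H ⟶ G) [IsMonHom h]

/-- The kernel is connected when it carries no characters. -/
theorem connectedSpace (hk : AlgGrp.IsKernel h q) [Surjective q.left]
    (hcomm : ∀ a b : 𝟙_ (Over (Spec (CommRingCat.of k))) ⟶ Q, a * b = b * a)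
    (hdiv : ∀ n : ℕ, 0 < n → ∀ t : 𝟙_ (Over (Spec (CommRingCat.of k))) ⟶ Q, ∃ s, s ^ n = t)
    (htor : ∀ n : ℕ, 0 < n → (∀ ℓ : ℕ, ℓ.Prime → ℓ ∣ n → (ℓ : k) = 0) →
      ∀ t : 𝟙_ (Over (Spec (CommRingCat.of k))) ⟶ Q, t ^ n = 1 → t = 1)
    (hchar : ∀ ψ : H ⟶ D k ℤ, IsMonHom ψ → ψ = 1) : ConnectedSpace H.left := by
  classical
  haveI hmono : Mono h := ⟨fun a b hab => hk.hom_ext hab (toUnit_unique _ _)⟩
  haveI : IsClosedImmersion h.left := by
    haveI : IsClosedImmersion η[Q].left := by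
      haveI : IsClosedImmersion (η[Q].left ≫ Q.hom) := by
        rw [Over.w η[Q]]
        exact inferInstanceAs (IsClosedImmersion (𝟙 (Spec (CommRingCat.of k))))
      exact IsClosedImmersion.of_comp η[Q].left Q.hom
    exact MorphismProperty.of_isPullback (P := @IsClosedImmersion) ((IsPullback.map (Over.forget _) hk).flip) ‹_›
  haveI : LocallyOfFiniteType H.hom := by rw [← Over.w h]; infer_instance
  haveI : QuasiCompact H.hom := by rw [← Over.w h]; infer_instance
  haveI : IsLocallyNoetherian H.left := LocallyOfFiniteType.isLocallyNoetherian H.hom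
  haveI : IsLocallyNoetherian G.left := LocallyOfFiniteType.isLocallyNoetherian G.hom
  haveI := TwConstEtLib.locallyConnectedSpace H.left
  haveI : CompactSpace H.left := (quasiCompact_iff_compactSpace H.hom).mp inferInstance
  haveI : CompactSpace G.left := (quasiCompact_iff_compactSpace G.hom).mp inferInstance
  haveI : JacobsonSpace G.left := LocallyOfFiniteType.jacobsonSpace G.hom
  haveI : JacobsonSpace H.left := LocallyOfFiniteType.jacobsonSpace H.hom
  haveI : LocallyOfFiniteType q.left := by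
    haveI : LocallyOfFiniteType (q.left ≫ Q.hom) := by rw [Over.w q]; infer_instance
    exact locallyOfFiniteType_of_comp q.left Q.hom
  let P := 𝟙_ (Over (Spec (CommRingCat.of k))) ⟶ G
  let PH := 𝟙_ (Over (Spec (CommRingCat.of k))) ⟶ H
  let qP : P →* (𝟙_ (Over (Spec (CommRingCat.of k))) ⟶ Q) :=
    { toFun := fun x => x ≫ q
      map_one' := MonObj.one_comp q
      map_mul' := fun a b => MonObj.mul_comp a b q }
  let C : PH → Set H.left := fun m => connectedComponent (pt m)
  have hleft : ∀ (a m m' : PH), C m = C m' → C (a * m) = C (a * m') := by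
    intro a m m' e
    let L : H ⟶ H := (toUnit H ≫ a) * 𝟙 H
    have hL : ∀ x : PH, x ≫ L = a * x := fun x => by
      rw [MonObj.comp_mul, ← Category.assoc, toUnit_unique (x ≫ toUnit H) (𝟙 _), Category.id_comp, Category.comp_id]
    have hm : pt m ∈ connectedComponent (pt m') :=
      (show connectedComponent (pt m) = connectedComponent (pt m') from e) ▸ mem_connectedComponent
    have h1 : pt (m ≫ L) ∈ connectedComponent (pt (m' ≫ L)) :=
      L.left.continuous.image_connectedComponent_subset _ ⟨_, hm, rfl⟩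
    rw [hL, hL] at h1
    exact (connectedComponent_eq h1).symm
  let K : Subgroup PH :=
    { carrier := {m | C m = C 1}
      one_mem' := rfl
      mul_mem' := fun {a b} ha hb => by
        show C (a * b) = C 1
        rw [hleft a b 1 hb, _root_.mul_one]; exact ha
      inv_mem' := fun {a} ha => by
        show C a⁻¹ = C 1
        have := hleft a⁻¹ a 1 ha
        rw [inv_mul_cancel, _root_.mul_one] at this
        exact this.symm }
  let ι' : PH →* P :=
    { toFun := fun m => m ≫ h
      map_one' := MonObj.one_comp h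
      map_mul' := fun a b => MonObj.mul_comp a b h }
  have hι : Function.Injective ι' := fun a b e => (cancel_mono h).1 e
  have hιq : ∀ m, ι' m ≫ q = 1 := fun m => by
    show (m ≫ h) ≫ q = 1
    rw [Category.assoc, hk.w, ← Category.assoc, toUnit_unique (m ≫ toUnit _) (toUnit _)]
    exact Hom.one_def.symm
  have hlift : ∀ x : P, x ≫ q = 1 → ∃ m, ι' m = x := fun x hx =>
    ⟨hk.lift x (toUnit _) (by rw [hx]; exact Hom.one_def), hk.lift_fst _ _ _⟩
  -- conjugation preserves components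
  have hconj : ∀ (g : P) (m : PH), ∃ m', ι' m' = g * ι' m * g⁻¹ ∧ C m' = C m := by
    intro g m
    have hq' : (𝟙 G * (toUnit G ≫ m ≫ h) * (𝟙 G)⁻¹) ≫ q = 1 := by
      rw [MonObj.mul_comp, MonObj.mul_comp, GrpObj.inv_comp, Category.assoc, show (m ≫ h) ≫ q = 1 from hιq m,
        MonObj.comp_one, _root_.mul_one, mul_inv_cancel]
    let c : G ⟶ H := hk.lift _ (toUnit G) (hq'.trans Hom.one_def)
    have hc : c ≫ h = 𝟙 G * (toUnit G ≫ m ≫ h) * (𝟙 G)⁻¹ := hk.lift_fst _ _ _
    have hcx : ∀ x : P, ι' (x ≫ c) = x * ι' m * x⁻¹ := fun x => by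
      show (x ≫ c) ≫ h = _
      rw [Category.assoc, hc, MonObj.comp_mul, MonObj.comp_mul, GrpObj.comp_inv, Category.comp_id, ← Category.assoc,
        toUnit_unique (x ≫ toUnit G) (𝟙 _), Category.id_comp]
      rfl
    refine ⟨g ≫ c, hcx g, ?_⟩
    have h1 : (1 : P) ≫ c = m := hι (by rw [hcx]; simp)
    have hpc := isPreconnected_univ.image c.left c.left.continuous.continuousOn
    have h2 : pt (g ≫ c) ∈ connectedComponent (pt ((1 : P) ≫ c)) :=
      hpc.subset_connectedComponent ⟨_, trivial, rfl⟩ ⟨pt g, trivial, rfl⟩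
    rw [h1] at h2
    exact (connectedComponent_eq h2).symm
  haveI hKn : K.Normal := ⟨fun a ha b => by
    obtain ⟨m', hm', hC⟩ := hconj (ι' b) a
    have : m' = b * a * b⁻¹ := hι (by rw [hm', map_mul, map_mul, map_inv])
    show C (b * a * b⁻¹) = C 1
    rw [← this, hC]
    exact ha⟩
  let K' : Subgroup P := K.map ι'
  haveI hK'n : K'.Normal := ⟨fun a ha b => by
    obtain ⟨m, hm, rfl⟩ := Subgroup.mem_map.1 ha
    obtain ⟨m', hm', hC⟩ := hconj b m
    exact Subgroup.mem_map.2 ⟨m', hC.trans hm, hm'⟩⟩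
  have hcentral : ∀ (g : P) (m : PH), g * ι' m * g⁻¹ * (ι' m)⁻¹ ∈ K' := by
    intro g m
    obtain ⟨m', hm', hC⟩ := hconj g m
    refine Subgroup.mem_map.2 ⟨m' * m⁻¹, ?_, by rw [map_mul, map_inv, hm']⟩
    have h1 : m⁻¹ * m' ∈ K := by
      show C _ = C 1
      rw [hleft m⁻¹ m' m hC, inv_mul_cancel]
    exact hKn.mem_comm h1
  let Γ := PH ⧸ K
  haveI : Finite Γ := by
    refine Finite.of_injective (Quotient.lift (fun m : PH => ConnectedComponents.mk (pt m)) fun a b hab => ?_) ?_
    · rw [ConnectedComponents.coe_eq_coe]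
      have h1 : a⁻¹ * b ∈ K := QuotientGroup.leftRel_apply.1 hab
      have := hleft a (a⁻¹ * b) 1 h1
      rw [mul_inv_cancel_left, _root_.mul_one] at this
      exact this.symm
    · rintro ⟨a⟩ ⟨b⟩ e
      refine Quotient.sound (QuotientGroup.leftRel_apply.2 ?_)
      show C _ = C 1
      have e' : C b = C a := (ConnectedComponents.coe_eq_coe.1 e).symm
      rw [hleft a⁻¹ b a e', inv_mul_cancel]
  let E := P ⧸ K'
  let j : Γ →* E := QuotientGroup.map K K' ι' (fun m hm => Subgroup.mem_map.2 ⟨m, hm, rfl⟩)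
  have hj : Function.Injective j := by
    rw [injective_iff_map_eq_one]
    rintro ⟨m⟩ hm
    obtain ⟨m', hm', e⟩ := Subgroup.mem_map.1 ((QuotientGroup.eq_one_iff (N := K') (ι' m)).1 hm)
    exact (QuotientGroup.eq_one_iff (N := K) m).2 (hι e ▸ hm')
  have hjc : ∀ (cg : Γ) (e : E), e * j cg = j cg * e := by
    rintro ⟨m⟩ ⟨g⟩
    show (g : E) * (ι' m : E) = (ι' m : E) * (g : E)
    have h3 := (QuotientGroup.eq_one_iff (N := K') _).2 (hcentral g m)
    rw [QuotientGroup.mk_mul, QuotientGroup.mk_mul, QuotientGroup.mk_mul, QuotientGroup.mk_inv, QuotientGroup.mk_inv,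
      mul_inv_eq_one, mul_inv_eq_iff_eq_mul] at h3
    exact h3
  have hΓc : ∀ a b : Γ, a * b = b * a := fun a b => hj (by rw [map_mul, map_mul, hjc b (j a)])
  let π : E →* (𝟙_ (Over (Spec (CommRingCat.of k))) ⟶ Q) := QuotientGroup.lift K'
    { toFun := fun x => x ≫ q
      map_one' := MonObj.one_comp q
      map_mul' := fun a b => MonObj.mul_comp a b q } (fun x hx => by
        obtain ⟨m, -, rfl⟩ := Subgroup.mem_map.1 hx
        exact hιq m)
  have hπj : ∀ cg, π (j cg) = 1 := by rintro ⟨m⟩; exact hιq m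
  have hker : ∀ e, π e = 1 → ∃ cg, j cg = e := by
    rintro ⟨x⟩ hx
    obtain ⟨m, rfl⟩ := hlift x hx
    exact ⟨(m : Γ), rfl⟩
  have hπs : ∀ t, ∃ x : P, x ≫ q = t := fun t => by
    obtain ⟨w, hw⟩ := q.left.surjective (pt t)
    exact WordClosure.exists_lift_point q t (IsLocalRing.closedPoint k) w hw
  let n := Nat.card Γ
  have hn : 0 < n := Nat.card_pos
  have hEc : ∀ a b : E, a * b = b * a := by
    intro a b
    obtain ⟨z', hz'⟩ : ∃ z' : E, π z' ^ n = π a := by
      obtain ⟨s, hs⟩ := hdiv n hn (π a)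
      obtain ⟨z, hz⟩ := hπs s
      exact ⟨(z : E), by rw [show π (z : E) = s from hz, hs]⟩
    obtain ⟨cg, hcg⟩ := hker ((z' ^ n)⁻¹ * a) (by rw [map_mul, map_inv, map_pow, hz', inv_mul_cancel])
    obtain ⟨δ, hδ⟩ := hker (b * z' * b⁻¹ * z'⁻¹) (by
      rw [map_mul, map_mul, map_mul, map_inv, map_inv, hcomm (π b), mul_inv_cancel_right, mul_inv_cancel])
    have h1 : b * z' * b⁻¹ = j δ * z' := by rw [hδ, inv_mul_cancel_right]
    have h2 : b * z' ^ n * b⁻¹ = z' ^ n := by
      have : b * z' ^ n * b⁻¹ = (b * z' * b⁻¹) ^ n := (map_pow (MulAut.conj b) z' n)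
      rw [this, h1, (show Commute (j δ) z' from (hjc δ z').symm).mul_pow, ← map_pow, pow_card_eq_one', map_one,
        _root_.one_mul]
    have ha : a = z' ^ n * j cg := by rw [hcg, mul_inv_cancel_left]
    rw [ha]
    calc z' ^ n * j cg * b = z' ^ n * b * j cg := by rw [_root_.mul_assoc, ← hjc cg b, ← _root_.mul_assoc]
      _ = b * (z' ^ n) * j cg := by
        conv_lhs => rw [← h2]
        simp [_root_.mul_assoc]
      _ = b * (z' ^ n * j cg) := _root_.mul_assoc _ _ _
  have hprime : ∀ ℓ : ℕ, ℓ.Prime → ℓ ∣ n → (ℓ : k) = 0 := by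
    intro ℓ hℓ hdvd
    by_contra hne
    haveI : Fact ℓ.Prime := ⟨hℓ⟩
    letI : CommGroup Γ := { (inferInstance : Group Γ) with mul_comm := hΓc }
    let S : Subgroup Γ := (powMonoidHom ℓ : Γ →* Γ).range
    haveI : Nontrivial (Γ ⧸ S) := by
      rw [QuotientGroup.nontrivial_iff]
      intro htop
      obtain ⟨x, hx⟩ := exists_prime_orderOf_dvd_card' ℓ hdvd
      have hsurj : Function.Surjective (powMonoidHom ℓ : Γ →* Γ) := MonoidHom.range_eq_top.1 htop
      have hx1 : x = 1 := Finite.injective_iff_surjective.2 hsurj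
        (show x ^ ℓ = 1 ^ ℓ by rw [one_pow, ← hx, pow_orderOf_eq_one])
      rw [hx1, orderOf_one] at hx
      exact hℓ.ne_one hx.symm
    have hexp : Monoid.exponent (Γ ⧸ S) ∣ ℓ := Monoid.exponent_dvd_of_forall_pow_eq_one fun x => by
      induction x using QuotientGroup.induction_on with
      | H x =>
        rw [← QuotientGroup.mk_pow, QuotientGroup.eq_one_iff]
        exact ⟨x, rfl⟩
    haveI : NeZero (ℓ : k) := ⟨hne⟩
    haveI : HasEnoughRootsOfUnity k ℓ := inferInstance
    haveI : NeZero (Monoid.exponent (Γ ⧸ S)) := ⟨Monoid.exponent_ne_zero_of_finite⟩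
    haveI : HasEnoughRootsOfUnity k (Monoid.exponent (Γ ⧸ S)) := HasEnoughRootsOfUnity.of_dvd k hexp
    obtain ⟨x, hx⟩ := exists_ne (1 : Γ ⧸ S)
    obtain ⟨χ, hχ⟩ := CommGroup.exists_apply_ne_one_of_hasEnoughRootsOfUnity (Γ ⧸ S) k hx
    let χ' : PH →* k := (Units.coeHom k).comp (χ.comp ((QuotientGroup.mk' S).comp (QuotientGroup.mk' K)))
    have hχ'ℓ : ∀ m, χ' m ^ ℓ = 1 := fun m => by
      rw [← map_pow]
      have : (QuotientGroup.mk' S) ((QuotientGroup.mk' K) (m ^ ℓ)) = 1 := by
        rw [map_pow]; exact (QuotientGroup.eq_one_iff _).2 ⟨_, rfl⟩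
      show ((χ ((QuotientGroup.mk' S) ((QuotientGroup.mk' K) (m ^ ℓ))) : kˣ) : k) = 1
      rw [this, map_one, Units.val_one]
    have hχ'c : ∀ m m', C m = C m' → χ' m = χ' m' := fun m m' e => by
      have : (QuotientGroup.mk' K) m = (QuotientGroup.mk' K) m' := by
        rw [QuotientGroup.mk'_eq_mk']
        exact ⟨m⁻¹ * m', (show C _ = C 1 by rw [hleft m⁻¹ m' m e.symm, inv_mul_cancel]), mul_inv_cancel_left _ _⟩
      show ((χ ((QuotientGroup.mk' S) ((QuotientGroup.mk' K) m)) : kˣ) : k) = (χ ((QuotientGroup.mk' S) ((QuotientGroup.mk' K) m')) : kˣ)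
      rw [this]
    obtain ⟨ψ, hψ, hψv⟩ := exists_char (H := H) (isUnit_iff_ne_zero.2 hne) χ' hχ'ℓ hχ'c
    induction x using QuotientGroup.induction_on with
    | H x =>
      induction x using QuotientGroup.induction_on with
      | H m =>
        apply hχ
        refine Units.ext ?_
        show χ' m = 1
        rw [← hψv, hchar ψ hψ, ev_one_mon, map_one]
  -- n-th powers exhaust the group
  let U : H.left.Opens := ⟨connectedComponent (pt (1 : PH)), isOpen_connectedComponent⟩
  let H₀ : Over (Spec (CommRingCat.of k)) := Over.mk (U.ι ≫ H.hom)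
  let j₀ : H₀ ⟶ H := Over.homMk U.ι rfl
  let Φ : G ⊗ H₀ ⟶ G := (fst G H₀) ^ n * (snd G H₀ ≫ j₀ ≫ h)
  haveI : LocallyOfFiniteType H₀.hom := inferInstanceAs (LocallyOfFiniteType (U.ι ≫ H.hom))
  haveI : LocallyOfFiniteType (G ⊗ H₀).hom :=
    inferInstanceAs (LocallyOfFiniteType (Limits.pullback.fst G.hom H₀.hom ≫ G.hom))
  haveI : QuasiCompact H₀.hom := by
    haveI : CompactSpace ↥(U : Scheme.{u}) :=
      isCompact_iff_compactSpace.1 isClosed_connectedComponent.isCompact
    exact (quasiCompact_iff_compactSpace _).2 (inferInstanceAs (CompactSpace ↥(U : Scheme.{u})))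
  haveI : QuasiCompact (G ⊗ H₀).hom :=
    inferInstanceAs (QuasiCompact (Limits.pullback.fst G.hom H₀.hom ≫ G.hom))
  haveI : LocallyOfFiniteType Φ.left := by
    haveI : LocallyOfFiniteType (Φ.left ≫ G.hom) := by rw [Over.w Φ]; infer_instance
    exact locallyOfFiniteType_of_comp Φ.left G.hom
  haveI : CompactSpace (G ⊗ H₀).left := (quasiCompact_iff_compactSpace (G ⊗ H₀).hom).mp inferInstance
  haveI : QuasiCompact Φ.left := inferInstance
  let S := Set.range Φ.left
  have hS : Topology.IsConstructible S := by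
    have := Φ.left.isConstructible_image (s := Set.univ) Topology.IsConstructible.univ
    rwa [Set.image_univ] at this
  have hΦpt : ∀ (a : P) (m : 𝟙_ (Over (Spec (CommRingCat.of k))) ⟶ H₀), lift a m ≫ Φ = a ^ n * ι' (m ≫ j₀) := by
    intro a m
    show lift a m ≫ ((fst G H₀) ^ n * (snd G H₀ ≫ j₀ ≫ h)) = _
    rw [MonObj.comp_mul, lift_snd_assoc, ← Category.assoc]
    congr 1
    induction n with
    | zero => simp
    | succ i ih => rw [pow_succ, pow_succ, MonObj.comp_mul, ih, lift_fst]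
  have hSmem : ∀ (a : P) (m : PH), C m = C 1 → pt (a ^ n * ι' m) ∈ S := by
    intro a m hm
    have hr : Set.range m.left ⊆ Set.range U.ι := by
      rintro _ ⟨y, rfl⟩
      haveI : Subsingleton ↥(𝟙_ (Over (Spec (CommRingCat.of k)))).left :=
        inferInstanceAs (Subsingleton ↥(Spec (CommRingCat.of k)))
      rw [Subsingleton.elim y (IsLocalRing.closedPoint k), Scheme.Opens.range_ι]
      show pt m ∈ connectedComponent (pt (1 : PH))
      rw [← show C m = connectedComponent (pt (1 : PH)) from hm]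
      exact mem_connectedComponent
    let m₀ : 𝟙_ (Over (Spec (CommRingCat.of k))) ⟶ H₀ := Over.homMk (IsOpenImmersion.lift U.ι m.left hr) (by
      show IsOpenImmersion.lift U.ι m.left hr ≫ U.ι ≫ H.hom = _
      rw [IsOpenImmersion.lift_fac_assoc]; exact Over.w m)
    have hm₀ : m₀ ≫ j₀ = m := Over.OverMorphism.ext (IsOpenImmersion.lift_fac _ _ hr)
    rw [← hm₀, ← hΦpt, pt_comp]
    exact ⟨_, rfl⟩
  have hpreS : ∀ x : P, pt x ∈ S → ∃ e : E, (x : E) = e ^ n := by
    rintro x ⟨w, hw⟩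
    obtain ⟨s, hs⟩ := WordClosure.exists_lift_point Φ x (IsLocalRing.closedPoint k) w hw
    have hs' : x = (s ≫ fst G H₀) ^ n * ι' ((s ≫ snd G H₀) ≫ j₀) := by
      rw [← hΦpt, ← comp_lift, lift_fst_snd, Category.comp_id, hs]
    refine ⟨((s ≫ fst G H₀ : P) : E), ?_⟩
    have hK : ι' ((s ≫ snd G H₀) ≫ j₀) ∈ K' := by
      refine Subgroup.mem_map.2 ⟨_, ?_, rfl⟩
      show connectedComponent (pt ((s ≫ snd G H₀) ≫ j₀)) = connectedComponent (pt (1 : PH))
      refine (connectedComponent_eq ?_).symm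
      have : pt ((s ≫ snd G H₀) ≫ j₀) ∈ Set.range U.ι := ⟨pt (s ≫ snd G H₀), rfl⟩
      rw [Scheme.Opens.range_ι] at this
      exact this
    rw [hs', QuotientGroup.mk_mul, QuotientGroup.mk_pow, (QuotientGroup.eq_one_iff _).2 hK, _root_.mul_one]
  let R : Γ → (G ⟶ G) := fun cg => 𝟙 G * (toUnit G ≫ ι' cg.out)⁻¹
  have hR : ∀ cg (x : P), x ≫ R cg = x * (ι' cg.out)⁻¹ := fun cg x => by
    rw [MonObj.comp_mul, GrpObj.comp_inv, Category.comp_id, ← Category.assoc, toUnit_unique (x ≫ toUnit G) (𝟙 _),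
      Category.id_comp]
  have hdense : closure S = Set.univ := by
    have hcov : closedPoints G.left ⊆ ⋃ cg, (R cg).left ⁻¹' closure S := by
      intro y hy
      obtain ⟨x, rfl⟩ := exists_pt hy
      obtain ⟨s, hs⟩ := hdiv n hn (x ≫ q)
      obtain ⟨z, hz⟩ := hπs s
      have hzn : (z ^ n) ≫ q = x ≫ q := by
        rw [← hs, ← hz]
        exact map_pow qP z n
      obtain ⟨m, hm⟩ := hlift ((z ^ n)⁻¹ * x) (by rw [MonObj.mul_comp, GrpObj.inv_comp, hzn, inv_mul_cancel])
      refine Set.mem_iUnion.2 ⟨(m : Γ), subset_closure ?_⟩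
      show (R (m : Γ)).left (pt x) ∈ S
      rw [← pt_comp, hR, show x = z ^ n * ι' m by rw [hm, mul_inv_cancel_left], _root_.mul_assoc, ← map_inv,
        ← map_mul]
      refine hSmem z _ ?_
      have hout : (((m : Γ).out : PH) : Γ) = (m : Γ) := QuotientGroup.out_eq' _
      exact hKn.mem_comm (QuotientGroup.eq.1 hout)
    have huniv : Set.univ ⊆ ⋃ cg, (R cg).left ⁻¹' closure S := by
      rw [← closure_closedPoints (X := G.left)]
      exact closure_minimal hcov (isClosed_iUnion_of_finite fun cg => isClosed_closure.preimage (R cg).left.continuous)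
    obtain ⟨cg, hcg⟩ : ∃ cg, Set.univ ⊆ (R cg).left ⁻¹' closure S := by
      haveI : Fintype Γ := Fintype.ofFinite _
      have hir := isIrreducible_iff_sUnion_isClosed.1 (IrreducibleSpace.isIrreducible_univ G.left)
        (Finset.univ.image fun cg => (R cg).left ⁻¹' closure S)
        (fun Z hZ => by
          obtain ⟨cg, -, rfl⟩ := Finset.mem_image.1 hZ
          exact isClosed_closure.preimage (R cg).left.continuous)
        (fun y hy => by
          obtain ⟨cg, hcg⟩ := Set.mem_iUnion.1 (huniv hy)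
          exact ⟨_, Finset.mem_coe.2 (Finset.mem_image.2 ⟨cg, Finset.mem_univ _, rfl⟩), hcg⟩)
      obtain ⟨Z, hZ, hle⟩ := hir
      obtain ⟨cg, -, rfl⟩ := Finset.mem_image.1 hZ
      exact ⟨cg, hle⟩
    refine Set.eq_univ_of_forall fun y => ?_
    have hinv : (𝟙 G * (toUnit G ≫ ι' cg.out)) ≫ R cg = 𝟙 G := by
      rw [MonObj.comp_mul, GrpObj.comp_inv, Category.comp_id, ← Category.assoc, toUnit_unique (_ ≫ toUnit G) (toUnit G),
        mul_inv_cancel_right]
    have h1 := hcg (Set.mem_univ ((𝟙 G * (toUnit G ≫ ι' cg.out)).left y))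
    have h2 : (R cg).left ((𝟙 G * (toUnit G ≫ ι' cg.out)).left y) = y :=
      congrArg (fun φ : G ⟶ G => φ.left y) hinv
    exact h2 ▸ h1
  obtain ⟨V, hV, hVne, hVS⟩ := SpecLib.exists_open_of_isConstructible hS (IrreducibleSpace.isIrreducible_univ G.left)
    (by rw [Set.inter_univ, hdense])
  rw [Set.inter_univ] at hVne hVS
  have hpow : ∀ e : E, ∃ b : E, e = b ^ n := by
    rintro ⟨g⟩
    let σ : G ⟶ G := (𝟙 G)⁻¹ * (toUnit G ≫ g)
    have hσ : ∀ x : P, x ≫ σ = x⁻¹ * g := fun x => by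
      rw [MonObj.comp_mul, GrpObj.comp_inv, Category.comp_id, ← Category.assoc, toUnit_unique (x ≫ toUnit G) (𝟙 _),
        Category.id_comp]
    have hne : (σ.left ⁻¹' V).Nonempty := by
      obtain ⟨s, hs⟩ := exists_nonempty_inter_pt hV hVne
      refine ⟨pt (g * s⁻¹), ?_⟩
      show σ.left (pt (g * s⁻¹)) ∈ V
      rwa [← pt_comp, hσ, _root_.mul_inv_rev, _root_.inv_inv, inv_mul_cancel_right]
    obtain ⟨v, hv1, hv2⟩ := exists_nonempty_inter_pt (hV.inter (hV.preimage σ.left.continuous))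
      (nonempty_preirreducible_inter hV (hV.preimage σ.left.continuous) hVne hne)
    obtain ⟨a, ha⟩ := hpreS v (hVS hv1)
    obtain ⟨b, hb⟩ := hpreS (v⁻¹ * g) (hVS (by rw [← hσ, pt_comp]; exact hv2))
    refine ⟨a * b, ?_⟩
    rw [(show Commute a b from hEc a b).mul_pow, ← ha, ← hb, ← QuotientGroup.mk_mul, mul_inv_cancel_left]
    rfl
  have htriv : ∀ cg : Γ, cg = 1 := fun cg => by
    obtain ⟨b, hb⟩ := hpow (j cg)
    have h1 : π b ^ n = 1 := by rw [← map_pow, ← hb, hπj]
    obtain ⟨δ, rfl⟩ := hker b (htor n hn hprime _ h1)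
    refine hj ?_
    rw [map_one, hb, ← map_pow, pow_card_eq_one', map_one]
  refine connectedSpace_iff_connectedComponent.2 ⟨pt (1 : PH), Set.eq_univ_of_forall fun y => ?_⟩
  obtain ⟨m, hm⟩ := exists_nonempty_inter_pt (isOpen_connectedComponent (x := y)) ⟨y, mem_connectedComponent⟩
  have hm1 : C m = C 1 := (QuotientGroup.eq_one_iff (N := K) m).1 (htriv (m : Γ))
  rw [show connectedComponent (pt (1 : PH)) = C m from hm1.symm]
  rw [show C m = connectedComponent y from (connectedComponent_eq hm).symm]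
  exact mem_connectedComponent

end Conn

end Groth.Agent.GrpSchLib.ConnKernel
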