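import Groth.Agent.DiagDefLib.Rigid
import Groth.Agent.DSPtsLib.Basic
import Groth.Prelude.Def_AlgGrp
import Mathlib.RingTheory.Localization.Away.Basic
import Mathlib.AlgebraicGeometry.Morphisms.ClosedImmersion

/-!
# Actions of diagonalisable groups which are trivial modulo a nilpotent ideal

If a point `g` of a diagonalisable group moves a point `x` inside an affine open, the difference of the two maps on
functions is additive in `g` once the action is trivial modulo an ideal of square zero, hence it vanishes, the group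
algebra having no non-zero primitive element.
-/

universe u

open CategoryTheory CategoryTheory.Limits MonoidalCategory CartesianMonoidalCategory MonObj AlgebraicGeometry

set_option backward.isDefEq.respectTransparency false

namespace Groth.Agent.GrpSchLib.DiagActionRigid

open DSPtsLib (CoordM)

variable {S : Scheme.{u}} {R : Type u} [CommRing R] (β : Spec (CommRingCat.of R) ⟶ S)

/-- An algebra over the test ring, as a scheme over the base. -/
noncomputable abbrev sp (A : Type u) [CommRing A] [Algebra R A] : Over S :=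
  Over.mk (Spec.map (CommRingCat.ofHom (algebraMap R A)) ≫ β)

/-- An algebra map over the test ring, as a morphism over the base. -/
noncomputable def spm {A A' : Type u} [CommRing A] [Algebra R A] [CommRing A'] [Algebra R A'] (φ : A →ₐ[R] A') :
    sp β A' ⟶ sp β A :=
  Over.homMk (Spec.map (CommRingCat.ofHom φ.toRingHom)) (by
    show _ ≫ Spec.map (CommRingCat.ofHom (algebraMap R A)) ≫ β = Spec.map (CommRingCat.ofHom (algebraMap R A')) ≫ β
    rw [← Spec.map_comp_assoc, ← CommRingCat.ofHom_comp]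
    congr 3
    exact φ.comp_algebraMap)

theorem spm_left {A A' : Type u} [CommRing A] [Algebra R A] [CommRing A'] [Algebra R A'] (φ : A →ₐ[R] A') :
    (spm β φ).left = Spec.map (CommRingCat.ofHom φ.toRingHom) := rfl

variable {β} {G X : Over S} [GrpObj G] (a : AlgGrp.Action G X) {M : Type} [AddCommGroup M]

theorem act_mul {T : Over S} (g g' : T ⟶ G) (x : T ⟶ X) :
    lift (g * g') x ≫ a.act = lift g (lift g' x ≫ a.act) ≫ a.act := by
  have h1 : lift (lift g g') x ≫ (μ[G] ▷ X) ≫ a.act = lift (lift g g') x ≫ (α_ G G X).hom ≫ (G ◁ a.act) ≫ a.act := by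
    rw [a.mul_act]
  rw [← Category.assoc, lift_whiskerRight, ← Hom.mul_def, ← Category.assoc, ← Category.assoc] at h1
  rw [h1, lift_lift_associator_hom, lift_whiskerLeft]

theorem exists_ev {W : X.left.Opens} (hW : IsAffineOpen W) {A : Type u} [CommRing A] [Algebra R A]
    (p : sp β A ⟶ X) (hp : ∀ s, p.left s ∈ W) :
    ∃ φ : Γ(X.left, W) ⟶ CommRingCat.of A, Spec.map φ ≫ hW.fromSpec = p.left := by
  have h : Set.range p.left ⊆ Set.range hW.fromSpec := by
    rintro _ ⟨s, rfl⟩
    rw [hW.range_fromSpec]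
    exact hp s
  exact ⟨Spec.preimage (IsOpenImmersion.lift hW.fromSpec p.left h),
    by rw [Spec.map_preimage, IsOpenImmersion.lift_fac]⟩

/-- The pairs which agree modulo an ideal of the test ring. -/
def Pair (L : Ideal R) (A : Type u) [CommRing A] [Algebra R A] : Subalgebra R (A × A) where
  carrier := {p | p.1 - p.2 ∈ L.map (algebraMap R A)}
  mul_mem' := fun {p q} hp hq => by
    have : (p * q).1 - (p * q).2 = p.1 * (q.1 - q.2) + q.2 * (p.1 - p.2) := by
      simp only [Prod.fst_mul, Prod.snd_mul]; ring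
    show _ ∈ L.map (algebraMap R A)
    rw [this]
    exact add_mem (Ideal.mul_mem_left _ _ hq) (Ideal.mul_mem_left _ _ hp)
  add_mem' := fun {p q} hp hq => by
    show _ ∈ L.map (algebraMap R A)
    rw [Prod.fst_add, Prod.snd_add, add_sub_add_comm]
    exact add_mem hp hq
  algebraMap_mem' := fun r => by
    show _ ∈ L.map (algebraMap R A)
    simp

/-- The first branch of a pair. -/
def pairFst (L : Ideal R) (A : Type u) [CommRing A] [Algebra R A] : Pair L A →ₐ[R] A :=
  (AlgHom.fst R A A).comp (Pair L A).val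

/-- The second branch of a pair. -/
def pairSnd (L : Ideal R) (A : Type u) [CommRing A] [Algebra R A] : Pair L A →ₐ[R] A :=
  (AlgHom.snd R A A).comp (Pair L A).val

/-- The constant pairs. -/
def pairDiag (L : Ideal R) (A : Type u) [CommRing A] [Algebra R A] : A →ₐ[R] Pair L A :=
  ((AlgHom.id R A).prod (AlgHom.id R A)).codRestrict (Pair L A) fun a => by
    show a - a ∈ L.map (algebraMap R A)
    simp

/-- Reduction modulo an ideal of the test ring. -/
noncomputable def redMap (L : Ideal R) (A : Type u) [CommRing A] [Algebra R A] :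
    sp β (A ⧸ L.map (algebraMap R A)) ⟶ sp β A :=
  spm β (A' := A ⧸ L.map (algebraMap R A)) (Ideal.Quotient.mkₐ R (L.map (algebraMap R A)))

theorem diag_of_mem {L : Ideal R} {A : Type u} [CommRing A] [Algebra R A]
    (hL : ∀ l ∈ L, ∀ l' ∈ L, algebraMap R A (l * l') = 0) {z : Pair L A}
    (hz : z ∈ L.map (algebraMap R (Pair L A))) : z.1.1 = z.1.2 := by
  have hJ : ∀ y ∈ L.map (algebraMap R A), ∀ l ∈ L, y * algebraMap R A l = 0 := by
    intro y hy l hl
    refine Submodule.span_induction ?_ ?_ ?_ ?_ hy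
    · rintro _ ⟨l', hl', rfl⟩; rw [← map_mul]; exact hL l' hl' l hl
    · exact zero_mul _
    · intro _ _ _ _ h1 h2; rw [add_mul, h1, h2, add_zero]
    · intro c y _ h; rw [smul_eq_mul, _root_.mul_assoc, h, mul_zero]
  suffices h : z.1.1 = z.1.2 ∧ z.1.1 ∈ L.map (algebraMap R A) from h.1
  refine Submodule.span_induction (p := fun z _ => z.1.1 = z.1.2 ∧ z.1.1 ∈ L.map (algebraMap R A)) ?_ ?_ ?_ ?_ hz
  · rintro _ ⟨l, hl, rfl⟩; exact ⟨rfl, Ideal.mem_map_of_mem _ hl⟩
  · exact ⟨rfl, zero_mem _⟩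
  · rintro p q _ _ ⟨h1, h1'⟩ ⟨h2, h2'⟩
    exact ⟨by show p.1.1 + q.1.1 = p.1.2 + q.1.2; rw [h1, h2], add_mem h1' h2'⟩
  · rintro c p hp ⟨h, h'⟩
    refine ⟨?_, Ideal.mul_mem_left _ _ h'⟩
    show c.1.1 * p.1.1 = c.1.2 * p.1.2
    rw [← h]
    have hc : c.1.1 - c.1.2 ∈ L.map (algebraMap R A) := c.2
    have : (c.1.1 - c.1.2) * p.1.1 = 0 := by
      refine Submodule.span_induction (p := fun y _ => (c.1.1 - c.1.2) * y = 0) ?_ ?_ ?_ ?_ h'
      · rintro _ ⟨l', hl', rfl⟩; exact hJ _ hc l' hl'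
      · exact mul_zero _
      · intro _ _ _ _ h1 h2; rw [mul_add, h1, h2, add_zero]
      · intro d y _ hy; rw [smul_eq_mul, mul_left_comm, hy, mul_zero]
    rw [sub_mul, sub_eq_zero] at this
    exact this

theorem hover {L : Ideal R} {A : Type u} [CommRing A] [Algebra R A] {W : X.left.Opens} (hW : IsAffineOpen W)
    {V : S.Opens} (hV : IsAffineOpen V) (hWV : W ≤ X.hom ⁻¹ᵁ V) (hβ : ∀ r, β r ∈ V)
    (x y : sp β A ⟶ X) (ex ey : Γ(X.left, W) ⟶ CommRingCat.of A)
    (hex : Spec.map ex ≫ hW.fromSpec = x.left) (hey : Spec.map ey ≫ hW.fromSpec = y.left)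
    (hxy : ∀ f, ex.hom f - ey.hom f ∈ L.map (algebraMap R A)) :
    (Spec.map (CommRingCat.ofHom ((ex.hom.prod ey.hom).codRestrict (Pair L A) hxy)) ≫ hW.fromSpec) ≫ X.hom =
      (sp β (Pair L A)).hom := by
  have hb : Set.range β ⊆ Set.range hV.fromSpec := by
    rintro _ ⟨r, rfl⟩
    rw [hV.range_fromSpec]
    exact hβ r
  let τ := Spec.preimage (IsOpenImmersion.lift hV.fromSpec β hb)
  have hτ : Spec.map τ ≫ hV.fromSpec = β := by rw [Spec.map_preimage, IsOpenImmersion.lift_fac]
  let σ := X.hom.appLE V W hWV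
  have hσ : Spec.map σ ≫ hV.fromSpec = hW.fromSpec ≫ X.hom := IsAffineOpen.SpecMap_appLE_fromSpec X.hom hV hW hWV
  have h1 : σ ≫ ex = τ ≫ CommRingCat.ofHom (algebraMap R A) := by
    apply Spec.map_injective
    rw [← cancel_mono hV.fromSpec, Spec.map_comp, Category.assoc, hσ, reassoc_of% hex, Over.w x, Spec.map_comp,
      Category.assoc, hτ]
    rfl
  have h2 : σ ≫ ey = τ ≫ CommRingCat.ofHom (algebraMap R A) := by
    apply Spec.map_injective
    rw [← cancel_mono hV.fromSpec, Spec.map_comp, Category.assoc, hσ, reassoc_of% hey, Over.w y, Spec.map_comp,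
      Category.assoc, hτ]
    rfl
  show _ = Spec.map _ ≫ β
  rw [Category.assoc, ← hσ, ← hτ, ← Category.assoc, ← Category.assoc, ← Spec.map_comp, ← Spec.map_comp]
  congr 2
  refine CommRingCat.hom_ext (RingHom.ext fun v => Subtype.ext (Prod.ext ?_ ?_))
  · exact RingHom.congr_fun (congrArg CommRingCat.Hom.hom h1) v
  · exact RingHom.congr_fun (congrArg CommRingCat.Hom.hom h2) v

theorem surjective_of_nil {L : Ideal R} {A : Type u} [CommRing A] [Algebra R A]
    (hL : ∀ l ∈ L, ∀ l' ∈ L, algebraMap R A (l * l') = 0) :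
    Function.Surjective (spm β (A := Pair L A) (A' := Pair L A ⧸ L.map (algebraMap R (Pair L A))) (Ideal.Quotient.mkₐ R (L.map (algebraMap R (Pair L A))))).left := by
  let I := L.map (algebraMap R (Pair L A))
  have hI : I * I = ⊥ := by
    rw [← Ideal.map_mul, eq_bot_iff, Ideal.map_le_iff_le_comap]
    refine Ideal.mul_le.mpr fun l hl l' hl' => ?_
    simp only [Ideal.mem_comap, Ideal.mem_bot]
    exact Subtype.ext (Prod.ext (hL l hl l' hl') (hL l hl l' hl'))
  intro p
  refine ⟨⟨p.asIdeal.map (Ideal.Quotient.mk I), ?_⟩, PrimeSpectrum.ext ?_⟩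
  all_goals
    have hIp : I ≤ p.asIdeal := fun z hz => p.isPrime.mem_of_pow_mem 2 (by
      have : z ^ 2 ∈ I * I := by rw [sq]; exact Ideal.mul_mem_mul hz hz
      rw [hI, Ideal.mem_bot] at this
      rw [this]; exact zero_mem _)
  · exact Ideal.map_isPrime_of_surjective Ideal.Quotient.mk_surjective (by rwa [Ideal.mk_ker])
  · show Ideal.comap (Ideal.Quotient.mk I) (Ideal.map (Ideal.Quotient.mk I) p.asIdeal) = p.asIdeal
    rw [Ideal.comap_map_of_surjective _ Ideal.Quotient.mk_surjective, ← RingHom.ker_eq_comap_bot, Ideal.mk_ker]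
    exact sup_eq_left.mpr hIp

section

variable {L : Ideal R} {A : Type u} [CommRing A] [Algebra R A] (hL : ∀ l ∈ L, ∀ l' ∈ L, algebraMap R A (l * l') = 0)
  {W : X.left.Opens} (hW : IsAffineOpen W) {V : S.Opens} (hV : IsAffineOpen V) (hWV : W ≤ X.hom ⁻¹ᵁ V)
  (hβ : ∀ r, β r ∈ V)
include hL hV hWV hβ

/-- If the action of `g` is trivial modulo `L`, it moves two congruent points by the same amount. -/
theorem pair_lemma (g : sp β A ⟶ G) (x y : sp β A ⟶ X) (hxW : ∀ s, x.left s ∈ W)
    (ex ey egx egy : Γ(X.left, W) ⟶ CommRingCat.of A)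
    (hex : Spec.map ex ≫ hW.fromSpec = x.left) (hey : Spec.map ey ≫ hW.fromSpec = y.left)
    (hegx : Spec.map egx ≫ hW.fromSpec = (lift g x ≫ a.act).left)
    (hegy : Spec.map egy ≫ hW.fromSpec = (lift g y ≫ a.act).left)
    (hxy : ∀ f, ex.hom f - ey.hom f ∈ L.map (algebraMap R A))
    (hP : ∀ (z : sp β (Pair L A) ⟶ X), spm β (A := Pair L A) (pairFst L A) ≫ z = x → (∀ s, z.left s ∈ W) →
      redMap L (Pair L A) ≫
        lift (spm β (A' := Pair L A) (pairDiag L A) ≫ g) z ≫ a.act =
      redMap L (Pair L A) ≫ z)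
    (f : Γ(X.left, W)) : egx.hom f - ex.hom f = egy.hom f - ey.hom f := by
  let P := Pair L A
  let p1 : P →ₐ[R] A := pairFst L A
  let p2 : P →ₐ[R] A := pairSnd L A
  let dg : A →ₐ[R] P := pairDiag L A
  let ζ : Γ(X.left, W) →+* P := (ex.hom.prod ey.hom).codRestrict P hxy
  let z₀ : Spec (CommRingCat.of P) ⟶ X.left := Spec.map (CommRingCat.ofHom ζ) ≫ hW.fromSpec
  have hz₁ : Spec.map (CommRingCat.ofHom p1.toRingHom) ≫ z₀ = x.left := by
    rw [← hex]; simp only [z₀, ← Spec.map_comp_assoc]; rfl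
  have hz₂ : Spec.map (CommRingCat.ofHom p2.toRingHom) ≫ z₀ = y.left := by
    rw [← hey]; simp only [z₀, ← Spec.map_comp_assoc]; rfl
  have hz : z₀ ≫ X.hom = (sp β P).hom := by
    exact hover hW hV hWV hβ x y ex ey hex hey hxy
  let z : sp β P ⟶ X := Over.homMk z₀ hz
  let w : sp β P ⟶ X := lift (spm β (A' := P) dg ≫ g) z ≫ a.act
  let B := (P : Type u) ⧸ L.map (algebraMap R P)
  let π : P →ₐ[R] B := Ideal.Quotient.mkₐ R _
  have hB : ∀ l ∈ L, algebraMap R B l = 0 := fun l hl =>
    Ideal.Quotient.eq_zero_iff_mem.mpr (Ideal.mem_map_of_mem _ hl)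
  have hzW : ∀ s, z.left s ∈ W := fun s => by
    show hW.fromSpec ((Spec.map (CommRingCat.ofHom ζ)) s) ∈ W
    rw [← SetLike.mem_coe, ← hW.range_fromSpec]
    exact ⟨_, rfl⟩
  have hwz : spm β (A := P) (A' := B) π ≫ w = spm β (A := P) (A' := B) π ≫ z :=
    hP z (Over.OverMorphism.ext hz₁) hzW
  have hsurj : Function.Surjective (spm β (A := P) (A' := B) π).left := surjective_of_nil hL
  have hwW : ∀ s, w.left s ∈ W := fun s => by
    obtain ⟨t, rfl⟩ := hsurj s
    rw [← Scheme.Hom.comp_apply, ← Over.comp_left, hwz, Over.comp_left, Scheme.Hom.comp_apply]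
    exact hzW _
  obtain ⟨ω, hω⟩ := exists_ev hW w hwW
  have h0 : π.toRingHom.comp ω.hom = π.toRingHom.comp ζ := by
    have h1 := congrArg (fun m => CommaMorphism.left m) hwz
    simp only [Over.comp_left, spm_left, ← hω, z, Over.homMk_left, z₀, ← Spec.map_comp_assoc, cancel_mono] at h1
    exact congrArg CommRingCat.Hom.hom (Spec.map_injective h1)
  have hmem : ω.hom f - ζ f ∈ L.map (algebraMap R P) := by
    rw [← Ideal.Quotient.eq]
    exact RingHom.congr_fun h0 f
  have hproj : ∀ (p : P →ₐ[R] A) (v : sp β A ⟶ X) (ev : Γ(X.left, W) ⟶ CommRingCat.of A),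
      p.comp dg = AlgHom.id R A → spm β p ≫ z = v → Spec.map ev ≫ hW.fromSpec = (lift g v ≫ a.act).left →
      ∀ f, p (ω.hom f) = ev.hom f := by
    intro p v ev hpd hpz hev f
    have h1 : spm β p ≫ w = lift g v ≫ a.act := by
      show spm β p ≫ lift (spm β (A' := P) dg ≫ g) z ≫ a.act = _
      rw [← Category.assoc, comp_lift, hpz, ← Category.assoc]
      congr 2
      have hcomp : spm β p ≫ spm β (A' := P) dg = 𝟙 _ := by
        refine Over.OverMorphism.ext ?_
        rw [Over.comp_left, spm_left, spm_left, ← Spec.map_comp, ← CommRingCat.ofHom_comp,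
          show p.toRingHom.comp dg.toRingHom = RingHom.id A from congrArg AlgHom.toRingHom hpd]
        exact Spec.map_id _
      rw [hcomp, Category.id_comp]
    have h2 : Spec.map (CommRingCat.ofHom p.toRingHom) ≫ w.left = (lift g v ≫ a.act).left := congrArg (fun m => Over.Hom.left m) h1
    rw [← hω, ← hev, ← Spec.map_comp_assoc, cancel_mono] at h2
    exact RingHom.congr_fun (congrArg CommRingCat.Hom.hom (Spec.map_injective h2)) f
  have e1 := hproj p1 x egx (AlgHom.ext fun _ => rfl) (Over.OverMorphism.ext hz₁) hegx f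
  have e2 := hproj p2 y egy (AlgHom.ext fun _ => rfl) (Over.OverMorphism.ext hz₂) hegy f
  have := diag_of_mem hL hmem
  rw [← e1, ← e2]
  exact this

end

theorem surjective_spm_mk {L : Ideal R} {A : Type u} [CommRing A] [Algebra R A]
    (hL : ∀ l ∈ L, ∀ l' ∈ L, algebraMap R A (l * l') = 0) :
    Function.Surjective (spm β (A' := A ⧸ L.map (algebraMap R A)) (Ideal.Quotient.mkₐ R (L.map (algebraMap R A)))).left := by
  let I := L.map (algebraMap R A)
  have hI : I * I = ⊥ := by
    rw [← Ideal.map_mul, eq_bot_iff, Ideal.map_le_iff_le_comap]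
    exact Ideal.mul_le.mpr fun l hl l' hl' => hL l hl l' hl'
  intro p
  refine ⟨⟨p.asIdeal.map (Ideal.Quotient.mk I), ?_⟩, PrimeSpectrum.ext ?_⟩
  all_goals
    have hIp : I ≤ p.asIdeal := fun z hz => p.isPrime.mem_of_pow_mem 2 (by
      have : z ^ 2 ∈ I * I := by rw [sq]; exact Ideal.mul_mem_mul hz hz
      rw [hI, Ideal.mem_bot] at this
      rw [this]; exact zero_mem _)
  · exact Ideal.map_isPrime_of_surjective Ideal.Quotient.mk_surjective (by rwa [Ideal.mk_ker])
  · show Ideal.comap (Ideal.Quotient.mk I) (Ideal.map (Ideal.Quotient.mk I) p.asIdeal) = p.asIdeal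
    rw [Ideal.comap_map_of_surjective _ Ideal.Quotient.mk_surjective, ← RingHom.ker_eq_comap_bot, Ideal.mk_ker]
    exact sup_eq_left.mpr hIp

theorem spm_comp {A A' A'' : Type u} [CommRing A] [Algebra R A] [CommRing A'] [Algebra R A'] [CommRing A'']
    [Algebra R A''] (φ : A →ₐ[R] A') (ψ : A' →ₐ[R] A'') : spm β ψ ≫ spm β φ = spm β (ψ.comp φ) := by
  refine Over.OverMorphism.ext ?_
  rw [Over.comp_left, spm_left, spm_left, spm_left, ← Spec.map_comp]
  rfl

theorem spm_id (A : Type u) [CommRing A] [Algebra R A] : spm β (AlgHom.id R A) = 𝟙 (sp β A) :=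
  Over.OverMorphism.ext (Spec.map_id _)

theorem surjective_redMap {L : Ideal R} {A : Type u} [CommRing A] [Algebra R A]
    (hL : ∀ l ∈ L, ∀ l' ∈ L, algebraMap R A (l * l') = 0) : Function.Surjective (redMap (β := β) L A).left :=
  surjective_spm_mk hL

/-- The universal character with values in a group algebra, moved along a map of indexing groups. -/
noncomputable def univPt (B : Type u) [CommRing B] {N : Type} [AddCommGroup N] (r : M →+ N) :
    CoordM.{u} M →+* MonoidAlgebra B (Multiplicative N) :=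
  (MonoidAlgebra.mapDomainRingHom B (AddMonoidHom.toMultiplicative r)).comp
    (MonoidAlgebra.mapRingHom _ ((algebraMap ℤ B).comp ULift.ringEquiv.toRingHom))

theorem univPt_single (B : Type u) [CommRing B] {N : Type} [AddCommGroup N] (r : M →+ N) (m : Multiplicative M) :
    univPt B r (MonoidAlgebra.single m 1) = MonoidAlgebra.single (AddMonoidHom.toMultiplicative r m) 1 := by
  simp [univPt]

theorem ev_spm {W : X.left.Opens} (hW : IsAffineOpen W) {A A' : Type u} [CommRing A] [Algebra R A] [CommRing A']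
    [Algebra R A'] (φ : A →ₐ[R] A') {p : sp β A ⟶ X} {q : sp β A' ⟶ X} (e : spm β φ ≫ p = q)
    {ep : Γ(X.left, W) ⟶ CommRingCat.of A} {eq : Γ(X.left, W) ⟶ CommRingCat.of A'}
    (hep : Spec.map ep ≫ hW.fromSpec = p.left) (heq : Spec.map eq ≫ hW.fromSpec = q.left) (v : Γ(X.left, W)) :
    φ (ep.hom v) = eq.hom v := by
  subst e
  simp only [Over.comp_left, spm_left, ← hep, ← Spec.map_comp_assoc, cancel_mono] at heq
  exact (RingHom.congr_fun (congrArg CommRingCat.Hom.hom (Spec.map_injective heq)) v).symm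

theorem ev_sub_mem {L : Ideal R} {W : X.left.Opens} (hW : IsAffineOpen W) {A : Type u} [CommRing A] [Algebra R A]
    {p q : sp β A ⟶ X}
    (e : redMap L A ≫ p =
      redMap L A ≫ q)
    {ep eq : Γ(X.left, W) ⟶ CommRingCat.of A}
    (hep : Spec.map ep ≫ hW.fromSpec = p.left) (heq : Spec.map eq ≫ hW.fromSpec = q.left) (v : Γ(X.left, W)) :
    eq.hom v - ep.hom v ∈ L.map (algebraMap R A) := by
  have h1 := congrArg (fun m => Over.Hom.left m) e
  simp only [Over.comp_left, redMap, spm_left, ← hep, ← heq, ← Spec.map_comp_assoc, cancel_mono] at h1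
  rw [← Ideal.Quotient.eq]
  exact (RingHom.congr_fun (congrArg CommRingCat.Hom.hom (Spec.map_injective h1)) v).symm

theorem coord_ext {B : Type u} [CommRing B] {f g : CoordM.{u} M →+* B}
    (h : ∀ m, f (MonoidAlgebra.single m 1) = g (MonoidAlgebra.single m 1)) : f = g :=
  MonoidAlgebra.ringHom_ext (fun r => RingHom.congr_fun (DSPtsLib.ulift_ringHom_ext
    (f.comp (algebraMap (ULift.{u} ℤ) _)) (g.comp (algebraMap (ULift.{u} ℤ) _))) r) h

section

variable (χ : ∀ (A : Type u) [CommRing A] [Algebra R A], (CoordM.{u} M →+* A) → (sp β A ⟶ G))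
  (hnat : ∀ {A A' : Type u} [CommRing A] [Algebra R A] [CommRing A'] [Algebra R A'] (φ : A →ₐ[R] A')
    (f : CoordM.{u} M →+* A), spm β φ ≫ χ A f = χ A' (φ.toRingHom.comp f))
  (hmul : ∀ {A : Type u} [CommRing A] [Algebra R A] (f g h : CoordM.{u} M →+* A),
    (∀ m, h (MonoidAlgebra.single m 1) = f (MonoidAlgebra.single m 1) * g (MonoidAlgebra.single m 1)) →
      χ A f * χ A g = χ A h)
  {V : S.Opens} (hV : IsAffineOpen V) (hβ : ∀ r, β r ∈ V)
include hnat hmul hV hβ

omit hmul hV hβ in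
theorem fix_mod {L : Ideal R} {A : Type u} [CommRing A] [Algebra R A]
    (hfix : ∀ (B' : Type u) [CommRing B'] [Algebra R B'], (∀ l ∈ L, algebraMap R B' l = 0) →
      ∀ (f : CoordM.{u} M →+* B') (z : sp β B' ⟶ X), lift (χ B' f) z ≫ a.act = z)
    (f : CoordM.{u} M →+* A) (z : sp β A ⟶ X) :
    redMap L A ≫
      lift (χ A f) z ≫ a.act =
    redMap L A ≫ z := by
  rw [← Category.assoc, comp_lift, redMap, hnat]
  refine hfix (A ⧸ L.map (algebraMap R A)) ?_ _ _
  intro l hl
  have h := Ideal.mem_map_of_mem (algebraMap R A) hl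
  rw [IsScalarTower.algebraMap_apply R A (A ⧸ L.map (algebraMap R A))]
  exact Ideal.Quotient.eq_zero_iff_mem.mpr h

theorem step_affine {L : Ideal R} {B : Type u} [CommRing B] [Algebra R B]
    (hL : ∀ l ∈ L, ∀ l' ∈ L, algebraMap R B (l * l') = 0) {W : X.left.Opens} (hW : IsAffineOpen W)
    (hWV : W ≤ X.hom ⁻¹ᵁ V)
    (x : sp β B ⟶ X) (hx : ∀ s, x.left s ∈ W)
    (hfix : ∀ (A : Type u) [CommRing A] [Algebra R A] (φ : B →ₐ[R] A) (f : CoordM.{u} M →+* A),
      redMap L A ≫ lift (χ A f) (spm β φ ≫ x) ≫ a.act = redMap L A ≫ spm β φ ≫ x)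
    (hpair : ∀ (A : Type u) [CommRing A] [Algebra R A] (φ : B →ₐ[R] A) (f : CoordM.{u} M →+* Pair L A)
      (z : sp β (Pair L A) ⟶ X), spm β (A := Pair L A) (pairFst L A) ≫ z = spm β φ ≫ x → (∀ s, z.left s ∈ W) →
        redMap L (Pair L A) ≫ lift (χ (Pair L A) f) z ≫ a.act = redMap L (Pair L A) ≫ z)
    (f : CoordM.{u} M →+* B) :
    lift (χ B f) x ≫ a.act = x := by
  let inc : ∀ (N : Type) [AddCommGroup N], B →ₐ[R] MonoidAlgebra B (Multiplicative N) := fun N _ =>
    IsScalarTower.toAlgHom R B _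
  let xN : ∀ (N : Type) [AddCommGroup N], sp β (MonoidAlgebra B (Multiplicative N)) ⟶ X := fun N _ =>
    spm β (inc N) ≫ x
  have hxN : ∀ (N : Type) [AddCommGroup N], ∀ s, (xN N).left s ∈ W := fun N _ s => hx _
  let y : ∀ {N : Type} [AddCommGroup N], (M →+ N) → (sp β (MonoidAlgebra B (Multiplicative N)) ⟶ X) :=
    fun {N} _ r => lift (χ _ (univPt B r)) (xN N) ≫ a.act
  have hLN : ∀ (N : Type) [AddCommGroup N], ∀ l ∈ L, ∀ l' ∈ L,
      algebraMap R (MonoidAlgebra B (Multiplicative N)) (l * l') = 0 := fun N _ l hl l' hl' => by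
    rw [IsScalarTower.algebraMap_apply R B (MonoidAlgebra B (Multiplicative N)), hL l hl l' hl', map_zero]
  have hcongr : ∀ {N : Type} [AddCommGroup N] (r : M →+ N),
      redMap L (MonoidAlgebra B (Multiplicative N)) ≫ y r =
      redMap L (MonoidAlgebra B (Multiplicative N)) ≫ xN N := by
    intro N _ r
    exact hfix _ (inc N) (univPt B r)
  have hyW : ∀ {N : Type} [AddCommGroup N] (r : M →+ N), ∀ s, (y r).left s ∈ W := fun {N} _ r s => by
    obtain ⟨t, rfl⟩ := surjective_redMap (β := β) (hLN N) s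
    rw [← Scheme.Hom.comp_apply, ← Over.comp_left, hcongr r, Over.comp_left, Scheme.Hom.comp_apply]
    exact hxN N _
  choose ex hex using fun (N : Type) (_ : AddCommGroup N) => exists_ev hW (xN N) (hxN N)
  choose ey hey using fun (N : Type) (_ : AddCommGroup N) (r : M →+ N) => exists_ev hW (y r) (hyW r)
  let δ : ∀ {N : Type} [AddCommGroup N], (M →+ N) → Γ(X.left, W) → MonoidAlgebra B (Multiplicative N) :=
    fun {N} inst r v => (ey N inst r).hom v - (ex N inst).hom v
  have hpush : ∀ {N N' : Type} [AddCommGroup N] [AddCommGroup N'] (r : M →+ N) (r' : N →+ N') (v : Γ(X.left, W)),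
      DiagDefLib.push (R := R) B r' (δ r v) = δ (r'.comp r) v := by
    intro N N' inst inst' r r' v
    let φ := DiagDefLib.push (R := R) B r'
    have hφι : φ.comp (inc N) = inc N' := by
      ext b
      simp [φ, inc, DiagDefLib.push]
    have hφu : φ.toRingHom.comp (univPt B r) = univPt B (r'.comp r) :=
      coord_ext fun m => by simp [φ, univPt_single, DiagDefLib.push]
    have hx1 : spm β φ ≫ xN N = xN N' := by
      show spm β φ ≫ spm β (inc N) ≫ x = spm β (inc N') ≫ x
      rw [← Category.assoc, spm_comp, hφι]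
    have hy1 : spm β φ ≫ y r = y (r'.comp r) := by
      show spm β φ ≫ lift _ (xN N) ≫ a.act = lift _ (xN N') ≫ a.act
      rw [← Category.assoc, comp_lift, hnat, hx1, hφu]
    show φ _ = _
    rw [map_sub, ev_spm hW φ hy1 (hey N inst r) (hey N' inst' (r'.comp r)) v,
      ev_spm hW φ hx1 (hex N inst) (hex N' inst') v]
  let r₁ : M →+ M × M := (AddMonoidHom.id M).prod 0
  let r₂ : M →+ M × M := (0 : M →+ M).prod (AddMonoidHom.id M)
  let r₃ : M →+ M × M := (AddMonoidHom.id M).prod (AddMonoidHom.id M)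
  have hy3 : lift (χ _ (univPt B r₁)) (y r₂) ≫ a.act = y r₃ := by
    show lift _ (lift _ (xN (M × M)) ≫ a.act) ≫ a.act = lift _ (xN (M × M)) ≫ a.act
    rw [← act_mul, hmul _ _ (univPt B r₃)]
    intro m
    simp only [univPt_single, MonoidAlgebra.single_mul_single, _root_.mul_one]
    congr 1
    exact congrArg Multiplicative.ofAdd (show ((m.toAdd, m.toAdd) : M × M) = (m.toAdd + 0, 0 + m.toAdd) by simp)
  have hadd : ∀ v, δ r₃ v = δ r₁ v + δ r₂ v := fun v => by
    have h := pair_lemma a (hLN (M × M)) hW hV hWV hβ (χ _ (univPt B r₁)) (xN (M × M)) (y r₂) (hxN _)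
      (ex _ _) (ey _ _ r₂) (ey _ _ r₁) (ey _ _ r₃) (hex _ _) (hey _ _ r₂) (hey _ _ r₁)
      (by rw [hy3]; exact hey _ _ r₃)
      (fun v => ev_sub_mem hW (hcongr r₂) (hey _ _ r₂) (hex _ _) v)
      (fun z hz hzW => by
        have h0 := hpair (MonoidAlgebra B (Multiplicative (M × M))) (inc (M × M))
          ((pairDiag L (MonoidAlgebra B (Multiplicative (M × M)))).toRingHom.comp (univPt B r₁)) z hz hzW
        rw [hnat]
        exact h0) v
    show _ - _ = (_ - _) + (_ - _)
    rw [h]
    abel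
  have hzero : ∀ v, δ (AddMonoidHom.id M) v = 0 := fun v => by
    refine DiagDefLib.eq_zero_of_push_add (R := R) B _ ?_
    rw [hpush, hpush, hpush]
    exact hadd v
  have hyx : y (AddMonoidHom.id M) = xN M := by
    refine Over.OverMorphism.ext ?_
    rw [← hey, ← hex]
    congr 2
    exact CommRingCat.hom_ext (RingHom.ext fun v => sub_eq_zero.mp (hzero v))
  let σ : MonoidAlgebra B (Multiplicative M) →ₐ[R] B :=
    (MonoidAlgebra.lift B B (Multiplicative M)
      ((f : CoordM.{u} M →* B).comp (MonoidAlgebra.of (ULift.{u} ℤ) (Multiplicative M)))).restrictScalars R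
  have hσu : σ.toRingHom.comp (univPt B (AddMonoidHom.id M)) = f :=
    coord_ext fun m => by simp [σ, univPt_single]
  have hσι : σ.comp (inc M) = AlgHom.id R B := by
    ext b
    simp [σ, inc]
    rw [show (MonoidAlgebra.single (1 : Multiplicative M) (1 : ULift.{u} ℤ)) = 1 from rfl, map_one, _root_.mul_one]
  have h := congrArg (spm β σ ≫ ·) hyx
  change spm β σ ≫ lift _ (spm β (inc M) ≫ x) ≫ a.act = spm β σ ≫ spm β (inc M) ≫ x at h
  rwa [← Category.assoc, comp_lift, hnat, hσu, ← Category.assoc, spm_comp, hσι, spm_id, Category.id_comp] at h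

theorem step {L : Ideal R} {B : Type u} [CommRing B] [Algebra R B]
    (hL : ∀ l ∈ L, ∀ l' ∈ L, algebraMap R B (l * l') = 0)
    (hfix : ∀ (B' : Type u) [CommRing B'] [Algebra R B'], (∀ l ∈ L, algebraMap R B' l = 0) →
      ∀ (f : CoordM.{u} M →+* B') (z : sp β B' ⟶ X), lift (χ B' f) z ≫ a.act = z)
    (x : sp β B ⟶ X) (f : CoordM.{u} M →+* B) : lift (χ B f) x ≫ a.act = x := by
  classical
  have hxV : ∀ s, X.hom (x.left s) ∈ V := fun s => by
    rw [← Scheme.Hom.comp_apply, Over.w x]
    exact hβ _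
  have hex : ∀ p : PrimeSpectrum B, ∃ (b : B) (W : X.left.Opens), b ∉ p.asIdeal ∧ IsAffineOpen W ∧
      W ≤ X.hom ⁻¹ᵁ V ∧ ∀ q : PrimeSpectrum B, q ∈ PrimeSpectrum.basicOpen b → x.left q ∈ W := fun p => by
    obtain ⟨W, hW, hpW, hWle⟩ := exists_isAffineOpen_mem_and_subset (show x.left p ∈ X.hom ⁻¹ᵁ V from hxV p)
    obtain ⟨_, ⟨b, rfl⟩, hpb, hsub⟩ :=
      PrimeSpectrum.isTopologicalBasis_basic_opens.exists_subset_of_mem_open (show p ∈ ⇑x.left.base ⁻¹' W from hpW)
        (W.isOpen.preimage x.left.base.hom.continuous)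
    exact ⟨b, W, hpb, hW, hWle, fun q hq => hsub hq⟩
  choose b W hb hW hWV hsub using hex
  have hspan : Ideal.span (Set.range b) = ⊤ := by
    refine by_contra fun hne => ?_
    obtain ⟨m, hm, hle⟩ := Ideal.exists_le_maximal _ hne
    exact hb ⟨m, hm.isPrime⟩ (hle (Ideal.subset_span ⟨_, rfl⟩))
  refine Over.OverMorphism.ext (Scheme.Cover.hom_ext
    (Scheme.affineOpenCoverOfSpanRangeEqTop (R := CommRingCat.of B) b hspan).openCover _ _ fun p => ?_)
  let Bp := Localization.Away (b p)
  let inc : B →ₐ[R] Bp := IsScalarTower.toAlgHom R B Bp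
  have h := step_affine a χ hnat hmul hV hβ (L := L) (B := Bp)
    (fun l hl l' hl' => by
      rw [IsScalarTower.algebraMap_apply R B Bp, hL l hl l' hl', map_zero])
    (hW p) (hWV p) (spm β inc ≫ x) (fun s => by
      rw [Over.comp_left, Scheme.Hom.comp_apply]
      refine hsub p _ ?_
      show b p ∉ (PrimeSpectrum.comap (algebraMap B Bp) s).asIdeal
      exact fun hmem => s.isPrime.ne_top (Ideal.eq_top_of_isUnit_mem _ hmem
        (IsLocalization.Away.algebraMap_isUnit (b p))))
    (fun A _ _ φ f => fix_mod a χ hnat hfix f _) (fun A _ _ φ f z _ _ => fix_mod a χ hnat hfix f z) (inc.toRingHom.comp f)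
  rw [← hnat, ← comp_lift, Category.assoc] at h
  exact congrArg (fun m => Over.Hom.left m) h

/-- An action which is trivial modulo a nilpotent ideal is trivial. -/
theorem main (I : Ideal R) (hI : IsNilpotent I)
    (hfix : ∀ (B' : Type u) [CommRing B'] [Algebra R B'], (∀ l ∈ I, algebraMap R B' l = 0) →
      ∀ (f : CoordM.{u} M →+* B') (z : sp β B' ⟶ X), lift (χ B' f) z ≫ a.act = z)
    (x : sp β R ⟶ X) (f : CoordM.{u} M →+* R) : lift (χ R f) x ≫ a.act = x := by
  obtain ⟨n, hn⟩ := hI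
  have key : ∀ (k : ℕ) (B : Type u) [CommRing B] [Algebra R B], (∀ l ∈ I ^ (k + 1), algebraMap R B l = 0) →
      ∀ (f : CoordM.{u} M →+* B) (z : sp β B ⟶ X), lift (χ B f) z ≫ a.act = z := by
    intro k
    induction k with
    | zero => exact fun B _ _ hB => hfix B (by simpa using hB)
    | succ k ih =>
      intro B _ _ hB f z
      refine step a χ hnat hmul hV hβ (L := I ^ (k + 1)) (fun l hl l' hl' => hB _ ?_) ih z f
      exact Ideal.pow_le_pow_right (show k + 1 + 1 ≤ k + 1 + (k + 1) by omega)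
        (by rw [pow_add]; exact Ideal.mul_mem_mul hl hl')
  refine key n R (fun l hl => ?_) f x
  rw [pow_succ, hn, zero_mul] at hl
  simp [(Submodule.mem_bot R).mp hl]

end

end Groth.Agent.GrpSchLib.DiagActionRigid
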