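import Groth.Agent.GrpSchLib.FixedAffine
import Groth.Agent.GrpSchLib.AffineKer
import Groth.Agent.GrpSchLib.KernelGrp
import Groth.Agent.GrpSchLib.GeomIrr

/-! A group acting with a fixed point, faithfully on rational points, is affine. -/

set_option linter.style.haveILetI false

universe u

open CategoryTheory Limits AlgebraicGeometry MonoidalCategory CartesianMonoidalCategory MonObj GrpObj
open scoped TensorProduct

namespace Groth.Agent.GrpSchLib.FixedAffinePts

open Kunneth LineGroups

variable {k : Type u} [Field k] {G X : Over (Spec (CommRingCat.of k))} [GrpObj G] [QuasiCompact G.hom]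
  (a : AlgGrp.Action G X) (x : 𝟙_ (Over (Spec (CommRingCat.of k))) ⟶ X)
  [LocallyOfFiniteType G.hom] [IsSeparated X.hom] [IsIntegral X.left] [IsLocallyNoetherian X.left]

open FixedAffine in
/-- A representation whose trivial points over affine schemes act trivially. -/
theorem exists_rep_detect (hx : a.IsFixedPt x) :
    ∃ (H : Over (Spec (CommRingCat.of k))) (_ : GrpObj H) (ρ : G ⟶ H), IsMonHom ρ ∧ IsAffine H.left ∧
      LocallyOfFiniteType H.hom ∧
      ∀ (R : Over (Spec (CommRingCat.of k))) (g : R ⟶ G), IsAffine R.left → g ≫ ρ = 1 →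
        ∀ (T' : Over (Spec (CommRingCat.of k))) (t : T' ⟶ R) (y : T' ⟶ X), lift (t ≫ g) y ≫ a.act = y := by
  classical
  haveI := AntiAffine.isSeparated_grp G
  obtain ⟨D⟩ := Adjoint.exists_nbhds' X x
  choose b hb using exists_action a x hx D
  choose d M w hM hfix hconv using fun p : (Σ m, Fn (D.N m)) => ActRep.exists_stable (b p.1) p.2
  obtain ⟨F, hF⟩ := RepFamily.exists_detect (G := G) M
  obtain ⟨N₀, B, hB, hBiff⟩ := RepFamily.exists_block M hM F
  let H : Over (Spec (CommRingCat.of k)) := FrB.GLn N₀ (Spec (CommRingCat.of k))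
  haveI : IsAffine (FrB.GLZ.{u} N₀).left := inferInstanceAs (IsAffine (Spec _))
  haveI : IsAffineHom (FrB.GLZ.{u} N₀).hom := inferInstance
  haveI : IsAffineHom H.hom := inferInstanceAs (IsAffineHom (pullback.snd _ _))
  haveI : IsAffine H.left := isAffine_of_isAffineHom H.hom
  haveI : LocallyOfFiniteType (FrB.GLZ.{u} N₀).hom := by
    refine (HasRingHomProperty.Spec_iff (P := @LocallyOfFiniteType)).mpr ?_
    refine RingHom.finiteType_algebraMap.mpr ?_
    have h : Algebra.FiniteType (ULift.{u} ℤ) (MvPolynomial (CoordGrp.GLPoly.Idx N₀) (ULift.{u} ℤ)) := inferInstance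
    exact @Algebra.FiniteType.of_surjective _ _ _ _ _ _ _ _ h (CoordGrp.GLn.mk N₀ (ULift.{u} ℤ))
      Ideal.Quotient.mk_surjective
  haveI : LocallyOfFiniteType H.hom := inferInstanceAs (LocallyOfFiniteType (pullback.snd _ _))
  haveI : QuasiCompact H.hom := inferInstance
  haveI : IsSeparated H.hom := inferInstance
  let ρ : G ⟶ H := hB.hom
  haveI : IsMonHom ρ := hB.isMonHom_hom
  -- points of trivial matrix act trivially
  have htriv : ∀ (R : Over (Spec (CommRingCat.of k))) (g : R ⟶ G), IsAffine R.left → B.map (ev g) = 1 →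
      ∀ (T' : Over (Spec (CommRingCat.of k))) (t : T' ⟶ R) (y : T' ⟶ X), lift (t ≫ g) y ≫ a.act = y := by
    intro R g _ hg
    have hall := hF R g ((hBiff R g).mp hg)
    have hact : ∀ m, (g ▷ D.N m) ≫ (b m).act = snd R (D.N m) := fun m => by
      refine ext_ev (AlgHom.ext fun f => ?_)
      rw [show g ▷ D.N m = lift (fst R (D.N m) ≫ g) (snd R (D.N m)) from
        CartesianMonoidalCategory.hom_ext _ _ (by simp) (by simp)]
      refine hfix ⟨m, f⟩ _ (fst R (D.N m) ≫ g) (snd R (D.N m)) ?_
      have h3 := congrArg (fun A : Matrix _ _ (Fn R) => A.map (ev (fst R (D.N m)))) (hall ⟨m, f⟩)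
      simp only [Matrix.map_map, Matrix.map_one _ (map_zero (ev (fst R (D.N m)))) (map_one (ev (fst R (D.N m))))] at h3
      exact h3
    have hU : (R ◁ D.uι) ≫ (g ▷ X) ≫ a.act = (R ◁ D.uι) ≫ snd R X := by
      refine (cancel_epi (β_ D.U R).hom).mp (InfNbhdEq.eq_of_joint D.j D.dense _ _ fun m => ?_)
      have h1 := congrArg (· ≫ D.j m ≫ D.uι) (hact m)
      simp only [Category.assoc, hb] at h1
      have e : (D.j m ▷ R) ≫ (β_ D.U R).hom = (β_ (D.N m) R).hom ≫ (R ◁ D.j m) :=
        BraidedCategory.braiding_naturality_left _ _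
      rw [reassoc_of% e, reassoc_of% e, ← MonoidalCategory.whiskerLeft_comp_assoc,
        ← MonoidalCategory.whiskerLeft_comp_assoc, whisker_exchange_assoc, whiskerLeft_snd, h1]
    haveI : IsSchemeTheoreticallyDominant (R ◁ D.uι).left := by
      haveI : Nonempty D.U.left := ⟨D.u₀.left (IsLocalRing.closedPoint k)⟩
      haveI : IsDominant D.uι.left :=
        ⟨D.uι.left.isOpenEmbedding.isOpen_range.dense (Set.range_nonempty _)⟩
      haveI : IsSchemeTheoreticallyDominant D.uι.left := .of_isDominant _
      haveI : Flat R.hom := inferInstance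
      haveI : Flat (snd R X).left := inferInstanceAs (Flat (pullback.snd R.hom X.hom))
      exact IsSchemeTheoreticallyDominant.of_isPullback (isPullback_whiskerLeft (W := R) D.uι).flip
    have hX := eq_of_dominant (R ◁ D.uι) _ _ hU
    intro T' t y
    have h4 := congrArg (lift t y ≫ ·) hX
    simp only [lift_snd] at h4
    rwa [← Category.assoc, lift_whiskerRight] at h4
  refine ⟨H, inferInstance, ρ, inferInstance, inferInstance, inferInstance, fun R g hR hg => ?_⟩
  refine htriv R g hR ?_
  haveI := hR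
  haveI : QuasiCompact R.hom := inferInstance
  haveI : IsSeparated R.hom := inferInstance
  have h3 : g ≫ matPt B hB.isUnit = 1 := hg
  rw [comp_matPt] at h3
  exact matPt_injective (hN := isUnit_one) (h3.trans matPt_one.symm)

/-- A group acting with a fixed point, faithfully on rational points, is affine. -/
theorem isAffine_of_faithful_points [IsAlgClosed k] (hx : a.IsFixedPt x)
    (hf : ∀ g : 𝟙_ (Over (Spec (CommRingCat.of k))) ⟶ G, lift (toUnit X ≫ g) (𝟙 X) ≫ a.act = 𝟙 X → g = 1) :
    IsAffine G.left := by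
  obtain ⟨H, _, ρ, hρ, hH, _, hdet⟩ := exists_rep_detect a x hx
  haveI := hρ; haveI := hH
  haveI : IsAffineHom H.hom := isAffineHom_of_isAffine H.hom
  haveI : IsSeparated H.hom := AntiAffine.isSeparated_grp H
  haveI : QuasiCompact ρ.left := by
    haveI : QuasiCompact (ρ.left ≫ H.hom) := by rw [Over.w ρ]; infer_instance
    exact QuasiCompact.of_comp ρ.left H.hom
  obtain ⟨N, _, n, hn, hnc, -, hk⟩ := exists_kernel ρ
  haveI := hn; haveI := hnc
  haveI : Mono n := ⟨fun p q h => hk.hom_ext h (toUnit_unique _ _)⟩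
  haveI : LocallyOfFiniteType N.hom := by rw [← Over.w n]; infer_instance
  haveI : QuasiCompact N.hom := by rw [← Over.w n]; infer_instance
  haveI : JacobsonSpace N.left := LocallyOfFiniteType.jacobsonSpace N.hom
  have hone : ∀ m : 𝟙_ (Over (Spec (CommRingCat.of k))) ⟶ N, m = η[N] := by
    intro m
    have hw : (m ≫ n) ≫ ρ = 1 := by
      rw [Category.assoc, hk.w, ← Category.assoc, toUnit_unique (m ≫ toUnit N) (toUnit _)]
      rfl
    have h := hdet _ (m ≫ n) (inferInstanceAs (IsAffine (Spec (CommRingCat.of k)))) hw X (toUnit X) (𝟙 X)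
    rw [← cancel_mono n, hf _ h, IsMonHom.one_hom n]
    exact (MonObj.one_eq_one G).symm
  let cl : Spec (CommRingCat.of k) := IsLocalRing.closedPoint k
  have hcl : ∀ c : N.left, IsClosed ({c} : Set N.left) → c = η[N].left cl := by
    intro c hc
    let s := (pointEquivClosedPoint N.hom).symm ⟨c, hc⟩
    have hs : s.1 cl = c := congrArg Subtype.val ((pointEquivClosedPoint N.hom).apply_symm_apply ⟨c, hc⟩)
    have h := congrArg (fun q : 𝟙_ (Over (Spec (CommRingCat.of k))) ⟶ N => q.left cl) (hone (Over.homMk s.1 s.2))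
    exact hs.symm.trans h
  haveI : Subsingleton N.left := by
    refine ⟨fun p q => ?_⟩
    suffices ∀ p, p = η[N].left cl by rw [this p, this q]
    intro p
    by_contra hp
    have hc : IsClosed ({η[N].left cl} : Set N.left) := by
      obtain ⟨c, -, hc⟩ := nonempty_inter_closedPoints (X := N.left) (Z := (Set.univ : Set N.left)) ⟨p, trivial⟩
        isOpen_univ.isLocallyClosed
      rw [← hcl c hc]
      exact hc
    obtain ⟨c, hc1, hc2⟩ := nonempty_inter_closedPoints (Z := ({η[N].left cl} : Set N.left)ᶜ) ⟨p, hp⟩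
      hc.isOpen_compl.isLocallyClosed
    exact hc1 (hcl c hc2)
  haveI : IsAffine N.left := by
    obtain ⟨U, hU, hxU, -⟩ := exists_isAffineOpen_mem_and_subset
      (show η[N].left cl ∈ (⊤ : N.left.Opens) from trivial)
    have : U = ⊤ := by
      rw [eq_top_iff]
      intro p _
      rw [Subsingleton.elim p (η[N].left cl)]
      exact hxU
    rw [this] at hU
    haveI : IsAffine (⊤ : N.left.Opens).toScheme := hU
    exact IsAffine.of_isIso N.left.topIso.inv
  haveI : IsAffineHom N.hom := isAffineHom_of_isAffine N.hom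
  have sq := HomKer.kernel_square (u := ρ) n hk
  haveI : IsAffineHom ρ.left := AffineKer.isAffineHom_of_kernel ρ (by
    rw [← sq.isoPullback_inv_snd]; infer_instance)
  exact isAffine_of_isAffineHom ρ.left

end Groth.Agent.GrpSchLib.FixedAffinePts
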