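import Groth.Agent.GrpSchLib.GeomRedDense
import Groth.Agent.GrpSchLib.WordClosure
import Groth.Agent.GrpSchLib.MonoSubgroup
import Groth.Agent.GrpSchLib.Coincidence
import Groth.Agent.H23.RedSub
import Groth.Agent.VarGeom.OpenMap
import Groth.Agent.S4629

/-!
# The smallest closed subgroup through a geometrically reduced family

For a geometrically reduced scheme `X` over a field and `f : X ⟶ G`, the reduced subscheme on the closure of the
images of the word morphisms is a geometrically reduced subgroup, the smallest through which `f` factors.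
-/

universe u

open CategoryTheory CategoryTheory.Limits MonoidalCategory CartesianMonoidalCategory MonObj AlgebraicGeometry

namespace Groth.Agent.GrpSchLib.SmallestSubgroup

open WordClosure

variable {k : Type u} [Field k]

theorem geometricallyReduced_wordSrc (X : Over (Spec (CommRingCat.of k))) [GeometricallyReduced X.hom] :
    ∀ n : ℕ, GeometricallyReduced (wordSrc X n).hom
  | 0 => by
    show GeometricallyReduced (𝟙 (Spec (CommRingCat.of k)))
    constructor
    intro K _ y Z fst snd h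
    haveI : IsIso snd := h.isIso_snd_of_isIso
    exact isReduced_of_isOpenImmersion snd
  | n + 1 => by
    haveI := geometricallyReduced_wordSrc X n
    exact S4629.result X.hom (wordSrc X n).hom

theorem isReduced_of_geometricallyReduced {X : Scheme.{u}} (f : X ⟶ Spec (CommRingCat.of k))
    [GeometricallyReduced f] : IsReduced X :=
  GeometricallyReduced.geometrically_isReduced (f := f) (𝟙 _) (𝟙 X) f
    (IsPullback.of_horiz_isIso ⟨by simp⟩)

/-- A nonempty open of a product meets the product of a dense family. -/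
theorem exists_mem_whisker {W X : Over (Spec (CommRingCat.of k))} {A : Type*}
    (Y : A → Over (Spec (CommRingCat.of k))) (x : ∀ a, Y a ⟶ X) (hd : Dense (⋃ a, Set.range (x a).left))
    {O : Set (W ⊗ X).left} (hO : IsOpen O) (hne : O.Nonempty) :
    ∃ (a : A) (q : (W ⊗ Y a).left), (W ◁ x a).left q ∈ O := by
  haveI : UniversallyOpen W.hom := VarGeom.universallyOpen_of_field W.hom
  haveI : UniversallyOpen (snd W X).left := inferInstanceAs (UniversallyOpen (pullback.snd W.hom X.hom))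
  obtain ⟨z, hz⟩ := hne
  obtain ⟨_, hu, p, hp, rfl⟩ := hd.exists_mem_open ((snd W X).left.isOpenMap _ hO) ⟨_, z, hz, rfl⟩
  obtain ⟨a, y, hy⟩ := Set.mem_iUnion.1 hu
  have hsq := isPullback_whiskerLeft (W := W) (x a)
  have hp' : p ∈ Set.range (W ◁ x a).left := by
    rw [← IsPullback.isoPullback_hom_fst hsq, Scheme.Hom.comp_base, TopCat.coe_comp, Set.range_comp,
      Set.range_eq_univ.mpr hsq.isoPullback.hom.surjective, Set.image_univ, Scheme.Pullback.range_fst]
    exact ⟨y, hy⟩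
  obtain ⟨q, rfl⟩ := hp'
  exact ⟨a, q, hp⟩

theorem exists_smallest_range (G X : Over (Spec (CommRingCat.of k))) [GrpObj G] [GeometricallyReduced X.hom] (f : X ⟶ G) :
    ∃ (Γ : Over (Spec (CommRingCat.of k))) (_ : GrpObj Γ) (i : Γ ⟶ G), IsMonHom i ∧ IsClosedImmersion i.left ∧
      (∃ f' : X ⟶ Γ, f' ≫ i = f) ∧ GeometricallyReduced Γ.hom ∧
      (∀ (Γ' : Over (Spec (CommRingCat.of k))) (_ : GrpObj Γ') (i' : Γ' ⟶ G), IsMonHom i' → IsClosedImmersion i'.left →
        (∃ f'' : X ⟶ Γ', f'' ≫ i' = f) → (∃ j : Γ ⟶ Γ', j ≫ i' = i)) ∧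
      Set.range i.left ⊆ closure {p : ↥G.left | ∃ (T : Over (Spec (CommRingCat.of k))) (g : T ⟶ G) (t : ↥T.left),
        g ∈ Subgroup.closure (Set.range fun x : T ⟶ X => x ≫ f) ∧ g.left t = p} := by
  let A := Σ n : ℕ, Fin n → Bool
  let W : A → Over (Spec (CommRingCat.of k)) := fun a => wordSrc X a.1
  let w : ∀ a, W a ⟶ G := fun a => wordHom f a.1 a.2
  let R : Set G.left := ⋃ a, Set.range (w a).left
  have hW : ∀ a, GeometricallyReduced (W a).hom := fun a => geometricallyReduced_wordSrc X a.1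
  have hR : ∀ {T : Over (Spec (CommRingCat.of k))} (g : T ⟶ G),
      g ∈ Subgroup.closure (Set.range fun x : T ⟶ X => x ≫ f) → Set.range g.left ⊆ R := by
    intro T g hg
    obtain ⟨n, x, ε, h⟩ := exists_word_of_mem_closure f hg
    obtain ⟨v, hv⟩ := exists_tuple f n x ε
    rintro _ ⟨p, rfl⟩
    exact Set.mem_iUnion.2 ⟨⟨n, ε⟩, v.left p,
      congrArg (fun m : T ⟶ G => m.left p) (hv.trans h)⟩
  let I : G.left.IdealSheafData := Scheme.IdealSheafData.vanishingIdeal ⟨closure R, isClosed_closure⟩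
  let Γ : Over (Spec (CommRingCat.of k)) := Over.mk (I.subschemeι ≫ G.hom)
  let i : Γ ⟶ G := Over.homMk I.subschemeι rfl
  haveI : IsReduced Γ.left := H23.RedSub.isReduced_subscheme (H23.RedSub.isRadical_vanishingIdeal _)
  haveI : IsClosedImmersion i.left := inferInstanceAs (IsClosedImmersion I.subschemeι)
  haveI : Mono i := (Over.forget _).mono_of_mono_map (inferInstanceAs (Mono i.left))
  have hri : Set.range i.left = closure R := H23.RedSub.range_vanishingIdeal _
  have hl : ∀ (T : Over (Spec (CommRingCat.of k))) (_ : IsReduced T.left) (g : T ⟶ G),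
      Set.range g.left ⊆ closure R → ∃ g' : T ⟶ Γ, g' ≫ i = g := by
    intro T _ g hg
    obtain ⟨g', hg'⟩ := H23.RedSub.exists_lift_closed g.left i.left (hri.symm ▸ hg)
    exact ⟨Over.homMk g' (by rw [← Over.w i, reassoc_of% hg', Over.w g]), Over.OverMorphism.ext hg'⟩
  have hlw : ∀ a, ∃ l : W a ⟶ Γ, l ≫ i = w a := fun a =>
    hl _ (haveI := hW a; isReduced_of_geometricallyReduced (W a).hom) _
      ((Set.subset_iUnion (fun a => Set.range (w a).left) a).trans subset_closure)
  choose l hlw using hlw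
  have hd : Dense (⋃ a, Set.range (l a).left) := by
    rw [i.left.isEmbedding.isInducing.dense_iff]
    intro γ
    have h : i.left '' (⋃ a, Set.range (l a).left) = R := by
      rw [Set.image_iUnion]
      refine Set.iUnion_congr fun a => ?_
      rw [← Set.range_comp, ← hlw a]
      rfl
    rw [h, ← hri]
    exact ⟨γ, rfl⟩
  haveI hΓ : GeometricallyReduced Γ.hom := by
    letI : Γ.left.Over (Spec (CommRingCat.of k)) := ⟨Γ.hom⟩
    letI : ∀ a, (W a).left.Over (Spec (CommRingCat.of k)) := fun a => ⟨(W a).hom⟩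
    exact GeomRedDense.geometricallyReduced_of_dense (fun a => (W a).left) (fun a => (l a).left)
      (fun a => Over.w (l a)) hW hd
  haveI : IsReduced (Γ ⊗ Γ).left := by
    haveI := S4629.result Γ.hom Γ.hom
    exact isReduced_of_geometricallyReduced (pullback.fst Γ.hom Γ.hom ≫ Γ.hom)
  have hmem : ∀ (a : A) {T : Over (Spec (CommRingCat.of k))} (v : T ⟶ W a),
      v ≫ w a ∈ Subgroup.closure (Set.range fun x : T ⟶ X => x ≫ f) := fun a T v =>
    mem_closure_of_tuple f a.1 v a.2
  obtain ⟨e, he⟩ := hl _ (inferInstanceAs (IsReduced (Spec (CommRingCat.of k)))) η[G] (by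
    refine (hR η[G] ?_).trans subset_closure
    rw [show η[G] = (1 : 𝟙_ _ ⟶ G) by rw [Hom.one_def, toUnit_unique (toUnit (𝟙_ _)) (𝟙 _), Category.id_comp]]
    exact one_mem _)
  obtain ⟨m, hm⟩ := hl _ inferInstance ((fst Γ Γ ≫ i) * (snd Γ Γ ≫ i)) (by
    rintro _ ⟨z, rfl⟩
    by_contra hz
    obtain ⟨b, q₁, hq₁⟩ := exists_mem_whisker W l hd
      (O := ((fst Γ Γ ≫ i) * (snd Γ Γ ≫ i)).left ⁻¹' (closure R)ᶜ)
      (isClosed_closure.isOpen_compl.preimage (Scheme.Hom.continuous _)) ⟨z, hz⟩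
    obtain ⟨q₂, hq₂⟩ := (β_ (W b) Γ).hom.left.homeomorph.surjective q₁
    obtain ⟨a, q, hq⟩ := exists_mem_whisker W l hd
      (O := ((β_ (W b) Γ).hom ≫ Γ ◁ l b ≫ ((fst Γ Γ ≫ i) * (snd Γ Γ ≫ i))).left ⁻¹' (closure R)ᶜ)
      (isClosed_closure.isOpen_compl.preimage (Scheme.Hom.continuous _))
      ⟨q₂, by
        rw [Set.mem_preimage, Over.comp_left, Over.comp_left, Scheme.Hom.comp_apply, Scheme.Hom.comp_apply]
        have hq₂' : (β_ (W b) Γ).hom.left q₂ = q₁ := hq₂
        rw [hq₂']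
        exact hq₁⟩
    have hmul : W b ◁ l a ≫ (β_ (W b) Γ).hom ≫ Γ ◁ l b ≫ ((fst Γ Γ ≫ i) * (snd Γ Γ ≫ i)) =
        (snd (W b) (W a) ≫ w a) * (fst (W b) (W a) ≫ w b) := by
      simp only [MonObj.comp_mul, whiskerLeft_fst_assoc, whiskerLeft_snd_assoc, braiding_hom_fst_assoc,
        braiding_hom_snd_assoc, hlw]
    have hsub := (hR _ (mul_mem (hmem a (snd (W b) (W a))) (hmem b (fst (W b) (W a))))).trans subset_closure
    rw [← hmul] at hsub
    exact hq (hsub ⟨q, rfl⟩))
  obtain ⟨v, hv⟩ := hl _ inferInstance i⁻¹ (by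
    rintro _ ⟨z, rfl⟩
    by_contra hz
    obtain ⟨q, ⟨hq, hq'⟩⟩ : ∃ q, q ∈ (⋃ a, Set.range (l a).left) ∧ q ∈ i⁻¹.left ⁻¹' (closure R)ᶜ :=
      hd.exists_mem_open (isClosed_closure.isOpen_compl.preimage (Scheme.Hom.continuous _)) ⟨z, hz⟩
    obtain ⟨a, p, rfl⟩ := Set.mem_iUnion.1 hq
    have hi : l a ≫ i⁻¹ = (𝟙 (W a) ≫ w a)⁻¹ := by rw [GrpObj.comp_inv, hlw, Category.id_comp]
    have hsub := (hR _ (inv_mem (hmem a (𝟙 (W a))))).trans subset_closure
    rw [← hi] at hsub
    exact hq' (hsub ⟨p, rfl⟩))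
  obtain ⟨str, hstr⟩ := exists_grpObj_of_mono i e he m hm v hv
  have hrange : Set.range i.left ⊆ closure {p : ↥G.left | ∃ (T : Over (Spec (CommRingCat.of k))) (g : T ⟶ G)
      (t : ↥T.left), g ∈ Subgroup.closure (Set.range fun x : T ⟶ X => x ≫ f) ∧ g.left t = p} := by
    rw [hri]
    refine closure_mono (Set.iUnion_subset fun a => ?_)
    rintro _ ⟨p, rfl⟩
    have hg := hmem a (𝟙 (W a))
    rw [Category.id_comp] at hg
    exact ⟨W a, w a, p, hg, rfl⟩
  refine ⟨Γ, str, i, hstr, inferInstance, hl _ (isReduced_of_geometricallyReduced X.hom) f ?_, hΓ, ?_, hrange⟩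
  · exact (hR f (Subgroup.subset_closure ⟨𝟙 X, Category.id_comp f⟩)).trans subset_closure
  · intro Γ' _ i' _ _ ⟨f'', hf''⟩
    have hsub : closure R ⊆ Set.range i'.left := by
      refine closure_minimal (Set.iUnion_subset fun a => ?_) i'.left.isClosedEmbedding.isClosed_range
      have hg : w a ∈ Set.range fun y : W a ⟶ Γ' => y ≫ i' := by
        have hle : Subgroup.closure (Set.range fun x : W a ⟶ X => x ≫ f) ≤
            MonoidHom.range (MonoidHom.mk' (fun y : W a ⟶ Γ' => y ≫ i') fun y y' => MonObj.mul_comp y y' i') := by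
          rw [Subgroup.closure_le]
          rintro _ ⟨x, rfl⟩
          exact ⟨x ≫ f'', by show (x ≫ f'') ≫ i' = x ≫ f; rw [Category.assoc, hf'']⟩
        have := hle (hmem a (𝟙 (W a)))
        rwa [Category.id_comp] at this
      obtain ⟨y, hy⟩ := hg
      rw [← hy]
      rintro _ ⟨p, rfl⟩
      exact ⟨y.left p, rfl⟩
    obtain ⟨j, hj⟩ := H23.RedSub.exists_lift_closed i.left i'.left (hri.symm ▸ hsub)
    exact ⟨Over.homMk j (by rw [← Over.w i', reassoc_of% hj, Over.w i]), Over.OverMorphism.ext hj⟩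

/-- The smallest closed subgroup through a geometrically reduced family. -/
theorem exists_smallest (G X : Over (Spec (CommRingCat.of k))) [GrpObj G] [GeometricallyReduced X.hom] (f : X ⟶ G) :
    ∃ (Γ : Over (Spec (CommRingCat.of k))) (_ : GrpObj Γ) (i : Γ ⟶ G), IsMonHom i ∧ IsClosedImmersion i.left ∧
      (∃ f' : X ⟶ Γ, f' ≫ i = f) ∧ GeometricallyReduced Γ.hom ∧
      ∀ (Γ' : Over (Spec (CommRingCat.of k))) (_ : GrpObj Γ') (i' : Γ' ⟶ G), IsMonHom i' → IsClosedImmersion i'.left →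
        (∃ f'' : X ⟶ Γ', f'' ≫ i' = f) → ∃ j : Γ ⟶ Γ', j ≫ i' = i := by
  obtain ⟨Γ, str, i, h1, h2, h3, h4, h5, -⟩ := exists_smallest_range G X f
  exact ⟨Γ, str, i, h1, h2, h3, h4, h5⟩

end Groth.Agent.GrpSchLib.SmallestSubgroup
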