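import Groth.Agent.GrpSchLib.EigenRank
import Mathlib.RingTheory.HopfAlgebra.Convolution
import Mathlib.RingTheory.QuasiFinite.Basic
import Mathlib.RingTheory.FiniteType
import Mathlib.FieldTheory.IsAlgClosed.AlgebraicClosure

/-!
# A quasi-finite commutative group is killed by an integer

Over an algebraically closed field the points form a finite group of order `e`, and a power of the characteristic (or
`1`) sends the augmentation ideal into a high power of itself.  In general one passes to an ideal maximal among those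
modulo which no power map is trivial.
-/

universe u

open TensorProduct WithConv

namespace Groth.Agent.GrpSchLib.QuasiFinitePow

variable {R : Type u} [CommRing R] {C : Type u} [CommRing C] [HopfAlgebra R C]

/-- The `n`-th power map is trivial modulo the ideal `K`. -/
def TrivMod (K : Ideal C) (n : ℕ) : Prop :=
  ∀ x, SGA3b.powConv R C n x - algebraMap R C (Bialgebra.counitAlgHom R C x) ∈ K

theorem comp_powConv {B : Type u} [CommRing B] [Algebra R B] (h : C →ₐ[R] B) (n : ℕ) :
    toConv (h.comp (SGA3b.powConv R C n)) = toConv h ^ n := by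
  induction n with
  | zero =>
    refine WithConv.ext (AlgHom.ext fun x => ?_)
    simp [SGA3b.powConv, AlgHom.convOne_def]
  | succ n ih =>
    rw [pow_succ, ← ih]
    refine WithConv.ext ?_
    rw [show SGA3b.powConv R C (n + 1) = ((toConv (AlgHom.id R C)) ^ n * toConv (AlgHom.id R C)).ofConv from
      congrArg WithConv.ofConv (pow_succ _ n)]
    refine (AlgHom.comp_convMul_distrib h _ _).trans ?_
    rfl

theorem powConv_mul (a b : ℕ) (x : C) :
    SGA3b.powConv R C (a * b) x = SGA3b.powConv R C a (SGA3b.powConv R C b x) := by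
  have h := comp_powConv (SGA3b.powConv R C a) b
  rw [show toConv (SGA3b.powConv R C a) = toConv (AlgHom.id R C) ^ a from rfl, ← pow_mul] at h
  exact (congrArg (fun f : WithConv (C →ₐ[R] C) => f.ofConv x) h).symm

theorem counit_powConv (n : ℕ) (x : C) :
    Bialgebra.counitAlgHom R C (SGA3b.powConv R C n x) = Bialgebra.counitAlgHom R C x := by
  have h := comp_powConv (Bialgebra.counitAlgHom R C) n
  have h1 : toConv (Bialgebra.counitAlgHom R C) = 1 := by
    refine WithConv.ext (AlgHom.ext fun y => ?_)
    simp [AlgHom.convOne_def]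
  rw [h1, one_pow] at h
  have h2 := congrArg (fun f : WithConv (C →ₐ[R] R) => f.ofConv x) h
  simpa [AlgHom.convOne_def] using h2

/-- Triviality is multiplicative. -/
theorem TrivMod.mul {J J' : Ideal R} {a b : ℕ} (ha : TrivMod (R := R) (J.map (algebraMap R C)) a)
    (hb : TrivMod (R := R) (J'.map (algebraMap R C)) b) : TrivMod (R := R) ((J * J').map (algebraMap R C)) (b * a) := fun x => by
  have key : ∀ z ∈ J.map (algebraMap R C),
      SGA3b.powConv R C b z - algebraMap R C (Bialgebra.counitAlgHom R C z) ∈ (J * J').map (algebraMap R C) := by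
    intro z hz
    rw [← Submodule.restrictScalars_mem R, ← Ideal.smul_top_eq_map] at hz
    refine Submodule.smul_induction_on hz (fun j hj c _ => ?_) (fun y z hy hz => ?_)
    · rw [map_smul, map_smul, smul_eq_mul, map_mul, Algebra.smul_def, ← mul_sub, Ideal.map_mul]
      exact Ideal.mul_mem_mul (Ideal.mem_map_of_mem _ hj) (hb c)
    · rw [map_add, map_add, map_add, add_sub_add_comm]
      exact add_mem hy hz
  have h := key _ (ha x)
  rw [map_sub, map_sub, map_sub, AlgHom.commutes, counit_powConv, ← powConv_mul, AlgHom.commutes,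
    Algebra.algebraMap_self_apply, sub_self, sub_zero] at h
  exact h

/-- A criterion on generators. -/
theorem trivMod_of_gens {s : Set C} (hs : Algebra.adjoin R s = ⊤) {K : Ideal C} {n : ℕ}
    (h : ∀ x ∈ s, SGA3b.powConv R C n x - algebraMap R C (Bialgebra.counitAlgHom R C x) ∈ K) : TrivMod (R := R) K n := by
  have he : (Ideal.Quotient.mkₐ R K).comp (SGA3b.powConv R C n) =
      (Ideal.Quotient.mkₐ R K).comp ((Algebra.ofId R C).comp (Bialgebra.counitAlgHom R C)) :=
    AlgHom.ext_of_adjoin_eq_top hs fun x hx => (Ideal.Quotient.mk_eq_mk_iff_sub_mem _ _).mpr (h x hx)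
  exact fun x => (Ideal.Quotient.mk_eq_mk_iff_sub_mem _ _).mp (DFunLike.congr_fun he x)

/-- The `n`-th power map is multiplication by `n` on the cotangent space at the origin. -/
theorem powConv_sub_nsmul_mem (n : ℕ) {x : C} (hx : Bialgebra.counitAlgHom R C x = 0) :
    SGA3b.powConv R C n x - n • x ∈ RingHom.ker (Bialgebra.counitAlgHom R C) ^ 2 := by
  induction n with
  | zero =>
    have : SGA3b.powConv R C 0 x = algebraMap R C (Bialgebra.counitAlgHom R C x) := by
      simp [SGA3b.powConv, AlgHom.convOne_def]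
    simp [this, hx]
  | succ n ih =>
    let ε := Bialgebra.counitAlgHom R C
    let p := SGA3b.powConv R C n
    have key : ∀ t : C ⊗[R] C,
        LinearMap.mul' R C (TensorProduct.map p.toLinearMap LinearMap.id t)
          - p (TensorProduct.rid R C (LinearMap.lTensor C ε.toLinearMap t))
          - TensorProduct.lid R C (LinearMap.rTensor C ε.toLinearMap t)
          + algebraMap R C (ε (TensorProduct.rid R C (LinearMap.lTensor C ε.toLinearMap t)))
          ∈ RingHom.ker ε ^ 2 := by
      intro t
      induction t using TensorProduct.induction_on with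
      | zero => simp
      | tmul a b =>
        simp only [TensorProduct.map_tmul, LinearMap.mul'_apply, AlgHom.toLinearMap_apply, LinearMap.id_apply,
          LinearMap.lTensor_tmul, LinearMap.rTensor_tmul, TensorProduct.rid_tmul, TensorProduct.lid_tmul, map_smul,
          map_mul, Algebra.smul_def, AlgHom.commutes, Algebra.algebraMap_self_apply]
        have h1 : p a - algebraMap R C (ε a) ∈ RingHom.ker ε := by
          rw [RingHom.mem_ker, map_sub, AlgHom.commutes, Algebra.algebraMap_self_apply]
          exact sub_eq_zero.mpr (counit_powConv n a)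
        have h2 : b - algebraMap R C (ε b) ∈ RingHom.ker ε := by
          rw [RingHom.mem_ker, map_sub, AlgHom.commutes, Algebra.algebraMap_self_apply, sub_self]
        have h := Ideal.mul_mem_mul h1 h2
        rw [← pow_two] at h
        convert h using 1
        ring
      | add s t hs ht =>
        convert add_mem hs ht using 1
        simp only [map_add]
        abel
    have h := key (Coalgebra.comul x)
    rw [show LinearMap.lTensor C ε.toLinearMap (Coalgebra.comul x) = x ⊗ₜ[R] 1 from Coalgebra.lTensor_counit_comul x,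
      show LinearMap.rTensor C ε.toLinearMap (Coalgebra.comul x) = (1 : R) ⊗ₜ[R] x from Coalgebra.rTensor_counit_comul x,
      TensorProduct.rid_tmul, TensorProduct.lid_tmul, one_smul, hx, map_zero, add_zero] at h
    have e : LinearMap.mul' R C (TensorProduct.map p.toLinearMap LinearMap.id (Coalgebra.comul x)) =
        SGA3b.powConv R C (n + 1) x :=
      (LinearMap.convMul_apply (toConv p.toLinearMap) (toConv LinearMap.id) x).symm.trans
        (congrArg (fun f : WithConv (C →ₐ[R] C) => f.ofConv x) (pow_succ (toConv (AlgHom.id R C)) n)).symm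
    rw [e] at h
    convert add_mem h ih using 1
    rw [add_smul, one_smul]
    abel

theorem powConv_mem_sq_pow {p : ℕ} (hp : (p : C) = 0) (k : ℕ) {x : C} (hx : x ∈ RingHom.ker (Bialgebra.counitAlgHom R C)) :
    SGA3b.powConv R C (p ^ k) x ∈ RingHom.ker (Bialgebra.counitAlgHom R C) ^ (2 ^ k) := by
  set I := RingHom.ker (Bialgebra.counitAlgHom R C)
  induction k generalizing x with
  | zero => simpa [SGA3b.powConv, pow_one] using hx
  | succ k ih =>
    have h1 : I.map (SGA3b.powConv R C p) ≤ I ^ 2 := Ideal.map_le_iff_le_comap.mpr fun y hy => by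
      have h := powConv_sub_nsmul_mem p hy
      rwa [nsmul_eq_mul, hp, zero_mul, sub_zero] at h
    have h2 := Ideal.mem_map_of_mem (SGA3b.powConv R C p) (ih hx)
    rw [Ideal.map_pow] at h2
    rw [pow_succ' p, powConv_mul, pow_succ' 2, pow_mul]
    exact Ideal.pow_right_mono h1 _ h2

/-- A finite Hopf algebra over a field of characteristic zero has vanishing cotangent space. -/
theorem ker_le_sq {L : Type u} [Field L] [CharZero L] {A : Type u} [CommRing A] [HopfAlgebra L A] [Module.Finite L A] :
    RingHom.ker (Bialgebra.counitAlgHom L A) ≤ RingHom.ker (Bialgebra.counitAlgHom L A) ^ 2 := by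
  intro x hx
  by_contra hx2
  let ε := Bialgebra.counitAlgHom L A
  let I := RingHom.ker ε
  have hx' : x ∉ (I ^ 2).restrictScalars L ⊔ L ∙ (1 : A) := by
    rintro hmem
    obtain ⟨i, hi, j, hj, rfl⟩ := Submodule.mem_sup.mp hmem
    obtain ⟨c, rfl⟩ := Submodule.mem_span_singleton.mp hj
    have hi0 : ε i = 0 := Ideal.pow_le_self two_ne_zero hi
    have hc : c = 0 := by
      have h' : ε (i + c • 1) = 0 := hx
      rwa [map_add, hi0, zero_add, map_smul, map_one, smul_eq_mul, mul_one] at h'
    exact hx2 (by simpa [hc] using hi)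
  obtain ⟨φ, hφx, hφ⟩ := Submodule.exists_dual_map_eq_bot_of_notMem hx' inferInstance
  have hφ0 : ∀ y ∈ (I ^ 2).restrictScalars L ⊔ L ∙ (1 : A), φ y = 0 := fun y hy => by
    have := Submodule.mem_map_of_mem (f := φ) hy
    rwa [hφ, Submodule.mem_bot] at this
  have hφm : ∀ a b : A, φ (a * b) = ε a * φ b + φ a * ε b := by
    intro a b
    have h1 : φ ((a - algebraMap L A (ε a)) * (b - algebraMap L A (ε b))) = 0 :=
      hφ0 _ (Submodule.mem_sup_left (by
        show _ ∈ I ^ 2
        rw [pow_two]
        exact Ideal.mul_mem_mul (by simp [I, RingHom.mem_ker]) (by simp [I, RingHom.mem_ker])))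
    have h2 : φ 1 = 0 := hφ0 _ (Submodule.mem_sup_right (Submodule.mem_span_singleton_self _))
    rw [sub_mul, mul_sub, mul_sub, mul_comm a (algebraMap L A (ε b)), ← map_mul, ← Algebra.smul_def,
      ← Algebra.smul_def, Algebra.algebraMap_eq_smul_one, map_sub, map_sub, map_sub, map_smul, map_smul, map_smul,
      h2] at h1
    simp only [smul_eq_mul, mul_zero, sub_zero] at h1
    linear_combination h1
  let F : A ⊗[L] A →ₗ[L] A := (TensorProduct.rid L A).toLinearMap ∘ₗ LinearMap.lTensor A φ
  let E : A ⊗[L] A →ₗ[L] A := (TensorProduct.rid L A).toLinearMap ∘ₗ LinearMap.lTensor A ε.toLinearMap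
  have hFm : ∀ s t, F (s * t) = E s * F t + F s * E t := by
    intro s t
    induction s using TensorProduct.induction_on with
    | zero => simp
    | tmul a b =>
      induction t using TensorProduct.induction_on with
      | zero => simp
      | tmul c d =>
        simp [F, E, Algebra.TensorProduct.tmul_mul_tmul, hφm, add_smul, Algebra.smul_def]
        ring
      | add y z hy hz => simp only [mul_add, map_add, hy, hz]; ring
    | add y z hy hz => simp only [add_mul, map_add, hy, hz]; ring
  have hE : ∀ a : A, E (Coalgebra.comul a) = a := fun a => by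
    show TensorProduct.rid L A (LinearMap.lTensor A ε.toLinearMap (Coalgebra.comul a)) = a
    rw [show LinearMap.lTensor A ε.toLinearMap (Coalgebra.comul a) = a ⊗ₜ[L] 1 from Coalgebra.lTensor_counit_comul a]
    simp
  let D : A → A := fun a => F (Coalgebra.comul a)
  have hD : ∀ a b, D (a * b) = a * D b + D a * b := fun a b => by
    simp only [D, Bialgebra.comul_mul, hFm, hE]
  have hεD : ε (D x) = φ x := by
    have h : ∀ t : A ⊗[L] A, ε (F t) = φ (TensorProduct.lid L A (LinearMap.rTensor A ε.toLinearMap t)) := fun t => by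
      induction t using TensorProduct.induction_on with
      | zero => simp
      | tmul a b => simp [F, mul_comm]
      | add y z hy hz => simp [hy, hz]
    show ε (F _) = _
    rw [h, show LinearMap.rTensor A ε.toLinearMap (Coalgebra.comul x) = (1 : L) ⊗ₜ[L] x from
      Coalgebra.rTensor_counit_comul x]
    simp
  have hD0 : D 0 = 0 := by simp [D]
  haveI : IsArtinianRing A := IsArtinianRing.of_finite L A
  haveI hI : I.IsMaximal := RingHom.ker_isMaximal_of_surjective _ (fun c => ⟨algebraMap L A c, by simp [ε]⟩)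
  have hnil : ∃ N : ℕ, ∃ s ∉ I, x ^ N * s = 0 := by
    obtain ⟨N, hN⟩ := IsArtinianRing.isNilpotent_jacobson_bot (R := Localization.AtPrime I)
    have hmem : algebraMap A (Localization.AtPrime I) x ∈ Ideal.jacobson ⊥ := by
      rw [IsLocalRing.jacobson_eq_maximalIdeal _ bot_ne_top, IsLocalization.AtPrime.to_map_mem_maximal_iff _ I]
      exact hx
    have h0 : algebraMap A (Localization.AtPrime I) (x ^ N) = 0 := by
      rw [map_pow]
      have := Ideal.pow_mem_pow hmem N
      rw [hN] at this
      simpa using this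
    obtain ⟨⟨s, hs⟩, hs0⟩ := (IsLocalization.map_eq_zero_iff I.primeCompl _ _).mp h0
    exact ⟨N, s, hs, by rw [mul_comm]; exact hs0⟩
  obtain ⟨N, s, hs, hs0⟩ := hnil
  induction N generalizing s with
  | zero => exact hs (by rw [pow_zero, one_mul] at hs0; rw [hs0]; exact zero_mem _)
  | succ N ih =>
    have hpow : ∀ k : ℕ, D (x ^ (k + 1)) = (k + 1 : ℕ) • (x ^ k * D x) := by
      intro k
      induction k with
      | zero => simp
      | succ k ihk => rw [pow_succ, hD, ihk]; simp only [nsmul_eq_mul]; push_cast; ring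
    have h1 : D (x ^ (N + 1) * s) = 0 := by rw [hs0, hD0]
    rw [hD, hpow, nsmul_eq_mul] at h1
    refine ih (((N + 1 : ℕ) : A) * D x * (s * s)) (fun h => ?_) ?_
    · have h' : ε (((N + 1 : ℕ) : A) * D x * (s * s)) = 0 := h
      rw [map_mul, map_mul, map_mul, hεD, map_natCast] at h'
      simp only [mul_eq_zero, Nat.cast_eq_zero, Nat.succ_ne_zero, false_or, or_self] at h'
      rcases h' with h' | h'
      · exact hφx h'
      · exact hs h'
    · linear_combination s * h1 - D s * hs0

/-- Over an algebraically closed field a finite group is killed by an integer. -/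
theorem exists_trivMod_closed {L : Type u} [Field L] [IsAlgClosed L] {A : Type u} [CommRing A] [HopfAlgebra L A]
    [Module.Finite L A] : ∃ n, 0 < n ∧ TrivMod (R := L) (⊥ : Ideal A) n := by
  haveI : IsArtinianRing A := IsArtinianRing.of_finite L A
  haveI : Finite (A →ₐ[L] L) := inferInstance
  haveI : Finite (WithConv (A →ₐ[L] L)) := Finite.of_equiv _ (WithConv.equiv _).symm
  let e := Nat.card (WithConv (A →ₐ[L] L))
  let I := RingHom.ker (Bialgebra.counitAlgHom L A)
  have he : I.map (SGA3b.powConv L A e) ≤ nilradical A := by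
    rw [Ideal.map_le_iff_le_comap]
    intro x hx
    rw [Ideal.mem_comap, nilradical_eq_sInf, Submodule.mem_sInf]
    intro m hm
    haveI : Ideal.IsPrime m := hm
    haveI : Ideal.IsMaximal m := IsArtinianRing.isMaximal_of_isPrime m
    letI := Ideal.Quotient.field m
    let eb : L ≃ₐ[L] A ⧸ m := AlgEquiv.ofBijective (Algebra.ofId L (A ⧸ m))
      (IsAlgClosed.algebraMap_bijective_of_isIntegral (k := L) (K := A ⧸ m))
    let φ : A →ₐ[L] L := eb.symm.toAlgHom.comp (Ideal.Quotient.mkₐ L m)
    have h := comp_powConv φ e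
    rw [pow_card_eq_one'] at h
    have h1 := congrArg (fun f : WithConv (A →ₐ[L] L) => f.ofConv x) h
    have h2 : φ (SGA3b.powConv L A e x) = 0 := by
      refine h1.trans ?_
      simp only [AlgHom.convOne_def]
      show algebraMap L L (Bialgebra.counitAlgHom L A x) = 0
      rw [RingHom.mem_ker.mp hx, map_zero]
    have h3 : eb.symm (Ideal.Quotient.mk m (SGA3b.powConv L A e x)) = 0 := h2
    rw [map_eq_zero_iff _ eb.symm.injective] at h3
    exact Ideal.Quotient.eq_zero_iff_mem.mp h3
  obtain ⟨N, hN⟩ := IsArtinianRing.isNilpotent_nilradical (R := A)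
  obtain ⟨q, hq, hqN⟩ : ∃ q, 0 < q ∧ ∀ x ∈ I, SGA3b.powConv L A q x ∈ I ^ N := by
    rcases CharP.char_is_prime_or_zero L (ringChar L) with hp | hp
    · refine ⟨ringChar L ^ N, pow_pos hp.pos _, fun x hx => Ideal.pow_le_pow_right N.lt_two_pow_self.le
        (powConv_mem_sq_pow ?_ N hx)⟩
      rw [← map_natCast (algebraMap L A), CharP.cast_eq_zero, map_zero]
    · haveI : CharP L 0 := hp ▸ ringChar.charP L
      haveI : CharZero L := CharP.charP_to_charZero L
      refine ⟨1, one_pos, fun x hx => ?_⟩
      have hII : I = I ^ 2 := le_antisymm ker_le_sq (Ideal.pow_le_self two_ne_zero)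
      have hk : ∀ k, I ≤ I ^ k := fun k => by
        induction k with
        | zero => simp
        | succ k ih => calc I = I ^ 2 := hII
            _ = I * I := pow_two I
            _ ≤ I ^ k * I := Ideal.mul_mono_left ih
            _ = I ^ (k + 1) := (pow_succ I k).symm
      simpa [SGA3b.powConv, pow_one] using hk N hx
  refine ⟨e * q, Nat.mul_pos Nat.card_pos hq, fun x => ?_⟩
  have hy : x - algebraMap L A (Bialgebra.counitAlgHom L A x) ∈ I := by simp [I, RingHom.mem_ker]
  have h := Ideal.mem_map_of_mem (SGA3b.powConv L A e) (hqN _ hy)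
  rw [Ideal.map_pow] at h
  have h' := Ideal.pow_right_mono he N h
  rw [hN] at h'
  rwa [map_sub, map_sub, AlgHom.commutes, AlgHom.commutes, ← powConv_mul] at h'

/-- The same over any field. -/
theorem exists_trivMod_field {K : Type u} [Field K] {A : Type u} [CommRing A] [HopfAlgebra K A]
    [Module.Finite K A] : ∃ n, 0 < n ∧ TrivMod (R := K) (⊥ : Ideal A) n := by
  obtain ⟨n, hn, h⟩ := exists_trivMod_closed (L := AlgebraicClosure K) (A := AlgebraicClosure K ⊗[K] A)
  refine ⟨n, hn, fun x => ?_⟩
  have h1 := h (1 ⊗ₜ x)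
  rw [Submodule.mem_bot, powConv_baseChange, counit_one_tmul, Algebra.TensorProduct.algebraMap_apply,
    Algebra.algebraMap_self_apply, Algebra.algebraMap_eq_smul_one, ← TensorProduct.smul_tmul',
    ← TensorProduct.tmul_smul, ← Algebra.algebraMap_eq_smul_one, ← TensorProduct.tmul_sub] at h1
  rw [Submodule.mem_bot]
  exact Algebra.TensorProduct.includeRight_injective (algebraMap K (AlgebraicClosure K)).injective
    (h1.trans (TensorProduct.tmul_zero _ _).symm)

/-- At a prime the power map kills the group modulo the prime, up to an element outside it. -/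
theorem exists_at_prime [Algebra.FiniteType R C] [Algebra.QuasiFinite R C] (P : Ideal R) [P.IsPrime] :
    ∃ n, 0 < n ∧ ∃ f ∉ P, ∀ x, algebraMap R C f *
      (SGA3b.powConv R C n x - algebraMap R C (Bialgebra.counitAlgHom R C x)) ∈ P.map (algebraMap R C) := by
  classical
  let K := FractionRing (R ⧸ P)
  haveI : Module.Finite K (K ⊗[R] C) := .of_quasiFinite
  obtain ⟨n, hn, h⟩ := exists_trivMod_field (K := K) (A := K ⊗[R] C)
  let D := C ⧸ P.map (algebraMap R C)
  let M := Algebra.algebraMapSubmonoid D P.primeCompl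
  let L := Localization M
  let α : R ⧸ P →+* L := Ideal.Quotient.lift P (algebraMap R L) fun a ha => by
    rw [IsScalarTower.algebraMap_apply R D L, IsScalarTower.algebraMap_apply R C D,
      Ideal.Quotient.algebraMap_eq, Ideal.Quotient.eq_zero_iff_mem.mpr (Ideal.mem_map_of_mem _ ha), map_zero]
  have hα : ∀ y : nonZeroDivisors (R ⧸ P), IsUnit (α y) := by
    rintro ⟨y, hy⟩
    obtain ⟨a, rfl⟩ := Ideal.Quotient.mk_surjective y
    rw [Ideal.Quotient.lift_mk, IsScalarTower.algebraMap_apply R D L]
    refine IsLocalization.map_units L (⟨_, ⟨a, fun ha => ?_, rfl⟩⟩ : M)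
    exact nonZeroDivisors.ne_zero hy (Ideal.Quotient.eq_zero_iff_mem.mpr ha)
  let β : K →ₐ[R] L := ⟨IsLocalization.lift hα, fun r => by
    rw [IsScalarTower.algebraMap_apply R (R ⧸ P) K]
    exact (IsLocalization.lift_eq hα (algebraMap R (R ⧸ P) r)).trans rfl⟩
  let γ : K ⊗[R] C →ₐ[R] L := Algebra.TensorProduct.lift β
    ((IsScalarTower.toAlgHom R D L).comp (Ideal.Quotient.mkₐ R _)) (fun _ _ => Commute.all _ _)
  have hzero : ∀ x, ∃ f ∉ P, algebraMap R C f *
      (SGA3b.powConv R C n x - algebraMap R C (Bialgebra.counitAlgHom R C x)) ∈ P.map (algebraMap R C) := by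
    intro x
    have h1 := h (1 ⊗ₜ x)
    rw [Submodule.mem_bot, powConv_baseChange, counit_one_tmul, Algebra.TensorProduct.algebraMap_apply,
      Algebra.algebraMap_self_apply, Algebra.algebraMap_eq_smul_one, ← TensorProduct.smul_tmul',
      ← TensorProduct.tmul_smul, ← Algebra.algebraMap_eq_smul_one, ← TensorProduct.tmul_sub] at h1
    have h2 := congrArg γ h1
    rw [map_zero, Algebra.TensorProduct.lift_tmul, map_one, one_mul] at h2
    obtain ⟨⟨_, f, hf, rfl⟩, hf0⟩ := (IsLocalization.map_eq_zero_iff M L _).mp h2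
    refine ⟨f, hf, Ideal.Quotient.eq_zero_iff_mem.mp ?_⟩
    rw [map_mul, ← Ideal.Quotient.algebraMap_eq, ← IsScalarTower.algebraMap_apply R C D]
    exact hf0
  choose f hf hfx using hzero
  obtain ⟨s, hs⟩ := ‹Algebra.FiniteType R C›.out
  refine ⟨n, hn, ∏ x ∈ s, f x, ?_, fun x => ?_⟩
  · exact fun hmem => by
      obtain ⟨y, _, hy⟩ := Ideal.IsPrime.prod_mem_iff.mp hmem
      exact hf y hy
  · have key := trivMod_of_gens (R := R) hs
      (K := (P.map (algebraMap R C)).colon (Ideal.span {algebraMap R C (∏ x ∈ s, f x)} : Set C)) (n := n) fun y hy => by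
        rw [Submodule.mem_colon_span_singleton, smul_eq_mul, ← Finset.mul_prod_erase s f hy, map_mul, ← mul_assoc,
          mul_comm _ (algebraMap R C (f y))]
        exact Ideal.mul_mem_right _ _ (hfx y)
    have := key x
    rw [Submodule.mem_colon_span_singleton, smul_eq_mul, mul_comm] at this
    exact this

/-- A quasi-finite commutative group of finite type is killed by an integer. -/
theorem main [Algebra.FiniteType R C] [Algebra.QuasiFinite R C] :
    ∃ n, 0 < n ∧ ∀ c : C, SGA3b.powConv R C n c = algebraMap R C (Coalgebra.counit c) := by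
  classical
  let Good : Ideal R → Prop := fun J => ∃ n, 0 < n ∧ TrivMod (R := R) (J.map (algebraMap R C)) n
  by_contra hcon
  have h0 : ¬ Good ⊥ := fun ⟨n, hn, h⟩ => hcon ⟨n, hn, fun c => by
    have := h c
    rwa [Ideal.map_bot, Submodule.mem_bot, sub_eq_zero] at this⟩
  obtain ⟨P, -, hP⟩ := zorn_le_nonempty₀ {J : Ideal R | ¬ Good J} (fun c hc hchain y hy => by
    refine ⟨sSup c, ?_, fun z hz => le_sSup hz⟩
    rintro ⟨n, hn, h⟩
    obtain ⟨s, hs⟩ := ‹Algebra.FiniteType R C›.out
    have hdir := hchain.directedOn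
    have hex : ∃ J ∈ c, ∀ x ∈ s,
        SGA3b.powConv R C n x - algebraMap R C (Bialgebra.counitAlgHom R C x) ∈ J.map (algebraMap R C) := by
      have hmem : ∀ x ∈ s, ∃ J ∈ c, SGA3b.powConv R C n x - algebraMap R C (Bialgebra.counitAlgHom R C x) ∈
          J.map (algebraMap R C) := fun x _ => by
        have h' := h x
        rw [sSup_eq_iSup', Ideal.map_iSup] at h'
        haveI : Nonempty c := ⟨⟨y, hy⟩⟩
        obtain ⟨J, hJ⟩ := (Submodule.mem_iSup_of_directed _ (fun a b => by
          obtain ⟨z, hz, ha, hb⟩ := hdir a.1 a.2 b.1 b.2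
          exact ⟨⟨z, hz⟩, Ideal.map_mono ha, Ideal.map_mono hb⟩)).mp h'
        exact ⟨J.1, J.2, hJ⟩
      clear hs
      induction s using Finset.induction with
      | empty => exact ⟨y, hy, fun _ h => absurd h (Finset.notMem_empty _)⟩
      | insert a s _ ih =>
        obtain ⟨J₁, hJ₁, h₁⟩ := ih fun x hx => hmem x (Finset.mem_insert_of_mem hx)
        obtain ⟨J₂, hJ₂, h₂⟩ := hmem a (Finset.mem_insert_self _ _)
        obtain ⟨z, hz, ha, hb⟩ := hdir J₁ hJ₁ J₂ hJ₂
        refine ⟨z, hz, fun x hx => ?_⟩
        rcases Finset.mem_insert.mp hx with rfl | hx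
        · exact Ideal.map_mono hb h₂
        · exact Ideal.map_mono ha (h₁ x hx)
    obtain ⟨J, hJ, hJx⟩ := hex
    exact hc hJ ⟨n, hn, trivMod_of_gens hs hJx⟩) ⊥ h0
  have hbig : ∀ a, a ∉ P → Good (P ⊔ Ideal.span {a}) := fun a ha => by
    by_contra hb
    exact ha (hP.2 hb le_sup_left (Ideal.mem_sup_right (Ideal.mem_span_singleton_self a)))
  have htop : P ≠ ⊤ := fun h => hP.1 (h ▸ ⟨1, one_pos, fun x => by rw [Ideal.map_top]; trivial⟩)
  haveI : P.IsPrime := ⟨htop, fun {a b} hab => by
    by_contra! hne
    obtain ⟨m, hm, hma⟩ := hbig a hne.1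
    obtain ⟨l, hl, hlb⟩ := hbig b hne.2
    refine hP.1 ⟨l * m, Nat.mul_pos hl hm, fun x => Ideal.map_mono ?_ (TrivMod.mul (R := R) hma hlb x)⟩
    rw [Ideal.sup_mul, Ideal.mul_sup, Ideal.mul_sup, Ideal.span_singleton_mul_span_singleton]
    exact sup_le (sup_le Ideal.mul_le_left Ideal.mul_le_left) (sup_le Ideal.mul_le_right
      (by rwa [Ideal.span_singleton_le_iff_mem]))⟩
  obtain ⟨n, hn, f, hf, hfx⟩ := exists_at_prime (R := R) (C := C) P
  obtain ⟨m, hm, hmf⟩ := hbig f hf
  refine hP.1 ⟨n * m, Nat.mul_pos hn hm, fun x => ?_⟩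
  have h := hmf x
  rw [Ideal.map_sup, Ideal.map_span, Set.image_singleton, Submodule.mem_sup] at h
  obtain ⟨y, hy, w, hw, hyw⟩ := h
  obtain ⟨z, rfl⟩ := Ideal.mem_span_singleton.mp hw
  have h2 := congrArg (fun t => SGA3b.powConv R C n t - algebraMap R C (Bialgebra.counitAlgHom R C t)) hyw
  simp only [map_add, map_sub, map_mul, AlgHom.commutes, counit_powConv, Algebra.algebraMap_self_apply, sub_self,
    map_zero, sub_zero, ← powConv_mul] at h2
  rw [← h2]
  have hpy : SGA3b.powConv R C n y ∈ P.map (algebraMap R C) := by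
    rw [← Submodule.restrictScalars_mem R, ← Ideal.smul_top_eq_map] at hy ⊢
    exact Submodule.smul_induction_on hy
      (fun j hj c _ => by rw [map_smul]; exact Submodule.smul_mem_smul hj trivial)
      (fun y z hy hz => by rw [map_add]; exact add_mem hy hz)
  have hεy : algebraMap R C (Bialgebra.counitAlgHom R C y) ∈ P.map (algebraMap R C) := by
    rw [← Submodule.restrictScalars_mem R, ← Ideal.smul_top_eq_map] at hy ⊢
    exact Submodule.smul_induction_on hy
      (fun j hj c _ => by rw [map_smul, smul_eq_mul, map_mul, ← Algebra.smul_def]; exact Submodule.smul_mem_smul hj trivial)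
      (fun y z hy hz => by rw [map_add, map_add]; exact add_mem hy hz)
  have hfz := hfx z
  rw [mul_sub] at hfz
  convert add_mem (sub_mem hpy hεy) hfz using 1
  ring

end Groth.Agent.GrpSchLib.QuasiFinitePow
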