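import Groth.Agent.GrpSchLib.MuGLn

/-! Glue between morphisms of schemes and algebra maps for diagonalisable subgroups of the general linear group. -/

open CategoryTheory CategoryTheory.Limits MonoidalCategory CartesianMonoidalCategory MonObj GrpObj AlgebraicGeometry
open TensorProduct WithConv

universe u

namespace Groth.Agent.GrpSchLib.MuGLn

open AffineHopf GLnDiag CoordGrp

/-- The identity section of the spectrum of the base. -/
noncomputable def e1 (R : Type u) [CommRing R] : 𝟙_ (Over (Spec (CommRingCat.of R))) ⟶ sp R R :=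
  Over.homMk (𝟙 _) (by
    show 𝟙 _ ≫ Spec.map (CommRingCat.ofHom (algebraMap R R)) = 𝟙 _
    simp)

theorem toUnit_e1 (R C : Type u) [CommRing R] [CommRing C] [Algebra R C] :
    toUnit (sp R C) ≫ e1 R = spMap (Algebra.ofId R C) := by
  refine Over.OverMorphism.ext ?_
  exact Category.comp_id _

theorem toUnit_eq_spMap_comp (R C : Type u) [CommRing R] [CommRing C] [Algebra R C] :
    toUnit (sp R C) = spMap (Algebra.ofId R C) ≫ toUnit (sp R R) := toUnit_unique _ _

/-- A split group with character group M is the spectrum of its group algebra. -/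
theorem exists_sp_iso {k : Type u} [CommRing k] {M : Type} [AddCommGroup M] (σ : Over (Spec (CommRingCat.of k))) [GrpObj σ]
    (hσ : Red.IsSplitTorusWith M σ) :
    ∃ e : sp k (MonoidAlgebra k (Multiplicative M)) ≅ σ, IsMonHom e.hom := by
  obtain ⟨a⟩ := nonempty_DS_iso k M
  obtain ⟨b⟩ := hσ
  let c := a.trans b.symm
  exact ⟨(Grp.forget _).mapIso c, c.hom.hom.isMonHom_hom⟩

end Groth.Agent.GrpSchLib.MuGLn

namespace Groth.Agent.GrpSchLib.MuGLn

open AffineHopf GLnDiag CoordGrp

variable {k K : Type u} [Field k] [Field K] [Algebra k K] {m : ℕ} {G : Type} [CommGroup G]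

theorem exists_bialgHom_diag [Finite G] (c : Fin m → G) (hc : Subgroup.closure (Set.range c) = ⊤) :
    ∃ π : GLn m k →ₐc[k] MonoidAlgebra k G, Function.Surjective π ∧
      mat (π : GLn m k →ₐ[k] MonoidAlgebra k G) = diagG c := by
  classical
  have hu : IsUnit (diagG (F := k) c) := by
    refine IsUnit.of_mul_eq_one (diagG fun i => (c i)⁻¹) ?_
    simp [diagG, Matrix.diagonal_mul_diagonal, ← MonoidAlgebra.one_def]
  obtain ⟨f, hf⟩ := exists_pt (k := k) (diagG c) hu
  have hX : ∀ i j, f (GLn.X i j) = diagG c i j := fun i j => congrFun (congrFun hf i) j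
  refine ⟨BialgHom.ofAlgHom f ?_ ?_, ?_, hf⟩
  · refine ext_mat (Matrix.ext fun i j => ?_)
    show Coalgebra.counit (R := k) (f (GLn.X i j)) = Coalgebra.counit (R := k) (GLn.X (k := k) i j)
    rw [GLn.counit_X, hX, diagG, Matrix.diagonal_apply]
    split_ifs <;> simp
  · refine ext_mat (Matrix.ext fun i j => ?_)
    show Algebra.TensorProduct.map f f (Coalgebra.comul (R := k) (GLn.X (k := k) i j)) = Coalgebra.comul (R := k) (f (GLn.X i j))
    rw [GLn.comul_X, hX, map_sum]
    simp only [Algebra.TensorProduct.map_tmul, hX, diagG, Matrix.diagonal_apply]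
    rw [Finset.sum_eq_single i]
    · split_ifs <;> simp_all [TensorProduct.tmul_zero]
    · intro l _ hl; simp [Ne.symm hl, TensorProduct.zero_tmul]
    · simp
  · show Function.Surjective f
    rw [← AlgHom.range_eq_top, eq_top_iff]
    have hg : ∀ g : G, MonoidAlgebra.single g 1 ∈ f.range := by
      intro g
      have hg : g ∈ Subgroup.closure (Set.range c) := hc ▸ Subgroup.mem_top g
      rw [← Subgroup.mem_toSubmonoid, Subgroup.closure_toSubmonoid_of_finite] at hg
      induction hg using Submonoid.closure_induction with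
      | mem x hx =>
        obtain ⟨i, rfl⟩ := hx
        exact ⟨GLn.X i i, by show f (GLn.X i i) = _; rw [hX]; simp [diagG]⟩
      | one => rw [← MonoidAlgebra.one_def]; exact one_mem _
      | mul x y _ _ hx hy =>
        rw [show MonoidAlgebra.single (x * y) (1 : k) = MonoidAlgebra.single x 1 * MonoidAlgebra.single y 1 by simp]
        exact mul_mem hx hy
    intro x _
    induction x using MonoidAlgebra.induction_on with
    | of g => exact hg g
    | add a b ha hb => exact add_mem (ha trivial) (hb trivial)
    | smul r a ha => exact Subalgebra.smul_mem _ (ha trivial) r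

set_option backward.isDefEq.respectTransparency false in
/-- A closed diagonalisable subgroup of the base change is diagonalised over the extension. -/
theorem exists_diag_of_toBc [Finite G] (f : GLn m k →ₐ[k] MonoidAlgebra K G)
    (hm : IsMonHom (toBc (S := K) f ≫ bcToSp)) (hcl : IsClosedImmersion (toBc (S := K) f ≫ bcToSp).left) :
    ∃ (P : Matrix (Fin m) (Fin m) K) (c : Fin m → G), IsUnit P ∧ Subgroup.closure (Set.range c) = ⊤ ∧
      mat f = P.map (algebraMap K _) * diagG c * P⁻¹.map (algebraMap K _) := by
  obtain ⟨F₀, hF₀⟩ := exists_bialgHom (toBc (S := K) f ≫ bcToSp)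
  have hF : (F₀ : K ⊗[k] GLn m k →ₐ[K] MonoidAlgebra K G) = extendScalars f :=
    spMap_injective (hF₀.symm.trans (toBc_bcToSp f))
  have hval : ∀ y, F₀ ((1 : K) ⊗ₜ[k] y) = f y := fun y => by
    show (F₀ : K ⊗[k] GLn m k →ₐ[K] MonoidAlgebra K G) _ = _
    rw [hF, extendScalars_tmul, one_smul]
  have hs : Function.Surjective (extendScalars (S := K) f) :=
    surjective_of_isClosedImmersion _ (by rw [← toBc_bcToSp]; exact hcl)
  obtain ⟨P, c, hP, hM⟩ := exists_diagonalization (mat f)
    (fun i j => by
      show Coalgebra.comul (R := K) (f (GLn.X i j)) = ∑ l, f (GLn.X i l) ⊗ₜ[K] f (GLn.X l j)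
      rw [← hval, ← CoalgHomClass.map_comp_comul_apply, TensorProduct.comul_tmul, GLn.comul_X, CommSemiring.comul_apply]
      simp only [TensorProduct.tmul_sum, map_sum, TensorProduct.AlgebraTensorModule.tensorTensorTensorComm_tmul,
        TensorProduct.map_tmul, ← hval]
      rfl)
    (fun i j => by
      show Coalgebra.counit (R := K) (f (GLn.X i j)) = _
      rw [← hval, CoalgHomClass.counit_comp_apply, TensorProduct.counit_tmul, GLn.counit_X, CommSemiring.counit_apply]
      split_ifs <;> simp)
  refine ⟨P, c, hP, closure_range_eq_top (fun x => ?_) hM, hM⟩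
  obtain ⟨y, rfl⟩ := hs x
  induction y using TensorProduct.induction_on with
  | zero => rw [map_zero]; exact zero_mem _
  | tmul s a => rw [extendScalars_tmul]; exact Subalgebra.smul_mem _ (Algebra.subset_adjoin (show f a ∈ Set.range f from ⟨a, rfl⟩)) s
  | add a b ha hb => rw [map_add]; exact add_mem ha hb

set_option backward.isDefEq.respectTransparency false in
instance isIso_toBc_ιK : IsIso (toBc (S := K) (ιK k K G)) := by
  have hb : (extendScalars (S := K) (ιK k K G)) = (MonoidAlgebra.scalarTensorEquiv k K (M := G) : _ →ₐ[K] _) := by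
    refine Algebra.TensorProduct.ext (Subsingleton.elim _ _) (MonoidAlgebra.algHom_ext (fun g => ?_) (Subsingleton.elim _ _))
    show extendScalars (S := K) (ιK k K G) (1 ⊗ₜ MonoidAlgebra.single g 1) = MonoidAlgebra.scalarTensorEquiv k K (1 ⊗ₜ MonoidAlgebra.single g 1)
    rw [extendScalars_tmul, ιK_single, one_smul]
    simp
  haveI hL : IsIso ((Over.forget _).map (spMap (extendScalars (S := K) (ιK k K G)))) := by
    rw [hb]
    exact inferInstanceAs (IsIso (Spec.map (MonoidAlgebra.scalarTensorEquiv k K (M := G)).toRingEquiv.toCommRingCatIso.hom))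
  haveI : IsIso (spMap (extendScalars (S := K) (ιK k K G))) := isIso_of_reflects_iso _ (Over.forget _)
  haveI : IsIso (bcToSp (R := k) (S := K) (A := MonoidAlgebra k G)).left :=
    inferInstanceAs (IsIso (pullbackSymmetry .. ≪≫ pullbackSpecIso' k K (MonoidAlgebra k G)).hom)
  haveI : IsIso ((Over.forget _).map (bcToSp (R := k) (S := K) (A := MonoidAlgebra k G))) := ‹IsIso (bcToSp (R := k) (S := K) (A := MonoidAlgebra k G)).left›
  haveI := isIso_of_reflects_iso (bcToSp (R := k) (S := K) (A := MonoidAlgebra k G)) (Over.forget _)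
  haveI : IsIso (toBc (S := K) (ιK k K G) ≫ bcToSp) := by rw [toBc_bcToSp]; infer_instance
  exact IsIso.of_isIso_comp_right _ bcToSp

end Groth.Agent.GrpSchLib.MuGLn
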