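import Mathlib.RingTheory.Henselian
import Mathlib.RingTheory.RootsOfUnity.AlgebraicallyClosed
import Mathlib.Algebra.CharP.Basic
import Mathlib.Algebra.CharP.Quotient
import Mathlib.RingTheory.IntegralClosure.IntegralRestrict
import Mathlib.Algebra.MonoidAlgebra.Basic
import Mathlib.RingTheory.Ideal.Quotient.Operations
import Mathlib.Data.ZMod.Basic

/-!
# Alternating pairings of roots of unity over a strictly henselian local ring are trivial
-/

open Polynomial

namespace Groth.Agent.GrpSchLib.MuPairing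

universe u

/-- A natural, bimultiplicative, alternating pairing of `n`-th roots of unity. -/
structure Pairing (R : Type u) [CommRing R] (n : ℕ) where
  e : ∀ (A : Type u) [CommRing A] [Algebra R A], A → A → A
  nat' : ∀ {A B : Type u} [CommRing A] [CommRing B] [Algebra R A] [Algebra R B] (f : A →ₐ[R] B) (x y : A),
    x ^ n = 1 → y ^ n = 1 → f (e A x y) = e B (f x) (f y)
  isUnit' : ∀ {A : Type u} [CommRing A] [Algebra R A] (x y : A), x ^ n = 1 → y ^ n = 1 → IsUnit (e A x y)
  left' : ∀ {A : Type u} [CommRing A] [Algebra R A] (x x' y : A), x ^ n = 1 → x' ^ n = 1 → y ^ n = 1 →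
    e A (x * x') y = e A x y * e A x' y
  right' : ∀ {A : Type u} [CommRing A] [Algebra R A] (x y y' : A), x ^ n = 1 → y ^ n = 1 → y' ^ n = 1 →
    e A x (y * y') = e A x y * e A x y'
  self' : ∀ {A : Type u} [CommRing A] [Algebra R A] (x : A), x ^ n = 1 → e A x x = 1

variable {R : Type u} [CommRing R] {n : ℕ} (P : Pairing R n)

theorem Pairing.one_left {A : Type u} [CommRing A] [Algebra R A] {y : A} (hy : y ^ n = 1) : P.e A 1 y = 1 := by
  have h := P.left' (1 : A) 1 y (one_pow _) (one_pow _) hy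
  rw [mul_one] at h
  exact (IsUnit.mul_eq_left (P.isUnit' 1 y (one_pow _) hy)).mp h.symm

theorem Pairing.one_right {A : Type u} [CommRing A] [Algebra R A] {x : A} (hx : x ^ n = 1) : P.e A x 1 = 1 := by
  have h := P.right' x (1 : A) 1 hx (one_pow _) (one_pow _)
  rw [mul_one] at h
  exact (IsUnit.mul_eq_left (P.isUnit' x 1 hx (one_pow _))).mp h.symm

theorem Pairing.pow_left {A : Type u} [CommRing A] [Algebra R A] {x y : A} (hx : x ^ n = 1) (hy : y ^ n = 1) (i : ℕ) :
    P.e A (x ^ i) y = P.e A x y ^ i := by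
  induction i with
  | zero => rw [pow_zero, pow_zero, P.one_left hy]
  | succ i ih => rw [pow_succ, pow_succ, P.left' _ _ _ (by rw [pow_right_comm, hx, one_pow]) hx hy, ih]

theorem Pairing.pow_right {A : Type u} [CommRing A] [Algebra R A] {x y : A} (hx : x ^ n = 1) (hy : y ^ n = 1) (i : ℕ) :
    P.e A x (y ^ i) = P.e A x y ^ i := by
  induction i with
  | zero => rw [pow_zero, pow_zero, P.one_right hx]
  | succ i ih => rw [pow_succ, pow_succ, P.right' _ _ _ hx (by rw [pow_right_comm, hy, one_pow]) hy, ih]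

theorem pow_eq_one_of_dvd {A : Type*} [Monoid A] {x : A} {m n : ℕ} (h : m ∣ n) (hx : x ^ m = 1) : x ^ n = 1 := by
  obtain ⟨c, rfl⟩ := h
  rw [pow_mul, hx, one_pow]

/-- The factorisation of `X ^ m - 1`. -/
theorem prod_X_sub_C_eq {m : ℕ} (hm : 0 < m) (ζ : R) (hζ : ζ ^ m = 1)
    (hdiff : ∀ i j : Fin m, i ≠ j → IsUnit (ζ ^ (i : ℕ) - ζ ^ (j : ℕ))) :
    (∏ i : Fin m, (X - C (ζ ^ (i : ℕ)))) = X ^ m - 1 := by
  rcases subsingleton_or_nontrivial R with hR | hR
  · exact Subsingleton.elim _ _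
  refine (Polynomial.eq_of_monic_of_dvd_of_natDegree_le (monic_prod_of_monic _ _ fun i _ => monic_X_sub_C _)
    (show (X ^ m - 1 : R[X]).Monic by simpa using monic_X_pow_sub_C (1 : R) hm.ne')
    (Fintype.prod_dvd_of_coprime (fun i j hij => Polynomial.isCoprime_X_sub_C_of_isUnit_sub (hdiff i j hij))
      fun i => ?_) ?_).symm
  · rw [dvd_iff_isRoot]
    simp [IsRoot, ← pow_mul, pow_mul', hζ]
  · rw [← map_one (C : R →+* R[X]), natDegree_X_pow_sub_C, natDegree_prod_of_monic _ _ fun i _ => monic_X_sub_C _]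
    simp only [natDegree_X_sub_C]
    simp

/-- The roots of unity split. -/
theorem iInf_span_eq_bot {m : ℕ} (hm : 0 < m) (ζ : R) (hζ : ζ ^ m = 1)
    (hdiff : ∀ i j : Fin m, i ≠ j → IsUnit (ζ ^ (i : ℕ) - ζ ^ (j : ℕ)))
    {A : Type u} [CommRing A] [Algebra R A] (z : A) (hz : z ^ m = 1) :
    ⨅ i : Fin m, Ideal.span {z - algebraMap R A (ζ ^ (i : ℕ))} = ⊥ := by
  have hF := prod_X_sub_C_eq hm ζ hζ hdiff
  have h1 : ∏ i : Fin m, (z - algebraMap R A (ζ ^ (i : ℕ))) = 0 := by
    have := congrArg (aeval z) hF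
    simpa [hz] using this
  rw [eq_bot_iff]
  refine le_trans (le_of_eq ?_) ((le_of_eq (Ideal.prod_span_singleton Finset.univ _)).trans
    (by rw [h1, Ideal.span_singleton_zero]))
  rw [Ideal.prod_eq_iInf_of_pairwise_isCoprime]
  · simp
  · intro i _ j _ hij
    refine Ideal.isCoprime_iff_exists.mpr ?_
    obtain ⟨v, hv⟩ := (hdiff i j hij).map (algebraMap R A)
    rw [map_sub] at hv
    refine ⟨-(↑v⁻¹ : A) * (z - algebraMap R A (ζ ^ (i : ℕ))), Ideal.mul_mem_left _ _ (Ideal.subset_span rfl),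
      (↑v⁻¹ : A) * (z - algebraMap R A (ζ ^ (j : ℕ))), Ideal.mul_mem_left _ _ (Ideal.subset_span rfl), ?_⟩
    rw [← Units.inv_mul v, hv]
    ring

theorem mkₐ_span_sub {A : Type u} [CommRing A] [Algebra R A] (z : A) (c : R) :
    Ideal.Quotient.mkₐ R (Ideal.span {z - algebraMap R A c}) z =
      algebraMap R (A ⧸ Ideal.span {z - algebraMap R A c}) c := by
  rw [Ideal.Quotient.mkₐ_eq_mk]
  show _ = Ideal.Quotient.mk _ (algebraMap R A c)
  exact Ideal.Quotient.eq.mpr (Ideal.mem_span_singleton_self _)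

/-- The part prime to the residue characteristic. -/
theorem Pairing.eq_one_of_split {m : ℕ} (hm : 0 < m) (hmn : m ∣ n) (ζ : R) (hζ : ζ ^ m = 1)
    (hdiff : ∀ i j : Fin m, i ≠ j → IsUnit (ζ ^ (i : ℕ) - ζ ^ (j : ℕ)))
    {A : Type u} [CommRing A] [Algebra R A] (x y : A) (hx : x ^ m = 1) (hy : y ^ m = 1) : P.e A x y = 1 := by
  have hzero : ∀ {A : Type u} [CommRing A] [Algebra R A] (z : A), z ^ m = 1 →
      ⨅ i : Fin m, Ideal.span {z - algebraMap R A (ζ ^ (i : ℕ))} = ⊥ :=
    fun z hz => iInf_span_eq_bot hm ζ hζ hdiff z hz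
  -- reduce to constant roots of unity
  suffices ∀ (B : Type u) [CommRing B] [Algebra R B] (z : B) (i : Fin m), z ^ m = 1 →
      P.e B (algebraMap R B (ζ ^ (i : ℕ))) z = 1 by
    refine sub_eq_zero.mp (Ideal.mem_bot.mp ?_)
    refine (hzero (A := A) x hx).le (Ideal.mem_iInf.mpr fun i => ?_)
    let I : Ideal A := Ideal.span {x - algebraMap R A (ζ ^ (i : ℕ))}
    refine Ideal.Quotient.eq.mp ?_
    rw [map_one]
    show Ideal.Quotient.mkₐ R I (P.e A x y) = 1
    rw [P.nat' (Ideal.Quotient.mkₐ R I) x y (pow_eq_one_of_dvd hmn hx) (pow_eq_one_of_dvd hmn hy),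
      mkₐ_span_sub x (ζ ^ (i : ℕ))]
    exact this (A ⧸ I) (Ideal.Quotient.mkₐ R I y) i (by rw [← map_pow, hy, map_one])
  intro B _ _ z i hz
  have hc : ∀ i : ℕ, (algebraMap R B (ζ ^ i)) ^ n = 1 := fun i =>
    pow_eq_one_of_dvd hmn (by rw [← map_pow, pow_right_comm, hζ, one_pow, map_one])
  refine sub_eq_zero.mp (Ideal.mem_bot.mp ?_)
  refine (hzero (A := B) z hz).le (Ideal.mem_iInf.mpr fun j => ?_)
  let I : Ideal B := Ideal.span {z - algebraMap R B (ζ ^ (j : ℕ))}
  refine Ideal.Quotient.eq.mp ?_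
  rw [map_one]
  show Ideal.Quotient.mkₐ R I (P.e B (algebraMap R B (ζ ^ (i : ℕ))) z) = 1
  rw [P.nat' (Ideal.Quotient.mkₐ R I) _ z (hc i) (pow_eq_one_of_dvd hmn hz),
    mkₐ_span_sub z (ζ ^ (j : ℕ)),
    AlgHom.commutes]
  have h1 : (algebraMap R (B ⧸ I) ζ) ^ n = 1 := pow_eq_one_of_dvd hmn (by rw [← map_pow, hζ, map_one])
  rw [map_pow, map_pow, P.pow_left h1 (by rw [pow_right_comm, h1, one_pow]), P.pow_right h1 h1, P.self' _ h1,
    one_pow, one_pow]

/-- The group algebra of a `p`-group over a local ring with residue characteristic `p` is local. -/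
theorem isLocalRing_groupAlgebra [IsLocalRing R] {G : Type*} [CommGroup G] [Finite G] (p a : ℕ)
    [ExpChar (IsLocalRing.ResidueField R) p] (hG : ∀ g : G, g ^ p ^ a = 1) : IsLocalRing (MonoidAlgebra R G) := by
  let ε : MonoidAlgebra R G →+* IsLocalRing.ResidueField R :=
    (IsLocalRing.residue R).comp (MonoidAlgebra.lift R R G 1).toRingHom
  have hεs : Function.Surjective ε := fun b => by
    obtain ⟨r, rfl⟩ := IsLocalRing.residue_surjective b
    exact ⟨algebraMap R _ r, by simp [ε]⟩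
  haveI : Algebra.IsIntegral R (MonoidAlgebra R G) := by
    haveI : Module.Finite R (MonoidAlgebra R G) := inferInstance
    infer_instance
  refine IsLocalRing.of_unique_max_ideal ⟨RingHom.ker ε, RingHom.ker_isMaximal_of_surjective ε hεs, fun M hM => ?_⟩
  have hM0 : M.comap (algebraMap R (MonoidAlgebra R G)) = IsLocalRing.maximalIdeal R :=
    IsLocalRing.eq_maximalIdeal (Ideal.isMaximal_comap_of_isIntegral_of_isMaximal M)
  letI : Field (MonoidAlgebra R G ⧸ M) := Ideal.Quotient.field M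
  let j : IsLocalRing.ResidueField R →+* MonoidAlgebra R G ⧸ M :=
    Ideal.Quotient.lift (IsLocalRing.maximalIdeal R) ((Ideal.Quotient.mk M).comp (algebraMap R _)) fun r hr => by
      rw [RingHom.comp_apply, Ideal.Quotient.eq_zero_iff_mem]
      exact (hM0.ge hr : _)
  haveI : ExpChar (MonoidAlgebra R G ⧸ M) p := expChar_of_injective_ringHom j.injective p
  have hj : ∀ b, Ideal.Quotient.mk M b = j (ε b) := by
    intro b
    induction b using MonoidAlgebra.induction_linear with
    | zero => simp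
    | add b c hb hc => simp [hb, hc]
    | single g r =>
      have hg : Ideal.Quotient.mk M (MonoidAlgebra.single g 1) = 1 := by
        refine sub_eq_zero.mp (pow_eq_zero_iff (expChar_pow_pos (MonoidAlgebra R G ⧸ M) p a).ne' |>.mp ?_)
        rw [sub_pow_expChar_pow, ← map_pow, MonoidAlgebra.single_pow, hG, one_pow, one_pow]
        exact sub_eq_zero.mpr (map_one _)
      have : MonoidAlgebra.single g r = algebraMap R _ r * MonoidAlgebra.single g 1 := by
        simp [MonoidAlgebra.single_mul_single]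
      rw [this, map_mul, hg, mul_one, map_mul]
      simp [ε, j]
      rfl
  refine (Ideal.IsMaximal.eq_of_le hM (RingHom.ker_ne_top ε) fun b hb => ?_)
  rw [RingHom.mem_ker]
  apply j.injective
  rw [← hj, Ideal.Quotient.eq_zero_iff_mem.mpr hb, map_zero]

/-- The infinitesimal part. -/
theorem Pairing.eq_one_of_infinitesimal [IsLocalRing R] {p a q : ℕ} [ExpChar (IsLocalRing.ResidueField R) p]
    (hq : q = p ^ a) (hqn : q ∣ n) {A : Type u} [CommRing A] [Algebra R A] (x y : A) (hx : x ^ q = 1) (hy : y ^ q = 1) :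
    P.e A x y = 1 := by
  classical
  haveI : NeZero q := ⟨hq ▸ (expChar_pow_pos (IsLocalRing.ResidueField R) p a).ne'⟩
  have hCq : ∀ g : (Multiplicative (ZMod q)), g ^ q = 1 := fun g => by
    have := pow_card_eq_one (x := g)
    rwa [Fintype.card_multiplicative, ZMod.card] at this
  let g : (Multiplicative (ZMod q)) := Multiplicative.ofAdd 1
  haveI : IsLocalRing (MonoidAlgebra R (Multiplicative (ZMod q))) := isLocalRing_groupAlgebra p a fun g => hq ▸ hCq g
  let y₀ : (MonoidAlgebra R (Multiplicative (ZMod q))) := MonoidAlgebra.single g 1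
  let T : (MonoidAlgebra (MonoidAlgebra R (Multiplicative (ZMod q))) (Multiplicative (ZMod q))) := MonoidAlgebra.single g 1
  have hy0 : y₀ ^ q = 1 := by rw [MonoidAlgebra.single_pow, hCq, one_pow]; rfl
  have hT : T ^ q = 1 := by rw [MonoidAlgebra.single_pow, hCq, one_pow]; rfl
  let Y : (MonoidAlgebra (MonoidAlgebra R (Multiplicative (ZMod q))) (Multiplicative (ZMod q))) := algebraMap (MonoidAlgebra R (Multiplicative (ZMod q))) (MonoidAlgebra (MonoidAlgebra R (Multiplicative (ZMod q))) (Multiplicative (ZMod q))) y₀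
  have hY : Y ^ q = 1 := by rw [← map_pow, hy0, map_one]
  set e₀ := P.e (MonoidAlgebra (MonoidAlgebra R (Multiplicative (ZMod q))) (Multiplicative (ZMod q))) T Y with he₀
  -- change of the group
  let fr {G : Type} [CommGroup G] (f : (Multiplicative (ZMod q)) →* G) : (MonoidAlgebra (MonoidAlgebra R (Multiplicative (ZMod q))) (Multiplicative (ZMod q))) →ₐ[(MonoidAlgebra R (Multiplicative (ZMod q)))] MonoidAlgebra (MonoidAlgebra R (Multiplicative (ZMod q))) G :=
    MonoidAlgebra.lift (MonoidAlgebra R (Multiplicative (ZMod q))) _ (Multiplicative (ZMod q)) ((MonoidAlgebra.of (MonoidAlgebra R (Multiplicative (ZMod q))) G).comp f)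
  have hfr : ∀ {G : Type} [CommGroup G] (f : (Multiplicative (ZMod q)) →* G) (c : (Multiplicative (ZMod q))) (b : (MonoidAlgebra R (Multiplicative (ZMod q)))),
      fr f (MonoidAlgebra.single c b) = MonoidAlgebra.single (f c) b := fun f c b => by
    rw [MonoidAlgebra.lift_single]
    simp [MonoidAlgebra.smul_single]
  have hnat : ∀ {G : Type} [CommGroup G] (f : (Multiplicative (ZMod q)) →* G),
      fr f e₀ = P.e (MonoidAlgebra (MonoidAlgebra R (Multiplicative (ZMod q))) G) (MonoidAlgebra.single (f g) 1) (algebraMap (MonoidAlgebra R (Multiplicative (ZMod q))) _ y₀) := by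
    intro G _ f
    rw [← hfr f g 1, ← AlgHom.commutes (fr f) y₀]
    exact P.nat' ((fr f).restrictScalars R) T Y (pow_eq_one_of_dvd hqn hT) (pow_eq_one_of_dvd hqn hY)
  let d : (Multiplicative (ZMod q)) →* (Multiplicative (ZMod q)) × (Multiplicative (ZMod q)) := (MonoidHom.id (Multiplicative (ZMod q))).prod (MonoidHom.id (Multiplicative (ZMod q)))
  have hmul : fr d e₀ = fr (MonoidHom.inl (Multiplicative (ZMod q)) (Multiplicative (ZMod q))) e₀ * fr (MonoidHom.inr (Multiplicative (ZMod q)) (Multiplicative (ZMod q))) e₀ := by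
    have h1 : ∀ c : (Multiplicative (ZMod q)) × (Multiplicative (ZMod q)), (MonoidAlgebra.single c (1 : (MonoidAlgebra R (Multiplicative (ZMod q)))) : (MonoidAlgebra (MonoidAlgebra R (Multiplicative (ZMod q))) (Multiplicative (ZMod q) × Multiplicative (ZMod q)))) ^ n = 1 := fun c =>
      pow_eq_one_of_dvd hqn (by
        rw [MonoidAlgebra.single_pow, one_pow, show c ^ q = 1 from Prod.ext (hCq _) (hCq _)]; rfl)
    rw [hnat, hnat, hnat, ← P.left' _ _ _ (h1 _) (h1 _) (pow_eq_one_of_dvd hqn (by rw [← map_pow, hy0, map_one])),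
      MonoidAlgebra.single_mul_single, mul_one]
    simp [d]
  have hsum : e₀ = ∑ c : (Multiplicative (ZMod q)), MonoidAlgebra.single c (e₀.coeff c) := MonoidAlgebra.ext (by simp [MonoidAlgebra.coeff_sum, Finsupp.univ_sum_single])
  have hcoef : ∀ c c' : (Multiplicative (ZMod q)), e₀.coeff c * e₀.coeff c' = if c = c' then e₀.coeff c else 0 := by
    intro c c'
    have h := congrArg (fun w : (MonoidAlgebra (MonoidAlgebra R (Multiplicative (ZMod q))) (Multiplicative (ZMod q) × Multiplicative (ZMod q))) => w.coeff (c, c')) hmul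
    rw [hsum] at h
    simp only [map_sum, hfr, Finset.sum_mul, Finset.mul_sum, MonoidAlgebra.single_mul_single] at h
    simp only [MonoidAlgebra.coeff_sum, Finsupp.coe_finsetSum, Finset.sum_apply, MonoidAlgebra.coeff_single_apply] at h
    trace_state
    simpa [d, Prod.ext_iff, Finset.sum_ite_eq', ite_and, eq_comm] using h.symm
  have hone : ∑ c, e₀.coeff c = 1 := by
    have h := congrArg (fun w : MonoidAlgebra (MonoidAlgebra R (Multiplicative (ZMod q))) (Multiplicative (ZMod q)) => w.coeff 1) (hnat (1 : (Multiplicative (ZMod q)) →* (Multiplicative (ZMod q))))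
    rw [MonoidHom.one_apply, ← MonoidAlgebra.one_def,
      P.one_left (pow_eq_one_of_dvd hqn (by rw [← map_pow, hy0, map_one]))] at h
    conv_lhs at h => rw [hsum]
    simpa [hfr, MonoidAlgebra.coeff_sum, Finsupp.coe_finsetSum, MonoidAlgebra.coeff_single_apply, MonoidAlgebra.one_def] using h
  obtain ⟨c₀, hc₀⟩ : ∃ c₀, e₀ = MonoidAlgebra.single c₀ 1 := by
    have h01 : ∀ c, e₀.coeff c = 0 ∨ e₀.coeff c = 1 := fun c => by
      refine (IsLocalRing.isUnit_or_isUnit_of_add_one (add_sub_cancel (e₀.coeff c) 1)).elim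
        (fun hu => Or.inr ?_) (fun hu => Or.inl ?_)
      · exact (IsUnit.mul_eq_left hu).mp (by simpa using hcoef c c)
      · refine (IsUnit.mul_left_eq_zero hu).mp ?_
        rw [mul_sub, mul_one, hcoef c c, if_pos rfl, sub_self]
    obtain ⟨c₀, hc₀⟩ : ∃ c₀, e₀.coeff c₀ = 1 := by
      by_contra hne
      push Not at hne
      exact one_ne_zero (hone.symm.trans (Finset.sum_eq_zero fun c _ => (h01 c).resolve_right (hne c)))
    refine ⟨c₀, MonoidAlgebra.ext (Finsupp.ext fun c => ?_)⟩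
    rw [MonoidAlgebra.coeff_single_apply]
    split_ifs with h
    · rw [← h, hc₀]
    · simpa [hc₀, if_neg h] using hcoef c₀ c
  -- evaluate at `y = 1`
  let ψ : (MonoidAlgebra (MonoidAlgebra R (Multiplicative (ZMod q))) (Multiplicative (ZMod q))) →ₐ[R] MonoidAlgebra R (Multiplicative (ZMod q)) :=
    MonoidAlgebra.mapAlgHom (Multiplicative (ZMod q)) (MonoidAlgebra.lift R R (Multiplicative (ZMod q)) (1 : (Multiplicative (ZMod q)) →* R))
  have hc1 : c₀ = 1 := by
    have h := congrArg ψ he₀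
    rw [hc₀, P.nat' ψ T Y (pow_eq_one_of_dvd hqn hT) (pow_eq_one_of_dvd hqn hY)] at h
    have h1 : ψ Y = 1 := by
      simp only [ψ, Y, y₀]
      simp [MonoidAlgebra.one_def, MonoidAlgebra.coe_algebraMap, MonoidAlgebra.mapAlgHom_single]
    rw [h1, P.one_right (by rw [← map_pow, pow_eq_one_of_dvd hqn hT, map_one]),
      show ψ (MonoidAlgebra.single c₀ 1) = MonoidAlgebra.single c₀ 1 by simp [ψ, MonoidAlgebra.mapAlgHom_single], MonoidAlgebra.one_def] at h
    exact (MonoidAlgebra.single_left_injective one_ne_zero h)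
  -- specialise
  let χ : ∀ z : A, z ^ q = 1 → (Multiplicative (ZMod q)) →* A := fun z hz =>
    { toFun := fun c => z ^ (Multiplicative.toAdd c).val
      map_one' := by simp
      map_mul' := fun c c' => by
        rw [toAdd_mul, ZMod.val_add, ← pow_add]
        exact (pow_eq_pow_mod _ hz).symm }
  have hχ : ∀ z (hz : z ^ q = 1), χ z hz g = z := fun z hz => by
    show z ^ (1 : ZMod q).val = z
    rw [ZMod.val_one_eq_one_mod, ← pow_eq_pow_mod 1 hz, pow_one]
  let σ : (MonoidAlgebra R (Multiplicative (ZMod q))) →ₐ[R] A := MonoidAlgebra.lift R A (Multiplicative (ZMod q)) (χ y hy)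
  letI : Algebra (MonoidAlgebra R (Multiplicative (ZMod q))) A := σ.toRingHom.toAlgebra
  haveI : IsScalarTower R (MonoidAlgebra R (Multiplicative (ZMod q))) A := IsScalarTower.of_algebraMap_eq fun r => (σ.commutes r).symm
  let F : (MonoidAlgebra (MonoidAlgebra R (Multiplicative (ZMod q))) (Multiplicative (ZMod q))) →ₐ[(MonoidAlgebra R (Multiplicative (ZMod q)))] A := MonoidAlgebra.lift (MonoidAlgebra R (Multiplicative (ZMod q))) A (Multiplicative (ZMod q)) (χ x hx)
  have h := P.nat' (F.restrictScalars R) T Y (pow_eq_one_of_dvd hqn hT) (pow_eq_one_of_dvd hqn hY)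
  rw [← he₀, hc₀, hc1, ← MonoidAlgebra.one_def, map_one] at h
  refine (congrArg₂ (P.e A) ?_ ?_).trans h.symm
  · simp [F, T, hχ]
  · show y = F Y
    rw [AlgHom.commutes]
    show y = σ y₀
    simp [σ, y₀, hχ]

/-- Alternating pairings of roots of unity over a strictly henselian local ring are trivial. -/
theorem Pairing.eq_one [HenselianLocalRing R] [IsSepClosed (IsLocalRing.ResidueField R)] (hn : n ≠ 0)
    {A : Type u} [CommRing A] [Algebra R A] (x y : A) (hx : x ^ n = 1) (hy : y ^ n = 1) : P.e A x y = 1 := by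
  let κ := IsLocalRing.ResidueField R
  obtain ⟨p, hp⟩ := ExpChar.exists κ
  obtain ⟨a, m, hnm, hm⟩ : ∃ a m, n = p ^ a * m ∧ (m : κ) ≠ 0 ∧ Nat.Coprime (p ^ a) m := by
    cases hp with
    | zero => exact ⟨0, n, by simp, Nat.cast_ne_zero.mpr hn, by simp⟩
    | prime hpp =>
      obtain ⟨a, m, hm, rfl⟩ := Nat.exists_eq_pow_mul_and_not_dvd hn p hpp.ne_one
      refine ⟨a, m, rfl, fun h => hm ((CharP.cast_eq_zero_iff κ p m).mp h), ?_⟩
      exact Nat.Coprime.pow_left _ (hpp.coprime_iff_not_dvd.mpr hm)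
  haveI : NeZero (m : κ) := ⟨hm.1⟩
  haveI : NeZero m := NeZero.of_neZero_natCast κ
  -- a root of unity
  obtain ⟨z, hz⟩ := HasEnoughRootsOfUnity.exists_primitiveRoot κ m
  obtain ⟨a₀, ha₀⟩ := IsLocalRing.residue_surjective z
  have hres : ∀ r : R, IsUnit r ↔ IsLocalRing.residue R r ≠ 0 := fun r =>
    (IsLocalRing.residue_ne_zero_iff_isUnit r).symm
  obtain ⟨ζ, hζ, hζa⟩ := HenselianLocalRing.is_henselian (X ^ m - C 1 : R[X]) (monic_X_pow_sub_C 1 (NeZero.ne m)) a₀
    (by
      rw [← IsLocalRing.residue_eq_zero_iff]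
      simp [ha₀, hz.pow_eq_one])
    (by
      rw [hres]
      simp [derivative_pow, ha₀, hm.1, hz.ne_zero (NeZero.ne m)])
  have hζm : ζ ^ m = 1 := by simpa [IsRoot, sub_eq_zero] using hζ
  have hζres : IsLocalRing.residue R ζ = z := by
    rw [← ha₀, ← sub_eq_zero, ← map_sub, IsLocalRing.residue_eq_zero_iff]
    exact hζa
  have hdiff : ∀ i j : Fin m, i ≠ j → IsUnit (ζ ^ (i : ℕ) - ζ ^ (j : ℕ)) := fun i j hij => by
    rw [hres, map_sub, map_pow, map_pow, hζres, sub_ne_zero]
    exact fun h => hij (Fin.ext (hz.pow_inj i.2 j.2 h))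
  have hxq : (x ^ p ^ a) ^ m = 1 := by rw [← pow_mul, ← hnm, hx]
  have hyq : (y ^ p ^ a) ^ m = 1 := by rw [← pow_mul, ← hnm, hy]
  have hxm : (x ^ m) ^ p ^ a = 1 := by rw [← pow_mul, mul_comm, ← hnm, hx]
  have hym : (y ^ m) ^ p ^ a = 1 := by rw [← pow_mul, mul_comm, ← hnm, hy]
  have h1 := P.eq_one_of_split (NeZero.pos m) (Dvd.intro_left _ hnm.symm) ζ hζm hdiff _ _ hxq hyq
  have h2 := P.eq_one_of_infinitesimal rfl (Dvd.intro _ hnm.symm) _ _ hxm hym
  rw [P.pow_left hx (by rw [pow_right_comm, hy, one_pow]), P.pow_right hx hy, ← pow_mul] at h1 h2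
  have := pow_gcd_eq_one.mpr ⟨h1, h2⟩
  rwa [show Nat.gcd (p ^ a * p ^ a) (m * m) = 1 from Nat.Coprime.mul_left (hm.2.mul_right hm.2) (hm.2.mul_right hm.2),
    pow_one] at this

end Groth.Agent.GrpSchLib.MuPairing
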