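import Groth.Agent.GrpSchLib.LineGroups
import Groth.Agent.GrpSchLib.AffineHopf
import Groth.Agent.GrpSchLib.MuScheme
import Groth.Agent.S19228

/-! Morphisms into diagonalisable groups over a field and their coordinates. -/

universe u

set_option autoImplicit false
set_option backward.isDefEq.respectTransparency false
set_option backward.isDefEq.respectTransparency.types false

open CategoryTheory MonoidalCategory CartesianMonoidalCategory MonObj GrpObj AlgebraicGeometry
open scoped TensorProduct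

namespace Groth.Agent.GrpSchLib.SplitTorusPoints

open Kunneth AffineHopf WithConv

variable {k : Type u} [Field k] {M : Type} [AddCommGroup M]

/-- The diagonalisable group with character group `M`. -/
noncomputable abbrev D (k : Type u) [Field k] (M : Type) [AddCommGroup M] : Over (Spec (CommRingCat.of k)) :=
  sp k (MonoidAlgebra k (Multiplicative M))

instance {B : Type u} [CommRing B] [Algebra k B] : IsAffine (sp k B).left :=
  inferInstanceAs (IsAffine (Spec (CommRingCat.of B)))

/-- The functions on a spectrum. -/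
noncomputable def fnSp (k : Type u) [Field k] (B : Type u) [CommRing B] [Algebra k B] : B ≃ₐ[k] Fn (sp k B) :=
  LineGroups.spEquiv B

/-- Shortcut for the group structure. -/
noncomputable instance (priority := high) grpObjD : GrpObj (D k M) := inferInstance

/-- The monomial functions. -/
noncomputable def mon (k : Type u) [Field k] {M : Type} [AddCommGroup M] (m : M) : Fn (D k M) :=
  fnSp k _ (MonoidAlgebra.single (Multiplicative.ofAdd m) 1)

theorem ev_spMap {A B : Type u} [CommRing A] [CommRing B] [Algebra k A] [Algebra k B] (f : B →ₐ[k] A) (b : B) :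
    ev (spMap f) (fnSp k B b) = fnSp k A (f b) :=
  (ConcreteCategory.congr_hom (Scheme.ΓSpecIso_inv_naturality (CommRingCat.ofHom f.toRingHom)) b).symm

theorem mon_zero : mon k (0 : M) = 1 := by
  rw [mon, ofAdd_zero, ← MonoidAlgebra.one_def, map_one]

theorem mon_add (m n : M) : mon k (m + n) = mon k m * mon k n := by
  rw [mon, mon, mon, ← map_mul, MonoidAlgebra.single_mul_single, _root_.one_mul, ofAdd_add]

theorem isUnit_mon (m : M) : IsUnit (mon k m) :=
  IsUnit.of_mul_eq_one (mon k (-m)) (by rw [← mon_add, add_neg_cancel, mon_zero])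

theorem exists_eq_spMap' {A B : Type u} [CommRing A] [CommRing B] [Algebra k A] [Algebra k B] (g : sp k A ⟶ sp k B) :
    ∃ f : B →ₐ[k] A, g = spMap f := by
  refine ⟨(fnSp k A).symm.toAlgHom.comp ((ev g).comp (fnSp k B).toAlgHom), LineGroups.ext_ev (AlgHom.ext fun z => ?_)⟩
  obtain ⟨b, rfl⟩ := (fnSp k B).surjective z
  rw [ev_spMap]
  exact ((fnSp k A).apply_symm_apply _).symm

theorem ev_mu_mon (m : M) :
    ev μ[D k M] (mon k m) = ev (fst (D k M) (D k M)) (mon k m) * ev (snd (D k M) (D k M)) (mon k m) := by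
  haveI : IsAffine (D k M ⊗ D k M).left := inferInstanceAs (IsAffine (Limits.pullback (D k M).hom (D k M).hom))
  obtain ⟨C, _, _, ⟨io⟩⟩ := S19228.exists_sp (D k M ⊗ D k M)
  have hinj : Function.Injective (ev io.hom) := fun a b h => by
    have := congrArg (ev io.inv) h
    rwa [ev_ev, ev_ev, Iso.inv_hom_id, ev_id, ev_id] at this
  apply hinj
  rw [map_mul, ev_ev, ev_ev, ev_ev,
    show io.hom ≫ μ[D k M] = (io.hom ≫ fst _ _) * (io.hom ≫ snd _ _) by
      rw [Hom.mul_def, ← comp_lift, lift_fst_snd, Category.comp_id]]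
  obtain ⟨f, hf⟩ := exists_eq_spMap (io.hom ≫ fst _ _)
  obtain ⟨g, hg⟩ := exists_eq_spMap (io.hom ≫ snd _ _)
  rw [hf, hg]
  erw [spMap_mul]
  rw [mon, ev_spMap, ev_spMap, ev_spMap, ← map_mul, S19228.conv_single]

variable {Z : Over (Spec (CommRingCat.of k))}

theorem ev_mul_mon (x y : Z ⟶ D k M) (m : M) : ev (x * y) (mon k m) = ev x (mon k m) * ev y (mon k m) := by
  rw [Hom.mul_def, ← ev_ev, ev_mu_mon, map_mul, ev_ev, ev_ev, lift_fst, lift_snd]

theorem isUnit_ev_mon (x : Z ⟶ D k M) (m : M) : IsUnit (ev x (mon k m)) := (isUnit_mon m).map _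

theorem ev_one_mon (m : M) : ev (1 : Z ⟶ D k M) (mon k m) = 1 :=
  (IsUnit.mul_eq_left (isUnit_ev_mon 1 m)).1 (by rw [← ev_mul_mon, _root_.mul_one])

theorem ev_zero (x : Z ⟶ D k M) : ev x (mon k (0 : M)) = 1 := by rw [mon_zero, map_one]

theorem ev_add (x : Z ⟶ D k M) (m n : M) : ev x (mon k (m + n)) = ev x (mon k m) * ev x (mon k n) := by
  rw [mon_add, map_mul]

theorem ext_mon {x y : Z ⟶ D k M} (h : ∀ m, ev x (mon k m) = ev y (mon k m)) : x = y := by
  refine LineGroups.ext_ev ?_
  have : (ev x).comp (fnSp k (MonoidAlgebra k (Multiplicative M))).toAlgHom = (ev y).comp (fnSp k (MonoidAlgebra k (Multiplicative M))).toAlgHom :=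
    MonoidAlgebra.algHom_ext (fun c => h (Multiplicative.toAdd c)) (by ext)
  refine AlgHom.ext fun f => ?_
  obtain ⟨b, rfl⟩ := (fnSp k (MonoidAlgebra k (Multiplicative M))).surjective f
  exact DFunLike.congr_fun this b

theorem exists_hom (χ : Multiplicative M →* Fn Z) : ∃ x : Z ⟶ D k M, ∀ m, ev x (mon k m) = χ (Multiplicative.ofAdd m) := by
  obtain ⟨x, hx⟩ := LineGroups.exists_hom_ev (T := Z) (X := D k M)
    ((MonoidAlgebra.lift k (Fn Z) (Multiplicative M) χ).comp
      (fnSp k (MonoidAlgebra k (Multiplicative M))).symm.toAlgHom)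
  refine ⟨x, fun m => ?_⟩
  rw [hx]
  show MonoidAlgebra.lift k (Fn Z) (Multiplicative M) χ ((fnSp k (MonoidAlgebra k (Multiplicative M))).symm (fnSp k _ _)) = _
  rw [AlgEquiv.symm_apply_apply, MonoidAlgebra.lift_single, one_smul]

/-- Morphisms from a group whose coordinates are characters are homomorphisms. -/
theorem isMonHom_of {G : Over (Spec (CommRingCat.of k))} [GrpObj G] (q : G ⟶ D k M)
    (h : ∀ m, ev μ[G] (ev q (mon k m)) = ev (fst G G) (ev q (mon k m)) * ev (snd G G) (ev q (mon k m))) :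
    IsMonHom q := by
  constructor
  · refine ext_mon fun m => ?_
    have h2 := congrArg (ev (lift η[G] η[G])) (h m)
    rw [map_mul, ev_ev, ev_ev, ev_ev, ev_ev, ev_ev, ev_ev, lift_fst, lift_snd,
      ← Hom.mul_def] at h2
    simp only [MonObj.one_eq_one, ev_one_mon, _root_.mul_one] at h2 ⊢
    exact (IsUnit.mul_eq_left (isUnit_ev_mon _ m)).1 h2.symm
  · refine ext_mon fun m => ?_
    rw [show (q ⊗ₘ q) ≫ μ[D k M] = (fst G G ≫ q) * (snd G G ≫ q) by
      rw [Hom.mul_def, CartesianMonoidalCategory.lift_fst_comp_snd_comp]]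
    rw [ev_mul_mon, ← ev_ev, ← ev_ev, ← ev_ev]
    exact h m

theorem char_of_isMonHom {G : Over (Spec (CommRingCat.of k))} [GrpObj G] (q : G ⟶ D k M) [IsMonHom q] (m : M) :
    ev μ[G] (ev q (mon k m)) = ev (fst G G) (ev q (mon k m)) * ev (snd G G) (ev q (mon k m)) := by
  rw [ev_ev, IsMonHom.mul_hom q, show (q ⊗ₘ q) ≫ μ[D k M] = (fst G G ≫ q) * (snd G G ≫ q) by
    rw [Hom.mul_def, CartesianMonoidalCategory.lift_fst_comp_snd_comp], ev_mul_mon, ev_ev, ev_ev]

theorem evPt_eta {G : Over (Spec (CommRingCat.of k))} [GrpObj G] (q : G ⟶ D k M) [IsMonHom q] (m : M) :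
    evPt η[G] (ev q (mon k m)) = 1 := by
  rw [evPt_eq_one_iff, ← ev_apply, ev_ev, IsMonHom.one_hom q, MonObj.one_eq_one, ev_one_mon]

/-- The multiplicative group. -/
theorem exists_iso_Gm (k : Type u) [Field k] :
    ∃ j : D k ℤ ≅ Red.Gm (Spec (CommRingCat.of k)), IsMonHom j.hom :=
  MuGLn.exists_sp_iso (Red.Gm (Spec (CommRingCat.of k))) ⟨Iso.refl _⟩

theorem isSplitTorusWith_D : Red.IsSplitTorusWith M (D k M) := nonempty_DS_iso k M

theorem ext_mon_int {x y : Z ⟶ D k ℤ} (h : ev x (mon k (1 : ℤ)) = ev y (mon k (1 : ℤ))) : x = y := by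
  refine ext_mon fun m => ?_
  induction m using Int.induction_on with
  | zero => rw [ev_zero, ev_zero]
  | succ n ih => rw [ev_add, ev_add, ih, h]
  | pred n ih =>
    refine ((isUnit_mon (k := k) (1 : ℤ)).map (ev y)).mul_right_cancel ?_
    rw [← ev_add, sub_add_cancel, ← ih, ← h, ← ev_add, sub_add_cancel]

theorem exists_hom_int {f : Fn Z} (hf : IsUnit f) : ∃ x : Z ⟶ D k ℤ, ev x (mon k (1 : ℤ)) = f := by
  obtain ⟨x, hx⟩ := exists_hom (Z := Z) ((Units.coeHom (Fn Z)).comp (zpowersHom _ hf.unit))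
  exact ⟨x, by rw [hx]; simp⟩

end Groth.Agent.GrpSchLib.SplitTorusPoints
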