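import Groth.Agent.GrpSchLib.LangFinite
import Groth.Agent.GrpSchLib.AffineHopf
import Groth.Agent.GrpSchLib.SmoothReduced
import Groth.Agent.S0348

/-! Affine smooth connected groups as spectra of finitely generated Hopf domains. -/

open CategoryTheory CategoryTheory.Limits MonoidalCategory CartesianMonoidalCategory MonObj GrpObj AlgebraicGeometry
open TensorProduct WithConv

universe u

namespace Groth.Agent.GrpSchLib.Lang

open AffineHopf

theorem exists_domain_hopf {k : Type u} [Field k] (G : Over (Spec (CommRingCat.of k))) [GrpObj G] [IsAffine G.left]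
    [Smooth G.hom] [ConnectedSpace G.left] :
    ∃ (A : Type u) (_ : CommRing A) (_ : HopfAlgebra k A) (_ : Algebra.FiniteType k A) (_ : IsDomain A)
      (e : sp k A ≅ G), IsMonHom e.hom := by
  obtain ⟨A, _, _, ⟨e⟩⟩ := exists_hopf G
  let eO : sp k A ≅ G := (Grp.forget _).mapIso e
  haveI : IrreducibleSpace G.left := Groth.Agent.S0348.result k G
  haveI : AlgebraicGeometry.IsReduced G.left := isReduced_of_smooth_field G.hom
  haveI : IsIntegral G.left := isIntegral_of_irreducibleSpace_of_isReduced G.left
  let el := (Over.forget _).mapIso eO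
  haveI : Nonempty ↥(Spec (CommRingCat.of A)) := ⟨el.inv.base (Classical.arbitrary G.left)⟩
  haveI : IsIntegral ((Over.forget _).obj G) := ‹IsIntegral G.left›
  haveI : IsIntegral (Spec (CommRingCat.of A)) := isIntegral_of_isOpenImmersion el.hom
  have hd : IsDomain (CommRingCat.of A) := (affine_isIntegral_iff _).mp inferInstance
  haveI : IsIso eO.hom.left := inferInstanceAs (IsIso ((Over.forget _).map eO.hom))
  have hft : Algebra.FiniteType k A := by
    haveI : LocallyOfFiniteType G.hom := inferInstance
    have hc : LocallyOfFiniteType (eO.hom.left ≫ G.hom) := inferInstance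
    have h : LocallyOfFiniteType (Spec.map (CommRingCat.ofHom (algebraMap k A))) := by
      rw [show Spec.map (CommRingCat.ofHom (algebraMap k A)) = eO.hom.left ≫ G.hom from (Over.w eO.hom).symm]
      exact hc
    rw [HasRingHomProperty.Spec_iff (P := @LocallyOfFiniteType)] at h
    exact RingHom.finiteType_algebraMap.mp h
  exact ⟨A, inferInstance, inferInstance, hft, hd, eO, e.hom.hom.isMonHom_hom⟩

theorem spMap_inv {R A B : Type u} [CommRing R] [CommRing A] [CommRing B] [Algebra R A] [HopfAlgebra R B]
    (f : B →ₐ[R] A) : (spMap f)⁻¹ = spMap (f.comp (HopfAlgebra.antipodeAlgHom R B)) := by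
  refine inv_eq_of_mul_eq_one_right ?_
  rw [spMap_mul, show toConv f * toConv (f.comp (HopfAlgebra.antipodeAlgHom R B)) = 1 from ?_]
  · exact map_one Spec.mapMulEquiv
  have h : toConv (AlgHom.id R B) * toConv (HopfAlgebra.antipodeAlgHom R B) = 1 :=
    mul_inv_cancel (toConv (AlgHom.id R B))
  refine WithConv.ofConv_injective ?_
  have h2 := congrArg (fun φ : WithConv (B →ₐ[R] B) => f.comp φ.ofConv) h
  simp only [AlgHom.comp_convMul_distrib, ofConv_toConv, AlgHom.comp_id] at h2
  refine h2.trans (AlgHom.ext fun b => ?_)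
  show f ((1 : WithConv (B →ₐ[R] B)).ofConv b) = (1 : WithConv (B →ₐ[R] A)).ofConv b
  simp

end Groth.Agent.GrpSchLib.Lang
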