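import Groth.Agent.GrpSchLib.FieldAllComp
import Mathlib.RingTheory.Artinian.Module
import Mathlib.RingTheory.LocalRing.ResidueField.Basic

/-! A group scheme over an artinian local ring has the topology of its closed fibre. -/

open CategoryTheory AlgebraicGeometry MonoidalCategory CartesianMonoidalCategory MonObj GrpObj
open Limits TopologicalSpace
open scoped CategoryTheory.Obj

namespace Groth.Agent.GrpSchLib

universe u

variable (A : Type u) [CommRing A] [IsLocalRing A]

/-- The closed point of `Spec A`. -/
noncomputable abbrev clPt :
    Spec (CommRingCat.of (IsLocalRing.ResidueField A)) ⟶ Spec (CommRingCat.of A) :=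
  Spec.map (CommRingCat.ofHom (IsLocalRing.residue A))

instance : IsClosedImmersion (clPt A) :=
  IsClosedImmersion.spec_of_surjective _ IsLocalRing.residue_surjective

variable [IsArtinianRing A]

instance : Surjective (clPt A) := ⟨fun y => by
  haveI : Subsingleton (PrimeSpectrum A) := inferInstance
  exact ⟨IsLocalRing.closedPoint _, @Subsingleton.elim (PrimeSpectrum A) inferInstance _ _⟩⟩

variable {A} (G : Over (Spec (CommRingCat.of A)))

/-- The closed fibre. -/
noncomputable abbrev clFib : Over (Spec (CommRingCat.of (IsLocalRing.ResidueField A))) :=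
  (Over.pullback (clPt A)).obj G

/-- The projection from the closed fibre, as a homeomorphism. -/
noncomputable def clHomeo : (clFib G).left ≃ₜ G.left :=
  (pullback.fst G.hom (clPt A)).isClosedEmbedding.toIsEmbedding.toHomeomorphOfSurjective
    (pullback.fst G.hom (clPt A)).surjective

omit [IsArtinianRing A] in
theorem clHomeo_apply [IsArtinianRing A] (x : (clFib G).left) :
    clHomeo G x = pullback.fst G.hom (clPt A) x := rfl

theorem map_clFib_apply {T : Over (Spec (CommRingCat.of A))} (g : T ⟶ G) (t : (clFib T).left) :
    clHomeo G (((Over.pullback (clPt A)).map g).left t) = g.left (clHomeo T t) := by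
  have h : ((Over.pullback (clPt A)).map g).left ≫ pullback.fst G.hom (clPt A) =
      pullback.fst T.hom (clPt A) ≫ g.left := pullback.lift_fst _ _ _
  exact congrArg (fun f : (clFib T).left ⟶ G.left => f t) h

theorem clHomeo_one [GrpObj G] (pt : ↥(𝟙_ (Over (Spec (CommRingCat.of A)))).left) :
    clHomeo G (η[clFib G].left (IsLocalRing.closedPoint (IsLocalRing.ResidueField A))) =
      η[G].left pt := by
  have h : η[clFib G] = Functor.LaxMonoidal.ε (Over.pullback (clPt A)) ≫
      (Over.pullback (clPt A)).map η[G] := rfl
  rw [h, left_comp_apply, map_clFib_apply]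
  exact congrArg _ (@Subsingleton.elim (PrimeSpectrum A) inferInstance _ _)

theorem image_connectedComponent (x : (clFib G).left) :
    clHomeo G '' connectedComponent x = connectedComponent (clHomeo G x) := by
  refine subset_antisymm ((clHomeo G).continuous.image_connectedComponent_subset x) fun y hy => ?_
  refine ⟨(clHomeo G).symm y, ?_, by simp⟩
  have h := (clHomeo G).symm.continuous.image_connectedComponent_subset (clHomeo G x)
  simp only [Homeomorph.symm_apply_apply] at h
  exact h ⟨y, hy, rfl⟩

end Groth.Agent.GrpSchLib
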