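import Groth.Agent.Blanchard.Basic
import Groth.Agent.GrpSchLib.AdjointQuot
import Groth.Agent.GrpSchLib.HomFlat
import Groth.Agent.GrpSchLib.Action
import Groth.Agent.GrpSchLib.FieldTop
import Groth.Agent.MorLib.GeomFibre

/-!
Blanchard's lemma without separatedness hypotheses.
-/

universe u

open CategoryTheory Limits AlgebraicGeometry TopologicalSpace MonoidalCategory CartesianMonoidalCategory

namespace Groth.Agent.GrpSchLib.BlanchardQS

open Groth.Agent
open Groth.Agent.Blanchard (bijective_app_of_flat)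

section Field

variable {k : Type u} [Field k] {X Y : Over (Spec (CommRingCat.of k))} (f : X ⟶ Y)

lemma bijective_app_whiskerLeft [QuasiSeparatedSpace X.left] [IsProper f.left]
    (hf : ∀ U : Y.left.Opens, IsIso (f.left.app U)) (G : Over (Spec (CommRingCat.of k))) :
    (∀ U : (G ⊗ Y).left.Opens, Function.Bijective ((G ◁ f).left.app U)) ∧
      IsClosedMap (G ◁ f).left := by
  have H := (GrpSchLib.isPullback_whiskerLeft (W := G) f).flip
  haveI : Flat G.hom := inferInstance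
  haveI : Flat (snd G Y).left := inferInstanceAs (Flat (pullback.snd G.hom Y.hom))
  haveI : IsProper (G ◁ f).left := MorphismProperty.of_isPullback H inferInstance
  exact ⟨bijective_app_of_flat H fun U => (haveI := hf U; ConcreteCategory.bijective_of_isIso _),
    (G ◁ f).left.isClosedMap⟩

lemma epi_whiskerLeft [QuasiSeparatedSpace X.left] [IsProper f.left]
    (hf : ∀ U : Y.left.Opens, IsIso (f.left.app U)) (G Z : Over (Spec (CommRingCat.of k)))
    {r r' : G ⊗ Y ⟶ Z} (h : (G ◁ f) ≫ r = (G ◁ f) ≫ r') : r = r' := by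
  obtain ⟨h0, hcl⟩ := bijective_app_whiskerLeft f hf G
  exact Over.OverMorphism.ext (H23.Rigid.cancel_left _ h0
    (H23.Rigid.surjective_of_bijective_app _ h0 hcl) _ _ (congrArg CommaMorphism.left h))

lemma cancel [IsProper f.left] (hf : ∀ U : Y.left.Opens, IsIso (f.left.app U))
    {Z : Over (Spec (CommRingCat.of k))} {r r' : Y ⟶ Z} (h : f ≫ r = f ≫ r') : r = r' := by
  have h0 := fun U => (haveI := hf U; ConcreteCategory.bijective_of_isIso (f.left.app U))
  exact Over.OverMorphism.ext (H23.Rigid.cancel_left _ h0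
    (H23.Rigid.surjective_of_bijective_app _ h0 f.left.isClosedMap) _ _ (congrArg CommaMorphism.left h))

open MonObj in
/-- An action descends along a fibration as soon as its orbit map is constant on the fibres. -/
theorem exists_action [QuasiSeparatedSpace X.left] [IsProper f.left]
    (hf : ∀ U : Y.left.Opens, IsIso (f.left.app U)) {G : Over (Spec (CommRingCat.of k))} [GrpObj G]
    (a : AlgGrp.Action G X)
    (h : ∀ p q : ↥(G ⊗ X).left, (G ◁ f).left.base p = (G ◁ f).left.base q →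
      (a.act ≫ f).left.base p = (a.act ≫ f).left.base q) :
    ∃ b : AlgGrp.Action G Y, (G ◁ f) ≫ b.act = a.act ≫ f := by
  obtain ⟨h0, hcl⟩ := bijective_app_whiskerLeft f hf G
  have hs := H23.Rigid.surjective_of_bijective_app _ h0 hcl
  obtain ⟨r, hr⟩ := H23.Rigid.exists_factor (G ◁ f).left h0 hcl (a.act ≫ f).left (fun s => by
    obtain ⟨x, hx⟩ := hs s
    exact ⟨_, fun x' hx' => h x' x (hx'.trans hx.symm)⟩)
  have hr' : r ≫ Y.hom = (G ⊗ Y).hom := H23.Rigid.cancel_left _ h0 hs _ _ (by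
    rw [← Category.assoc, hr]
    exact (Over.w (a.act ≫ f)).trans (Over.w (G ◁ f)).symm)
  let b : G ⊗ Y ⟶ Y := Over.homMk r hr'
  have hb : (G ◁ f) ≫ b = a.act ≫ f := Over.OverMorphism.ext hr
  refine ⟨⟨b, ?_, ?_⟩, hb⟩
  · refine epi_whiskerLeft f hf _ _ ?_
    rw [whisker_exchange_assoc, hb, ← Category.assoc, a.one_act, leftUnitor_naturality]
  · refine epi_whiskerLeft f hf _ _ ?_
    rw [whisker_exchange_assoc, hb, ← Category.assoc, a.mul_act, Category.assoc, Category.assoc,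
      associator_naturality_right_assoc, ← MonoidalCategory.whiskerLeft_comp_assoc, hb,
      MonoidalCategory.whiskerLeft_comp_assoc, hb]


open MonObj in
/-- For a connected group the orbit map is constant on the fibres of a proper fibration. -/
theorem const_fibres [QuasiSeparatedSpace X.left] [IsProper f.left]
    (hf : ∀ U : Y.left.Opens, IsIso (f.left.app U)) {G : Over (Spec (CommRingCat.of k))} [GrpObj G]
    [LocallyOfFiniteType G.hom] [QuasiCompact G.hom] [ConnectedSpace ↥G.left]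
    (a : AlgGrp.Action G X) (p q : ↥(G ⊗ X).left)
    (hpq : (G ◁ f).left.base p = (G ◁ f).left.base q) :
    (a.act ≫ f).left.base p = (a.act ≫ f).left.base q := by
  haveI := GrpSchLib.Adjoint.geometricallyIrreducible (G := G)
  obtain ⟨h0, hcl⟩ := bijective_app_whiskerLeft f hf G
  -- a neighbourhood of the unit section over which the orbit map factors
  have hcoll : ∀ y : Y.left, ∃ (U : (G ⊗ Y).left.Opens) (V : Y.left.Opens), IsAffineOpen V ∧
      ((λ_ Y).inv ≫ (η[G] ▷ Y)).left y ∈ U ∧ (G ◁ f).left ⁻¹ᵁ U ≤ (a.act ≫ f).left ⁻¹ᵁ V := by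
    intro y
    set s := ((λ_ Y).inv ≫ (η[G] ▷ Y)).left y with hs'
    have hs : ∃ y' : Y.left, ∀ x : ↥(G ⊗ X).left, (G ◁ f).left x = s → (a.act ≫ f).left x = y' := by
      refine ⟨y, fun x hx => ?_⟩
      have hfst : (fst G X).left x = η[G].left ((fst (𝟙_ _) Y).left ((λ_ Y).inv.left y)) := by
        have e1 := congrArg (fun φ : G ⊗ X ⟶ G => φ.left x) (whiskerLeft_fst G f)
        have e2 : (η[G] ▷ Y) ≫ fst G Y = fst _ Y ≫ η[G] := whiskerRight_fst _ _
        refine e1.symm.trans ?_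
        show ((G ◁ f) ≫ fst G Y).left x = _
        rw [Over.comp_left, Scheme.Hom.comp_apply, hx]
        exact congr($(congrArg CommaMorphism.left e2) ((λ_ Y).inv.left y))
      obtain ⟨x₀, hx₀, -⟩ := Scheme.exists_preimage_of_isPullback
        (GrpSchLib.isPullback_whiskerRight η[G] X) x _ hfst
      have e3 : (η[G] ▷ X) ≫ (G ◁ f) ≫ snd G Y = (λ_ X).hom ≫ f := by
        rw [whiskerLeft_snd, whiskerRight_snd_assoc, leftUnitor_hom]
      have e4 : (η[G] ▷ X) ≫ a.act ≫ f = (λ_ X).hom ≫ f := by rw [← Category.assoc, a.one_act]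
      have e5 : ((λ_ Y).inv ≫ (η[G] ▷ Y)) ≫ snd G Y = 𝟙 Y := by simp
      rw [← hx₀]
      refine (congr($(congrArg CommaMorphism.left (e4.trans e3.symm)) x₀)).trans ?_
      show ((G ◁ f) ≫ snd G Y).left ((η[G] ▷ X).left x₀) = y
      rw [hx₀, Over.comp_left, Scheme.Hom.comp_apply, hx]
      exact congr($(congrArg CommaMorphism.left e5) y)
    exact H23.Rigid.exists_nhd_collapsed (G ◁ f).left hcl (a.act ≫ f).left s hs
  choose U V hV hsU hle using hcoll
  choose r hr using fun y => H23.Rigid.exists_factor_of_le (G ◁ f).left h0 (a.act ≫ f).left (U y) (V y) (hV y) (hle y)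
  let Ue : (G ⊗ Y).left.Opens := ⨆ y, U y
  -- geometric points
  obtain ⟨w, hw1, hw2⟩ := Scheme.Pullback.exists_preimage_pullback
    (f := (G ◁ f).left) (g := (G ◁ f).left) p q hpq
  obtain ⟨Ω, _, _, z, hz⟩ := Groth.Agent.MorLib.GF.exists_geomPoint w
  let T : Over (Spec (CommRingCat.of k)) :=
    Over.mk (z ≫ pullback.fst (G ◁ f).left (G ◁ f).left ≫ (G ⊗ X).hom)
  let π₁ : T ⟶ G ⊗ X := Over.homMk (z ≫ pullback.fst (G ◁ f).left (G ◁ f).left) (Category.assoc _ _ _)
  let π₂ : T ⟶ G ⊗ X := Over.homMk (z ≫ pullback.snd (G ◁ f).left (G ◁ f).left) (by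
    show _ = z ≫ pullback.fst (G ◁ f).left (G ◁ f).left ≫ (G ⊗ X).hom
    rw [← Over.w (G ◁ f), Category.assoc, pullback.condition_assoc])
  have hπ : π₁ ≫ (G ◁ f) = π₂ ≫ (G ◁ f) := Over.OverMorphism.ext (by
    show (z ≫ _) ≫ _ = (z ≫ _) ≫ _
    rw [Category.assoc, Category.assoc, pullback.condition])
  let cl : ↥T.left := IsLocalRing.closedPoint Ω
  have hp : π₁.left cl = p := by
    show (pullback.fst (G ◁ f).left (G ◁ f).left) (z (IsLocalRing.closedPoint Ω)) = p
    exact (congrArg (fun e => (pullback.fst (G ◁ f).left (G ◁ f).left) e) hz).trans hw1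
  have hq : π₂.left cl = q := by
    show (pullback.snd (G ◁ f).left (G ◁ f).left) (z (IsLocalRing.closedPoint Ω)) = q
    exact (congrArg (fun e => (pullback.snd (G ◁ f).left (G ◁ f).left) e) hz).trans hw2
  suffices key : π₁ ≫ a.act ≫ f = π₂ ≫ a.act ≫ f by
    rw [← hp, ← hq]
    exact congrArg (fun φ : T ⟶ Y => φ.left cl) key
  haveI : Subsingleton ↥T.left := inferInstanceAs (Subsingleton ↥(Spec (CommRingCat.of Ω)))
  have hloc : ∀ (g : T ⟶ G) (x₁ x₂ : T ⟶ X), x₁ ≫ f = x₂ ≫ f → (lift g (x₁ ≫ f)).left cl ∈ Ue →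
      lift g x₁ ≫ a.act ≫ f = lift g x₂ ≫ a.act ≫ f := by
    intro g x₁ x₂ hx hmem
    obtain ⟨y, hy⟩ := TopologicalSpace.Opens.mem_iSup.mp hmem
    have hrange : ∀ x : T ⟶ X, x ≫ f = x₁ ≫ f →
        Set.range (lift g x).left ⊆ Set.range ((G ◁ f).left ⁻¹ᵁ U y).ι := by
      rintro x hx _ ⟨t, rfl⟩
      rw [Scheme.Opens.range_ι]
      show (G ◁ f).left ((lift g x).left t) ∈ U y
      rw [Subsingleton.elim t cl, ← GrpSchLib.left_comp_apply, lift_whiskerLeft, hx]
      exact hy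
    have hfac : ∀ x : T ⟶ X, ∀ hx : x ≫ f = x₁ ≫ f, (lift g x ≫ a.act ≫ f).left =
        (IsOpenImmersion.lift ((G ◁ f).left ⁻¹ᵁ U y).ι (lift g x).left (hrange x hx) ≫ ((G ◁ f).left ∣_ U y)) ≫ r y := by
      intro x hx
      rw [Category.assoc, hr, IsOpenImmersion.lift_fac_assoc]
      rfl
    refine Over.OverMorphism.ext ?_
    rw [hfac x₁ rfl, hfac x₂ hx.symm]
    congr 1
    rw [← cancel_mono (U y).ι]
    simp only [Category.assoc, morphismRestrict_ι, IsOpenImmersion.lift_fac_assoc, ← Over.comp_left, lift_whiskerLeft, hx]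
  -- the points
  let g₀ : T ⟶ G := π₁ ≫ fst G X
  let x₁ : T ⟶ X := π₁ ≫ snd G X
  let x₂ : T ⟶ X := π₂ ≫ snd G X
  have hg₀ : π₂ ≫ fst G X = g₀ := by
    show π₂ ≫ fst G X = π₁ ≫ fst G X
    rw [← whiskerLeft_fst G f, ← Category.assoc, ← Category.assoc, hπ]
  have hx : x₁ ≫ f = x₂ ≫ f := by
    simp only [x₁, x₂, Category.assoc]
    rw [← whiskerLeft_snd G f, ← Category.assoc, ← Category.assoc, hπ]
  have e₁ : π₁ = lift g₀ x₁ := (lift_comp_fst_snd _).symm
  have e₂ : π₂ = lift g₀ x₂ := by rw [← hg₀]; exact (lift_comp_fst_snd _).symm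
  -- a translation inside the neighbourhood
  let P := T ⊗ G
  let A : P ⟶ G ⊗ Y := lift (snd T G) (fst T G ≫ x₁ ≫ f)
  let B : P ⟶ G ⊗ Y := lift ((fst T G ≫ g₀) * (snd T G)⁻¹) (lift (snd T G) (fst T G ≫ x₁) ≫ a.act ≫ f)
  have hne : ∀ (g : T ⟶ G) (C : P ⟶ G ⊗ Y) (y : T ⟶ Y), lift (𝟙 T) g ≫ C = lift 1 y →
      (C.left ⁻¹' (Ue : Set ↥(G ⊗ Y).left)).Nonempty := fun g C y h => by
    refine ⟨(lift (𝟙 T) g).left cl, ?_⟩
    rw [Set.mem_preimage, ← GrpSchLib.left_comp_apply, h]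
    refine TopologicalSpace.Opens.mem_iSup.mpr ⟨y.left cl, ?_⟩
    have e : lift (1 : T ⟶ G) y = y ≫ (λ_ Y).inv ≫ (η[G] ▷ Y) := by
      apply CartesianMonoidalCategory.hom_ext <;> simp [Hom.one_def]
    rw [e, GrpSchLib.left_comp_apply]
    exact hsU _
  have hA : (A.left ⁻¹' (Ue : Set ↥(G ⊗ Y).left)).Nonempty := hne 1 A (x₁ ≫ f) (by
    apply CartesianMonoidalCategory.hom_ext <;> simp [A])
  have hB : (B.left ⁻¹' (Ue : Set ↥(G ⊗ Y).left)).Nonempty := hne g₀ B (lift g₀ x₁ ≫ a.act ≫ f) (by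
    apply CartesianMonoidalCategory.hom_ext <;> simp [B, comp_lift_assoc, MonObj.comp_mul, GrpObj.comp_inv])
  haveI : Nonempty ↥T.left := ⟨cl⟩
  haveI : IrreducibleSpace ↥(T ⊗ G).left :=
    GeometricallyIrreducible.irreducibleSpace_of_subsingleton (f := pullback.fst T.hom G.hom)
  obtain ⟨z₀, hz₀⟩ := nonempty_preirreducible_inter (A.left ⁻¹ᵁ Ue).2 (B.left ⁻¹ᵁ Ue).2 hA hB
  haveI : JacobsonSpace ↥(T ⊗ G).left := LocallyOfFiniteType.jacobsonSpace (pullback.fst T.hom G.hom)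
  obtain ⟨z₁, hz₁, hzc⟩ := nonempty_inter_closedPoints
    (Z := A.left ⁻¹' (Ue : Set ↥(G ⊗ Y).left) ∩ B.left ⁻¹' (Ue : Set ↥(G ⊗ Y).left)) ⟨z₀, hz₀⟩
    (((A.left ⁻¹ᵁ Ue).2.inter (B.left ⁻¹ᵁ Ue).2)).isLocallyClosed
  let sp := (pointEquivClosedPoint (X := (T ⊗ G).left) (pullback.fst T.hom G.hom)).symm ⟨z₁, hzc⟩
  have hsp : sp.1 (IsLocalRing.closedPoint Ω) = z₁ :=
    congrArg Subtype.val ((pointEquivClosedPoint (X := (T ⊗ G).left) (pullback.fst T.hom G.hom)).apply_symm_apply ⟨z₁, hzc⟩)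
  let pt : T ⟶ T ⊗ G := Over.homMk sp.1 (by
    rw [← Over.w (fst T G)]
    show sp.1 ≫ pullback.fst T.hom G.hom ≫ T.hom = T.hom
    exact (Category.assoc _ _ _).symm.trans (by rw [sp.2, Category.id_comp]))
  have hpt : pt ≫ fst T G = 𝟙 T := Over.OverMorphism.ext sp.2
  let g : T ⟶ G := pt ≫ snd T G
  have hA' : pt ≫ A = lift g (x₁ ≫ f) := by
    apply CartesianMonoidalCategory.hom_ext <;> simp [A, g, reassoc_of% hpt]
  have hB' : pt ≫ B = lift (g₀ * g⁻¹) (lift g x₁ ≫ a.act ≫ f) := by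
    have h1 : pt ≫ lift (snd T G) (fst T G ≫ x₁) = lift g x₁ := by
      apply CartesianMonoidalCategory.hom_ext <;> simp [g, reassoc_of% hpt]
    apply CartesianMonoidalCategory.hom_ext
    · simp [B, g, MonObj.comp_mul, GrpObj.comp_inv, reassoc_of% hpt]
    · simp [B, reassoc_of% h1]
  have h1 : lift g x₁ ≫ a.act ≫ f = lift g x₂ ≫ a.act ≫ f := hloc g x₁ x₂ hx (by
    rw [← hA', GrpSchLib.left_comp_apply]
    show A.left (sp.1 (IsLocalRing.closedPoint Ω)) ∈ Ue
    rw [hsp]; exact hz₁.1)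
  have h2 := hloc (g₀ * g⁻¹) (lift g x₁ ≫ a.act) (lift g x₂ ≫ a.act)
    (by rw [Category.assoc, Category.assoc]; exact h1) (by
    rw [Category.assoc, ← hB', GrpSchLib.left_comp_apply]
    show B.left (sp.1 (IsLocalRing.closedPoint Ω)) ∈ Ue
    rw [hsp]; exact hz₁.2)
  rw [← Category.assoc, ← Category.assoc (lift (g₀ * g⁻¹) _), GrpSchLib.act_mul, GrpSchLib.act_mul, inv_mul_cancel_right] at h2
  rw [e₁, e₂, ← Category.assoc, ← Category.assoc]
  exact h2

end Field

end Groth.Agent.GrpSchLib.BlanchardQS
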