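import Groth.Agent.GrpSchLib.AntiAffineRigid
import Groth.Agent.GrpSchLib.RigidHom
import Groth.Agent.H23.Rigid

/-! Basic properties of schemes with only constant functions. -/

universe u

open CategoryTheory Limits AlgebraicGeometry MonoidalCategory CartesianMonoidalCategory MonObj TopologicalSpace Opposite
open Groth.Agent.H23

namespace Groth.Agent.GrpSchLib.AntiAffine

theorem preconnectedSpace_of_forall_idem {X : Scheme.{u}}
    (h : ∀ e : Γ(X, ⊤), IsIdempotentElem e → e = 0 ∨ e = 1) : PreconnectedSpace X := by
  classical
  rw [preconnectedSpace_iff_clopen]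
  intro s hs
  let U : Bool → X.Opens := fun b => if b then ⟨s, hs.isOpen⟩ else ⟨sᶜ, hs.compl.isOpen⟩
  let sf : ∀ b, Γ(X, U b) := fun b => if b then 1 else 0
  have hcov : (⊤ : X.Opens) ≤ iSup U := fun x _ => Opens.mem_iSup.mpr (if hx : x ∈ s then ⟨true, hx⟩ else ⟨false, hx⟩)
  have hdisj : ∀ i j, i ≠ j → U i ⊓ U j = ⊥ := by
    intro i j hij
    ext x
    cases i <;> cases j <;> simp_all [U]
  obtain ⟨e, he, -⟩ := X.sheaf.existsUnique_gluing' U ⊤ (fun b => homOfLE le_top) hcov sf (fun i j => by
    by_cases hij : i = j
    · subst hij; rfl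
    · have : Subsingleton Γ(X, U i ⊓ U j) := by rw [hdisj i j hij]; infer_instance
      exact Subsingleton.elim (α := Γ(X, U i ⊓ U j)) _ _)
  have hidem : IsIdempotentElem e := by
    refine X.sheaf.eq_of_locally_eq' U ⊤ (fun b => homOfLE le_top) hcov (e * e) e fun b => ?_
    refine (map_mul (X.presheaf.map (homOfLE le_top).op).hom e e).trans ?_
    refine (congrArg₂ (· * ·) (he b) (he b)).trans (Eq.trans ?_ (he b).symm)
    cases b
    · exact MulZeroClass.mul_zero (0 : Γ(X, U false))
    · exact _root_.mul_one (1 : Γ(X, U true))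
  have empty_of : ∀ b, sf b = (1 : Γ(X, U b)) - sf b → U b = ⊥ := by
    intro b hb
    ext x
    refine ⟨fun hx => ?_, False.elim⟩
    have h1 := congrArg (X.presheaf.germ (U b) x hx) hb
    cases b <;> simp [sf] at h1
  rcases h e hidem with rfl | rfl
  · left
    have h1 : sf true = 0 := (he true).symm.trans (map_zero _)
    have : U true = ⊥ := by
      refine empty_of true ?_
      show sf true = _
      nth_rewrite 2 [show sf true = 1 from rfl]
      rw [sub_self, h1]
    exact congrArg SetLike.coe this
  · right
    have h1 : sf false = 1 := (he false).symm.trans (map_one _)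
    have : U false = ⊥ := by
      refine empty_of false ?_
      show sf false = _
      nth_rewrite 2 [show sf false = 0 from rfl]
      rw [sub_zero, h1]
    exact Set.compl_empty_iff.mp (congrArg SetLike.coe this)

variable {k : Type u} [Field k]

theorem bijective_appTop_iff {X : Scheme.{u}} (f : X ⟶ Spec (CommRingCat.of k)) :
    Function.Bijective ((Scheme.ΓSpecIso (CommRingCat.of k)).inv ≫ f.appTop).hom ↔ Function.Bijective f.appTop := by
  have h : Function.Bijective (Scheme.ΓSpecIso (CommRingCat.of k)).inv :=
    ConcreteCategory.bijective_of_isIso _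
  exact Function.Bijective.of_comp_iff _ h

theorem nonempty_of_bijective {X : Scheme.{u}} {f : X ⟶ Spec (CommRingCat.of k)}
    (h : Function.Bijective f.appTop) : Nonempty X := by
  by_contra hne
  have : IsEmpty X := not_nonempty_iff.mp hne
  have htop : (⊤ : X.Opens) = ⊥ := Subsingleton.elim _ _
  have : Subsingleton Γ(X, ⊤) := by rw [htop]; infer_instance
  have : Subsingleton Γ(Spec (CommRingCat.of k), ⊤) := h.1.subsingleton
  have : Subsingleton k :=
    (ConcreteCategory.bijective_of_isIso (Scheme.ΓSpecIso (CommRingCat.of k)).inv).1.subsingleton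
  exact not_nontrivial k inferInstance

theorem connectedSpace_of_bijective {X : Scheme.{u}} {f : X ⟶ Spec (CommRingCat.of k)}
    (h : Function.Bijective f.appTop) : ConnectedSpace X := by
  haveI := nonempty_of_bijective h
  haveI := preconnectedSpace_of_forall_idem (X := X) fun e he => by
    have hb : Function.Bijective ((Scheme.ΓSpecIso (CommRingCat.of k)).inv ≫ f.appTop).hom :=
      (bijective_appTop_iff f).mpr h
    obtain ⟨a, rfl⟩ := hb.2 e
    have ha : IsIdempotentElem a := hb.1 (by rw [map_mul]; exact he)
    rcases IsIdempotentElem.iff_eq_zero_or_one.1 ha with rfl | rfl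
    · exact Or.inl (map_zero _)
    · exact Or.inr (map_one _)
  exact ⟨inferInstance⟩

/-- Constant functions persist after extending the field. -/
theorem bijective_appTop_snd {X : Scheme.{u}} {f : X ⟶ Spec (CommRingCat.of k)} [QuasiCompact f] [QuasiSeparated f]
    (h : Function.Bijective f.appTop) {T : Scheme.{u}} (t : T ⟶ Spec (CommRingCat.of k)) :
    Function.Bijective (pullback.snd f t).appTop :=
  Rigid.bijective_app_snd_of_bijective f t h ⊤

/-- Base change to a field extension reflects equality of morphisms. -/
theorem eq_of_map_eq {K : Type u} [Field K] (φ : k →+* K) {A B : Over (Spec (CommRingCat.of k))} {a b : A ⟶ B}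
    (h : (Over.pullback (Spec.map (CommRingCat.ofHom φ))).map a = (Over.pullback (Spec.map (CommRingCat.ofHom φ))).map b) :
    a = b := by
  have : Flat (Spec.map (CommRingCat.ofHom φ)) := flat_spec_map_field φ
  have : Surjective (Spec.map (CommRingCat.ofHom φ)) := surjective_spec_map_field φ
  refine Over.OverMorphism.ext ?_
  rw [← cancel_epi (pullback.fst A.hom (Spec.map (CommRingCat.ofHom φ)))]
  have h2 := congrArg (fun m => CommaMorphism.left m ≫ pullback.fst B.hom (Spec.map (CommRingCat.ofHom φ))) h
  simp only [Over.pullback_map_left, pullback.lift_fst] at h2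
  exact h2

end Groth.Agent.GrpSchLib.AntiAffine
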