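import Groth.Agent.GrpSchLib.FibreIrr
import Groth.Agent.GrpSchLib.Shear
import Groth.Agent.FpqcDescLib.Basic
import Mathlib.AlgebraicGeometry.Sites.Fpqc

/-!
# A nonempty open subset of a connected group over a field generates it

The product `V ×  V ⟶ G` is flat, surjective and locally of finite presentation.
-/

universe u

open CategoryTheory Limits AlgebraicGeometry MonoidalCategory CartesianMonoidalCategory MonObj GrpObj

namespace Groth.Agent.GrpSchLib.FieldMulCover

theorem covers_mul {k : Type u} [Field k] {G : Over (Spec (CommRingCat.of k))} [GrpObj G]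
    [LocallyOfFiniteType G.hom] [GeometricallyIrreducible G.hom]
    (V : G.left.Opens) (hV : (V : Set G.left).Nonempty) :
    let jV : Over.mk (V.ι ≫ G.hom) ⟶ G := Over.homMk V.ι rfl
    FpqcDescLib.Covers ((jV ⊗ₘ jV) ≫ μ[G]).left := by
  intro jV
  have e : (jV ⊗ₘ jV).left = pullback.map (Over.mk (V.ι ≫ G.hom)).hom (Over.mk (V.ι ≫ G.hom)).hom G.hom G.hom jV.left
      jV.left (𝟙 _) (by simp [jV]) (by simp [jV]) := by
    apply pullback.hom_ext
    · rw [pullback.lift_fst]
      exact congrArg (fun r : _ ⟶ G => r.left) (tensorHom_fst jV jV)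
    · rw [pullback.lift_snd]
      exact congrArg (fun r : _ ⟶ G => r.left) (tensorHom_snd jV jV)
  haveI : IsOpenImmersion jV.left := inferInstanceAs (IsOpenImmersion V.ι)
  haveI : Surjective ((jV ⊗ₘ jV) ≫ μ[G]).left := by
    constructor
    intro y
    let L := G.left.residueField y
    let T : Over (Spec (CommRingCat.of k)) := Over.mk (G.left.fromSpecResidueField y ≫ G.hom)
    let y' : T ⟶ G := Over.homMk (G.left.fromSpecResidueField y) rfl
    let pr : G ⊗ T ⟶ G := fst G T
    let θ : G ⊗ T ⟶ G ⊗ T := lift ((fst G T)⁻¹ * (snd G T ≫ y')) (snd G T)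
    let θ' : G ⊗ T ⟶ G ⊗ T := lift ((snd G T ≫ y') * (fst G T)⁻¹) (snd G T)
    have hθ : θ' ≫ θ = 𝟙 _ := by
      apply CartesianMonoidalCategory.hom_ext
      · simp only [θ, θ', Category.assoc, lift_fst, MonObj.comp_mul, GrpObj.comp_inv, lift_snd_assoc, Category.id_comp]
        group
      · simp [θ, θ']
    haveI : Surjective θ.left := ⟨fun p => ⟨θ'.left p, by
      rw [← Scheme.Hom.comp_apply, ← Over.comp_left, hθ]; rfl⟩⟩
    haveI : Subsingleton ↥T.left := inferInstanceAs (Subsingleton (PrimeSpectrum L))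
    haveI : Nonempty ↥T.left := ⟨IsLocalRing.closedPoint L⟩
    haveI : IrreducibleSpace (G ⊗ T).left :=
      GeometricallyIrreducible.irreducibleSpace_of_subsingleton (pullback.snd G.hom T.hom)
    have hne : (pr.left ⁻¹' Set.range jV.left).Nonempty := by
      obtain ⟨v, hv⟩ := hV
      haveI : Surjective T.hom := ⟨fun z => ⟨IsLocalRing.closedPoint L,
        Subsingleton.elim (α := PrimeSpectrum k) _ _⟩⟩
      haveI : Surjective pr.left := inferInstanceAs (Surjective (pullback.fst G.hom T.hom))
      obtain ⟨p, hp⟩ := pr.left.surjective v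
      refine ⟨p, ?_⟩
      show pr.left p ∈ Set.range V.ι
      rw [Scheme.Opens.range_ι, hp]
      exact hv
    have hne' : ((θ ≫ pr).left ⁻¹' Set.range jV.left).Nonempty := by
      obtain ⟨p, hp⟩ := hne
      obtain ⟨p', rfl⟩ := θ.left.surjective p
      exact ⟨p', hp⟩
    have ho := jV.left.isOpenEmbedding.isOpen_range
    obtain ⟨p, hp1, hp2⟩ := nonempty_preirreducible_inter (ho.preimage pr.left.continuous)
      (ho.preimage (θ ≫ pr).left.continuous) hne hne'
    let m : G ⊗ T ⟶ G ⊗ G := lift pr (θ ≫ pr)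
    have hm : m ≫ μ[G] = snd G T ≫ y' := by
      show lift pr (θ ≫ pr) ≫ μ[G] = _
      rw [← Hom.mul_def]
      simp only [θ, pr, lift_fst, mul_inv_cancel_left]
    have hmem : m.left p ∈ Set.range (jV ⊗ₘ jV).left := by
      rw [e, Scheme.Pullback.range_map]
      constructor
      · rw [Set.mem_preimage, ← Scheme.Hom.comp_apply, show m.left ≫ pullback.fst G.hom G.hom = pr.left from
          congrArg (fun r : _ ⟶ G => r.left) (lift_fst pr (θ ≫ pr))]
        exact hp1
      · rw [Set.mem_preimage, ← Scheme.Hom.comp_apply, show m.left ≫ pullback.snd G.hom G.hom = (θ ≫ pr).left from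
          congrArg (fun r : _ ⟶ G => r.left) (lift_snd pr (θ ≫ pr))]
        exact hp2
    obtain ⟨z, hz⟩ := hmem
    refine ⟨z, ?_⟩
    rw [Over.comp_left, Scheme.Hom.comp_apply, hz, ← Scheme.Hom.comp_apply, ← Over.comp_left, hm, Over.comp_left,
      Scheme.Hom.comp_apply]
    exact (congrArg (G.left.fromSpecResidueField y) (Subsingleton.elim _ _)).trans
      (G.left.fromSpecResidueField_apply y (IsLocalRing.closedPoint L))
  haveI : Flat ((jV ⊗ₘ jV) ≫ μ[G]).left := by
    haveI : Flat μ[G].left := by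
      rw [mul_eq_id_whiskerRight]
      exact flat_whiskerRight_mul (𝟙 G)
    haveI : IsOpenImmersion (jV ⊗ₘ jV).left := by rw [e]; infer_instance
    show Flat ((jV ⊗ₘ jV).left ≫ μ[G].left)
    infer_instance
  haveI : IsLocallyNoetherian G.left := LocallyOfFiniteType.isLocallyNoetherian G.hom
  haveI : LocallyOfFinitePresentation ((jV ⊗ₘ jV) ≫ μ[G]).left := by
    haveI : LocallyOfFiniteType (((jV ⊗ₘ jV) ≫ μ[G]).left ≫ G.hom) := by
      rw [Over.w]
      show LocallyOfFiniteType (pullback.fst _ _ ≫ (Over.mk (V.ι ≫ G.hom)).hom)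
      haveI : LocallyOfFiniteType (Over.mk (V.ι ≫ G.hom)).hom := inferInstanceAs (LocallyOfFiniteType (V.ι ≫ G.hom))
      infer_instance
    haveI : LocallyOfFiniteType ((jV ⊗ₘ jV) ≫ μ[G]).left := locallyOfFiniteType_of_comp _ G.hom
    infer_instance
  exact FpqcDescLib.covers_of_isCovering
    (Scheme.fppfPrecoverage_le_fpqcPrecoverage _ (Scheme.Hom.singleton_mem_fppfPrecoverage _))

end Groth.Agent.GrpSchLib.FieldMulCover
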