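import Groth.Agent.GrpSchLib.FixedLocus
import Groth.Agent.GrpSchLib.FieldMulCover

/-!
# A homomorphism of a group of multiplicative type central in one fibre is central nearby

The locus of points fixed by conjugation is open and contains the unit at that fibre; on the nearby fibres, which are
connected, it generates the group, so these fibres are fixed, and hence so is everything above them.
-/

universe u

open CategoryTheory CategoryTheory.Limits MonoidalCategory CartesianMonoidalCategory MonObj GrpObj AlgebraicGeometry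

namespace Groth.Agent.GrpSchLib.ConjCentral

open FixedLocus (FixedPt)

variable {S : Scheme.{u}} {H G : Over S} [GrpObj H] [GrpObj G] (u : H ⟶ G) [IsMonHom u]

/-- Conjugation through `u`. -/
noncomputable def conjAction : AlgGrp.Action H G where
  act := (fst H G ≫ u) * snd H G * (fst H G ≫ u)⁻¹
  one_act := by
    rw [MonObj.comp_mul, MonObj.comp_mul, GrpObj.comp_inv, whiskerRight_fst_assoc, whiskerRight_snd,
      IsMonHom.one_hom, toUnit_unique (fst (𝟙_ (Over S)) G) (toUnit _), ← Hom.one_def, _root_.one_mul, inv_one,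
      _root_.mul_one, leftUnitor_hom]
  mul_act := by
    have hu : μ[H] ≫ u = (fst H H ≫ u) * (snd H H ≫ u) := by
      rw [IsMonHom.mul_hom, Hom.mul_def]
      congr 1
    simp only [MonObj.comp_mul, GrpObj.comp_inv, whiskerRight_fst_assoc, whiskerRight_snd, whiskerLeft_fst_assoc,
      whiskerLeft_snd, whiskerLeft_snd_assoc, associator_hom_fst_assoc, associator_hom_snd_fst_assoc,
      associator_hom_snd_snd, hu, _root_.mul_inv_rev, _root_.mul_assoc]

theorem act_apply {Y : Over S} (h : Y ⟶ H) (g : Y ⟶ G) :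
    lift h g ≫ (conjAction u).act = (h ≫ u) * g * (h ≫ u)⁻¹ := by
  show lift h g ≫ ((fst H G ≫ u) * snd H G * (fst H G ≫ u)⁻¹) = _
  rw [MonObj.comp_mul, MonObj.comp_mul, GrpObj.comp_inv, lift_fst_assoc, lift_snd]

theorem fixed_iff {Y : Over S} (h : Y ⟶ H) (g : Y ⟶ G) :
    lift h g ≫ (conjAction u).act = g ↔ g * (h ≫ u) = (h ≫ u) * g := by
  rw [act_apply, mul_inv_eq_iff_eq_mul, eq_comm]

variable {u}

theorem fixed_mul {P : Over S} {x x' : P ⟶ G} (h : FixedPt (conjAction u) x) (h' : FixedPt (conjAction u) x') :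
    FixedPt (conjAction u) (x * x') := by
  intro Y q g
  have e1 := (fixed_iff u g (q ≫ x)).mp (h Y q g)
  have e2 := (fixed_iff u g (q ≫ x')).mp (h' Y q g)
  rw [MonObj.comp_mul, fixed_iff, _root_.mul_assoc, e2, ← _root_.mul_assoc, e1, _root_.mul_assoc]

/-- The fibre hypothesis, read over the base. -/
theorem fixed_of_fibre {s : S}
    (hs : ∀ (X : Over (Spec (S.residueField s))) (g : X ⟶ Red.bc (S.fromSpecResidueField s) G)
      (h : X ⟶ Red.bc (S.fromSpecResidueField s) H),
      g * (h ≫ (Over.pullback (S.fromSpecResidueField s)).map u) = (h ≫ (Over.pullback (S.fromSpecResidueField s)).map u) * g)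
    (Y : Over S) (q : Y ⟶ Over.mk (S.fromSpecResidueField s)) (h : Y ⟶ H) (g : Y ⟶ G) :
    lift h g ≫ (conjAction u).act = g := by
  let j := S.fromSpecResidueField s
  let X' : Over (Spec (S.residueField s)) := Over.mk q.left
  let e : Y ⟶ (Over.map j).obj X' := Over.homMk (𝟙 _) (by
    show 𝟙 _ ≫ q.left ≫ j = Y.hom
    rw [Category.id_comp]; exact Over.w q)
  let e' : (Over.map j).obj X' ⟶ Y := Over.homMk (𝟙 _) (by
    show 𝟙 _ ≫ Y.hom = q.left ≫ j
    rw [Category.id_comp]; exact (Over.w q).symm)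
  have hee : e ≫ e' = 𝟙 _ := Over.OverMorphism.ext (Category.id_comp _)
  obtain ⟨g₁, hg₁⟩ := (DSPtsLib.theta_bijective (H := G) (Y := X') j).2 (e' ≫ g)
  obtain ⟨h₁, hh₁⟩ := (DSPtsLib.theta_bijective (H := H) (Y := X') j).2 (e' ≫ h)
  have hc := congrArg (fun m => e ≫ DSPtsLib.theta (H := G) j m) (hs X' g₁ h₁)
  have hn : DSPtsLib.theta (H := G) j (h₁ ≫ (Over.pullback j).map u) = e' ≫ h ≫ u := by
    rw [← Category.assoc, ← hh₁]
    exact (Over.mapPullbackAdj j).homEquiv_naturality_right_symm h₁ u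
  simp only [DSPtsLib.theta_mul] at hc
  erw [hn, hg₁, MonObj.comp_mul, MonObj.comp_mul, reassoc_of% hee, reassoc_of% hee] at hc
  rw [fixed_iff]
  exact hc

/-- A point into the fixed open is fixed. -/
theorem fixed_of_mem {E : G.left.Opens}
    (hE : FixedPt (conjAction u) (Over.homMk E.ι rfl : Over.mk (E.ι ≫ G.hom) ⟶ G)) {P : Over S} (x : P ⟶ G)
    (hx : ∀ p : P.left, x.left p ∈ E) : FixedPt (conjAction u) x := by
  have hr : Set.range x.left ⊆ Set.range E.ι := by
    rintro _ ⟨p, rfl⟩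
    rw [Scheme.Opens.range_ι]
    exact hx p
  let l : P ⟶ Over.mk (E.ι ≫ G.hom) := Over.homMk (IsOpenImmersion.lift E.ι x.left hr) (by
    show _ ≫ E.ι ≫ G.hom = P.hom
    rw [IsOpenImmersion.lift_fac_assoc, Over.w x])
  have he : l ≫ Over.homMk E.ι rfl = x := Over.OverMorphism.ext (IsOpenImmersion.lift_fac _ _ _)
  rw [← he]
  exact hE.comp l

/-- A connected fibre meeting the fixed open is fixed. -/
theorem fixed_fibre [LocallyOfFiniteType G.hom] {E : G.left.Opens}
    (hE : FixedPt (conjAction u) (Over.homMk E.ι rfl : Over.mk (E.ι ≫ G.hom) ⟶ G)) {t : S}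
    (hconn : _root_.IsConnected (G.hom ⁻¹' {t})) (z : G.left) (hz : z ∈ E) (hzt : G.hom z = t)
    (Y : Over S) (q : Y ⟶ Over.mk (S.fromSpecResidueField t)) (h : Y ⟶ H) (g : Y ⟶ G) :
    lift h g ≫ (conjAction u).act = g := by
  let j := S.fromSpecResidueField t
  let Gt : Over (Spec (CommRingCat.of (S.residueField t))) := Red.bc j G
  haveI : GeometricallyIrreducible Gt.hom := (FibreIrr.geometricallyIrreducible_fib G t hconn).1
  haveI : LocallyOfFiniteType Gt.hom := inferInstanceAs (LocallyOfFiniteType (pullback.snd _ _))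
  let pf : Gt.left ⟶ G.left := pullback.fst G.hom j
  let V : Gt.left.Opens := pf ⁻¹ᵁ E
  have hV : (V : Set Gt.left).Nonempty := by
    obtain ⟨w, hw⟩ : z ∈ Set.range pf := by rw [FibreIrr.range_fst]; exact hzt
    exact ⟨w, show pf w ∈ E by rw [hw]; exact hz⟩
  have hcov := FieldMulCover.covers_mul (G := Gt) V hV
  let Vo : Over (Spec (CommRingCat.of (S.residueField t))) := Over.mk (V.ι ≫ Gt.hom)
  let jV : Vo ⟶ Gt := Over.homMk V.ι rfl
  let m : Vo ⊗ Vo ⟶ Gt := (jV ⊗ₘ jV) ≫ μ[Gt]
  let xt : (Over.map j).obj Gt ⟶ G := DSPtsLib.theta j (𝟙 Gt)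
  have hfix : FixedPt (conjAction u) xt := by
    refine FixedPt.of_covers ((Over.map j).map m) hcov ?_
    have hm : m = (fst Vo Vo ≫ jV) * (snd Vo Vo ≫ jV) := by
      rw [Hom.mul_def, lift_fst_comp_snd_comp]
    rw [show (Over.map j).map m ≫ xt = DSPtsLib.theta j m by
      rw [← DSPtsLib.theta_comp, Category.comp_id], hm, DSPtsLib.theta_mul]
    refine fixed_mul ?_ ?_ <;> refine fixed_of_mem hE _ fun p => ?_
    · rw [DSPtsLib.theta_left, Over.comp_left]
      show pf (V.ι ((fst Vo Vo).left p)) ∈ E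
      exact ((fst Vo Vo).left p).2
    · rw [DSPtsLib.theta_left, Over.comp_left]
      show pf (V.ι ((snd Vo Vo).left p)) ∈ E
      exact ((snd Vo Vo).left p).2
  let X' : Over (Spec (S.residueField t)) := Over.mk q.left
  let e : Y ⟶ (Over.map j).obj X' := Over.homMk (𝟙 _) (by
    show 𝟙 _ ≫ q.left ≫ j = Y.hom
    rw [Category.id_comp]; exact Over.w q)
  let e' : (Over.map j).obj X' ⟶ Y := Over.homMk (𝟙 _) (by
    show 𝟙 _ ≫ Y.hom = q.left ≫ j
    rw [Category.id_comp]; exact (Over.w q).symm)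
  have hee : e ≫ e' = 𝟙 _ := Over.OverMorphism.ext (Category.id_comp _)
  obtain ⟨w, hw⟩ := (DSPtsLib.theta_bijective (H := G) (Y := X') j).2 (e' ≫ g)
  have hg : g = (e ≫ (Over.map j).map w) ≫ xt := by
    rw [Category.assoc, ← DSPtsLib.theta_comp, Category.comp_id, hw, reassoc_of% hee]
  rw [hg]
  exact hfix Y _ h

/-- Central in one fibre, hence central over a neighbourhood. -/
theorem exists_nhd [LocallyOfFiniteType G.hom] (hH : SGA3x.IsMultTypeFT H)
    (hconn : ∀ t : S, _root_.IsConnected (G.hom ⁻¹' {t})) {s : S}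
    (hs : ∀ (X : Over (Spec (S.residueField s))) (g : X ⟶ Red.bc (S.fromSpecResidueField s) G)
      (h : X ⟶ Red.bc (S.fromSpecResidueField s) H),
      g * (h ≫ (Over.pullback (S.fromSpecResidueField s)).map u) = (h ≫ (Over.pullback (S.fromSpecResidueField s)).map u) * g) :
    ∃ U : S.Opens, s ∈ U ∧ ∀ (X : Over S) (_ : X ⟶ Over.mk U.ι) (g : X ⟶ G) (h : X ⟶ H),
      g * (h ≫ u) = (h ≫ u) * g := by
  obtain ⟨E, hE, hmem⟩ := FixedLocus.exists_locus (a := conjAction u) hH
  let η₀ : S ⟶ G.left := η[G].left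
  have hη : ∀ t, G.hom (η₀ t) = t := fun t => by
    rw [← Scheme.Hom.comp_apply, show η₀ ≫ G.hom = 𝟙 S from Over.w η[G]]
    rfl
  refine ⟨η₀ ⁻¹ᵁ E, hmem (η₀ s) fun Y q h g => ?_, fun X q g h => ?_⟩
  · revert q
    rw [hη s]
    exact fun q => fixed_of_fibre hs Y q h g
  · have hg : FixedPt (conjAction u) g := fixed_of_mem hE g fun p => hmem _ fun Y q' h' g' => by
      refine fixed_fibre hE (hconn _) (η₀ (G.hom (g.left p))) ?_ (hη _) Y q' h' g'
      have hp : G.hom (g.left p) = (η₀ ⁻¹ᵁ E).ι (q.left p) := by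
        rw [← Scheme.Hom.comp_apply, Over.w g, ← Scheme.Hom.comp_apply]
        exact congrArg (fun m : X.left ⟶ S => m p) (Over.w q).symm
      rw [hp]
      exact (q.left p).2
    have h1 := hg X (𝟙 X) h
    rw [Category.id_comp] at h1
    exact (fixed_iff u h g).mp h1

end Groth.Agent.GrpSchLib.ConjCentral
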