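import Groth.Agent.GrpSchLib.InfNbhdEq
import Mathlib.AlgebraicGeometry.SpreadingOut

/-! An affine neighbourhood of a rational point with its infinitesimal neighbourhoods. -/

universe u

open CategoryTheory Limits AlgebraicGeometry MonoidalCategory CartesianMonoidalCategory
open scoped TensorProduct

namespace Groth.Agent.GrpSchLib.Adjoint

open Kunneth LineGroups

variable {k : Type u} [Field k]

/-- An affine neighbourhood `U` of a rational point in which the infinitesimal neighbourhoods `N n` are jointly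
dense; each `N n` is finite with a single point, and contains every infinitesimal deformation of order `n` of the point. -/
structure Nbhds (G : Over (Spec (CommRingCat.of k))) (e : 𝟙_ (Over (Spec (CommRingCat.of k))) ⟶ G) where
  U : Over (Spec (CommRingCat.of k))
  uι : U ⟶ G
  [affU : IsAffine U.left]
  [openι : IsOpenImmersion uι.left]
  u₀ : 𝟙_ (Over (Spec (CommRingCat.of k))) ⟶ U
  u₀_fac : u₀ ≫ uι = e
  N : ℕ → Over (Spec (CommRingCat.of k))
  [affN : ∀ n, IsAffine (N n).left]
  [subN : ∀ n, Subsingleton (N n).left]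
  j : ∀ n, N n ⟶ U
  q : ∀ n, 𝟙_ (Over (Spec (CommRingCat.of k))) ⟶ N n
  q_fac : ∀ n, q n ≫ j n = u₀
  finN : ∀ n, Module.Finite k (Fn (N n))
  surj : ∀ n, Function.Surjective (ev (j n))
  ker : ∀ n, RingHom.ker (ev (j n)) = RingHom.ker (evPt u₀) ^ (n + 1)
  dense : ∀ w : Fn U, (∀ n, ev (j n) w = 0) → w = 0

attribute [instance] Nbhds.affU Nbhds.openι Nbhds.affN Nbhds.subN

set_option maxHeartbeats 400000 in
theorem exists_nbhds' (G : Over (Spec (CommRingCat.of k))) [IsLocallyNoetherian G.left]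
    (e : 𝟙_ (Over (Spec (CommRingCat.of k))) ⟶ G) : Nonempty (Nbhds G e) := by
  classical
  haveI : Subsingleton ↥(𝟙_ (Over (Spec (CommRingCat.of k)))).left := inferInstanceAs (Subsingleton (PrimeSpectrum k))
  let pt : ↥(Spec (CommRingCat.of k)) := IsLocalRing.closedPoint k
  obtain ⟨W₀, hyW, hW₀, hinj⟩ := Scheme.exists_germ_injective G.left (e.left pt)
  let W : Over (Spec (CommRingCat.of k)) := Over.mk (W₀.ι ≫ G.hom)
  let wι : W ⟶ G := Over.homMk W₀.ι rfl
  haveI : IsAffine W.left := hW₀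
  haveI : IsOpenImmersion wι.left := inferInstanceAs (IsOpenImmersion W₀.ι)
  haveI : IsLocallyNoetherian W.left := isLocallyNoetherian_of_isOpenImmersion W₀.ι
  haveI : IsNoetherianRing (Fn W) := IsLocallyNoetherian.component_noetherian ⟨⊤, isAffineOpen_top W.left⟩
  have hr : Set.range e.left ⊆ Set.range W₀.ι := by
    rintro _ ⟨t, rfl⟩
    rw [Scheme.Opens.range_ι, Subsingleton.elim t pt]
    exact hyW
  let w₀ : 𝟙_ (Over (Spec (CommRingCat.of k))) ⟶ W := Over.homMk (IsOpenImmersion.lift W₀.ι e.left hr)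
    (show IsOpenImmersion.lift W₀.ι e.left hr ≫ W₀.ι ≫ G.hom = _ by
      rw [IsOpenImmersion.lift_fac_assoc]; exact Over.w e)
  have hw₀ : w₀ ≫ wι = e := Over.OverMorphism.ext (IsOpenImmersion.lift_fac _ _ _)
  let m : Ideal (Fn W) := RingHom.ker (evPt w₀)
  have hsp : Function.Surjective (evPt w₀) := fun c => ⟨algebraMap k _ c, (evPt w₀).commutes c⟩
  have hm : m.IsMaximal := RingHom.ker_isMaximal_of_surjective (evPt w₀) hsp
  let N : ℕ → Over (Spec (CommRingCat.of k)) := fun n =>
    Over.mk (Spec.map (CommRingCat.ofHom (algebraMap k (Fn W ⧸ m ^ (n + 1)))))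
  haveI : ∀ n, IsAffine (N n).left := fun n => isAffine_Spec _
  choose i hi using fun n : ℕ => exists_hom_ev (X := W) (T := N n)
    ((spEquiv (k := k) (Fn W ⧸ m ^ (n + 1))).toAlgHom.comp (Ideal.Quotient.mkₐ k (m ^ (n + 1))))
  have hsub : ∀ n, Subsingleton (N n).left := fun n => by
    haveI : Subsingleton (PrimeSpectrum (Fn W ⧸ m ^ (n + 1))) := ⟨fun p p' => by
      have hp : ∀ p : PrimeSpectrum (Fn W ⧸ m ^ (n + 1)), p.asIdeal.comap (Ideal.Quotient.mk _) = m := fun p => by
        refine (hm.eq_of_le (p.2.comap (Ideal.Quotient.mk _)).ne_top ?_).symm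
        refine (p.2.comap (Ideal.Quotient.mk _)).le_of_pow_le (n := n + 1) ?_
        intro a ha
        rw [Ideal.mem_comap, Ideal.Quotient.eq_zero_iff_mem.mpr ha]
        exact zero_mem _
      exact PrimeSpectrum.ext (Ideal.comap_injective_of_surjective _ Ideal.Quotient.mk_surjective ((hp p).trans (hp p').symm))⟩
    exact inferInstanceAs (Subsingleton (PrimeSpectrum _))
  have hq : ∀ n, ∃ q : 𝟙_ (Over (Spec (CommRingCat.of k))) ⟶ N n, q ≫ i n = w₀ := fun n => by
    let δ : (Fn W ⧸ m ^ (n + 1)) →ₐ[k] Fn (𝟙_ (Over (Spec (CommRingCat.of k)))) :=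
      Ideal.Quotient.liftₐ _ (ev w₀) fun a ha => by
        have h1 : evPt w₀ a = 0 := Ideal.pow_le_self (Nat.succ_ne_zero n) ha
        apply (ConcreteCategory.bijective_of_isIso (Scheme.ΓSpecIso (CommRingCat.of k)).hom).1
        exact h1.trans (map_zero _).symm
    obtain ⟨q, hq⟩ := exists_hom_ev (X := N n) (δ.comp (spEquiv (k := k) (Fn W ⧸ m ^ (n + 1))).symm.toAlgHom)
    refine ⟨q, ext_ev (AlgHom.ext fun a => ?_)⟩
    rw [← ev_ev, hi n, hq]
    simp only [AlgHom.comp_apply, AlgEquiv.coe_toAlgHom, AlgEquiv.symm_apply_apply, Ideal.Quotient.mkₐ_eq_mk, δ]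
    exact Ideal.Quotient.lift_mk _ _ _
  choose q hq using hq
  have hker : ∀ n, RingHom.ker (ev (i n)) = m ^ (n + 1) := fun n => by
    ext a
    rw [RingHom.mem_ker, hi n]
    show spEquiv (k := k) (Fn W ⧸ m ^ (n + 1)) (Ideal.Quotient.mk _ a) = 0 ↔ _
    rw [EmbeddingLike.map_eq_zero_iff, Ideal.Quotient.eq_zero_iff_mem]
  refine ⟨{
    U := W
    uι := wι
    u₀ := w₀
    u₀_fac := hw₀
    N := N
    subN := hsub
    j := i
    q := q
    q_fac := hq
    finN := fun n => ?_
    surj := fun n => ?_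
    ker := hker
    dense := ?_ }⟩
  · have hV : ∀ j : ℕ, ∃ t : Finset (Fn W), ∀ x : Fn W, ∃ v ∈ Submodule.span k (t : Set (Fn W)), x - v ∈ m ^ j := by
      intro j
      induction j with
      | zero => exact ⟨∅, fun x => ⟨0, zero_mem _, by simp⟩⟩
      | succ j ih =>
        obtain ⟨t, ht⟩ := ih
        obtain ⟨S, hS⟩ := (IsNoetherian.noetherian (m ^ j) : (m ^ j).FG)
        refine ⟨t ∪ S, fun x => ?_⟩
        obtain ⟨v, hv, hxv⟩ := ht x
        obtain ⟨c, -, hc⟩ := Submodule.mem_span_finset.mp (hS.ge hxv)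
        refine ⟨v + ∑ s ∈ S, evPt w₀ (c s) • s, ?_, ?_⟩
        · rw [Finset.coe_union, Submodule.span_union]
          exact Submodule.add_mem_sup hv (Submodule.sum_mem _ fun s hs => Submodule.smul_mem _ _ (Submodule.subset_span hs))
        · rw [show x - (v + ∑ s ∈ S, evPt w₀ (c s) • s) = ∑ s ∈ S, (c s - algebraMap k _ (evPt w₀ (c s))) * s by
            rw [← sub_sub, ← hc, ← Finset.sum_sub_distrib]
            exact Finset.sum_congr rfl fun s _ => by simp [Algebra.smul_def, sub_mul]]
          refine Ideal.sum_mem _ fun s hs => ?_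
          rw [pow_succ']
          refine Ideal.mul_mem_mul ?_ (hS.le (Submodule.subset_span hs))
          rw [RingHom.mem_ker, map_sub, AlgHom.commutes, Algebra.algebraMap_self_apply, sub_self]
    obtain ⟨t, ht⟩ := hV (n + 1)
    haveI : Module.Finite k (Submodule.span k (t : Set (Fn W))) := Module.Finite.span_of_finite k t.finite_toSet
    haveI : Module.Finite k (Fn W ⧸ m ^ (n + 1)) :=
      Module.Finite.of_surjective ((Ideal.Quotient.mkₐ k (m ^ (n + 1))).toLinearMap ∘ₗ
        (Submodule.span k (t : Set (Fn W))).subtype) fun y => by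
        obtain ⟨x, rfl⟩ := Ideal.Quotient.mk_surjective y
        obtain ⟨v, hv, hxv⟩ := ht x
        exact ⟨⟨v, hv⟩, (Ideal.Quotient.eq.mpr hxv).symm⟩
    exact Module.Finite.equiv (spEquiv (k := k) (Fn W ⧸ m ^ (n + 1))).toLinearEquiv
  · rw [hi n]
    exact (spEquiv (k := k) _).surjective.comp Ideal.Quotient.mk_surjective
  · intro w hw
    have hmem : w ∈ ⨅ n : ℕ, m ^ n := Ideal.mem_iInf.mpr fun n => by
      refine Ideal.pow_le_pow_right (Nat.le_succ n) ?_
      rw [← hker n]
      exact hw n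
    let pU : W₀ := ⟨e.left pt, hyW⟩
    let pW : W.left := pU
    have hgi : Function.Injective (W.left.presheaf.germ ⊤ pW trivial) := by
      intro a b hab
      have h1 := congrArg (W₀.stalkIso pU).hom hab
      have hg := Scheme.Opens.germ_stalkIso_hom W₀ (V := ⊤) pU trivial
      have h2 := ((congrArg (fun φ => φ a) hg).symm.trans h1).trans (congrArg (fun φ => φ b) hg)
      refine W₀.topIso.commRingCatIsoToRingEquiv.injective (hinj ?_)
      have hr : ∀ c, G.left.presheaf.germ W₀ (e.left pt) hyW (W₀.topIso.hom c) =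
          G.left.presheaf.germ (W₀.ι ''ᵁ ⊤) (e.left pt) ⟨pU, trivial, rfl⟩ c := fun c =>
        G.left.presheaf.germ_res_apply _ _ _ c
      exact (hr a).trans (h2.trans (hr b).symm)
    haveI : IsNoetherianRing (W.left.presheaf.stalk pW) := inferInstance
    haveI : IsLocalRing (W.left.presheaf.stalk pW) := inferInstance
    refine hgi ?_
    rw [map_zero]
    have hgm : ∀ a ∈ m, W.left.presheaf.germ ⊤ pW trivial a ∈ IsLocalRing.maximalIdeal _ := by
      intro a ha
      rw [IsLocalRing.mem_maximalIdeal, mem_nonunits_iff, ← Scheme.mem_basicOpen_top W.left a pW]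
      intro hb
      have hp : w₀.left pt = pW := W₀.ι.injective ((congrArg (fun f : _ ⟶ G => f.left pt) hw₀).trans rfl)
      have h0 : pt ∈ w₀.left ⁻¹ᵁ W.left.basicOpen a := by
        show w₀.left pt ∈ W.left.basicOpen a
        rw [hp]; exact hb
      rw [Scheme.preimage_basicOpen_top] at h0
      have ha' : w₀.left.appTop a = 0 := by
        apply (ConcreteCategory.bijective_of_isIso (Scheme.ΓSpecIso (CommRingCat.of k)).hom).1
        exact (show evPt w₀ a = 0 from ha).trans (map_zero _).symm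
      rw [ha', Scheme.basicOpen_zero] at h0
      exact h0
    rw [← Ideal.mem_bot, ← Ideal.iInf_pow_eq_bot_of_isLocalRing _ (IsLocalRing.maximalIdeal.isMaximal _).ne_top]
    refine Ideal.mem_iInf.mpr fun n => ?_
    exact Ideal.pow_right_mono (Ideal.map_le_iff_le_comap.mpr hgm) n
      (Ideal.map_pow (W.left.presheaf.germ ⊤ pW trivial).hom m n ▸ Ideal.mem_map_of_mem _ (Ideal.mem_iInf.mp hmem n))

theorem exists_nbhds (G : Over (Spec (CommRingCat.of k))) [LocallyOfFiniteType G.hom]
    (e : 𝟙_ (Over (Spec (CommRingCat.of k))) ⟶ G) : Nonempty (Nbhds G e) :=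
  haveI : IsLocallyNoetherian G.left := LocallyOfFiniteType.isLocallyNoetherian G.hom
  exists_nbhds' G e

end Groth.Agent.GrpSchLib.Adjoint
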