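import Groth.Agent.GrpSchLib.Affinization
import Groth.Agent.GrpSchLib.AdjointNbhd
import Groth.Agent.GrpSchLib.AntiAffineSmoothAny

/-! The kernel of the affinization is anti-affine. -/

universe u

open CategoryTheory Limits AlgebraicGeometry MonoidalCategory CartesianMonoidalCategory MonObj GrpObj

set_option linter.style.haveILetI false

namespace Groth.Agent.GrpSchLib.AffinizationKer

open Kunneth

variable {k : Type u} [Field k] (G : Over (Spec (CommRingCat.of k))) [GrpObj G] [LocallyOfFiniteType G.hom]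
  [QuasiCompact G.hom]

/-- The fibre of the canonical morphism over the unit. -/
noncomputable abbrev ker : Over (Spec (CommRingCat.of k)) :=
  Over.mk (pullback.snd G.left.toSpecΓ (η[G].left ≫ G.left.toSpecΓ) ≫ (𝟙_ (Over (Spec (CommRingCat.of k)))).hom)

theorem main : ∃ (_ : GrpObj (ker G)), LocallyOfFiniteType (ker G).hom ∧ QuasiCompact (ker G).hom ∧
    Function.Bijective (ker G).hom.appTop := by
  classical
  haveI := AntiAffine.isSeparated_grp G
  obtain ⟨I, _, p, hp, hI, hlft, hfl, hs, hb⟩ := Affinization.exists_affinization G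
  haveI := hp; haveI := hI; haveI := hlft; haveI := hfl; haveI := hs
  haveI : IsIso p.left.appTop := (ConcreteCategory.isIso_iff_bijective _).mpr hb
  let m : I.left ⟶ Spec Γ(G.left, ⊤) := I.left.toSpecΓ ≫ inv (Spec.map p.left.appTop)
  have hm : G.left.toSpecΓ = p.left ≫ m := by
    rw [← Category.assoc, Scheme.toSpecΓ_naturality, Category.assoc, IsIso.hom_inv_id, Category.comp_id]
  let N := ker G
  have hw : pullback.fst G.left.toSpecΓ (η[G].left ≫ G.left.toSpecΓ) ≫ p.left =
      pullback.snd G.left.toSpecΓ (η[G].left ≫ G.left.toSpecΓ) ≫ η[I].left := by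
    rw [← cancel_mono m, Category.assoc, Category.assoc, ← hm, ← IsMonHom.one_hom p, Over.comp_left,
      Category.assoc, ← hm]
    exact pullback.condition
  let n : N ⟶ G := Over.homMk (pullback.fst G.left.toSpecΓ (η[G].left ≫ G.left.toSpecΓ)) (by
    rw [← Over.w p, reassoc_of% hw, Over.w η[I]]
    rfl)
  have hn : n ≫ p = 1 := by
    refine Over.OverMorphism.ext (hw.trans ?_)
    congr 1
  have hmem : ∀ (T : Over (Spec (CommRingCat.of k))) (g : T ⟶ G), g ≫ p = 1 → ∃ l : T ⟶ N, l ≫ n = g := by
    intro T g hg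
    have h : g.left ≫ G.left.toSpecΓ = T.hom ≫ η[G].left ≫ G.left.toSpecΓ := by
      have h1 : g.left ≫ p.left = T.hom ≫ (η[G] ≫ p).left := by
        rw [← Over.comp_left, hg, IsMonHom.one_hom]; rfl
      rw [hm, ← Category.assoc, h1, Over.comp_left, Category.assoc, Category.assoc]
    exact ⟨Over.homMk (pullback.lift g.left T.hom h) (by
      show pullback.lift _ _ _ ≫ pullback.snd _ _ ≫ _ = _
      rw [pullback.lift_snd_assoc]; exact Category.comp_id _), Over.OverMorphism.ext (pullback.lift_fst _ _ _)⟩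
  haveI : IsSplitMono η[I].left := ⟨⟨⟨I.hom, Over.w η[I]⟩⟩⟩
  haveI : Mono (η[G].left ≫ G.left.toSpecΓ) := by
    rw [hm, ← Category.assoc, ← Over.comp_left, IsMonHom.one_hom]
    infer_instance
  haveI : Mono n.left := inferInstanceAs (Mono (pullback.fst G.left.toSpecΓ (η[G].left ≫ G.left.toSpecΓ)))
  haveI : Mono n := (Over.forget _).mono_of_mono_map (inferInstanceAs (Mono n.left))
  obtain ⟨e, he⟩ := hmem _ η[G] (by rw [IsMonHom.one_hom, MonObj.one_eq_one])
  obtain ⟨μ', hμ⟩ := hmem (N ⊗ N) ((fst N N ≫ n) * (snd N N ≫ n)) (by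
    rw [MonObj.mul_comp, Category.assoc, Category.assoc, hn, MonObj.comp_one, MonObj.comp_one, _root_.mul_one])
  obtain ⟨v, hv⟩ := hmem N n⁻¹ (by rw [GrpObj.inv_comp, hn, _root_.inv_one])
  obtain ⟨str, hN⟩ := exists_grpObj_of_mono n e he μ' hμ v hv
  haveI : IsClosedImmersion n.left := by
    haveI : IsClosedImmersion (η[G].left ≫ G.left.toSpecΓ) := by
      haveI : IsClosedImmersion η[I].left := by
        haveI : IsClosedImmersion (η[I].left ≫ I.hom) := by
          rw [Over.w η[I]]; exact inferInstanceAs (IsClosedImmersion (𝟙 _))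
        exact IsClosedImmersion.of_comp η[I].left I.hom
      rw [hm, ← Category.assoc, ← Over.comp_left, IsMonHom.one_hom]
      infer_instance
    exact inferInstanceAs (IsClosedImmersion (pullback.fst G.left.toSpecΓ (η[G].left ≫ G.left.toSpecΓ)))
  refine ⟨str, by rw [← Over.w n]; infer_instance, by rw [← Over.w n]; infer_instance, ?_⟩
  obtain ⟨D⟩ := Adjoint.exists_nbhds G η[G]
  haveI : Nonempty ↥(𝟙_ (Over (Spec (CommRingCat.of k)))).left := ⟨IsLocalRing.closedPoint k⟩
  -- flat base change along `U → I`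
  let u : D.U ⟶ I := D.uι ≫ p
  haveI : Flat u.left := by rw [Over.comp_left]; infer_instance
  let P : Over (Spec (CommRingCat.of k)) := Over.mk (pullback.snd p.left u.left ≫ D.U.hom)
  have hcs : IsCompact (X := G.left) ((⊤ : G.left.Opens) : Set G.left) := by
    haveI : CompactSpace G.left := (quasiCompact_iff_compactSpace G.hom).mp inferInstance
    exact isCompact_univ
  have hqs : IsQuasiSeparated (α := G.left) ((⊤ : G.left.Opens) : Set G.left) := by
    haveI : QuasiSeparatedSpace G.left := (quasiSeparated_iff_quasiSeparatedSpace G.hom).mp inferInstance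
    exact isQuasiSeparated_univ
  have hpo : IsPushout p.left.appTop u.left.appTop (pullback.fst p.left u.left).appTop (pullback.snd p.left u.left).appTop := by
    have := (isIso_pushoutSection_iff (IsPullback.of_hasPullback p.left u.left) (US := ⊤) (UT := ⊤) (UX := ⊤)
      (UY := ⊤) le_top le_top (by simp)).mp
      (isIso_pushoutSection_of_isQuasiSeparated_of_flat_right _ _ _ _ (isAffineOpen_top _) (isAffineOpen_top _) hcs hqs)
    simp only [Scheme.Hom.appTop, Scheme.Hom.app_eq_appLE]
    exact this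
  haveI : IsIso (pullback.snd p.left u.left).appTop := hpo.isIso_inr_of_isIso
  let gP : P ⟶ G := Over.homMk (pullback.fst p.left u.left) (by
    show pullback.fst p.left u.left ≫ G.hom = pullback.snd p.left u.left ≫ D.U.hom
    rw [← Over.w p, pullback.condition_assoc, Over.w u])
  let vP : P ⟶ D.U := Over.homMk (pullback.snd p.left u.left) rfl
  have hgv : gP ≫ p = vP ≫ D.uι ≫ p := Over.OverMorphism.ext pullback.condition
  obtain ⟨l, hl⟩ := hmem P (gP * (vP ≫ D.uι)⁻¹) (by
    rw [MonObj.mul_comp, GrpObj.inv_comp, Category.assoc, hgv, mul_inv_cancel])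
  let a : N ⊗ D.U ⟶ P := Over.homMk (pullback.lift ((fst N D.U ≫ n) * (snd N D.U ≫ D.uι)).left (snd N D.U).left
      (congrArg CommaMorphism.left (show ((fst N D.U ≫ n) * (snd N D.U ≫ D.uι)) ≫ p = snd N D.U ≫ u by
        rw [MonObj.mul_comp, Category.assoc, hn, MonObj.comp_one, _root_.one_mul, Category.assoc]))) (by
    show pullback.lift _ _ _ ≫ pullback.snd _ _ ≫ D.U.hom = _
    rw [pullback.lift_snd_assoc, Over.w])
  have hag : a ≫ gP = (fst N D.U ≫ n) * (snd N D.U ≫ D.uι) := Over.OverMorphism.ext (pullback.lift_fst _ _ _)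
  have hav : a ≫ vP = snd N D.U := Over.OverMorphism.ext (pullback.lift_snd _ _ _)
  have hab : a ≫ lift l vP = 𝟙 _ := by
    apply CartesianMonoidalCategory.hom_ext
    · rw [Category.assoc, lift_fst, Category.id_comp, ← cancel_mono n, Category.assoc, hl]
      rw [MonObj.comp_mul, GrpObj.comp_inv, ← Category.assoc, hag, hav, mul_inv_cancel_right]
    · rw [Category.assoc, lift_snd, hav, Category.id_comp]
  refine ⟨fun x y hxy => ?_, fun f => ?_⟩
  · letI := str
    have h := congrArg η[N].left.appTop hxy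
    rwa [← CommRingCat.comp_apply, ← CommRingCat.comp_apply, ← Scheme.Hom.comp_appTop, Over.w η[N]] at h
  · obtain ⟨y, hy⟩ := (ConcreteCategory.bijective_of_isIso (pullback.snd p.left u.left).appTop).2
      (ev (lift l vP ≫ fst N D.U) f)
    have key : ev (fst N D.U) f = ev (snd N D.U) y := by
      rw [← hav, ← ev_ev, show ev vP y = _ from hy, ev_ev, reassoc_of% hab]
    have h2 := congrArg (ev (lift (𝟙 N) (toUnit N ≫ D.u₀))) key
    rw [ev_ev, ev_ev, lift_fst, lift_snd, ev_id, ← ev_ev] at h2
    exact ⟨D.u₀.left.appTop y, h2.symm⟩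

end Groth.Agent.GrpSchLib.AffinizationKer
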