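import Groth.Agent.GrpSchLib.LineVec
import Groth.Agent.GrpSchLib.GLnDiag
import Groth.Agent.GrpSchLib.HomogeneousQuot
import Groth.Agent.GrpSchLib.SmoothQuot
import Groth.Agent.GrpSchLib.KernelPair
import Groth.Agent.GrpSchLib.Affinization
import Groth.Agent.ComodLib.CharFinite
import Groth.Agent.KRegLib.SyntBC
import Groth.Agent.KRegLib.CIMor
import Groth.Agent.S4107
import Groth.Agent.S9365
import Groth.Agent.S9848
import Groth.Agent.S19857

/-! Flat group schemes of finite presentation are syntomic. -/

set_option backward.isDefEq.respectTransparency false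
set_option backward.isDefEq.respectTransparency.types false
set_option linter.style.haveILetI false

universe u

open CategoryTheory Limits MonoidalCategory CartesianMonoidalCategory AlgebraicGeometry WithConv
open scoped MonObj

namespace Groth.Agent.GrpSchLib.Syntomic

open Kunneth LineGroups AffineHopf LineVec ComodLib

theorem formallySmooth_GLn (k : Type u) [CommRing k] (n : ℕ) : Algebra.FormallySmooth k (CoordGrp.GLn n k) := by
  refine Algebra.FormallySmooth.of_comp_surjective fun B _ _ I hI f => ?_
  let M : Matrix (Fin n) (Fin n) B := fun i j => (Ideal.Quotient.mk_surjective (f (CoordGrp.GLn.X i j))).choose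
  have hM : M.map (Ideal.Quotient.mkₐ k I) = GLnDiag.mat f := Matrix.ext fun i j =>
    (Ideal.Quotient.mk_surjective (f (CoordGrp.GLn.X i j))).choose_spec
  obtain ⟨d, hd⟩ := Ideal.Quotient.mk_surjective (f CoordGrp.GLn.Dinv)
  have hu : IsUnit (M.det * d) := by
    have h1 : Ideal.Quotient.mkₐ k I (M.det * d - 1) = 0 := by
      rw [map_sub, map_mul, AlgHom.map_det, map_one, AlgHom.mapMatrix_apply, hM]
      show (GLnDiag.mat f).det * Ideal.Quotient.mk I d - 1 = 0
      rw [hd, GLnDiag.det_mat, sub_self]
    have h2 : IsNilpotent (M.det * d - 1) := ⟨2, by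
      have := Ideal.pow_mem_pow (Ideal.Quotient.eq_zero_iff_mem.mp h1) 2
      rwa [hI, Ideal.mem_bot] at this⟩
    simpa using h2.isUnit_add_one
  obtain ⟨g, hg⟩ := GLnDiag.exists_pt (k := k) M ((Matrix.isUnit_iff_isUnit_det M).mpr (isUnit_of_mul_isUnit_left hu))
  exact ⟨g, GLnDiag.ext_mat (by rw [GLnDiag.mat_comp, hg, hM])⟩

variable {k : Type u} [Field k]

theorem smooth_GLn (n : ℕ) : Smooth (sp k (CoordGrp.GLn n k)).hom := by
  refine (HasRingHomProperty.Spec_iff (P := @Smooth)).mpr ?_
  haveI := formallySmooth_GLn k n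
  haveI : Algebra.FiniteType k (CoordGrp.GLn n k) :=
    @Algebra.FiniteType.of_surjective _ _ _ _ _ _ _ _
      (inferInstance : Algebra.FiniteType k (MvPolynomial (CoordGrp.GLPoly.Idx n) k)) (CoordGrp.GLn.mk n k)
      Ideal.Quotient.mk_surjective
  haveI : Algebra.FinitePresentation k (CoordGrp.GLn n k) :=
    Algebra.FinitePresentation.of_finiteType.mp inferInstance
  exact RingHom.smooth_algebraMap.mpr ⟨inferInstance, inferInstance⟩

theorem isSyntomic_of_smooth {X Y : Scheme.{u}} (f : X ⟶ Y) [Smooth f] : Synt.IsSyntomicMor f :=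
  S19857.result f (𝟙 Y) f (Category.comp_id f)

/-- An affine group of finite type embeds into a general linear group. -/
theorem exists_embedding (A : Type u) [CommRing A] [HopfAlgebra k A] [Algebra.FiniteType k A] :
    ∃ (n : ℕ) (i : sp k A ⟶ sp k (CoordGrp.GLn n k)), IsMonHom i ∧ Mono i := by
  obtain ⟨n, M, hM, hgen⟩ := exists_generating_matrix (k := k) (A := A)
  have hmul : ∀ {T : Over (Spec (CommRingCat.of k))} (g h : T ⟶ sp k A),
      Matrix.map (Matrix.of M) (fn (g * h)) = Matrix.map (Matrix.of M) (fn g) * Matrix.map (Matrix.of M) (fn h) := by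
    intro T g h
    ext x t
    rw [Matrix.map_apply, Matrix.mul_apply, fn_mul]
    show (toConv (fn g) * toConv (fn h)) (M x t) = _
    rw [AlgHom.convMul_apply, hM.comul, map_sum]
    simp
  have hone : ∀ T : Over (Spec (CommRingCat.of k)), Matrix.map (Matrix.of M) (fn (1 : T ⟶ sp k A)) = 1 := by
    intro T
    ext x t
    rw [Matrix.map_apply, fn_one]
    show (1 : WithConv (A →ₐ[k] Fn T)) (M x t) = _
    rw [AlgHom.convOne_apply, hM.counit, Matrix.one_apply]
    split_ifs <;> simp
  have hu : IsUnit (Matrix.of M) := by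
    have h1 := hmul (𝟙 (sp k A)) (𝟙 (sp k A))⁻¹
    rw [mul_inv_cancel, hone] at h1
    have h2 := congrArg (fun X : Matrix (Fin n) (Fin n) (Fn (sp k A)) => X.map (toFn (k := k) (A := A)).symm) h1
    have h3 : ∀ a, (toFn (k := k) (A := A)).symm (fn (𝟙 (sp k A)) a) = a := fun a => by
      show (toFn (k := k) (A := A)).symm (ev (𝟙 _) (toFn a)) = a
      rw [ev_id, AlgEquiv.symm_apply_apply]
    simp only [Matrix.map_mul, Matrix.map_map] at h2
    rw [show ((toFn (k := k) (A := A)).symm ∘ fn (𝟙 (sp k A))) = id from funext h3, Matrix.map_id,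
      Matrix.map_one _ (map_zero _) (map_one _)] at h2
    exact IsUnit.of_mul_eq_one _ h2.symm
  obtain ⟨f, hf⟩ := GLnDiag.exists_pt (k := k) (Matrix.of M) hu
  let i : sp k A ⟶ sp k (CoordGrp.GLn n k) := spMap f
  have hi : ∀ {T : Over (Spec (CommRingCat.of k))} (g : T ⟶ sp k A),
      GLnDiag.mat (fn (g ≫ i)) = Matrix.map (Matrix.of M) (fn g) := by
    intro T g
    have : fn (g ≫ i) = (fn g).comp f := by
      show fn (g ≫ spMap f) = _
      rw [show g ≫ spMap f = aff T ≫ spMap ((fn g).comp f) by rw [← spMap_comp, reassoc_of% (aff_fn g)]]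
      exact fn_aff _
    rw [this, GLnDiag.mat_comp, hf]
  have hmulI : ∀ {T : Over (Spec (CommRingCat.of k))} (g h : T ⟶ sp k A),
      (g * h) ≫ i = (g ≫ i) * (h ≫ i) := by
    intro T g h
    refine fn_injective (GLnDiag.ext_mat ?_)
    rw [hi, hmul, fn_mul, GLnDiag.mat_mul, ofConv_toConv, ofConv_toConv, hi, hi]
  have honeI : ∀ T : Over (Spec (CommRingCat.of k)), (1 : T ⟶ sp k A) ≫ i = 1 := by
    intro T
    refine fn_injective (GLnDiag.ext_mat ?_)
    rw [hi, hone, fn_one, GLnDiag.mat_one]
  refine ⟨n, i, ⟨?_, ?_⟩, ⟨fun {T} g h e => fn_injective ?_⟩⟩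
  · simpa [MonObj.one_eq_one] using honeI (𝟙_ _)
  · simp only [MonObj.mul_eq_mul, MonObj.comp_mul, tensorHom_fst, tensorHom_snd, hmulI]
  · refine AlgHom.ext_of_adjoin_eq_top hgen ?_
    rintro _ ⟨⟨x, t⟩, rfl⟩
    have := congrArg (fun g' => GLnDiag.mat (fn g') x t) e
    simpa only [hi, Matrix.map_apply, Matrix.of_apply] using this

/-- An affine group of finite type over a field is syntomic. -/
theorem isSyntomic_of_affine (G : Over (Spec (CommRingCat.of k))) [GrpObj G] [IsAffine G.left]
    [LocallyOfFiniteType G.hom] : Synt.IsSyntomicMor G.hom := by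
  obtain ⟨A, _, _, ⟨eG⟩⟩ := AffineHopf.exists_hopf G
  let a : sp k A ≅ G := (Grp.forget _).mapIso eG
  haveI : IsIso a.hom.left := ((Over.forget _).mapIso a).isIso_hom
  haveI : LocallyOfFiniteType (sp k A).hom := by rw [← Over.w a.hom]; infer_instance
  haveI : Algebra.FiniteType k A := RingHom.finiteType_algebraMap.mp
    ((HasRingHomProperty.Spec_iff (P := @LocallyOfFiniteType)).mp ‹LocallyOfFiniteType (sp k A).hom›)
  obtain ⟨n, i, _, _⟩ := exists_embedding (k := k) A
  let L := sp k (CoordGrp.GLn n k)
  haveI := smooth_GLn (k := k) n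
  haveI : Smooth L.hom := ‹_›
  haveI : IsAffine L.left := isAffine_Spec _
  haveI : IsAffine (sp k A).left := isAffine_Spec _
  obtain ⟨X, act, o, hXl, _, hfl, hsurj, sq⟩ := HomogeneousQuot.exists_quot L (sp k A) i
  haveI := hXl; haveI := hfl; haveI := hsurj
  let p := act.orbitMap o
  haveI : Smooth (p.left ≫ X.hom) := by rw [Over.w p]; infer_instance
  haveI : Smooth X.hom := smooth_of_flat_surjective p.left X.hom
  have hp : Synt.IsSyntomicMor p.left := S19857.result L.hom X.hom p.left (Over.w p)
  have h1 : Synt.IsSyntomicMor (fst L (sp k A)).left :=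
    KRegLib.isSyntomicMor_of_isPullback (sq.map (Over.forget _)).flip hp
  have h2 : Synt.IsSyntomicMor (pullback.fst L.hom (sp k A).hom) := h1
  have h3 : Synt.IsSyntomicMor (pullback.snd (sp k A).hom L.hom) := by
    refine KRegLib.isSyntomicMor_of_isPullback (f := pullback.fst L.hom (sp k A).hom) (g := 𝟙 _)
      (g' := (pullbackSymmetry (sp k A).hom L.hom).hom) (IsPullback.of_horiz_isIso ⟨?_⟩) h2
    rw [Category.comp_id, pullbackSymmetry_hom_comp_fst]
  haveI : Nonempty L.left := ⟨η[L].left (IsLocalRing.closedPoint k)⟩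
  haveI : Surjective L.hom := ⟨Function.surjective_to_subsingleton (α := L.left) (β := Spec (CommRingCat.of k)) _⟩
  haveI : Flat L.hom := inferInstance
  have h4 : Synt.IsSyntomicMor (sp k A).hom := S9848.result (sp k A).hom L.hom h3
  refine KRegLib.isSyntomicMor_of_isPullback (f := (sp k A).hom) (g := 𝟙 _) (g' := a.inv.left)
    (IsPullback.of_horiz_isIso ⟨?_⟩) h4
  · haveI : IsIso a.inv.left := ((Over.forget _).mapIso a).isIso_inv
    rw [Category.comp_id, Over.w]

/-- A group scheme of finite type over a field is syntomic. -/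
theorem isSyntomic_of_field (G : Over (Spec (CommRingCat.of k))) [GrpObj G] [LocallyOfFiniteType G.hom]
    [QuasiCompact G.hom] : Synt.IsSyntomicMor G.hom := by
  obtain ⟨I, _, p, hp, hI, hlft, hfl, hs, hb⟩ := Affinization.exists_affinization G
  haveI := hp; haveI := hI; haveI := hlft; haveI := hfl; haveI := hs
  haveI : IsIso p.left.appTop := (ConcreteCategory.isIso_iff_bijective _).mpr hb
  let m : I.left ⟶ Spec Γ(G.left, ⊤) := I.left.toSpecΓ ≫ inv (Spec.map p.left.appTop)
  have hm : p.left ≫ m = G.left.toSpecΓ := by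
    rw [← Category.assoc, Scheme.toSpecΓ_naturality, Category.assoc, IsIso.hom_inv_id, Category.comp_id]
  have hηm : η[I].left ≫ m = η[G].left ≫ G.left.toSpecΓ := by
    rw [← hm, show η[I] = η[G] ≫ p from (IsMonHom.one_hom p).symm, Over.comp_left, Category.assoc]
  -- the kernel is smooth
  let N := pullback p η[I]
  let i : N ⟶ G := pullback.fst p η[I]
  have hker : AlgGrp.IsKernel i p := by
    show IsPullback i (toUnit N) p η[I]
    rw [toUnit_unique (toUnit N) (pullback.snd p η[I])]
    exact IsPullback.of_hasPullback p η[I]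
  have sq₀ : IsPullback (pullback.fst G.left.toSpecΓ (η[G].left ≫ G.left.toSpecΓ))
      (pullback.snd G.left.toSpecΓ (η[G].left ≫ G.left.toSpecΓ)) p.left η[I].left :=
    AlgStLib.MonoFactor.isPullback_of_mono hm hηm (IsPullback.of_hasPullback _ _)
  have sqN : IsPullback i.left (toUnit N).left p.left η[I].left := hker.map (Over.forget _)
  haveI : Smooth N.hom := by
    have h := (S4107.result k G).2.1
    rw [← Over.w (toUnit N), ← sqN.isoIsPullback_hom_snd _ _ sq₀, Category.assoc]
    exact (MorphismProperty.cancel_left_of_respectsIso @Smooth _ _).mpr h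
  obtain ⟨q, hq, hq2⟩ := exists_kernelPair_iso i p hker
  haveI : Smooth (snd N G).left := inferInstanceAs (Smooth (pullback.snd N.hom G.hom))
  haveI : Smooth (pullback.snd p.left p.left) := by
    rw [← MorphismProperty.cancel_left_of_respectsIso @Smooth q (pullback.snd p.left p.left), hq2]
    infer_instance
  haveI : IsSeparated I.hom := inferInstance
  haveI : QuasiCompact (p.left ≫ I.hom) := by rw [Over.w p]; infer_instance
  haveI : QuasiCompact p.left := QuasiCompact.of_comp p.left I.hom
  have h1 : Synt.IsSyntomicMor p.left := S9848.result p.left p.left (isSyntomic_of_smooth _)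
  rw [← Over.w p]
  exact KRegLib.isSyntomicMor_comp p.left I.hom h1 (isSyntomic_of_affine I)

/-- A flat group scheme of finite presentation is syntomic. -/
theorem isSyntomic {S : Scheme.{u}} (G : Over S) [GrpObj G] [Flat G.hom] [LocallyOfFinitePresentation G.hom]
    [QuasiCompact G.hom] : Synt.IsSyntomicMor G.hom := by
  refine S9365.result G.hom fun s => ?_
  let g := S.fromSpecResidueField s
  let F : Over (Spec (CommRingCat.of (S.residueField s))) := (Over.pullback g).obj G
  haveI : LocallyOfFiniteType F.hom := inferInstanceAs (LocallyOfFiniteType (pullback.snd G.hom g))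
  haveI : QuasiCompact F.hom := inferInstanceAs (QuasiCompact (pullback.snd G.hom g))
  exact isSyntomic_of_field F

end Groth.Agent.GrpSchLib.Syntomic
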