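import Groth.Agent.AffDefLib.Basic
import Groth.Agent.MorLib.Thick.QuasiAffine
import Mathlib.AlgebraicGeometry.Morphisms.Etale
import Mathlib.AlgebraicGeometry.Morphisms.IsIso
import Mathlib.RingTheory.Flat.EquationalCriterion

/-!
# Isomorphisms modulo a nilpotent ideal, and étaleness of monomorphisms by lifting
-/

set_option autoImplicit false
set_option linter.style.haveILetI false

universe u

open CategoryTheory CategoryTheory.Limits AlgebraicGeometry

namespace Groth.Agent.GrpSchLib.ThickIso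

theorem surjective_SpecMap_quotient {A : Type u} [CommRing A] (I : Ideal A) (hI : IsNilpotent I) :
    Surjective (Spec.map (CommRingCat.ofHom (Ideal.Quotient.mk I))) := by
  refine ⟨fun p => ⟨⟨p.asIdeal.map (Ideal.Quotient.mk I), ?_⟩, PrimeSpectrum.ext ?_⟩⟩
  all_goals
    obtain ⟨n, hn⟩ := hI
    have hle : I ≤ p.asIdeal := fun x hx => p.isPrime.mem_of_pow_mem n
      (by have := Ideal.pow_mem_pow hx n; rw [hn] at this; simp [Submodule.mem_bot _ |>.1 this])
  · exact Ideal.map_isPrime_of_surjective Ideal.Quotient.mk_surjective (by rwa [Ideal.mk_ker])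
  · exact (Ideal.comap_map_of_surjective _ Ideal.Quotient.mk_surjective _).trans
      (by rw [← RingHom.ker_eq_comap_bot, Ideal.mk_ker, sup_eq_left.2 hle])

theorem SpecMap_sec {A : Type u} [CommRing A] {X : Scheme.{u}} (f : X ⟶ Spec (.of A)) {V : X.Opens}
    (hV : IsAffineOpen V) :
    Spec.map ((Scheme.ΓSpecIso (.of A)).inv ≫ f.appLE ⊤ V le_top) = hV.fromSpec ≫ f := by
  have h := IsAffineOpen.SpecMap_appLE_fromSpec f (isAffineOpen_top (Spec (.of A))) hV le_top
  rw [IsAffineOpen.fromSpec_top, Scheme.isoSpec_Spec_inv] at h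
  rw [Spec.map_comp, h]

/-- A ring map into a flat algebra which is bijective modulo a nilpotent ideal is bijective. -/
theorem bijective_of_nilpotent {A B C Q : Type u} [CommRing A] [CommRing B] [CommRing C] [CommRing Q]
    (I : Ideal A) (hI : IsNilpotent I) (a : A →+* B) (φ : B →+* C) (hflat : (φ.comp a).Flat)
    (q : C →+* Q) (hB : Function.Surjective (q.comp φ))
    (hkB : RingHom.ker (q.comp φ) ≤ I.map a) (hkC : RingHom.ker q ≤ I.map (φ.comp a)) :
    Function.Bijective φ := by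
  letI := a.toAlgebra
  letI := (φ.comp a).toAlgebra
  haveI : Module.Flat A C := hflat
  let f : B →ₐ[A] C := { φ with commutes' := fun _ => rfl }
  obtain ⟨n, hn⟩ := hI
  have key : ∀ c : C, ∀ m : ℕ, c ∈ (I ^ m • ⊤ : Submodule A C) ⊔ LinearMap.range f.toLinearMap := by
    intro c m
    induction m generalizing c with
    | zero => exact Submodule.mem_sup_left (by rw [pow_zero, Ideal.one_eq_top, Submodule.top_smul]; trivial)
    | succ m ih =>
      obtain ⟨b, hb⟩ := hB (q c)
      have h1 : c - f b ∈ (I • ⊤ : Submodule A C) := by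
        rw [Ideal.smul_top_eq_map]
        exact hkC (by rw [RingHom.mem_ker, map_sub]; exact sub_eq_zero.2 hb.symm)
      rw [← sub_add_cancel c (f b)]
      refine add_mem ?_ (Submodule.mem_sup_right ⟨b, rfl⟩)
      refine Submodule.smul_induction_on h1 (fun r hr x _ => ?_) (fun x y hx hy => add_mem hx hy)
      obtain ⟨y, hy, z, ⟨b', rfl⟩, rfl⟩ := Submodule.mem_sup.1 (ih x)
      rw [smul_add]
      refine add_mem (Submodule.mem_sup_left ?_) (Submodule.mem_sup_right ⟨r • b', map_smul _ _ _⟩)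
      rw [pow_succ', mul_smul]
      exact Submodule.smul_mem_smul hr hy
  refine ⟨(injective_iff_map_eq_zero φ).2 fun b hb => ?_, fun c => ?_⟩
  · have step : ∀ b : B, f b = 0 → b ∈ I • LinearMap.ker f.toLinearMap := by
      intro b hb
      have h1 : b ∈ (I • ⊤ : Submodule A B) := by
        rw [Ideal.smul_top_eq_map]
        exact hkB (by rw [RingHom.mem_ker]; exact (congrArg q hb).trans (map_zero q))
      obtain ⟨N, r, hr, x, rfl⟩ :
          ∃ (N : ℕ) (r : Fin N → A) (_ : ∀ j, r j ∈ I) (x : Fin N → B), ∑ j, r j • x j = b := by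
        clear hb
        refine Submodule.smul_induction_on h1 (fun r hr x _ => ⟨1, fun _ => r, fun _ => hr, fun _ => x, by simp⟩)
          (fun b₁ b₂ h₁ h₂ => ?_)
        obtain ⟨N₁, r₁, hr₁, x₁, rfl⟩ := h₁
        obtain ⟨N₂, r₂, hr₂, x₂, rfl⟩ := h₂
        exact ⟨N₁ + N₂, Fin.append r₁ r₂, fun j => Fin.addCases (by simpa using hr₁) (by simpa using hr₂) j,
            Fin.append x₁ x₂, by simp [Fin.sum_univ_add]⟩
      have h0 : ∑ j, r j • f (x j) = 0 := by simpa using hb
      obtain ⟨k, e, d, hxd, hre⟩ := Module.Flat.isTrivialRelation_of_sum_smul_eq_zero (R := A) (M := C) h0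
      have hD : ∀ l, ∃ D, f D = d l := by
        intro l
        have := key (d l) n
        rw [hn, Submodule.zero_eq_bot, Submodule.bot_smul, bot_sup_eq] at this
        exact this
      choose D hD using hD
      have e2 : ∑ j, r j • x j = ∑ j, r j • (x j - ∑ l, e j l • D l) := by
        have : ∑ j, r j • ∑ l, e j l • D l = 0 := by
          simp_rw [Finset.smul_sum, smul_smul]
          rw [Finset.sum_comm]
          refine Finset.sum_eq_zero fun l _ => ?_
          rw [← Finset.sum_smul, hre, zero_smul]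
        simp only [smul_sub, Finset.sum_sub_distrib, this, sub_zero]
      rw [e2]
      refine Submodule.sum_mem _ fun j _ => Submodule.smul_mem_smul (hr j) ?_
      rw [LinearMap.mem_ker, AlgHom.toLinearMap_apply, map_sub, map_sum, sub_eq_zero]
      exact (hxd j).trans (Finset.sum_congr rfl fun l _ => by rw [map_smul, hD])
    have hm : ∀ m : ℕ, LinearMap.ker f.toLinearMap ≤ I ^ m • LinearMap.ker f.toLinearMap := by
      intro m
      induction m with
      | zero => simp
      | succ m ih =>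
        refine ih.trans ((Submodule.smul_mono le_rfl (fun x hx => step x hx)).trans ?_)
        rw [pow_succ, mul_smul]
    have := hm n (show b ∈ LinearMap.ker f.toLinearMap from hb)
    rwa [hn, Submodule.zero_eq_bot, Submodule.bot_smul, Submodule.mem_bot] at this
  · have := key c n
    rw [hn, Submodule.zero_eq_bot, Submodule.bot_smul, bot_sup_eq] at this
    exact this


/-- A morphism of schemes over `Spec A` with flat source which is an isomorphism after restriction along
a nilpotent thickening is an isomorphism. -/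
theorem isIso_of_thickening {A : Type u} [CommRing A] (I : Ideal A) (hI : IsNilpotent I)
    {X X' X₀ : Scheme.{u}} (f : X ⟶ Spec (.of A)) [Flat f] (f' : X' ⟶ Spec (.of A))
    (i : X₀ ⟶ X) (i' : X₀ ⟶ X') (f₀ : X₀ ⟶ Spec (.of (A ⧸ I)))
    (hX : IsPullback i f₀ f (Spec.map (CommRingCat.ofHom (Ideal.Quotient.mk I))))
    (hX' : IsPullback i' f₀ f' (Spec.map (CommRingCat.ofHom (Ideal.Quotient.mk I))))
    (φ : X ⟶ X') (hf : φ ≫ f' = f) (hi : i ≫ φ = i') : IsIso φ := by
  set π := Spec.map (CommRingCat.ofHom (Ideal.Quotient.mk I))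
  haveI : IsClosedImmersion π := IsClosedImmersion.spec_of_surjective _ Ideal.Quotient.mk_surjective
  haveI : Surjective π := surjective_SpecMap_quotient I hI
  haveI : IsClosedImmersion i := MorphismProperty.of_isPullback (P := @IsClosedImmersion) hX.flip inferInstance
  haveI : IsClosedImmersion i' := MorphismProperty.of_isPullback (P := @IsClosedImmersion) hX'.flip inferInstance
  haveI : Surjective i := MorphismProperty.of_isPullback (P := @Surjective) hX.flip inferInstance
  haveI : Surjective i' := MorphismProperty.of_isPullback (P := @Surjective) hX'.flip inferInstance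
  haveI : IsAffineHom φ := ⟨fun V hV => MorLib.Thick.isAffineOpen_of_preimage i i.surjective (by
    rw [← Scheme.Hom.comp_preimage]; simp only [hi]; exact hV.preimage i')⟩
  refine (IsZariskiLocalAtTarget.iff_of_iSup_eq_top (P := MorphismProperty.isomorphisms Scheme.{u})
    (f := φ) (fun V : X'.affineOpens => V.1) (iSup_affineOpens_eq_top X')).2 fun V => ?_
  have hV : IsAffineOpen V.1 := V.2
  have hU : IsAffineOpen (i' ⁻¹ᵁ V.1) := hV.preimage i'
  have hpre : i ⁻¹ᵁ (φ ⁻¹ᵁ V.1) = i' ⁻¹ᵁ V.1 := by rw [← Scheme.Hom.comp_preimage]; simp only [hi]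
  have hW : IsAffineOpen (φ ⁻¹ᵁ V.1) :=
    MorLib.Thick.isAffineOpen_of_preimage i i.surjective (hpre ▸ hU)
  have key : ∀ (Y : Scheme.{u}) (g : Y ⟶ Spec (.of A)) (j : X₀ ⟶ Y), IsPullback j f₀ g π →
      ∀ (W : Y.Opens), IsAffineOpen W → ∀ (h : j ⁻¹ᵁ W = i' ⁻¹ᵁ V.1),
      Function.Surjective (j.appLE W (i' ⁻¹ᵁ V.1) h.ge).hom ∧
        RingHom.ker (j.appLE W (i' ⁻¹ᵁ V.1) h.ge).hom =
          I.map ((Scheme.ΓSpecIso (.of A)).inv ≫ g.appLE ⊤ W le_top).hom := by
    intro Y g j hY W hWa h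
    have h1 : IsPullback (Spec.map (j.appLE W (i' ⁻¹ᵁ V.1) h.ge)) hU.fromSpec hWa.fromSpec j := by
      refine IsOpenImmersion.isPullback _ _ _ _
        (IsAffineOpen.SpecMap_appLE_fromSpec j hWa hU h.ge).symm (TopologicalSpace.Opens.ext ?_)
      simp only [Scheme.Hom.coe_preimage, Scheme.Hom.coe_opensRange, IsAffineOpen.range_fromSpec]
      exact congrArg SetLike.coe h
    have h2 := h1.paste_vert hY
    rw [show hU.fromSpec ≫ f₀ =
      Spec.map ((Scheme.ΓSpecIso (.of (A ⧸ I))).inv ≫ f₀.appLE ⊤ (i' ⁻¹ᵁ V.1) le_top) from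
        (SpecMap_sec f₀ hU).symm, ← SpecMap_sec g hWa] at h2
    obtain ⟨hs, hk, -⟩ := AffDefLib.ker_of_isPullback_Spec
      ((Scheme.ΓSpecIso (.of A)).inv ≫ g.appLE ⊤ W le_top).hom (Ideal.Quotient.mk I)
      (j.appLE W (i' ⁻¹ᵁ V.1) h.ge).hom
      ((Scheme.ΓSpecIso (.of (A ⧸ I))).inv ≫ f₀.appLE ⊤ (i' ⁻¹ᵁ V.1) le_top).hom
      Ideal.Quotient.mk_surjective h2
    exact ⟨hs, by rw [hk, Ideal.mk_ker]⟩
  obtain ⟨hsB, hkB⟩ := key X' f' i' hX' V.1 hV rfl
  obtain ⟨-, hkC⟩ := key X f i hX _ hW hpre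
  have hqp : (i.appLE (φ ⁻¹ᵁ V.1) (i' ⁻¹ᵁ V.1) hpre.ge).hom.comp (φ.app V.1).hom =
      (i'.appLE V.1 (i' ⁻¹ᵁ V.1) le_rfl).hom := by
    rw [← CommRingCat.hom_comp, Scheme.Hom.app_eq_appLE, Scheme.Hom.appLE_comp_appLE]
    simp only [hi]
  have hcomp : (φ.app V.1).hom.comp ((Scheme.ΓSpecIso (.of A)).inv ≫ f'.appLE ⊤ V.1 le_top).hom =
      ((Scheme.ΓSpecIso (.of A)).inv ≫ f.appLE ⊤ (φ ⁻¹ᵁ V.1) le_top).hom := by
    rw [← CommRingCat.hom_comp, Scheme.Hom.app_eq_appLE, Category.assoc, Scheme.Hom.appLE_comp_appLE]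
    simp only [hf]
  have hb : Function.Bijective (φ.app V.1).hom := by
    refine bijective_of_nilpotent I hI _ _ ?_ _ (hqp ▸ hsB) (hqp ▸ hkB.le) (hcomp ▸ hkC.le)
    rw [hcomp]
    refine (HasRingHomProperty.Spec_iff (P := @Flat) (φ := (Scheme.ΓSpecIso (.of A)).inv ≫ f.appLE ⊤ _ le_top)).1 ?_
    rw [SpecMap_sec f hW]
    infer_instance
  haveI : IsIso (φ.app V.1) := (ConcreteCategory.isIso_iff_bijective _).2 hb
  exact (isIso_morphismRestrict_iff_isIso_app φ hV).2 this

/-- A monomorphism, locally of finite presentation, with the infinitesimal lifting property is étale. -/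
theorem etale_of_mono_of_lift {X Y : Scheme.{u}} (f : X ⟶ Y) [Mono f] [LocallyOfFinitePresentation f]
    (H : ∀ (A : Type u) [CommRing A] (I : Ideal A), I ^ 2 = ⊥ → ∀ (g : Spec (.of A) ⟶ Y)
      (g₀ : Spec (.of (A ⧸ I)) ⟶ X),
      g₀ ≫ f = Spec.map (CommRingCat.ofHom (Ideal.Quotient.mk I)) ≫ g → ∃ l, l ≫ f = g) :
    Etale f := by
  refine ⟨fun {U} hU {V} hV e => ?_⟩
  letI := (f.appLE U V e).hom.toAlgebra
  haveI : Algebra.FinitePresentation Γ(Y, U) Γ(X, V) := f.finitePresentation_appLE hU hV e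
  suffices Algebra.FormallyEtale Γ(Y, U) Γ(X, V) from ⟨this, inferInstance⟩
  refine Algebra.FormallyEtale.iff_comp_bijective.2 fun A _ _ I hI => ⟨?_, fun ψ => ?_⟩
  · haveI : Algebra.FormallyUnramified Γ(Y, U) Γ(X, V) := f.formallyUnramified_appLE hU hV e
    exact Algebra.FormallyUnramified.comp_injective I hI
  set π := Spec.map (CommRingCat.ofHom (Ideal.Quotient.mk I))
  haveI : Surjective π := surjective_SpecMap_quotient I ⟨2, hI⟩
  have hψ : f.appLE U V e ≫ CommRingCat.ofHom ψ.toRingHom =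
      CommRingCat.ofHom (algebraMap Γ(Y, U) A) ≫ CommRingCat.ofHom (Ideal.Quotient.mk I) :=
    CommRingCat.hom_ext ψ.comp_algebraMap
  obtain ⟨l, hl⟩ := H A I hI (Spec.map (CommRingCat.ofHom (algebraMap Γ(Y, U) A)) ≫ hU.fromSpec)
    (Spec.map (CommRingCat.ofHom ψ.toRingHom) ≫ hV.fromSpec) (by
      rw [Category.assoc, ← IsAffineOpen.SpecMap_appLE_fromSpec f hU hV e, ← Spec.map_comp_assoc, hψ,
        Spec.map_comp_assoc])
  have hl₀ : π ≫ l = Spec.map (CommRingCat.ofHom ψ.toRingHom) ≫ hV.fromSpec := by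
    rw [← cancel_mono f, Category.assoc, Category.assoc, hl,
      ← IsAffineOpen.SpecMap_appLE_fromSpec f hU hV e, ← Spec.map_comp_assoc, ← Spec.map_comp_assoc, hψ]
  have hr : Set.range l ⊆ Set.range hV.fromSpec := by
    rintro _ ⟨p, rfl⟩
    obtain ⟨p₀, rfl⟩ := π.surjective p
    rw [← Scheme.Hom.comp_apply, hl₀]
    exact ⟨_, rfl⟩
  obtain ⟨χ, hχ⟩ : ∃ χ, Spec.map χ ≫ hV.fromSpec = l :=
    ⟨Spec.preimage (IsOpenImmersion.lift hV.fromSpec l hr), by simp⟩
  have hc : f.appLE U V e ≫ χ = CommRingCat.ofHom (algebraMap Γ(Y, U) A) := by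
    refine Spec.map_injective ?_
    rw [← cancel_mono hU.fromSpec, Spec.map_comp, Category.assoc,
      IsAffineOpen.SpecMap_appLE_fromSpec f hU hV e, reassoc_of% hχ, hl]
  refine ⟨{ χ.hom with commutes' := fun r => congr($hc r) }, AlgHom.ext fun x => ?_⟩
  have h3 : χ ≫ CommRingCat.ofHom (Ideal.Quotient.mk I) = CommRingCat.ofHom ψ.toRingHom := by
    refine Spec.map_injective ?_
    rw [← cancel_mono hV.fromSpec, Spec.map_comp, Category.assoc, hχ, hl₀]
  exact congr($h3 x)

end Groth.Agent.GrpSchLib.ThickIso
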