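import Groth.Agent.GrpSchLib.Coincidence
import Mathlib.AlgebraicGeometry.Morphisms.Finite
import Mathlib.AlgebraicGeometry.Morphisms.Flat
import Mathlib.AlgebraicGeometry.Morphisms.FinitePresentation
import Mathlib.RingTheory.Flat.EquationalCriterion
import Mathlib.RingTheory.Finiteness.ModuleFinitePresentation

/-! Coincidence loci over an arbitrary base, and equalizers without separatedness. -/

open CategoryTheory AlgebraicGeometry MonoidalCategory CartesianMonoidalCategory Limits TensorProduct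

namespace Groth.Agent.GrpSchLib

universe u

set_option backward.isDefEq.respectTransparency false
set_option backward.defeqAttrib.useBackward true

variable {S : Scheme.{u}} {W X Y : Over S}

theorem exists_chart {A R B : Type u} [CommRing A] [CommRing R] [CommRing B] [Algebra R A]
    [Algebra R B] (a : Spec (CommRingCat.of A) ⟶ X.left) (v : Spec (CommRingCat.of R) ⟶ S)
    (hs : Spec.map (CommRingCat.ofHom (algebraMap R A)) ≫ v = a ≫ X.hom)
    (b : Spec (CommRingCat.of B) ⟶ W.left)
    (hb : IsPullback b (Spec.map (CommRingCat.ofHom (algebraMap R B))) W.hom v) :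
    ∃ c : Spec (CommRingCat.of (A ⊗[R] B)) ≅ pullback a (snd W X).left,
      c.hom ≫ pullback.fst a (snd W X).left =
        Spec.map (CommRingCat.ofHom (algebraMap A (A ⊗[R] B))) := by
  let inl : Spec (CommRingCat.of (A ⊗[R] B)) ⟶ Spec (CommRingCat.of A) :=
    Spec.map (CommRingCat.ofHom Algebra.TensorProduct.includeLeftRingHom)
  let inr : Spec (CommRingCat.of (A ⊗[R] B)) ⟶ Spec (CommRingCat.of B) :=
    Spec.map (CommRingCat.ofHom (Algebra.TensorProduct.includeRight (R := R) (A := A) (B := B)).toRingHom)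
  have hsq : IsPullback inl inr (Spec.map (CommRingCat.ofHom (algebraMap R A)))
      (Spec.map (CommRingCat.ofHom (algebraMap R B))) :=
    isPullback_SpecMap_of_isPushout _ _ _ _ (CommRingCat.isPushout_tensorProduct R A B)
  have hout : IsPullback inl (inr ≫ b) (a ≫ X.hom) W.hom := hs ▸ hsq.paste_vert hb.flip
  have hprod : IsPullback (snd W X).left (fst W X).left X.hom W.hom :=
    (IsPullback.of_hasPullback W.hom X.hom).flip
  let w : Spec (CommRingCat.of (A ⊗[R] B)) ⟶ (W ⊗ X).left :=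
    hprod.lift (inl ≫ a) (inr ≫ b) (by rw [Category.assoc]; exact hout.w)
  have hchart : IsPullback inl w a (snd W X).left := by
    refine (IsPullback.of_right (h₁₂ := (fst W X).left) (v₁₃ := W.hom) (h₂₂ := X.hom) ?_ ?_ hprod.flip).flip
    · rw [IsPullback.lift_snd]; exact hout.flip
    · rw [IsPullback.lift_fst]
  exact ⟨hchart.isoPullback, hchart.isoPullback_hom_fst⟩

/-- One chart: `W` restricted to `Spec R → S` is `Spec B` with `B` projective over `R`. -/
theorem hasIdeal_of_isPullback {A R B : Type u} [CommRing A] [CommRing R] [CommRing B] [Algebra R B]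
    [Module.Projective R B] {E : Scheme.{u}} (i : E ⟶ (W ⊗ X).left) [IsClosedImmersion i]
    (a : Spec (CommRingCat.of A) ⟶ X.left) (s : R →+* A) (v : Spec (CommRingCat.of R) ⟶ S)
    (hs : Spec.map (CommRingCat.ofHom s) ≫ v = a ≫ X.hom)
    (b : Spec (CommRingCat.of B) ⟶ W.left)
    (hb : IsPullback b (Spec.map (CommRingCat.ofHom (algebraMap R B))) W.hom v) :
    ∃ I : Ideal A, HasIdeal (snd W X).left i a I := by
  let : Algebra R A := s.toAlgebra
  obtain ⟨c, hc⟩ := exists_chart a v hs b hb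
  exact hasIdeal_of_charts a (fun _ : PUnit.{u + 1} => A ⊗[R] B) (fun _ => c.hom)
    (fun _ => hc) fun x => ⟨⟨⟩, c.inv x, by rw [← Scheme.Hom.comp_apply, Iso.inv_hom_id]; rfl⟩

/-- `W` affine over `S` with projective algebra near every point of `S`. -/
theorem hasIdeals_of_affineHom [IsAffineHom W.hom]
    (hproj : ∀ s : S, ∃ V : S.affineOpens, s ∈ V.1 ∧
      @Module.Projective Γ(S, V) _ Γ(W.left, W.hom ⁻¹ᵁ V) _ (W.hom.app V).hom.toAlgebra.toModule)
    {E : Scheme.{u}} (i : E ⟶ (W ⊗ X).left) [IsClosedImmersion i] :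
    HasIdeals (snd W X).left i := by
  intro U
  let good : Set Γ(X.left, U) :=
    {f | ∃ V : S.affineOpens, X.left.basicOpen f ≤ X.hom ⁻¹ᵁ V.1 ∧
      @Module.Projective Γ(S, V) _ Γ(W.left, W.hom ⁻¹ᵁ V) _ (W.hom.app V).hom.toAlgebra.toModule}
  have hspan : Ideal.span good = ⊤ := by
    rw [← U.2.self_le_iSup_basicOpen_iff]
    intro x hx
    obtain ⟨V, hxV, hV⟩ := hproj (X.hom x)
    obtain ⟨f, hf, hxf⟩ := U.2.exists_basicOpen_le (V := X.hom ⁻¹ᵁ V.1) ⟨x, hxV⟩ hx
    exact TopologicalSpace.Opens.mem_iSup.mpr ⟨⟨f, V, hf, hV⟩, hxf⟩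
  refine hasIdeal_of_span U.2.fromSpec good hspan fun ⟨f, V, hf, hV⟩ => ?_
  let af : Spec (CommRingCat.of (Localization.Away f)) ⟶ X.left :=
    Spec.map (CommRingCat.ofHom (algebraMap Γ(X.left, U) (Localization.Away f))) ≫ U.2.fromSpec
  have hr : Set.range (af ≫ X.hom) ⊆ Set.range V.2.fromSpec := by
    rw [IsAffineOpen.range_fromSpec]
    rintro _ ⟨p, rfl⟩
    refine hf ?_
    rw [← U.2.fromSpec_image_basicOpen f]
    refine ⟨Spec.map (CommRingCat.ofHom (algebraMap Γ(X.left, U) (Localization.Away f))) p, ?_, rfl⟩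
    exact (PrimeSpectrum.localization_away_comap_range (Localization.Away f) f).le ⟨p, rfl⟩
  obtain ⟨s, hs⟩ := Spec.map_surjective (IsOpenImmersion.lift V.2.fromSpec (af ≫ X.hom) hr)
  let : Algebra Γ(S, V) Γ(W.left, W.hom ⁻¹ᵁ V) := (W.hom.app V).hom.toAlgebra
  refine hasIdeal_of_isPullback i af s.hom V.2.fromSpec ?_ (V.2.preimage W.hom).fromSpec ?_
  · rw [CommRingCat.ofHom_hom, hs, IsOpenImmersion.lift_fac]
  · refine (IsOpenImmersion.isPullback _ _ _ _ ?_ ?_).flip
    · rw [RingHom.algebraMap_toAlgebra, CommRingCat.ofHom_hom, Scheme.Hom.app_eq_appLE,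
        IsAffineOpen.SpecMap_appLE_fromSpec]
    · rw [IsAffineOpen.opensRange_fromSpec, IsAffineOpen.opensRange_fromSpec]

theorem hasIdeals_of_finite_flat [IsFinite W.hom] [Flat W.hom] [LocallyOfFinitePresentation W.hom]
    {E : Scheme.{u}} (i : E ⟶ (W ⊗ X).left) [IsClosedImmersion i] :
    HasIdeals (snd W X).left i := by
  refine hasIdeals_of_affineHom (fun s => ?_) i
  obtain ⟨V, hV, hsV, -⟩ := exists_isAffineOpen_mem_and_subset (show s ∈ (⊤ : S.Opens) from trivial)
  refine ⟨⟨V, hV⟩, hsV, ?_⟩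
  have h1 : (W.hom.app V).hom.Flat := by
    rw [Scheme.Hom.app_eq_appLE]
    exact HasRingHomProperty.appLE @Flat W.hom inferInstance ⟨V, hV⟩ ⟨_, hV.preimage W.hom⟩ _
  have h2 : (W.hom.app V).hom.FinitePresentation := by
    rw [Scheme.Hom.app_eq_appLE]
    exact HasRingHomProperty.appLE @LocallyOfFinitePresentation W.hom inferInstance ⟨V, hV⟩
      ⟨_, hV.preimage W.hom⟩ _
  have h3 : (W.hom.app V).hom.Finite := W.hom.finite_app V hV
  algebraize [(W.hom.app V).hom]
  have : Module.FinitePresentation Γ(S, V) Γ(W.left, W.hom ⁻¹ᵁ V) :=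
    Module.FinitePresentation.of_finite_of_finitePresentation _ _
  exact Module.Flat.projective_of_finitePresentation

theorem exists_closed_equalizer {P Q : Scheme.{u}} (f : Q ⟶ S) [IsSeparated f] (a b : P ⟶ Q)
    (hab : a ≫ f = b ≫ f) :
    IsClosedImmersion (pullback.fst (pullback.lift a b hab) (pullback.diagonal f)) :=
  MorphismProperty.pullback_fst _ _ inferInstance

theorem factors_equalizer_iff {P Q : Scheme.{u}} (f : Q ⟶ S) (a b : P ⟶ Q)
    (hab : a ≫ f = b ≫ f) {T : Scheme.{u}} (q : T ⟶ P) :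
    (∃ l, l ≫ pullback.fst (pullback.lift a b hab) (pullback.diagonal f) = q) ↔ q ≫ a = q ≫ b := by
  constructor
  · rintro ⟨l, rfl⟩
    have h1 := congrArg (fun g => l ≫ g ≫ pullback.fst f f)
      (pullback.condition (f := pullback.lift a b hab) (g := pullback.diagonal f))
    have h2 := congrArg (fun g => l ≫ g ≫ pullback.snd f f)
      (pullback.condition (f := pullback.lift a b hab) (g := pullback.diagonal f))
    simp at h1 h2
    rw [Category.assoc, Category.assoc, h1, h2]
  · intro h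
    refine ⟨pullback.lift q (q ≫ a) ?_, pullback.lift_fst _ _ _⟩
    apply pullback.hom_ext
    · simp
    · simp [h]

/-- If `a p` and `b p` have a common affine neighbourhood for all `p`, the equalizer is closed. -/
theorem exists_equalizer_of_common_affine (a b : W ⊗ X ⟶ Y)
    (h : ∀ p, ∃ U : Y.left.Opens, IsAffineOpen U ∧ a.left p ∈ U ∧ b.left p ∈ U) :
    ∃ (E : Scheme.{u}) (i : E ⟶ (W ⊗ X).left), IsClosedImmersion i ∧ IsEqualizerOf i a b := by
  have hab : a.left ≫ Y.hom = b.left ≫ Y.hom := (Over.w a).trans (Over.w b).symm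
  refine ⟨_, pullback.fst (pullback.lift a.left b.left hab) (pullback.diagonal Y.hom), ?_,
    fun Q q => factors_equalizer_iff _ _ _ hab q⟩
  choose U hU haU hbU using h
  refine IsZariskiLocalAtTarget.of_iSup_eq_top (P := @IsClosedImmersion)
    (fun p => a.left ⁻¹ᵁ U p ⊓ b.left ⁻¹ᵁ U p)
    (eq_top_iff.mpr fun p _ => TopologicalSpace.Opens.mem_iSup.mpr ⟨p, haU p, hbU p⟩) fun p => ?_
  let O := a.left ⁻¹ᵁ U p ⊓ b.left ⁻¹ᵁ U p
  have : IsAffine (U p).toScheme := hU p
  have : IsSeparated ((U p).ι ≫ Y.hom) := by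
    have : IsSeparated (((U p).ι ≫ Y.hom) ≫ terminal.from S) := inferInstance
    exact IsSeparated.of_comp _ (terminal.from S)
  have hra : Set.range (O.ι ≫ a.left) ⊆ Set.range (U p).ι := by
    rintro _ ⟨z, rfl⟩
    rw [Scheme.Opens.range_ι]
    exact z.2.1
  have hrb : Set.range (O.ι ≫ b.left) ⊆ Set.range (U p).ι := by
    rintro _ ⟨z, rfl⟩
    rw [Scheme.Opens.range_ι]
    exact z.2.2
  let a' := IsOpenImmersion.lift (U p).ι _ hra
  let b' := IsOpenImmersion.lift (U p).ι _ hrb
  have hab' : a' ≫ (U p).ι ≫ Y.hom = b' ≫ (U p).ι ≫ Y.hom := by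
    rw [IsOpenImmersion.lift_fac_assoc, IsOpenImmersion.lift_fac_assoc, Category.assoc,
      Category.assoc, hab]
  let i := pullback.fst (pullback.lift a.left b.left hab) (pullback.diagonal Y.hom)
  let i' := pullback.fst (pullback.lift a' b' hab') (pullback.diagonal ((U p).ι ≫ Y.hom))
  have hi' : IsClosedImmersion i' := exists_closed_equalizer _ a' b' hab'
  have key : ∀ {T : Scheme.{u}} (q : T ⟶ O.toScheme),
      (∃ l, l ≫ (i ∣_ O) = q) ↔ ∃ l, l ≫ i' = q := by
    intro T q
    rw [factors_equalizer_iff _ a' b' hab', ← cancel_mono (U p).ι, Category.assoc, Category.assoc,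
      IsOpenImmersion.lift_fac, IsOpenImmersion.lift_fac, ← Category.assoc, ← Category.assoc]
    refine Iff.trans ⟨?_, fun ⟨l, hl⟩ => ?_⟩ (factors_equalizer_iff _ _ _ hab (q ≫ O.ι))
    · rintro ⟨l, rfl⟩
      exact ⟨l ≫ (i ⁻¹ᵁ O).ι, by rw [Category.assoc, ← morphismRestrict_ι, Category.assoc]⟩
    · exact ⟨(isPullback_morphismRestrict i O).lift q l hl.symm, IsPullback.lift_fst _ _ _ _⟩
  have : Mono i := inferInstanceAs (Mono (pullback.fst _ _))
  have : Mono (i ∣_ O) := by
    have := MorphismProperty.of_isPullback (P := MorphismProperty.monomorphisms Scheme)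
      (isPullback_morphismRestrict i O).flip (MorphismProperty.monomorphisms.infer_property i)
    exact this
  obtain ⟨u, hu⟩ := (key (i ∣_ O)).mp ⟨𝟙 _, Category.id_comp _⟩
  obtain ⟨v, hv⟩ := (key i').mpr ⟨𝟙 _, Category.id_comp _⟩
  let e : ((i ⁻¹ᵁ O).toScheme) ≅ pullback (pullback.lift a' b' hab') (pullback.diagonal ((U p).ι ≫ Y.hom)) :=
    ⟨u, v, by rw [← cancel_mono (i ∣_ O), Category.assoc, hv, hu, Category.id_comp],
      by rw [← cancel_mono i', Category.assoc, hu, hv, Category.id_comp]⟩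
  show IsClosedImmersion (i ∣_ O)
  rw [← hu]
  have : IsIso u := ⟨v, e.hom_inv_id, e.inv_hom_id⟩
  exact (MorphismProperty.cancel_left_of_respectsIso @IsClosedImmersion u i').mpr hi'

end Groth.Agent.GrpSchLib
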