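import Groth.Agent.GrpSchLib.WeilClosed
import Mathlib.RingTheory.Flat.Basic
import Mathlib.RingTheory.Flat.FaithfullyFlat.Algebra
import Mathlib.RingTheory.TensorProduct.Quotient

/-! Content ideals: descent along faithfully flat extensions, finite generation. -/

open TensorProduct

namespace Groth.Agent.GrpSchLib

universe u

theorem exists_contentIdeal_of_faithfullyFlat {A A' M : Type u} [CommRing A] [CommRing A'] [Algebra A A']
    [Module.FaithfullyFlat A A'] [AddCommGroup M] [Module A M] [Module.Flat A M]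
    [Module.Projective A' (A' ⊗[A] M)] (J : Set M) :
    ∃ I : Ideal A, ∀ (C : Type u) [CommRing C] [Algebra A C],
      (∀ x ∈ J, (1 : C) ⊗ₜ[A] x = 0) ↔ I ≤ RingHom.ker (algebraMap A C) := by
  obtain ⟨I', hI'⟩ := exists_contentIdeal (A := A) (A' := A') J
  let I : Ideal A := I'.comap (algebraMap A A')
  have heq : I' ≤ I.map (algebraMap A A') := by
    intro y hy
    let g₁ : A' →ₐ[A] A' ⊗[A] (A' ⧸ I') := Algebra.TensorProduct.includeLeft
    let g₂ : A' →ₐ[A] A' ⊗[A] (A' ⧸ I') :=
      Algebra.TensorProduct.includeRight.comp (Ideal.Quotient.mkₐ A I')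
    have h0 : y ⊗ₜ[A] (1 : A' ⧸ I') = 0 := by
      refine ((hI' _ g₁).mp ((hI' _ g₂).mpr fun z hz => ?_)) hy
      simp [g₂, RingHom.mem_ker, Ideal.Quotient.eq_zero_iff_mem.mpr hz]
    let f : (A ⧸ I) →ₗ[A] (A' ⧸ I') :=
      Submodule.mapQ I (I'.restrictScalars A) (Algebra.linearMap A A') fun z hz => hz
    have hf : Function.Injective f := by
      rw [← LinearMap.ker_eq_bot, eq_bot_iff]
      intro z hz
      obtain ⟨z, rfl⟩ := Submodule.Quotient.mk_surjective _ z
      replace hz : Submodule.Quotient.mk (p := I'.restrictScalars A) (algebraMap A A' z) = 0 := hz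
      rw [Submodule.Quotient.mk_eq_zero] at hz
      exact (Submodule.mem_bot _).mpr ((Submodule.Quotient.mk_eq_zero _).mpr hz)
    have h1 : y ⊗ₜ[A] (1 : A ⧸ I) = 0 := by
      apply Module.Flat.lTensor_preserves_injective_linearMap (M := A') f hf
      rw [map_zero, LinearMap.lTensor_tmul, ← h0]
      congr 1
      show Submodule.Quotient.mk (algebraMap A A' 1) = _
      rw [map_one]
      rfl
    let Φ : A' ⊗[A] (A ⧸ I) →ₐ[A] A' ⧸ I.map (algebraMap A A') :=
      Algebra.TensorProduct.lift (Ideal.Quotient.mkₐ A _)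
        (Ideal.Quotient.liftₐ I (Algebra.ofId A _) fun z hz => by
          show Ideal.Quotient.mk _ (algebraMap A A' z) = 0
          exact Ideal.Quotient.eq_zero_iff_mem.mpr (Ideal.mem_map_of_mem _ hz))
        fun _ _ => Commute.all _ _
    refine Ideal.Quotient.eq_zero_iff_mem.mp ?_
    simpa [Φ] using congrArg Φ h1
  refine ⟨I, fun C _ _ => ?_⟩
  let j : C →ₗ[A] A' ⊗[A] C := TensorProduct.mk A A' C 1
  have hj : Function.Injective j := Module.FaithfullyFlat.tensorProduct_mk_injective C
  have hjM : Function.Injective (j.rTensor M) := Module.Flat.rTensor_preserves_injective_linearMap j hj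
  have key := hI' (A' ⊗[A] C) Algebra.TensorProduct.includeLeft
  constructor
  · intro h a ha
    have h2 : (algebraMap A A' a) ⊗ₜ[A] (1 : C) = 0 :=
      key.mp (fun x hx => by
        have := congrArg (j.rTensor M) (h x hx)
        rw [map_zero] at this
        exact this) ha
    refine RingHom.mem_ker.mpr (hj ?_)
    rw [map_zero, ← h2]
    show (1 : A') ⊗ₜ[A] (algebraMap A C a) = _
    rw [Algebra.algebraMap_eq_smul_one, Algebra.algebraMap_eq_smul_one, TensorProduct.smul_tmul]
  · intro h x hx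
    apply hjM
    rw [map_zero]
    refine key.mpr (heq.trans (Ideal.map_le_iff_le_comap.mpr fun a ha => ?_)) x hx
    show (algebraMap A A' a) ⊗ₜ[A] (1 : C) = 0
    rw [Algebra.algebraMap_eq_smul_one, TensorProduct.smul_tmul, ← Algebra.algebraMap_eq_smul_one,
      RingHom.mem_ker.mp (h ha), TensorProduct.tmul_zero]

theorem one_tmul_eq_zero_iff {A M : Type u} [CommRing A] [AddCommGroup M] [Module A M]
    (K : Ideal A) (x : M) : (1 : A ⧸ K) ⊗ₜ[A] x = 0 ↔ x ∈ K • (⊤ : Submodule A M) := by
  have h := TensorProduct.quotTensorEquivQuotSMul_mk_tmul (M := M) K 1 x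
  rw [one_smul] at h
  constructor
  · intro h'
    rw [show (1 : A ⧸ K) = Ideal.Quotient.mk K 1 from (map_one _).symm] at h'
    rw [h', map_zero] at h
    exact (Submodule.Quotient.mk_eq_zero _).mp h.symm
  · intro hx
    rw [(Submodule.Quotient.mk_eq_zero _).mpr hx, LinearEquiv.map_eq_zero_iff, map_one] at h
    exact h

theorem exists_fg_le_of_mem_smul {A M : Type u} [CommRing A] [AddCommGroup M] [Module A M]
    (I : Ideal A) {x : M} (hx : x ∈ I • (⊤ : Submodule A M)) :
    ∃ K : Ideal A, K.FG ∧ K ≤ I ∧ x ∈ K • (⊤ : Submodule A M) := by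
  refine Submodule.smul_induction_on hx (fun r hr m _ => ?_) fun x y hx hy => ?_
  · exact ⟨Ideal.span {r}, Submodule.fg_span_singleton r, (Ideal.span_singleton_le_iff_mem _).mpr hr,
      Submodule.smul_mem_smul (Ideal.mem_span_singleton_self r) trivial⟩
  · obtain ⟨K, hK, hKI, hxK⟩ := hx
    obtain ⟨L, hL, hLI, hyL⟩ := hy
    exact ⟨K ⊔ L, Submodule.FG.sup hK hL, sup_le hKI hLI, Submodule.add_mem _
      (Submodule.smul_mono_left le_sup_left hxK) (Submodule.smul_mono_left le_sup_right hyL)⟩

theorem contentIdeal_fg {A M : Type u} [CommRing A] [AddCommGroup M] [Module A M] {J : Set M}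
    (hJ : J.Finite) {I : Ideal A} (hI : ∀ (C : Type u) [CommRing C] [Algebra A C],
      (∀ x ∈ J, (1 : C) ⊗ₜ[A] x = 0) ↔ I ≤ RingHom.ker (algebraMap A C)) : I.FG := by
  classical
  have hmem := one_tmul_eq_zero_iff (A := A) (M := M)
  have step := fun (x : M) (hx : x ∈ I • (⊤ : Submodule A M)) => exists_fg_le_of_mem_smul I hx
  have hker : ∀ K : Ideal A, RingHom.ker (algebraMap A (A ⧸ K)) = K := fun K => by
    rw [Ideal.Quotient.algebraMap_eq, Ideal.mk_ker]
  have hxI : ∀ x ∈ J, x ∈ I • (⊤ : Submodule A M) := fun x hx =>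
    (hmem I x).mp ((hI (A ⧸ I)).mpr (hker I).ge x hx)
  choose K hK hKI hxK using fun x : J => step x.1 (hxI x.1 x.2)
  have : Finite J := hJ
  have : Fintype J := Fintype.ofFinite J
  let L := Finset.univ.sup K
  have hLfg : L.FG := Submodule.fg_finset_sup _ _ fun x _ => hK x
  suffices I = L from this ▸ hLfg
  refine le_antisymm ?_ (Finset.sup_le fun x _ => hKI x)
  rw [← hker L, ← hI (A ⧸ L)]
  intro x hx
  rw [hmem L x]
  have hle : K ⟨x, hx⟩ ≤ L := Finset.le_sup (f := K) (Finset.mem_univ _)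
  exact Submodule.smul_mono_left hle (hxK ⟨x, hx⟩)

end Groth.Agent.GrpSchLib
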