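import Groth.Agent.GrpSchLib.CoincidenceBase
import Groth.Agent.GrpSchLib.Content
import Mathlib.RingTheory.FinitePresentation
import Mathlib.RingTheory.Spectrum.Prime.Topology

/-! Content-ideal charts; Weil restrictions of finite presentation. -/

open CategoryTheory AlgebraicGeometry MonoidalCategory CartesianMonoidalCategory Limits TensorProduct

namespace Groth.Agent.GrpSchLib

universe u

set_option backward.isDefEq.respectTransparency false
set_option backward.defeqAttrib.useBackward true

theorem locallyOfFinitePresentation_specQuotient {A : Type u} [CommRing A] (I : Ideal A) :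
    LocallyOfFinitePresentation (Spec.map (CommRingCat.ofHom (Ideal.Quotient.mk I))) ↔ I.FG := by
  rw [LocallyOfFinitePresentation.SpecMap_iff, CommRingCat.hom_ofHom]
  constructor
  · intro h
    have h' : Algebra.FinitePresentation A (A ⧸ I) :=
      RingHom.finitePresentation_algebraMap.mp (by rwa [Ideal.Quotient.algebraMap_eq])
    have := Algebra.FinitePresentation.ker_fG_of_surjective (Ideal.Quotient.mkₐ A I)
      Ideal.Quotient.mk_surjective
    simpa using this
  · intro h
    rw [← Ideal.Quotient.algebraMap_eq, RingHom.finitePresentation_algebraMap]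
    exact Algebra.FinitePresentation.quotient h

theorem fg_of_factors {P E : Scheme.{u}} (i : E ⟶ P) [IsClosedImmersion i] [LocallyOfFinitePresentation i]
    {B : CommRingCat.{u}} (w : Spec B ⟶ P) (J : Ideal B)
    (hJ : ∀ (D : CommRingCat.{u}) (ψ : B ⟶ D),
      (∃ l : Spec D ⟶ E, l ≫ i = Spec.map ψ ≫ w) ↔ J ≤ RingHom.ker ψ.hom) : J.FG := by
  obtain ⟨J', e, he⟩ := IsClosedImmersion.Spec_iff.mp
    (MorphismProperty.pullback_snd i w ‹IsClosedImmersion i› : IsClosedImmersion (pullback.snd i w))
  have hfg : J'.FG := by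
    rw [← locallyOfFinitePresentation_specQuotient]
    have : LocallyOfFinitePresentation (e.hom ≫ Spec.map (CommRingCat.ofHom (Ideal.Quotient.mk J'))) := by
      rw [← he]; infer_instance
    exact (MorphismProperty.cancel_left_of_respectsIso @LocallyOfFinitePresentation e.hom _).mp this
  suffices J = J' from this ▸ hfg
  apply le_antisymm
  · have := (hJ (CommRingCat.of (B ⧸ J')) (CommRingCat.ofHom (Ideal.Quotient.mk J'))).mp
      ⟨e.inv ≫ pullback.fst i w, by rw [Category.assoc, pullback.condition, he, Category.assoc,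
        e.inv_hom_id_assoc]⟩
    simpa [Ideal.mk_ker] using this
  · obtain ⟨l, hl⟩ := (hJ (CommRingCat.of (B ⧸ J)) (CommRingCat.ofHom (Ideal.Quotient.mk J))).mpr
      (by simp [Ideal.mk_ker])
    obtain ⟨m, hm⟩ := Spec.map_surjective (pullback.lift l (Spec.map (CommRingCat.ofHom (Ideal.Quotient.mk J))) hl ≫ e.hom)
    have : Spec.map (CommRingCat.ofHom (Ideal.Quotient.mk J)) =
        Spec.map (CommRingCat.ofHom (Ideal.Quotient.mk J') ≫ m) := by
      rw [Spec.map_comp, hm, Category.assoc, ← he, pullback.lift_snd]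
    intro b hb
    have h2 := RingHom.congr_fun (congrArg CommRingCat.Hom.hom (Spec.map_inj.mp this)) b
    simp [Ideal.Quotient.eq_zero_iff_mem.mpr hb] at h2
    exact Ideal.Quotient.eq_zero_iff_mem.mp h2

variable {S : Scheme.{u}} {W X : Over S}

/-- Single chart with content ideals; finitely generated when `i` is of finite presentation. -/
theorem hasIdeal_of_isPullback_content {A R B : Type u} [CommRing A] [CommRing R] [CommRing B]
    [Algebra R A] [Algebra R B] {E : Scheme.{u}} (i : E ⟶ (W ⊗ X).left) [IsClosedImmersion i]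
    (hB : ∀ J : Set (A ⊗[R] B), ∃ I : Ideal A, ∀ (C : Type u) [CommRing C] [Algebra A C],
      (∀ x ∈ J, (1 : C) ⊗ₜ[A] x = 0) ↔ I ≤ RingHom.ker (algebraMap A C))
    (a : Spec (CommRingCat.of A) ⟶ X.left) (v : Spec (CommRingCat.of R) ⟶ S)
    (hs : Spec.map (CommRingCat.ofHom (algebraMap R A)) ≫ v = a ≫ X.hom)
    (b : Spec (CommRingCat.of B) ⟶ W.left)
    (hb : IsPullback b (Spec.map (CommRingCat.ofHom (algebraMap R B))) W.hom v) :
    ∃ I : Ideal A, HasIdeal (snd W X).left i a I ∧ (LocallyOfFinitePresentation i → I.FG) := by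
  obtain ⟨c, hc⟩ := exists_chart a v hs b hb
  have hcov : ∀ x, ∃ (_ : PUnit.{u + 1}) (y : _), c.hom y = x :=
    fun x => ⟨⟨⟩, c.inv x, by rw [← Scheme.Hom.comp_apply, Iso.inv_hom_id]; rfl⟩
  obtain ⟨I, hI⟩ := hasIdeal_of_charts_content (π := (snd W X).left) (i := i) a
    (fun _ : PUnit.{u + 1} => A ⊗[R] B) (fun _ => hB) (fun _ => c.hom) (fun _ => hc) hcov
  refine ⟨I, hI, fun hfp => ?_⟩
  obtain ⟨J, hJ⟩ := factors_closed_iff i (c.hom ≫ pullback.snd a (snd W X).left)
  obtain ⟨s, hs'⟩ := fg_of_factors i _ J hJ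
  refine contentIdeal_fg s.finite_toSet fun C _ _ => ?_
  rw [← hI C (algebraMap A C), good_iff_charts a (fun _ : PUnit.{u + 1} => A ⊗[R] B) (fun _ => c.hom)
    (fun _ => hc) hcov (fun _ => J) (fun _ => hJ) C]
  refine ⟨fun h _ x hx => ?_, fun h x hx => h ⟨⟩ x (hs' ▸ Submodule.subset_span hx)⟩
  have hle : J ≤ RingHom.ker (Algebra.TensorProduct.includeRight (R := A) (A := C) (B := A ⊗[R] B)).toRingHom := by
    rw [← hs', Submodule.span_le]
    exact h
  exact hle hx

/-- Local criterion for a Weil restriction to be of finite presentation. -/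
theorem locallyOfFinitePresentation_of_hasIdeal {P E Z X : Scheme.{u}} {π : P ⟶ X} {i : E ⟶ P}
    {z : Z ⟶ X} [IsClosedImmersion z]
    (hz : ∀ (T : Scheme.{u}) (g : T ⟶ X), (∃ w : T ⟶ Z, w ≫ z = g) ↔ Good π i g)
    (h : ∀ x : X, ∃ (A : Type u) (_ : CommRing A) (a : Spec (CommRingCat.of A) ⟶ X),
      IsOpenImmersion a ∧ x ∈ Set.range a ∧ ∃ I : Ideal A, HasIdeal π i a I ∧ I.FG) :
    LocallyOfFinitePresentation z := by
  choose A _ a ha hx I hI hfg using h
  refine IsZariskiLocalAtTarget.of_openCover (P := @LocallyOfFinitePresentation)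
    (Scheme.Cover.mkOfCovers X _ a (fun x => ⟨x, hx x⟩) ha : X.OpenCover) fun x => ?_
  show LocallyOfFinitePresentation (pullback.snd z (a x))
  obtain ⟨J, e, he⟩ := IsClosedImmersion.Spec_iff.mp
    (MorphismProperty.pullback_snd z (a x) ‹IsClosedImmersion z› : IsClosedImmersion (pullback.snd z (a x)))
  have : LocallyOfFinitePresentation (Spec.map (CommRingCat.ofHom (Ideal.Quotient.mk J))) := by
    rw [locallyOfFinitePresentation_specQuotient]
    suffices J = I x from this ▸ hfg x
    apply le_antisymm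
    · obtain ⟨w, hw⟩ := (hz _ _).mpr ((hI x _ (Ideal.Quotient.mk (I x))).mpr (by rw [Ideal.mk_ker]))
      obtain ⟨m, hm⟩ := Spec.map_surjective
        (pullback.lift w (Spec.map (CommRingCat.ofHom (Ideal.Quotient.mk (I x)))) hw ≫ e.hom)
      have : Spec.map (CommRingCat.ofHom (Ideal.Quotient.mk (I x))) =
          Spec.map (CommRingCat.ofHom (Ideal.Quotient.mk J) ≫ m) := by
        rw [Spec.map_comp, hm, Category.assoc, ← he, pullback.lift_snd]
      intro b hb
      have h2 := RingHom.congr_fun (congrArg CommRingCat.Hom.hom (Spec.map_inj.mp this)) b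
      simp [Ideal.Quotient.eq_zero_iff_mem.mpr hb] at h2
      exact Ideal.Quotient.eq_zero_iff_mem.mp h2
    · have := (hI x _ (Ideal.Quotient.mk J)).mp ((hz _ _).mp
        ⟨e.inv ≫ pullback.fst z (a x), by rw [Category.assoc, pullback.condition, he, Category.assoc,
          e.inv_hom_id_assoc]⟩)
      simpa [Ideal.mk_ker] using this
  rw [he]
  exact (MorphismProperty.cancel_left_of_respectsIso @LocallyOfFinitePresentation e.hom _).mpr this

end Groth.Agent.GrpSchLib
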