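import Mathlib.RingTheory.FiniteType
import Mathlib.LinearAlgebra.TensorProduct.Basis
import Mathlib.RingTheory.TensorProduct.Maps

/-! Weil restriction of affine schemes along a finite free algebra. -/

universe u

set_option autoImplicit false
set_option backward.isDefEq.respectTransparency false
set_option backward.isDefEq.respectTransparency.types false

open TensorProduct Algebra.TensorProduct

namespace Groth.Agent.GrpSchLib.WeilAlgFree

variable {k : Type u} [CommRing k] {L : Type u} [CommRing L] [Algebra k L] {J : Type} [Fintype J] [DecidableEq J]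
  (e : Module.Basis J k L) {R : Type u} [CommRing R] [Algebra k R]

/-- Coordinates in the tensor product. -/
noncomputable def coord (i : J) : L ⊗[k] R →ₗ[k] R :=
  Finsupp.lapply i ∘ₗ (TensorProduct.equivFinsuppOfBasisLeft e).toLinearMap

theorem coord_tmul (i : J) (a : L) (r : R) : coord e i (a ⊗ₜ[k] r) = e.repr a i • r := by
  simp [coord]

theorem coord_map (i : J) {R' : Type u} [CommRing R'] [Algebra k R'] (g : R →ₐ[k] R') (z : L ⊗[k] R) :
    coord e i (Algebra.TensorProduct.map (AlgHom.id k L) g z) = g (coord e i z) := by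
  induction z using TensorProduct.induction_on with
  | zero => simp
  | tmul a r => simp [coord_tmul]
  | add x y hx hy => simp only [map_add, hx, hy]

theorem ext_coord {z z' : L ⊗[k] R} (h : ∀ i, coord e i z = coord e i z') : z = z' :=
  (TensorProduct.equivFinsuppOfBasisLeft e).injective (Finsupp.ext h)

theorem coord_sum (i : J) (t : J → R) : coord e i (∑ j, e j ⊗ₜ[k] t j) = t i := by
  rw [map_sum, Finset.sum_eq_single i]
  · simp [coord_tmul]
  · intro j _ hj
    simp [coord_tmul, hj]
  · exact fun h => absurd (Finset.mem_univ i) h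

theorem eq_sum (z : L ⊗[k] R) : z = ∑ j, e j ⊗ₜ[k] coord e j z :=
  ext_coord e fun i => (coord_sum e i fun j => coord e j z).symm

variable (A : Type u) [CommRing A] [Algebra k A]

/-- The generic point. -/
noncomputable def gen (a : A) : L ⊗[k] MvPolynomial (A × J) k := ∑ j, e j ⊗ₜ[k] MvPolynomial.X (a, j)

/-- The relations. -/
noncomputable def rel : Ideal (MvPolynomial (A × J) k) :=
  Ideal.span ({z | ∃ a b i, z = coord e i (gen e A (a + b) - gen e A a - gen e A b)} ∪
    {z | ∃ a b i, z = coord e i (gen e A (a * b) - gen e A a * gen e A b)} ∪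
    {z | ∃ c i, z = coord e i (gen e A (algebraMap k A c) - algebraMap k _ c)})

/-- The coordinate algebra of the Weil restriction. -/
abbrev W : Type u := MvPolynomial (A × J) k ⧸ rel e A

noncomputable instance : Algebra k (L ⊗[k] W e A) := Algebra.TensorProduct.leftAlgebra

theorem map_mk_eq {x y : L ⊗[k] MvPolynomial (A × J) k} (h : ∀ i, coord e i (x - y) ∈ rel e A) :
    Algebra.TensorProduct.map (AlgHom.id k L) (Ideal.Quotient.mkₐ k (rel e A)) x =
      Algebra.TensorProduct.map (AlgHom.id k L) (Ideal.Quotient.mkₐ k (rel e A)) y := by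
  refine ext_coord e fun i => ?_
  rw [coord_map, coord_map, ← sub_eq_zero, ← map_sub, ← map_sub, Ideal.Quotient.mkₐ_eq_mk, Ideal.Quotient.eq_zero_iff_mem]
  exact h i

theorem gen_algebraMap (c : k) :
    Algebra.TensorProduct.map (AlgHom.id k L) (Ideal.Quotient.mkₐ k (rel e A)) (gen e A (algebraMap k A c)) =
      (Algebra.TensorProduct.map (AlgHom.id k L) (Ideal.Quotient.mkₐ k (rel e A)) (algebraMap k (L ⊗[k] MvPolynomial (A × J) k) c) : L ⊗[k] W e A) :=
  map_mk_eq e A fun i => Ideal.subset_span (Or.inr ⟨c, i, rfl⟩)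

/-- The universal homomorphism. -/
noncomputable def univ : A →ₐ[k] L ⊗[k] W e A :=
  AlgHom.mk
    { toFun := fun a => Algebra.TensorProduct.map (AlgHom.id k L) (Ideal.Quotient.mkₐ k (rel e A)) (gen e A a)
      map_one' := by
        rw [← map_one (algebraMap k A), gen_algebraMap, map_one, map_one]
      map_mul' := fun a b => by
        rw [← map_mul]
        exact map_mk_eq e A fun i => Ideal.subset_span (Or.inl (Or.inr ⟨a, b, i, rfl⟩))
      map_zero' := by
        rw [← map_zero (algebraMap k A), gen_algebraMap, map_zero, map_zero]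
      map_add' := fun a b => by
        rw [← map_add]
        exact map_mk_eq e A fun i => Ideal.subset_span (Or.inl (Or.inl ⟨a, b, i, by rw [sub_sub]⟩)) }
    (fun c => (gen_algebraMap e A c).trans (AlgHom.commutes _ c))

theorem coord_univ (a : A) (i : J) : coord e i (univ e A a) = Ideal.Quotient.mk _ (MvPolynomial.X (a, i)) := by
  show coord e i (Algebra.TensorProduct.map _ _ (gen e A a)) = _
  rw [coord_map, gen, coord_sum]
  rfl

theorem existsUnique (f : A →ₐ[k] L ⊗[k] R) :
    ∃! g : W e A →ₐ[k] R, (Algebra.TensorProduct.map (AlgHom.id k L) g).comp (univ e A) = f := by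
  let g₀ : MvPolynomial (A × J) k →ₐ[k] R := MvPolynomial.aeval fun p => coord e p.2 (f p.1)
  have hgen : ∀ a, Algebra.TensorProduct.map (AlgHom.id k L) g₀ (gen e A a) = f a := fun a => by
    refine ext_coord e fun i => ?_
    rw [coord_map, gen, coord_sum]
    simp [g₀]
  have h0 : ∀ z ∈ rel e A, g₀ z = 0 := by
    intro z hz
    suffices rel e A ≤ RingHom.ker g₀ from this hz
    refine Ideal.span_le.2 ?_
    rintro _ ((⟨a, b, i, rfl⟩ | ⟨a, b, i, rfl⟩) | ⟨c, i, rfl⟩) <;>
      rw [SetLike.mem_coe, RingHom.mem_ker, ← coord_map]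
    · simp [hgen]
    · simp [hgen]
    · rw [map_sub, hgen, AlgHom.commutes, AlgHom.commutes, sub_self, map_zero]
  refine ⟨Ideal.Quotient.liftₐ _ g₀ h0, AlgHom.ext fun a => ext_coord e fun i => ?_, fun g hg => ?_⟩
  · rw [AlgHom.comp_apply, coord_map, coord_univ]
    simp [g₀]
  · refine Ideal.Quotient.algHom_ext _ (MvPolynomial.algHom_ext fun p => ?_)
    have := congrArg (coord e p.2) (DFunLike.congr_fun hg p.1)
    rw [AlgHom.comp_apply, coord_map, coord_univ] at this
    rw [AlgHom.comp_apply, Ideal.Quotient.mkₐ_eq_mk, this]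
    simp [g₀]

theorem finiteType [Algebra.FiniteType k A] : Algebra.FiniteType k (W e A) := by
  classical
  obtain ⟨s, hs⟩ := ‹Algebra.FiniteType k A›.out
  let t : Finset (W e A) := (s ×ˢ Finset.univ).image fun p => Ideal.Quotient.mk _ (MvPolynomial.X p)
  let W' := Algebra.adjoin k (t : Set (W e A))
  let T := ((Algebra.TensorProduct.map (AlgHom.id k L) W'.val).range).comap (univ e A)
  have hsT : (s : Set A) ⊆ T := fun a ha => by
    refine ⟨∑ j, e j ⊗ₜ[k] ⟨Ideal.Quotient.mk _ (MvPolynomial.X (a, j)),
      Algebra.subset_adjoin (Finset.mem_coe.2 (Finset.mem_image.2 ⟨(a, j), Finset.mem_product.2 ⟨ha, Finset.mem_univ _⟩, rfl⟩))⟩, ?_⟩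
    refine ext_coord e fun i => ?_
    show coord e i (Algebra.TensorProduct.map (AlgHom.id k L) W'.val _) = coord e i (univ e A a)
    rw [coord_map, coord_sum, coord_univ]
    rfl
  have hT : T = ⊤ := top_le_iff.1 (hs ▸ Algebra.adjoin_le hsT)
  refine ⟨⟨t, top_le_iff.1 ?_⟩⟩
  rintro z -
  obtain ⟨p, rfl⟩ := Ideal.Quotient.mk_surjective z
  induction p using MvPolynomial.induction_on with
  | C c => exact W'.algebraMap_mem c
  | add p q hp hq => rw [map_add]; exact W'.add_mem hp hq
  | mul_X p q hp =>
    rw [map_mul]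
    refine W'.mul_mem hp ?_
    obtain ⟨a, i⟩ := q
    have ha : a ∈ T := hT ▸ Algebra.mem_top
    obtain ⟨w, hw⟩ := ha
    have := congrArg (coord e i) hw
    replace this : coord e i (Algebra.TensorProduct.map (AlgHom.id k L) W'.val w) = coord e i (univ e A a) := this
    rw [coord_map, coord_univ] at this
    rw [← this]
    exact (coord e i w).2

end Groth.Agent.GrpSchLib.WeilAlgFree
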