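import Groth.Prelude.Def_NonAbH2
import Mathlib.AlgebraicGeometry.Sites.Fpqc
import Mathlib.CategoryTheory.Sites.Subcanonical

/-! Descending morphisms along maps with local sections for a subcanonical topology. -/

universe u

open CategoryTheory AlgebraicGeometry MonoidalCategory CartesianMonoidalCategory

namespace Groth.Agent.GrpSchLib.TopDescent

variable {S : Scheme.{u}}

/-- `j` has sections locally on the target for the topology `J`. -/
def HasLocSec (J : GrothendieckTopology Scheme.{u}) {U Y : Over S} (j : U ⟶ Y) : Prop :=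
  ∃ R ∈ J Y.left, ∀ ⦃T : Scheme.{u}⦄ (a : T ⟶ Y.left), R a → ∃ s : T ⟶ U.left, s ≫ j.left = a

variable {J : GrothendieckTopology Scheme.{u}} [J.Subcanonical]

theorem scheme_hom_ext {X W : Scheme.{u}} {R : Sieve X} (hR : R ∈ J X) {p q : X ⟶ W}
    (h : ∀ ⦃T : Scheme.{u}⦄ (a : T ⟶ X), R a → a ≫ p = a ≫ q) : p = q :=
  ((GrothendieckTopology.Subcanonical.isSheaf_of_isRepresentable (J := J)
    (yoneda.obj W)) R hR).isSeparatedFor.ext fun _ a ha => h a ha

theorem HasLocSec.hom_ext {U Y W : Over S} {j : U ⟶ Y} (hj : HasLocSec J j) {p q : Y ⟶ W}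
    (h : j ≫ p = j ≫ q) : p = q := by
  obtain ⟨R, hR, hsec⟩ := hj
  refine Over.OverMorphism.ext (scheme_hom_ext hR fun T a ha => ?_)
  obtain ⟨s, rfl⟩ := hsec a ha
  rw [Category.assoc, Category.assoc, ← Over.comp_left, h, Over.comp_left]

theorem HasLocSec.whiskerLeft {U Y : Over S} {j : U ⟶ Y} (hj : HasLocSec J j) (G : Over S) :
    HasLocSec J (G ◁ j) := by
  obtain ⟨R, hR, hsec⟩ := hj
  refine ⟨R.pullback (snd G Y).left, J.pullback_stable _ hR, fun T a ha => ?_⟩
  obtain ⟨s, hs⟩ := hsec _ ha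
  let T' : Over S := Over.mk (a ≫ (G ⊗ Y).hom)
  let a' : T' ⟶ G ⊗ Y := Over.homMk a rfl
  let s' : T' ⟶ U := Over.homMk s (by
    show s ≫ U.hom = a ≫ (G ⊗ Y).hom
    rw [← Over.w j, ← Category.assoc, hs, Category.assoc, Over.w (snd G Y)])
  refine ⟨(lift (a' ≫ fst G Y) s').left, ?_⟩
  have : lift (a' ≫ fst G Y) s' ≫ G ◁ j = a' := by
    refine CartesianMonoidalCategory.hom_ext _ _ ?_ ?_
    · simp
    · have hs' : s' ≫ j = a' ≫ snd G Y := Over.OverMorphism.ext hs
      simp [hs']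
  exact congrArg CommaMorphism.left this

/-- A morphism constant on the fibres of `j` descends along it. -/
theorem HasLocSec.existsUnique_desc {U Y W : Over S} {j : U ⟶ Y} (hj : HasLocSec J j) (f : U ⟶ W)
    (hf : ∀ (T : Over S) (a b : T ⟶ U), a ≫ j = b ≫ j → a ≫ f = b ≫ f) : ∃! χ : Y ⟶ W, j ≫ χ = f := by
  obtain ⟨R, hR, hsec⟩ := id hj
  choose s hs using hsec
  have hcomp : ∀ {T : Scheme.{u}} (a b : T ⟶ U.left), a ≫ j.left = b ≫ j.left → a ≫ f.left = b ≫ f.left := by
    intro T a b hab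
    let T' : Over S := Over.mk (a ≫ U.hom)
    let a' : T' ⟶ U := Over.homMk a rfl
    let b' : T' ⟶ U := Over.homMk b (by
      show b ≫ U.hom = a ≫ U.hom
      rw [← Over.w j, ← Category.assoc, ← hab, Category.assoc])
    exact congrArg CommaMorphism.left (hf T' a' b' (Over.OverMorphism.ext hab))
  have hsh := (GrothendieckTopology.Subcanonical.isSheaf_of_isRepresentable (J := J)
    (yoneda.obj W.left)) R hR
  let x : Presieve.FamilyOfElements (yoneda.obj W.left) R.arrows := fun _ a ha => s a ha ≫ f.left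
  have hx : x.Compatible := by
    intro T₁ T₂ Z g₁ g₂ a₁ a₂ h₁ h₂ hc
    show g₁ ≫ s a₁ h₁ ≫ f.left = g₂ ≫ s a₂ h₂ ≫ f.left
    rw [← Category.assoc, ← Category.assoc]
    exact hcomp _ _ (by rw [Category.assoc, Category.assoc, hs, hs, hc])
  obtain ⟨c, hc, -⟩ := hsh x hx
  have hc' : ∀ ⦃T : Scheme.{u}⦄ (a : T ⟶ Y.left) (ha : R a), a ≫ c = s a ha ≫ f.left := fun T a ha => hc a ha
  have hw : c ≫ W.hom = Y.hom := scheme_hom_ext hR fun T a ha => by
    rw [← Category.assoc, hc' a ha, Category.assoc, Over.w f, ← Over.w j, ← Category.assoc, hs a ha]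
  refine ⟨Over.homMk c hw, Over.OverMorphism.ext ?_, fun q hq => hj.hom_ext ?_⟩
  · show j.left ≫ c = f.left
    refine scheme_hom_ext (J.pullback_stable j.left hR) fun T a ha => ?_
    rw [← Category.assoc, hc' _ ha]
    exact hcomp _ _ (hs _ ha)
  · rw [hq]
    refine Over.OverMorphism.ext ?_
    show f.left = j.left ≫ c
    refine scheme_hom_ext (J.pullback_stable j.left hR) fun T a ha => ?_
    rw [← Category.assoc _ j.left, hc' _ ha]
    exact (hcomp _ _ (hs _ ha)).symm

end Groth.Agent.GrpSchLib.TopDescent
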