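import Groth.Agent.GrpSchLib.ImageFactor
import Groth.Agent.GrpSchLib.NormalQuot
import Groth.Agent.GrpSchLib.LineGroups
import Groth.Agent.HopfSubPoly.Basic
import Groth.Agent.S3280

/-! A schematically dominant homomorphism from an algebraic group to an affine group is faithfully flat. -/

universe u

open CategoryTheory Limits AlgebraicGeometry MonoidalCategory CartesianMonoidalCategory MonObj GrpObj

namespace Groth.Agent.GrpSchLib.SchDomFlat

open Kunneth LineGroups AffineHopf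

variable {k : Type u} [Field k] {G : Over (Spec (CommRingCat.of k))} [GrpObj G]
  [LocallyOfFiniteType G.hom] [QuasiCompact G.hom]

/-- Finitely many functions on the affine target decide membership in the kernel. -/
theorem exists_finset_fn {H : Over (Spec (CommRingCat.of k))} [GrpObj H] [IsAffine H.left] (u : G ⟶ H) :
    ∃ s : Finset (Fn H), ∀ (T : Over (Spec (CommRingCat.of k))) (g : T ⟶ G), IsAffine T.left →
      (∀ w ∈ s, ev (g ≫ u) w = ev (1 : T ⟶ H) w) → ∀ w, ev (g ≫ u) w = ev (1 : T ⟶ H) w := by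
  classical
  haveI : IsLocallyNoetherian G.left := LocallyOfFiniteType.isLocallyNoetherian G.hom
  haveI : CompactSpace G.left := (quasiCompact_iff_compactSpace G.hom).mp inferInstance
  let 𝒰 := G.left.affineCover.finiteSubcover
  let V : ∀ i : 𝒰.I₀, Over (Spec (CommRingCat.of k)) := fun i => Over.mk (𝒰.f i ≫ G.hom)
  let vι : ∀ i, V i ⟶ G := fun i => Over.homMk (𝒰.f i) rfl
  haveI : ∀ i, IsNoetherianRing (Fn (V i)) := fun i => by
    haveI : IsAffine (V i).left := inferInstanceAs (IsAffine (G.left.affineCover.X _))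
    haveI : IsLocallyNoetherian (V i).left := isLocallyNoetherian_of_isOpenImmersion (𝒰.f i)
    exact IsLocallyNoetherian.component_noetherian ⟨⊤, isAffineOpen_top (V i).left⟩
  let ent : ∀ (i : 𝒰.I₀), Fn H → Fn (V i) := fun i w => ev (vι i ≫ u) w - ev (1 : V i ⟶ H) w
  have hfin : ∀ i, ∃ s : Finset (Fn H), ∀ w, ent i w ∈ Ideal.span (ent i '' ↑s) := by
    intro i
    obtain ⟨t, ht, hspan⟩ := (Submodule.fg_span_iff_fg_span_finset_subset _).mp
      (IsNoetherian.noetherian (Ideal.span (Set.range (ent i))))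
    choose f hf using fun x : t => ht x.2
    refine ⟨Finset.univ.image f, fun w => ?_⟩
    have hw : ent i w ∈ Submodule.span (Fn (V i)) (Set.range (ent i)) := Submodule.subset_span ⟨w, rfl⟩
    rw [hspan] at hw
    refine Ideal.span_mono ?_ hw
    intro z hz
    exact ⟨f ⟨z, hz⟩, Finset.mem_coe.mpr (Finset.mem_image_of_mem f (Finset.mem_univ _)), hf ⟨z, hz⟩⟩
  choose s hs using hfin
  haveI : Finite 𝒰.I₀ := inferInstance
  letI := Fintype.ofFinite 𝒰.I₀
  refine ⟨Finset.univ.biUnion s, fun T g _ h w => sub_eq_zero.mp ?_⟩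
  let 𝒯 := 𝒰.pullback₁ g.left
  refine Scheme.zero_of_zero_cover _ 𝒯 fun i => ?_
  let R : Over (Spec (CommRingCat.of k)) := Over.mk (𝒯.f i ≫ T.hom)
  let r : R ⟶ T := Over.homMk (𝒯.f i) rfl
  let t : R ⟶ V i := Over.homMk (pullback.snd g.left (𝒰.f i)) (by
    show pullback.snd g.left (𝒰.f i) ≫ 𝒰.f i ≫ G.hom = pullback.fst g.left (𝒰.f i) ≫ T.hom
    rw [← pullback.condition_assoc, Over.w g])
  have hrt : r ≫ g = t ≫ vι i := Over.OverMorphism.ext pullback.condition
  have hent : ∀ z, ev t (ent i z) = ev r (ev (g ≫ u) z - ev (1 : T ⟶ H) z) := fun z => by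
    simp only [ent, map_sub, ev_ev, MonObj.comp_one, ← Category.assoc, hrt]
  show ev r (ev (g ≫ u) w - ev (1 : T ⟶ H) w) = 0
  rw [← hent]
  have hle : Ideal.span (ent i '' ↑(s i)) ≤ RingHom.ker (ev t) := by
    refine Ideal.span_le.mpr ?_
    rintro _ ⟨z, hz, rfl⟩
    show ev t (ent i z) = 0
    rw [hent, h z (Finset.mem_biUnion.mpr ⟨i, Finset.mem_univ _, hz⟩), sub_self, map_zero]
  exact hle (hs i w)

/-- Schematic dominance onto an affine target is injectivity on functions. -/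
theorem isSchemeTheoreticallyDominant_of_injective {X Y : Scheme.{u}} [IsAffine Y] (f : X ⟶ Y) [QuasiCompact f]
    (h : Function.Injective f.appTop) : IsSchemeTheoreticallyDominant f := by
  rw [isSchemeTheoreticallyDominant_iff]
  refine Scheme.IdealSheafData.ext_of_isAffine ?_
  rw [Scheme.Hom.ker_apply, Scheme.IdealSheafData.ideal_bot, Pi.bot_apply, ← RingHom.injective_iff_ker_eq_bot]
  exact h

/-- A schematically dominant homomorphism from an algebraic group to an affine group is faithfully flat, and its target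
is of finite type. -/
theorem main {G' : Over (Spec (CommRingCat.of k))} [GrpObj G'] [IsAffine G'.left] (u : G ⟶ G') [IsMonHom u]
    (hdom : u.left.ker = ⊥) : Flat u.left ∧ Surjective u.left ∧ LocallyOfFiniteType G'.hom := by
  classical
  obtain ⟨A, _, _, ⟨eA⟩⟩ := exists_hopf G'
  let a : sp k A ≅ G' := (Grp.forget _).mapIso eA
  haveI : IsMonHom a.hom := eA.hom.hom.isMonHom_hom
  haveI : IsMonHom a.inv := eA.inv.hom.isMonHom_hom
  haveI : IsIso a.hom.left := ((Over.forget _).mapIso a).isIso_hom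
  haveI : IsIso a.inv.left := ((Over.forget _).mapIso a).isIso_inv
  let v : G ⟶ sp k A := u ≫ a.inv
  haveI := AntiAffine.isSeparated_grp G'
  haveI : QuasiCompact (u.left ≫ G'.hom) := by rw [Over.w u]; infer_instance
  haveI : QuasiCompact u.left := QuasiCompact.of_comp u.left G'.hom
  haveI : IsSchemeTheoreticallyDominant u.left := (isSchemeTheoreticallyDominant_iff _).mpr hdom
  haveI : IsSchemeTheoreticallyDominant v.left :=
    inferInstanceAs (IsSchemeTheoreticallyDominant (u.left ≫ a.inv.left))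
  haveI : QuasiCompact v.left := inferInstanceAs (QuasiCompact (u.left ≫ a.inv.left))
  have hvinj : Function.Injective v.left.appTop := v.left.app_injective ⊤
  haveI : IsAffine (sp k A).left := isAffine_Spec _
  obtain ⟨s, hs⟩ := exists_finset_fn v
  let E := (Scheme.ΓSpecIso (CommRingCat.of A))
  obtain ⟨C₀, hsC, hfg, hC₀⟩ := HopfSubPoly.exists_fg_hopf_of_finset (k := k) (s.image fun w => (E.hom w : A))
  suffices hall : ∀ x : A, x ∈ C₀ by
    haveI : Algebra.FiniteType k A := by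
      haveI := (Subalgebra.fg_iff_finiteType C₀).mp hfg
      exact Algebra.FiniteType.of_surjective C₀.val fun x => ⟨⟨x, hall x⟩, rfl⟩
    haveI : LocallyOfFiniteType (sp k A).hom :=
      (HasRingHomProperty.Spec_iff (P := @LocallyOfFiniteType)).mpr (RingHom.finiteType_algebraMap.mpr inferInstance)
    haveI : LocallyOfFiniteType G'.hom := by rw [← Over.w a.inv]; infer_instance
    haveI : QuasiCompact G'.hom := inferInstance
    obtain ⟨h1, h2⟩ := ImageFlat.flat_surjective_of_dominant u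
    exact ⟨h1, h2, inferInstance⟩
  intro x
  obtain ⟨C, hxC, hfgC, hC⟩ := HopfSubPoly.exists_fg_hopf_containing (k := k) x
  have hD : SGA3.IsHopfSubalgebra k A (C₀ ⊔ C) := HopfSubPoly.isHopfSubalgebra_sup hC₀ hC
  letI := SubHopf.hopf C₀ hC₀
  letI := SubHopf.hopf (C₀ ⊔ C) hD
  haveI : Algebra.FiniteType k C₀ := (Subalgebra.fg_iff_finiteType C₀).mp hfg
  haveI : Algebra.FiniteType k ↥(C₀ ⊔ C) := (Subalgebra.fg_iff_finiteType _).mp (hfg.sup hfgC)
  haveI hl0 : LocallyOfFiniteType (sp k C₀).hom :=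
    (HasRingHomProperty.Spec_iff (P := @LocallyOfFiniteType)).mpr (RingHom.finiteType_algebraMap.mpr inferInstance)
  haveI hlD : LocallyOfFiniteType (sp k ↥(C₀ ⊔ C)).hom :=
    (HasRingHomProperty.Spec_iff (P := @LocallyOfFiniteType)).mpr (RingHom.finiteType_algebraMap.mpr inferInstance)
  let ι₀ : ↥C₀ →ₐc[k] A := BialgHom.ofAlgHom C₀.val rfl (AlgHom.ext fun c => SubHopf.map_comulRes C₀ hC₀ c)
  let ιD : ↥(C₀ ⊔ C) →ₐc[k] A := BialgHom.ofAlgHom (C₀ ⊔ C).val rfl (AlgHom.ext fun c => SubHopf.map_comulRes _ hD c)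
  let incl := SubHopf.incl hC₀ hD le_sup_left
  let π : sp k ↥(C₀ ⊔ C) ⟶ sp k C₀ := spMap (incl : _ →ₐ[k] _)
  let ρ₀ : G ⟶ sp k C₀ := v ≫ spMap (ι₀ : ↥C₀ →ₐ[k] A)
  let ρD : G ⟶ sp k ↥(C₀ ⊔ C) := v ≫ spMap (ιD : ↥(C₀ ⊔ C) →ₐ[k] A)
  have hπ : ρD ≫ π = ρ₀ := by
    show (v ≫ _) ≫ _ = v ≫ _
    rw [Category.assoc, spMap_comp]
    rfl
  have hdomC : ∀ {B : Type u} [CommRing B] [Algebra k B] (f : B →ₐ[k] A), Function.Injective f →
      IsSchemeTheoreticallyDominant (v ≫ spMap f).left := by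
    intro B _ _ f hf
    haveI : IsAffine (sp k B).left := isAffine_Spec _
    haveI : QuasiCompact (v ≫ spMap f).left := inferInstanceAs (QuasiCompact (v.left ≫ Spec.map _))
    refine isSchemeTheoreticallyDominant_of_injective _ ?_
    show Function.Injective (v.left ≫ Spec.map (CommRingCat.ofHom f.toRingHom)).appTop
    rw [Scheme.Hom.comp_appTop]
    refine hvinj.comp ?_
    intro y z hyz
    apply (ConcreteCategory.bijective_of_isIso (Scheme.ΓSpecIso (CommRingCat.of B)).hom).1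
    apply hf
    have h1 := ConcreteCategory.congr_hom (Scheme.ΓSpecIso_naturality (CommRingCat.ofHom f.toRingHom))
    exact (h1 y).symm.trans ((congrArg (Scheme.ΓSpecIso (CommRingCat.of A)).hom hyz).trans (h1 z))
  haveI : IsMonHom ρ₀ := inferInstance
  haveI : IsMonHom ρD := inferInstance
  haveI : IsSchemeTheoreticallyDominant ρ₀.left := hdomC _ Subtype.val_injective
  haveI : IsSchemeTheoreticallyDominant ρD.left := hdomC _ Subtype.val_injective
  haveI : QuasiCompact (sp k C₀).hom := inferInstanceAs (QuasiCompact (Spec.map _))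
  haveI : QuasiCompact (sp k ↥(C₀ ⊔ C)).hom := inferInstanceAs (QuasiCompact (Spec.map _))
  obtain ⟨hf0, hs0⟩ := ImageFlat.flat_surjective_of_dominant ρ₀
  obtain ⟨hfD, hsD⟩ := ImageFlat.flat_surjective_of_dominant ρD
  haveI := AntiAffine.isSeparated_grp (sp k C₀)
  obtain ⟨N, _, i, hi, -, -, hker⟩ := exists_kernel ρ₀
  haveI : IsSeparated N.hom := AntiAffine.isSeparated_grp N
  have hkill : i ≫ ρD = toUnit N ≫ η[sp k ↥(C₀ ⊔ C)] := by
    refine Eq.trans ?_ (show (1 : N ⟶ sp k ↥(C₀ ⊔ C)) = toUnit N ≫ η from rfl)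
    refine Over.OverMorphism.ext (Scheme.Cover.hom_ext N.left.affineCover _ _ fun c => ?_)
    let R : Over (Spec (CommRingCat.of k)) := Over.mk (N.left.affineCover.f c ≫ N.hom)
    let r : R ⟶ N := Over.homMk (N.left.affineCover.f c) rfl
    haveI : IsAffine R.left := inferInstanceAs (IsAffine (N.left.affineCover.X c))
    have h0 : ((r ≫ i) ≫ v) ≫ spMap (ι₀ : ↥C₀ →ₐ[k] A) = (1 : R ⟶ sp k A) ≫ spMap (ι₀ : ↥C₀ →ₐ[k] A) := by
      rw [MonObj.one_comp, Category.assoc, Category.assoc, show v ≫ spMap _ = ρ₀ from rfl, hker.w, ← Category.assoc,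
        comp_toUnit]
      rfl
    have h1 : (r ≫ i) ≫ v = (1 : R ⟶ sp k A) := by
      refine ext_ev (AlgHom.ext (hs R (r ≫ i) inferInstance fun w hw => ?_))
      have hmem : (E.hom w : A) ∈ C₀ := hsC (Finset.mem_coe.mpr (Finset.mem_image_of_mem _ hw))
      have hw' : w = ev (spMap (ι₀ : ↥C₀ →ₐ[k] A)) ((Scheme.ΓSpecIso (CommRingCat.of C₀)).inv ⟨E.hom w, hmem⟩) := by
        refine Eq.trans ?_ (ConcreteCategory.congr_hom (Scheme.ΓSpecIso_inv_naturality
          (CommRingCat.ofHom (ι₀ : ↥C₀ →ₐ[k] A).toRingHom)) ⟨E.hom w, hmem⟩)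
        exact (Iso.hom_inv_id_apply E w).symm
      rw [hw', ev_ev, ev_ev, h0]
    have h2 : r ≫ i ≫ ρD = r ≫ (1 : N ⟶ sp k ↥(C₀ ⊔ C)) := by
      show r ≫ i ≫ v ≫ _ = _
      rw [← Category.assoc, ← Category.assoc, h1, MonObj.one_comp, MonObj.comp_one]
    exact congrArg CommaMorphism.left h2
  obtain ⟨b, -, hb, -⟩ := S3280.result k G N (sp k C₀) (sp k ↥(C₀ ⊔ C)) ρ₀ i hker ρD hkill
  haveI : QuasiCompact (ρD.left ≫ (sp k ↥(C₀ ⊔ C)).hom) := by rw [Over.w ρD]; infer_instance
  haveI : QuasiCompact (ρ₀.left ≫ (sp k C₀).hom) := by rw [Over.w ρ₀]; infer_instance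
  haveI := AntiAffine.isSeparated_grp (sp k ↥(C₀ ⊔ C))
  haveI : QuasiCompact ρD.left := QuasiCompact.of_comp ρD.left (sp k ↥(C₀ ⊔ C)).hom
  haveI : QuasiCompact ρ₀.left := QuasiCompact.of_comp ρ₀.left (sp k C₀).hom
  haveI : Epi ρD := Over.epi_of_epi_left _
  have hπb : π ≫ b = 𝟙 _ := by
    rw [← cancel_epi ρD, ← Category.assoc, hπ, hb, Category.comp_id]
  obtain ⟨β, hβ⟩ := exists_eq_spMap b
  have h3 : (incl : _ →ₐ[k] _).comp β = AlgHom.id k _ := spMap_injective (by
    rw [← spMap_comp, ← hβ, spMap_id]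
    exact hπb)
  have h4 := AlgHom.congr_fun h3 ⟨x, le_sup_right (a := C₀) hxC⟩
  have h5 : ((β ⟨x, le_sup_right (a := C₀) hxC⟩ : C₀) : A) = x := congrArg Subtype.val h4
  rw [← h5]
  exact Subtype.mem _

end Groth.Agent.GrpSchLib.SchDomFlat
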