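import Groth.Agent.GrpSchLib.AdjointNbhd
import Groth.Agent.GrpSchLib.MatrixCoeff
import Groth.Agent.GrpSchLib.AntiAffineHom

/-! The representations on the infinitesimal neighbourhoods of the identity given by conjugation. -/

universe u

open CategoryTheory Limits AlgebraicGeometry MonoidalCategory CartesianMonoidalCategory MonObj GrpObj
open scoped TensorProduct

namespace Groth.Agent.GrpSchLib.Adjoint

open Kunneth LineGroups

variable {k : Type u} [Field k] {G : Over (Spec (CommRingCat.of k))} [GrpObj G]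

/-- Conjugation of the point `x` by the inverse of `g`. -/
noncomputable abbrev cj {T Y : Over (Spec (CommRingCat.of k))} (g : T ⟶ G) (x : Y ⟶ G) : T ⊗ Y ⟶ G :=
  (fst T Y ≫ g)⁻¹ * (snd T Y ≫ x) * (fst T Y ≫ g)

theorem comp_cj {T T' Y : Over (Spec (CommRingCat.of k))} (t : T' ⟶ T) (g : T ⟶ G) (x : Y ⟶ G) :
    (t ▷ Y) ≫ cj g x = cj (t ≫ g) x := by
  simp only [cj, MonObj.comp_mul, GrpObj.comp_inv, whiskerRight_fst_assoc, whiskerRight_snd_assoc]

theorem whiskerLeft_cj {T Y Y' : Over (Spec (CommRingCat.of k))} (g : T ⟶ G) (y : Y' ⟶ Y) (x : Y ⟶ G) :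
    (T ◁ y) ≫ cj g x = cj g (y ≫ x) := by
  simp only [cj, MonObj.comp_mul, GrpObj.comp_inv, whiskerLeft_fst_assoc, whiskerLeft_snd_assoc, Category.assoc]

theorem lift_cj {T Y R : Over (Spec (CommRingCat.of k))} (a : R ⟶ T) (b : R ⟶ Y) (g : T ⟶ G) (x : Y ⟶ G) :
    lift a b ≫ cj g x = (a ≫ g)⁻¹ * (b ≫ x) * (a ≫ g) := by
  simp only [cj, MonObj.comp_mul, GrpObj.comp_inv, lift_fst_assoc, lift_snd_assoc]

variable [LocallyOfFiniteType G.hom] [QuasiCompact G.hom] (D : Nbhds G η[G])

theorem mono_j_uι (n : ℕ) : Mono (D.j n ≫ D.uι) := by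
  haveI : IsClosedImmersion (D.j n).left := IsClosedImmersion.of_surjective_of_isAffine _ (D.surj n)
  haveI : Mono (D.j n).left := inferInstance
  haveI : Mono D.uι.left := inferInstance
  haveI : Mono (D.j n ≫ D.uι).left := by rw [Over.comp_left]; infer_instance
  exact (Over.forget _).mono_of_mono_map ‹Mono (D.j n ≫ D.uι).left›

/-- Conjugation preserves each infinitesimal neighbourhood. -/
theorem exists_act (n : ℕ) : ∃ h : G ⊗ D.N n ⟶ D.N n, h ≫ D.j n ≫ D.uι = cj (𝟙 G) (D.j n ≫ D.uι) := by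
  classical
  haveI := AntiAffine.isSeparated_grp G
  haveI : QuasiCompact (D.N n).hom := inferInstance
  haveI : IsSeparated (D.N n).hom := inferInstance
  let pt : ↥(Spec (CommRingCat.of k)) := IsLocalRing.closedPoint k
  haveI : Subsingleton ↥(𝟙_ (Over (Spec (CommRingCat.of k)))).left := inferInstanceAs (Subsingleton (PrimeSpectrum k))
  haveI : Surjective (D.q n).left := ⟨fun x => ⟨pt, Subsingleton.elim _ _⟩⟩
  haveI := InfNbhdEq.whisker_range (X := G) (D.q n)
  let c := cj (𝟙 G) (D.j n ≫ D.uι)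
  have hq : (G ◁ D.q n) ≫ c = toUnit _ ≫ η[G] := by
    rw [whiskerLeft_cj, ← Category.assoc, D.q_fac, D.u₀_fac, cj, Category.comp_id, MonObj.one_eq_one,
      MonObj.comp_one, _root_.mul_one, inv_mul_cancel, MonObj.comp_one]
  have hrange : Set.range c.left ⊆ Set.range D.uι.left := by
    rintro _ ⟨p, rfl⟩
    obtain ⟨p', rfl⟩ := (G ◁ D.q n).left.surjective p
    rw [← Scheme.Hom.comp_apply, ← Over.comp_left, hq, Over.comp_left, Scheme.Hom.comp_apply]
    exact ⟨D.u₀.left _, congrArg (fun f : _ ⟶ G => f.left ((toUnit (G ⊗ 𝟙_ (Over (Spec (CommRingCat.of k))))).left p')) D.u₀_fac⟩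
  let l : G ⊗ D.N n ⟶ D.U := Over.homMk (IsOpenImmersion.lift D.uι.left c.left hrange)
    (by rw [← Over.w D.uι, IsOpenImmersion.lift_fac_assoc]; exact Over.w c)
  have hl : l ≫ D.uι = c := Over.OverMorphism.ext (IsOpenImmersion.lift_fac _ _ _)
  haveI : Mono D.uι := (Over.forget _).mono_of_mono_map (inferInstanceAs (Mono D.uι.left))
  have hlq : (G ◁ D.q n) ≫ l = toUnit _ ≫ D.u₀ := by
    rw [← cancel_mono D.uι, Category.assoc, hl, hq, Category.assoc, D.u₀_fac]
  -- the ideal of the section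
  let I : Ideal (Fn (G ⊗ D.N n)) := (RingHom.ker (evPt (D.q n))).map (ev (snd G (D.N n))).toRingHom
  let sec : G ⊗ D.N n ⟶ G ⊗ 𝟙_ (Over (Spec (CommRingCat.of k))) := lift (fst G (D.N n)) (toUnit _)
  have hI : ∀ z : Fn (G ⊗ D.N n), ev (G ◁ D.q n) z = 0 → z ∈ I := by
    intro z hz
    have key : ∀ z, z - ev sec (ev (G ◁ D.q n) z) ∈ I := by
      intro z
      obtain ⟨t, rfl⟩ := (toProd_bijective G (D.N n)).2 z
      induction t using TensorProduct.induction_on with
      | zero => simp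
      | add s t hs ht => simp only [map_add, add_sub_add_comm]; exact I.add_mem hs ht
      | tmul a b =>
        rw [toProd, Algebra.TensorProduct.lift_tmul, map_mul, map_mul, ev_ev, ev_ev, ev_ev, ev_ev,
          Category.assoc, whiskerLeft_fst, Category.assoc, whiskerLeft_snd, lift_fst, ← Category.assoc, lift_snd, ← mul_sub]
        refine I.mul_mem_left _ ?_
        have hc : ev (toUnit (G ⊗ D.N n) ≫ D.q n) b = ev (snd G (D.N n)) (algebraMap k _ (evPt (D.q n) b)) := by
          rw [AlgHom.commutes, ← ev_ev, ← AlgHom.commutes (ev (toUnit (G ⊗ D.N n)))]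
          congr 1
          apply (ConcreteCategory.bijective_of_isIso (Scheme.ΓSpecIso (CommRingCat.of k)).hom).1
          show evPt (D.q n) b = _
          exact (Iso.inv_hom_id_apply (Scheme.ΓSpecIso (CommRingCat.of k)) _).symm
        rw [hc, ← map_sub]
        refine Ideal.mem_map_of_mem (ev (snd G (D.N n))).toRingHom ?_
        rw [RingHom.mem_ker, map_sub, AlgHom.commutes, Algebra.algebraMap_self_apply, sub_self]
    have := key z
    rwa [hz, map_zero, sub_zero] at this
  have hnil : I ^ (n + 1) = ⊥ := by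
    have h0 : RingHom.ker (evPt (D.q n)) ^ (n + 1) = ⊥ := by
      have hpt : ∀ a, evPt (D.q n) (ev (D.j n) a) = evPt D.u₀ a := fun a => by
        rw [← D.q_fac n]; rfl
      have h1 : RingHom.ker (evPt (D.q n)) = (RingHom.ker (evPt D.u₀)).map (ev (D.j n)).toRingHom := by
        refine le_antisymm (fun b hb => ?_) (Ideal.map_le_iff_le_comap.mpr fun a ha => (hpt a).trans ha)
        obtain ⟨a, rfl⟩ := D.surj n b
        exact Ideal.mem_map_of_mem _ ((hpt a).symm.trans hb)
      rw [h1, ← Ideal.map_pow, ← D.ker n, Ideal.map_eq_bot_iff_le_ker]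
      exact le_rfl
    show Ideal.map _ _ ^ (n + 1) = ⊥
    rw [← Ideal.map_pow, h0, Ideal.map_bot]
  have hkill : ∀ a ∈ RingHom.ker (ev (D.j n)), ev l a = 0 := by
    intro a ha
    rw [D.ker n] at ha
    have hle : RingHom.ker (evPt D.u₀) ≤ I.comap (ev l).toRingHom := fun x hx => hI _ (by
      have h0 : ev D.u₀ x = 0 := by
        apply (ConcreteCategory.bijective_of_isIso (Scheme.ΓSpecIso (CommRingCat.of k)).hom).1
        exact (show evPt D.u₀ x = 0 from hx).trans (map_zero _).symm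
      show ev (G ◁ D.q n) (ev l x) = 0
      rw [ev_ev, hlq, ← ev_ev, h0, map_zero])
    have h2 : a ∈ (I.comap (ev l).toRingHom) ^ (n + 1) := Ideal.pow_right_mono hle _ ha
    have h3 : ev l a ∈ I ^ (n + 1) := Ideal.le_comap_pow (ev l).toRingHom (n + 1) h2
    rwa [hnil, Ideal.mem_bot] at h3
  obtain ⟨h, hh⟩ := exists_hom_ev (AlgHom.liftOfSurjective (ev (D.j n)) (D.surj n) (ev l) (fun a ha => hkill a ha))
  refine ⟨h, ?_⟩
  rw [← Category.assoc, show h ≫ D.j n = l from ext_ev (AlgHom.ext fun a => ?_), hl]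
  rw [← ev_ev, hh]
  exact AlgHom.congr_fun (AlgHom.liftOfSurjective_comp (ev (D.j n)) (D.surj n) (ev l) (fun a ha => hkill a ha)) a

/-- The action on the neighbourhood. -/
noncomputable def act (n : ℕ) : G ⊗ D.N n ⟶ D.N n := (exists_act D n).choose

theorem act_fac (n : ℕ) : act D n ≫ D.j n ≫ D.uι = cj (𝟙 G) (D.j n ≫ D.uι) := (exists_act D n).choose_spec

theorem lift_act {T : Over (Spec (CommRingCat.of k))} (n : ℕ) (g : T ⟶ G) (x : T ⟶ D.N n) :
    lift g x ≫ act D n ≫ D.j n ≫ D.uι = g⁻¹ * (x ≫ D.j n ≫ D.uι) * g := by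
  rw [act_fac, lift_cj, Category.comp_id]

theorem act_mul {T : Over (Spec (CommRingCat.of k))} (n : ℕ) (g h : T ⟶ G) :
    ((g * h) ▷ D.N n) ≫ act D n = lift (fst T (D.N n)) ((g ▷ D.N n) ≫ act D n) ≫ (h ▷ D.N n) ≫ act D n := by
  haveI := mono_j_uι D n
  have e : ∀ (R : Over (Spec (CommRingCat.of k))) (f : T ⟶ G) (a : R ⟶ T) (b : R ⟶ D.N n),
      lift a b ≫ (f ▷ D.N n) ≫ act D n = lift (a ≫ f) b ≫ act D n := by
    intro R f a b
    rw [← Category.assoc, lift_whiskerRight]
  have hR : ∀ f : T ⟶ G, (f ▷ D.N n) = lift (fst T (D.N n) ≫ f) (snd T (D.N n)) := fun f =>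
    CartesianMonoidalCategory.hom_ext _ _ (by simp) (by simp)
  rw [← cancel_mono (D.j n ≫ D.uι)]
  simp only [Category.assoc]
  rw [hR (g * h), lift_act, ← Category.assoc (lift (fst T (D.N n)) _), lift_whiskerRight, lift_act,
    hR g, Category.assoc, lift_act, MonObj.comp_mul, _root_.mul_inv_rev]
  simp only [_root_.mul_assoc]

theorem act_one {T : Over (Spec (CommRingCat.of k))} (n : ℕ) : ((1 : T ⟶ G) ▷ D.N n) ≫ act D n = snd T (D.N n) := by
  haveI := mono_j_uι D n
  rw [← cancel_mono (D.j n ≫ D.uι), show ((1 : T ⟶ G) ▷ D.N n) = lift (fst T (D.N n) ≫ 1) (snd T (D.N n)) from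
    CartesianMonoidalCategory.hom_ext _ _ (by simp) (by simp), Category.assoc, lift_act, MonObj.comp_one, inv_one,
    _root_.one_mul, _root_.mul_one]

/-- The dimension of the functions on the neighbourhood. -/
noncomputable def dim (n : ℕ) : ℕ := Module.finrank k (Fn (D.N n))

/-- A basis of the functions on the neighbourhood. -/
noncomputable def bas (n : ℕ) : Module.Basis (Fin (dim D n)) k (Fn (D.N n)) :=
  haveI := D.finN n
  Module.finBasis k _

theorem exists_mat (n : ℕ) : ∃ M : Matrix (Fin (dim D n)) (Fin (dim D n)) (Fn G),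
    ∀ l, ev (act D n) (bas D n l) = ∑ i, ev (fst G (D.N n)) (M i l) * ev (snd G (D.N n)) (bas D n i) := by
  classical
  haveI := AntiAffine.isSeparated_grp G
  choose s a hs using fun l => exists_expand (X := G) (Y := D.N n) (bas D n) (ev (act D n) (bas D n l))
  refine ⟨fun i l => if i ∈ s l then a l i else 0, fun l => (hs l).trans ?_⟩
  rw [← Finset.sum_subset (Finset.subset_univ (s l)) (fun i _ hi => by simp [hi])]
  exact Finset.sum_congr rfl fun i hi => by simp only [if_pos hi]

/-- The matrix of the adjoint representation. -/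
noncomputable def mat (n : ℕ) : Matrix (Fin (dim D n)) (Fin (dim D n)) (Fn G) := (exists_mat D n).choose

theorem ev_act {T : Over (Spec (CommRingCat.of k))} (n : ℕ) (g : T ⟶ G) (l : Fin (dim D n)) :
    ev ((g ▷ D.N n) ≫ act D n) (bas D n l) =
      ∑ i, ev (fst T (D.N n)) (ev g (mat D n i l)) * ev (snd T (D.N n)) (bas D n i) := by
  rw [← ev_ev, (exists_mat D n).choose_spec l, map_sum]
  exact Finset.sum_congr rfl fun i _ => by rw [map_mul, ev_ev, ev_ev, ev_ev, whiskerRight_fst, whiskerRight_snd]; rfl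

/-- A matrix acting by one acts trivially. -/
theorem act_eq_snd {T : Over (Spec (CommRingCat.of k))} (n : ℕ) (g : T ⟶ G) (h : (mat D n).map (ev g) = 1) :
    (g ▷ D.N n) ≫ act D n = snd T (D.N n) := by
  refine ext_ev (AlgHom.toLinearMap_injective ((bas D n).ext fun l => ?_))
  simp only [AlgHom.toLinearMap_apply]
  rw [ev_act, Finset.sum_eq_single l]
  · rw [show ev g (mat D n l l) = 1 from (congrFun (congrFun h l) l).trans (Matrix.one_apply_eq l), map_one, _root_.one_mul]
  · intro i _ hi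
    rw [show ev g (mat D n i l) = 0 from (congrFun (congrFun h i) l).trans (Matrix.one_apply_ne hi), map_zero, MulZeroClass.zero_mul]
  · exact fun h => absurd (Finset.mem_univ l) h

theorem mat_map_eq {T : Over (Spec (CommRingCat.of k))} [QuasiCompact T.hom] [IsSeparated T.hom] (n : ℕ) (g : T ⟶ G)
    (A : Matrix (Fin (dim D n)) (Fin (dim D n)) (Fn T))
    (h : ∀ l, ev ((g ▷ D.N n) ≫ act D n) (bas D n l) = ∑ i, ev (fst T (D.N n)) (A i l) * ev (snd T (D.N n)) (bas D n i)) :
    (mat D n).map (ev g) = A := by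
  refine Matrix.ext fun i l => ?_
  have h1 := (ev_act D n g l).symm.trans (h l)
  rw [← sub_eq_zero, ← Finset.sum_sub_distrib] at h1
  exact sub_eq_zero.mp (indep (bas D n).linearIndependent Finset.univ
    (fun i => ev g (mat D n i l) - A i l) (by simpa [sub_mul] using h1) i (Finset.mem_univ i))

theorem mat_map_one_of_act {T : Over (Spec (CommRingCat.of k))} [QuasiCompact T.hom] [IsSeparated T.hom] (n : ℕ) (g : T ⟶ G)
    (h : (g ▷ D.N n) ≫ act D n = snd T (D.N n)) : (mat D n).map (ev g) = 1 := by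
  refine mat_map_eq D n g 1 fun l => ?_
  rw [h, Finset.sum_eq_single l (fun i _ hi => by rw [Matrix.one_apply_ne hi, map_zero, MulZeroClass.zero_mul])
    (fun h => absurd (Finset.mem_univ l) h), Matrix.one_apply_eq, map_one, _root_.one_mul]

theorem isRepMatrix (n : ℕ) : IsRepMatrix (mat D n) := by
  haveI := AntiAffine.isSeparated_grp G
  haveI : QuasiCompact (G ⊗ G).hom := inferInstanceAs (QuasiCompact (pullback.fst G.hom G.hom ≫ G.hom))
  haveI : IsSeparated (G ⊗ G).hom := inferInstanceAs (IsSeparated (pullback.fst G.hom G.hom ≫ G.hom))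
  have hu : (mat D n).map (ev (fst G G * snd G G)) = (mat D n).map (ev (fst G G)) * (mat D n).map (ev (snd G G)) := by
    refine mat_map_eq D n _ _ fun l => ?_
    rw [act_mul, ← ev_ev, ev_act, map_sum]
    simp only [map_mul, ev_ev (lift (fst (G ⊗ G) (D.N n)) _), lift_fst, lift_snd, ev_act, Matrix.mul_apply,
      Matrix.map_apply, map_sum, Finset.sum_mul, Finset.mul_sum]
    rw [Finset.sum_comm]
    exact Finset.sum_congr rfl fun i _ => Finset.sum_congr rfl fun m _ => by ring
  have hone : (mat D n).map (ev η[G]) = 1 := by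
    haveI : QuasiCompact (𝟙_ (Over (Spec (CommRingCat.of k)))).hom := inferInstanceAs (QuasiCompact (𝟙 _))
    haveI : IsSeparated (𝟙_ (Over (Spec (CommRingCat.of k)))).hom := inferInstanceAs (IsSeparated (𝟙 _))
    refine mat_map_one_of_act D n _ ?_
    have h1 : (η[G] : 𝟙_ _ ⟶ G) = 1 := MonObj.one_eq_one G
    exact (congrArg (fun f => (f ▷ D.N n) ≫ act D n) h1).trans (act_one D n)
  refine ⟨fun T g h => ?_, fun T => ?_⟩
  · have := congrArg (fun A : Matrix _ _ (Fn (G ⊗ G)) => A.map (ev (lift g h))) hu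
    simp only [Matrix.map_mul, Matrix.map_map] at this
    have q : ∀ p : G ⊗ G ⟶ G, ⇑(ev (lift g h)) ∘ ⇑(ev p) = ⇑(ev (lift g h ≫ p)) := fun p => rfl
    simpa only [q, MonObj.comp_mul, lift_fst, lift_snd] using this
  · have := congrArg (fun A : Matrix _ _ (Fn (𝟙_ (Over (Spec (CommRingCat.of k))))) => A.map (ev (toUnit T))) hone
    simp only [Matrix.map_map, Matrix.map_one _ (map_zero (ev (toUnit T))) (map_one (ev (toUnit T)))] at this
    exact this

end Groth.Agent.GrpSchLib.Adjoint
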