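import Groth.Prelude.Def_AlphaP
import Mathlib.RingTheory.Coprime.Lemmas
import Mathlib.Data.Nat.Factorial.Basic
import Mathlib.Algebra.BigOperators.Ring.Finset
import Mathlib.Data.Nat.Choose.Sum
import Mathlib.Data.Nat.Prime.Factorial

/-! The coordinate at `x` of the Hopf algebra of `α_p` and the derivation it induces through comultiplication. -/

open TensorProduct

namespace Groth.Agent.GrpSchLib

universe u

variable (p : ℕ) [hp : Fact p.Prime] (R : Type u) [CommRing R] [CharP R p]

omit hp in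
theorem isUnit_natCast_of_coprime {n : ℕ} (h : Nat.Coprime n p) : IsUnit (n : R) := by
  have h1 := (Nat.isCoprime_iff_coprime.mpr h).map (Int.castRingHom R)
  simp only [map_natCast, CharP.cast_eq_zero R p] at h1
  exact isCoprime_zero_right.mp h1

theorem isUnit_natCast_of_lt {n : ℕ} (h0 : n ≠ 0) (h : n < p) : IsUnit (n : R) :=
  isUnit_natCast_of_coprime p R
    (((Fact.out : p.Prime).coprime_iff_not_dvd.mpr fun hd => absurd (Nat.le_of_dvd (Nat.pos_of_ne_zero h0) hd)
      (not_le.mpr h)).symm)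

theorem isUnit_factorial_of_lt {n : ℕ} (h : n < p) : IsUnit (n.factorial : R) :=
  isUnit_natCast_of_coprime p R
    (((Fact.out : p.Prime).coprime_iff_not_dvd.mpr fun hd =>
      absurd ((Fact.out : p.Prime).dvd_factorial.mp hd) (not_le.mpr h)).symm)

theorem nontrivial_base (p : ℕ) [Fact p.Prime] (R : Type u) [CommRing R] [CharP R p] : Nontrivial R := CharP.nontrivial_of_char_ne_one (Fact.out : p.Prime).ne_one

/-- The coordinate of `x ^ i` in the basis `1, x, …, x ^ (p-1)`. -/
noncomputable def αCoord (i : Fin p) : AlphaP.A p R →ₗ[R] R :=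
  haveI := nontrivial_base p R
  (AlphaP.basis p R).coord i

theorem αCoord_pow (i : Fin p) (m : ℕ) :
    αCoord p R i (AlphaP.x p R ^ m) = if m = i then 1 else 0 := by
  haveI := nontrivial_base p R
  by_cases hm : m < p
  · rw [← AlphaP.basis_apply p R ⟨m, hm⟩, αCoord, Module.Basis.coord_apply, Module.Basis.repr_self,
      Finsupp.single_apply]
    simp [Fin.ext_iff]
  · rw [AlphaP.x_pow_of_le p R (not_lt.mp hm), map_zero, if_neg]
    have := i.2; omega

theorem αCoord_ext {a b : AlphaP.A p R} (h : ∀ i, αCoord p R i a = αCoord p R i b) : a = b :=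
  haveI := nontrivial_base p R
  (AlphaP.basis p R).ext_elem h

theorem α_sum_coord (a : AlphaP.A p R) : ∑ i, αCoord p R i a • AlphaP.x p R ^ (i : ℕ) = a := by
  haveI := nontrivial_base p R
  conv_rhs => rw [← (AlphaP.basis p R).sum_repr a]
  simp only [AlphaP.basis_apply]
  rfl

theorem αLinearMap_ext {M : Type*} [AddCommGroup M] [Module R M] {f g : AlphaP.A p R →ₗ[R] M}
    (h : ∀ i, i < p → f (AlphaP.x p R ^ i) = g (AlphaP.x p R ^ i)) : f = g := by
  haveI := nontrivial_base p R
  exact (AlphaP.basis p R).ext fun i => by rw [AlphaP.basis_apply]; exact h i i.2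

/-- The coordinate at `x`. -/
noncomputable def δ₁ : AlphaP.A p R →ₗ[R] R := αCoord p R ⟨1, (Fact.out : p.Prime).one_lt⟩

theorem δ₁_pow (m : ℕ) : δ₁ p R (AlphaP.x p R ^ m) = if m = 1 then 1 else 0 := αCoord_pow p R _ m

@[simp] theorem δ₁_one : δ₁ p R (1 : AlphaP.A p R) = 0 := by simpa using δ₁_pow p R 0

@[simp] theorem δ₁_x : δ₁ p R (AlphaP.x p R) = 1 := by simpa using δ₁_pow p R 1

/-- `(δ₁ ⊗ id) ∘ Δ`. -/
noncomputable def αDeriv : AlphaP.A p R →ₗ[R] AlphaP.A p R :=
  (TensorProduct.lid R _).toLinearMap ∘ₗ TensorProduct.map (δ₁ p R) LinearMap.id ∘ₗ Coalgebra.comul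

theorem αDeriv_pow (k : ℕ) :
    αDeriv p R (AlphaP.x p R ^ k) = (k : R) • AlphaP.x p R ^ (k - 1) := by
  have hc : Coalgebra.comul (R := R) (AlphaP.x p R ^ k) =
      ∑ m ∈ Finset.range (k + 1), (k.choose m : R) • ((AlphaP.x p R ^ m) ⊗ₜ[R] (AlphaP.x p R ^ (k - m))) := by
    rw [Bialgebra.comul_pow, AlphaP.comul_x, add_pow]
    refine Finset.sum_congr rfl fun m _ => ?_
    rw [Algebra.TensorProduct.tmul_pow, Algebra.TensorProduct.tmul_pow, Algebra.TensorProduct.tmul_mul_tmul,
      one_pow, one_pow, mul_one, one_mul, Nat.cast_smul_eq_nsmul, nsmul_eq_mul, mul_comm]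
  simp only [αDeriv, LinearMap.coe_comp, LinearEquiv.coe_coe, Function.comp_apply, hc, map_sum, map_smul,
    TensorProduct.map_tmul, TensorProduct.lid_tmul, δ₁_pow, LinearMap.id_coe, id_eq, ite_smul, zero_smul, one_smul,
    smul_ite, smul_zero]
  rw [Finset.sum_ite_eq']
  rcases k with _ | k
  · simp
  · simp

end Groth.Agent.GrpSchLib
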