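import Groth.Agent.GrpSchLib.GLnHom
import Groth.Agent.GrpSchLib.AntiAffineHom

/-! A group scheme with only trivial matrix representations has only constant functions. -/

universe u

open CategoryTheory Limits AlgebraicGeometry MonoidalCategory CartesianMonoidalCategory MonObj GrpObj

namespace Groth.Agent.GrpSchLib.Kunneth

variable {k : Type u} [Field k] {G : Over (Spec (CommRingCat.of k))} [GrpObj G] [QuasiCompact G.hom]

theorem bijective_of_forall_matrix
    (h : ∀ (n : ℕ) (M : Matrix (Fin n) (Fin n) (Fn G)), IsRepMatrix M → M = 1) : Function.Bijective G.hom.appTop := by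
  have h0 : G.hom.appTop ≫ (η[G]).left.appTop = 𝟙 _ := by
    rw [← Scheme.Hom.comp_appTop, show (η[G]).left ≫ G.hom = 𝟙 _ from Over.w η[G]]; rfl
  refine ⟨Function.LeftInverse.injective (g := (η[G]).left.appTop) fun c => congr($h0 c), fun f => ?_⟩
  obtain ⟨n, M, hM, hf⟩ := exists_matrix f
  obtain ⟨c, hc⟩ := hf (h n M hM)
  exact ⟨(Scheme.ΓSpecIso (CommRingCat.of k)).inv c, hc⟩

end Groth.Agent.GrpSchLib.Kunneth
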