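import Groth.Agent.H23.RigidApply
import Groth.Agent.GrpSchLib.GeomIrr
import Groth.Agent.GrpSchLib.FieldTop
import Groth.Agent.GrpSchLib.RigidHom
import Groth.Agent.GrpSchLib.HomFlat
import Mathlib.Topology.Irreducible

/-! Rigidity for sources with only constant global functions over an algebraically closed field. -/

universe u

open CategoryTheory Limits AlgebraicGeometry MonoidalCategory CartesianMonoidalCategory MonObj TopologicalSpace
open Groth.Agent.H23

namespace Groth.Agent.GrpSchLib.AntiAffineRigid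

/-- The rigidity lemma for a scheme with constant functions and a rational point. -/
theorem factor {k : Type u} [Field k] [IsAlgClosed k] {X W Z : Over (Spec (CommRingCat.of k))}
    [LocallyOfFiniteType X.hom] [QuasiCompact X.hom] [QuasiSeparated X.hom]
    (hX : Function.Bijective X.hom.appTop) [LocallyOfFiniteType W.hom] [PreconnectedSpace W.left]
    [IsSeparated Z.hom] (φ : X ⊗ W ⟶ Z) (x₀ : 𝟙_ (Over (Spec (CommRingCat.of k))) ⟶ X)
    (w₀ : 𝟙_ (Over (Spec (CommRingCat.of k))) ⟶ W) (z₀ : 𝟙_ (Over (Spec (CommRingCat.of k))) ⟶ Z)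
    (h : lift (𝟙 X) (toUnit X ≫ w₀) ≫ φ = toUnit X ≫ z₀) :
    φ = snd X W ≫ lift (toUnit W ≫ x₀) (𝟙 W) ≫ φ := by
  classical
  have : IsLocallyNoetherian W.left := LocallyOfFiniteType.isLocallyNoetherian W.hom
  have : IsLocallyNoetherian (pullback X.hom W.hom) :=
    LocallyOfFiniteType.isLocallyNoetherian (pullback.snd X.hom W.hom)
  let p := pullback.snd X.hom W.hom
  let π : pullback X.hom W.hom ⟶ pullback W.hom Z.hom := pullback.lift p φ.left (by
    rw [Over.w φ]; exact pullback.condition.symm)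
  let g := pullback.fst W.hom Z.hom
  have hπ : π ≫ g = p := pullback.lift_fst _ _ _
  let e : W.left ⟶ pullback X.hom W.hom := (lift (toUnit W ≫ x₀) (𝟙 W)).left
  have he : e ≫ p = 𝟙 _ := congrArg CommaMorphism.left (lift_snd (toUnit W ≫ x₀) (𝟙 W))
  have hes : ∀ s, p (e s) = s := fun s => congr($he s)
  let b := p ≫ e ≫ π
  have hag : π ≫ g = b ≫ g := by
    simp only [b, Category.assoc, hπ, he, Category.comp_id]
  have hh0 : ∀ s : W.left, Function.Bijective (pullback.snd p (W.left.fromSpecResidueField s)).appTop := by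
    intro s
    have hb := Rigid.bijective_app_snd_of_bijective X.hom (W.left.fromSpecResidueField s ≫ W.hom) hX ⊤
    have he2 : pullback.snd p (W.left.fromSpecResidueField s) =
        (pullbackLeftPullbackSndIso X.hom W.hom (W.left.fromSpecResidueField s)).hom ≫
          pullback.snd X.hom (W.left.fromSpecResidueField s ≫ W.hom) :=
      (pullbackLeftPullbackSndIso_hom_snd _ _ _).symm
    rw [he2, Scheme.Hom.comp_appTop]
    have : IsIso ((pullbackLeftPullbackSndIso X.hom W.hom (W.left.fromSpecResidueField s)).hom.app ⊤) := inferInstance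
    exact (@ConcreteCategory.bijective_of_isIso _ _ _ _ _ _ _ _
      (pullbackLeftPullbackSndIso X.hom W.hom (W.left.fromSpecResidueField s)).hom.appTop this).comp hb
  let C := RigidNoeth.collapsed p π
  let V := RigidNoeth.agreeLocus π b
  have hsub : ∀ w, p w ∈ C → w ∈ V := by
    intro w hw
    obtain ⟨y, hy⟩ := hw
    have hab : π w = b w := by
      simp only [b, Scheme.Hom.comp_apply]
      rw [hy w rfl, hy (e (p w)) (hes _)]
    obtain ⟨U, hwU, hU⟩ := RigidNoeth.exists_agree_nhd p π b w hab (fun n => by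
      obtain ⟨r, hr⟩ := RigidNoeth.exists_factor_nbhd p π (p w) (hh0 _) ⟨y, hy⟩ n
      have h2 : RigidNoeth.nbhdι W.left (p w) n ≫ e ≫ π = r := by
        have hw' : (RigidNoeth.nbhdι W.left (p w) n ≫ e) ≫ p = 𝟙 _ ≫ RigidNoeth.nbhdι W.left (p w) n := by simp [he]
        have := congrArg (pullback.lift (RigidNoeth.nbhdι W.left (p w) n ≫ e) (𝟙 _) hw' ≫ ·) hr
        simpa [pullback.lift_fst_assoc, pullback.lift_snd_assoc] using this
      simp only [b]
      rw [hr, pullback.condition_assoc, h2])
    exact Opens.mem_sSup.mpr ⟨U, hU, hwU⟩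
  -- the closed agreement set
  let L := pullback.lift π b hag
  let A : Set ↥(pullback X.hom W.hom) := L ⁻¹' Set.range (pullback.diagonal g)
  have hA : IsClosed A := (pullback.diagonal g).isClosedEmbedding.isClosed_range.preimage L.continuous
  have hAeq : ∀ w ∈ A, π w = b w := by
    rintro w ⟨z, hz⟩
    have h1 : π w = z := by
      rw [show π = L ≫ pullback.fst g g from (pullback.lift_fst _ _ _).symm, Scheme.Hom.comp_apply, ← hz,
        ← Scheme.Hom.comp_apply, pullback.diagonal_fst]
      rfl
    have h2 : b w = z := by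
      rw [show b = L ≫ pullback.snd g g from (pullback.lift_snd _ _ _).symm, Scheme.Hom.comp_apply, ← hz,
        ← Scheme.Hom.comp_apply, pullback.diagonal_snd]
      rfl
    rw [h1, h2]
  have hVA : (V : Set ↥(pullback X.hom W.hom)) ⊆ A := by
    intro w hw
    refine ⟨π w, ?_⟩
    have ee : V.ι ≫ L = (V.ι ≫ π) ≫ pullback.diagonal g := by
      apply pullback.hom_ext
      · simp [L, pullback.lift_fst]
      · simpa [L, pullback.lift_snd] using (RigidNoeth.agreeLocus_eq π b).symm
    exact (congr($ee ⟨w, hw⟩)).symm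
  have hCA : C = {s | ∀ w, p w = s → w ∈ A} := by
    ext s
    refine ⟨fun hs w hw => hVA (hsub w (hw ▸ hs)), fun hs => ⟨π (e s), fun w hw => ?_⟩⟩
    rw [hAeq w (hs w hw)]
    simp only [b, Scheme.Hom.comp_apply, hw]
  -- closed
  have hclosed : IsClosed C := by
    have : C = (p '' Aᶜ)ᶜ := by
      rw [hCA]; ext s
      simp only [Set.mem_setOf_eq, Set.mem_compl_iff, Set.mem_image, not_exists, not_and]
      exact ⟨fun h w hw hws => hw (h w hws), fun h w hws => by_contra fun hw => h w hw hws⟩
    rw [this]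
    exact (p.isOpenMap _ hA.isOpen_compl).isClosed_compl
  -- open
  have hopen : IsOpen C := by
    refine isOpen_iff_forall_mem_open.mpr fun s hs => ?_
    have : CompactSpace X.left := (quasiCompact_iff_compactSpace X.hom).mp inferInstance
    have : IsLocallyNoetherian X.left := LocallyOfFiniteType.isLocallyNoetherian X.hom
    have : IsNoetherian X.left := ⟨⟩
    have hfin : (irreducibleComponents X.left).Finite := NoetherianSpace.finite_irreducibleComponents
    choose T j hj hrange using fun Z : irreducibleComponents X.left =>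
      exists_over_range_eq (G := X) Z.1 (isClosed_of_mem_irreducibleComponents Z.1 Z.2)
    haveI := hj
    haveI : ∀ Z, GeometricallyIrreducible (T Z).hom := fun Z => by
      haveI : IrreducibleSpace (T Z).left := irreducibleSpace_of_range (j Z) (by rw [hrange]; exact Z.2.1)
      exact geometricallyIrreducible_of_isAlgClosed (T Z).hom
    haveI : ∀ Z, LocallyOfFiniteType (T Z).hom := fun Z => by
      rw [← Over.w (j Z)]; infer_instance
    let q := fun Z => pullback.snd (T Z).hom W.hom
    let u := fun Z => (j Z ▷ W).left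
    have huq : ∀ Z, u Z ≫ p = q Z := fun Z => congrArg CommaMorphism.left (whiskerRight_snd (j Z) W)
    have huf : ∀ Z, u Z ≫ pullback.fst X.hom W.hom = pullback.fst (T Z).hom W.hom ≫ (j Z).left :=
      fun Z => congrArg CommaMorphism.left (whiskerRight_fst (j Z) W)
    let U : irreducibleComponents X.left → Set W.left := fun Z => q Z '' (u Z ⁻¹' (V : Set ↥(pullback X.hom W.hom)))
    refine ⟨⋂ Z, U Z, ?_, ?_, ?_⟩
    · intro s' hs'
      rw [hCA]
      intro w hw
      obtain ⟨Z, hZ, hwZ⟩ : ∃ Z ∈ irreducibleComponents X.left, pullback.fst X.hom W.hom w ∈ Z :=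
        ⟨irreducibleComponent _, irreducibleComponent_mem_irreducibleComponents _, mem_irreducibleComponent⟩
      obtain ⟨v, hvV, hv⟩ := Set.mem_iInter.mp hs' ⟨Z, hZ⟩
      have hsub' : u ⟨Z, hZ⟩ '' (q ⟨Z, hZ⟩ ⁻¹' {s'}) ⊆ A := by
        rintro _ ⟨t, ht, rfl⟩
        have hirr : IsIrreducible (q ⟨Z, hZ⟩ ⁻¹' {s'}) :=
          (q ⟨Z, hZ⟩).isIrreducible_preimage (q ⟨Z, hZ⟩).isOpenMap isIrreducible_singleton
        have hcl := subset_closure_inter_of_isPreirreducible_of_isOpen hirr.2 (V.isOpen.preimage (u ⟨Z, hZ⟩).continuous) ⟨v, hv, hvV⟩ ht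
        exact closure_minimal (t := u ⟨Z, hZ⟩ ⁻¹' A) (fun x hx => hVA hx.2) (hA.preimage (u ⟨Z, hZ⟩).continuous) hcl
      obtain ⟨t, ht⟩ : pullback.fst X.hom W.hom w ∈ Set.range (j ⟨Z, hZ⟩).left := by rw [hrange]; exact hwZ
      have hr : w ∈ Set.range (u ⟨Z, hZ⟩) := by
        have H : IsPullback (u ⟨Z, hZ⟩) (pullback.fst (T ⟨Z, hZ⟩).hom W.hom) (pullback.fst X.hom W.hom) (j ⟨Z, hZ⟩).left :=
          isPullback_whiskerRight (j ⟨Z, hZ⟩) W
        obtain ⟨v, hv1, -⟩ := Scheme.exists_preimage_of_isPullback H w t ht.symm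
        exact ⟨v, hv1⟩
      obtain ⟨v', rfl⟩ := hr
      exact hsub' ⟨v', (congr($(huq ⟨Z, hZ⟩) v')).symm.trans hw, rfl⟩
    · haveI := hfin.to_subtype
      exact isOpen_iInter_of_finite fun Z => (q Z).isOpenMap _ (V.isOpen.preimage (u Z).continuous)
    · refine Set.mem_iInter.mpr fun Z => ?_
      obtain ⟨t, ht⟩ := (q Z).surjective s
      exact ⟨t, hsub _ (by rw [← Scheme.Hom.comp_apply, huq, ht]; exact hs), ht⟩
  -- nonempty
  let pt : ↥(Spec (CommRingCat.of k)) := IsLocalRing.closedPoint k
  have hs : w₀.left pt ∈ C := by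
    let s' := lift (𝟙 X) (toUnit X ≫ w₀)
    have H : IsPullback s'.left X.hom p w₀.left := by
      refine IsPullback.of_right ?_ ?_ (IsPullback.of_hasPullback X.hom W.hom)
      · have e1 : s'.left ≫ pullback.fst X.hom W.hom = 𝟙 _ := congrArg CommaMorphism.left (lift_fst (𝟙 X) _)
        have e2 : w₀.left ≫ W.hom = 𝟙 _ := Over.w w₀
        rw [e1, e2]
        exact IsPullback.of_id_fst
      · exact (congrArg CommaMorphism.left (lift_snd (𝟙 X) (toUnit X ≫ w₀))).trans rfl
    let c : Spec (CommRingCat.of k) ⟶ pullback W.hom Z.hom :=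
      pullback.lift w₀.left z₀.left ((Over.w w₀).trans (Over.w z₀).symm)
    refine ⟨c pt, fun x hx => ?_⟩
    obtain ⟨w, hw1, hw2⟩ := Scheme.exists_preimage_of_isPullback H x pt hx
    have e' : s'.left ≫ π = X.hom ≫ c := by
      apply pullback.hom_ext
      · simp only [Category.assoc, π, c, pullback.lift_fst]
        exact H.w
      · simp only [Category.assoc, c, π, pullback.lift_snd]
        exact congrArg CommaMorphism.left h
    rw [← hw1, ← Scheme.Hom.comp_apply, e']
    exact congrArg c hw2
  have hC : C = Set.univ := IsClopen.eq_univ (s := C) ⟨hclosed, hopen⟩ ⟨_, hs⟩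
  have hV : V = ⊤ := eq_top_iff.mpr fun w _ => hsub w (hC ▸ trivial)
  have hfinal : π = b := by
    have := RigidNoeth.agreeLocus_eq π b
    change V.ι ≫ π = V.ι ≫ b at this
    have hiso : IsIso V.ι := by rw [hV]; exact inferInstanceAs (IsIso (pullback X.hom W.hom).topIso.hom)
    exact (cancel_epi V.ι).mp this
  refine Over.OverMorphism.ext ?_
  have h2 := congrArg (· ≫ pullback.snd W.hom Z.hom) hfinal
  simp only [b, π, Category.assoc, pullback.lift_snd] at h2
  exact h2

end Groth.Agent.GrpSchLib.AntiAffineRigid
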