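import Groth.Agent.GrpSchLib.FrobKernel
import Groth.Agent.GrpSchLib.RedSubgroup
import Groth.Agent.GrpSchLib.ImageFactor
import Groth.Agent.GrpSchLib.AdjointQuot
import Groth.Agent.GrpSchLib.NormalQuot
import Groth.Agent.GrpSchLib.KernelGrp
import Mathlib.AlgebraicGeometry.Morphisms.FlatMono

/-! Anti-affine groups over a field are smooth. -/

universe u

open CategoryTheory Limits AlgebraicGeometry MonoidalCategory CartesianMonoidalCategory MonObj

set_option linter.style.haveILetI false

namespace Groth.Agent.GrpSchLib.AntiAffineSmooth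

open Kunneth Adjoint

theorem exists_factor {P I I' X : Scheme.{u}} (p : P ⟶ I) [Flat p] [Surjective p] [QuasiCompact p] (j : I ⟶ X)
    (j' : I' ⟶ X) [IsClosedImmersion j'] (a : P ⟶ I') (h : a ≫ j' = p ≫ j) : ∃ c : I ⟶ I', c ≫ j' = j := by
  let w := pullback.fst j j'
  let b := pullback.lift p a h.symm
  have hb : b ≫ w = p := pullback.lift_fst _ _ _
  haveI : Mono w := inferInstance
  haveI : EffectiveEpi p := inferInstance
  let s := EffectiveEpi.desc p b fun g₁ g₂ hg => by
    rw [← cancel_mono w, Category.assoc, Category.assoc, hb, hg]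
  have hs : p ≫ s = b := EffectiveEpi.fac p _ _
  have hsw : s ≫ w = 𝟙 I := by rw [← cancel_epi p, reassoc_of% hs, hb, Category.comp_id]
  refine ⟨s ≫ pullback.snd j j', ?_⟩
  rw [Category.assoc, ← pullback.condition, reassoc_of% hsw]

/-- The kernel of a closed immersion in the local ring at a point of the target. -/
noncomputable def kerAt {X P : Scheme.{u}} (j : P ⟶ X) {pt : X} (x : P) (hx : j x = pt) : Ideal (X.presheaf.stalk pt) :=
  RingHom.ker ((X.presheaf.stalkCongr (.of_eq hx)).inv ≫ j.stalkMap x).hom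

theorem kerAt_comp {X P Q : Scheme.{u}} (j' : Q ⟶ X) [IsClosedImmersion j'] (c : P ⟶ Q) [IsClosedImmersion c] {pt : X}
    (x : P) (hx : (c ≫ j') x = pt) (hx' : j' (c x) = pt) :
    kerAt j' (c x) hx' ≤ kerAt (c ≫ j') x hx ∧
      (kerAt (c ≫ j') x hx ≤ kerAt j' (c x) hx' → (c.stalkMap x).hom.Flat) := by
  subst hx'
  have hj : Function.Surjective (j'.stalkMap (c x)) := j'.stalkMap_surjective _
  have hc : Function.Surjective (c.stalkMap x) := c.stalkMap_surjective _
  have e1 : ∀ z, z ∈ kerAt j' (c x) rfl ↔ j'.stalkMap (c x) z = 0 := fun z => by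
    simp [kerAt, RingHom.mem_ker, TopCat.Presheaf.stalkCongr]
  have e2 : ∀ z, z ∈ kerAt (c ≫ j') x hx ↔ c.stalkMap x (j'.stalkMap (c x) z) = 0 := fun z => by
    simp [kerAt, RingHom.mem_ker, TopCat.Presheaf.stalkCongr, Scheme.Hom.stalkMap_comp]
  refine ⟨fun z hz => ?_, fun hle => RingHom.Flat.of_bijective ⟨?_, hc⟩⟩
  · rw [e2, (e1 z).mp hz, map_zero]
  · refine (injective_iff_map_eq_zero _).mpr fun y hy => ?_
    obtain ⟨z, rfl⟩ := hj y
    exact (e1 z).mp (hle ((e2 z).mpr hy))

variable {k : Type u} [Field k] {G : Over (Spec (CommRingCat.of k))} [GrpObj G] [LocallyOfFiniteType G.hom]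
  [QuasiCompact G.hom]

/-- A closed subgroup of a connected group containing the neighbourhoods of the unit is everything. -/
theorem isIso_of_nbhds [ConnectedSpace G.left] (D : Nbhds G η[G]) {I : Over (Spec (CommRingCat.of k))} [GrpObj I]
    (j : I ⟶ G) [IsMonHom j] [IsClosedImmersion j.left]
    (h : ∀ n, ∃ g : D.N n ⟶ I, g ≫ j = D.j n ≫ D.uι) : IsIso j := by
  haveI := AntiAffine.isSeparated_grp G
  haveI : Mono j := (Over.forget _).mono_of_mono_map (inferInstanceAs (Mono j.left))
  let W : Over (Spec (CommRingCat.of k)) := Over.mk (pullback.fst D.uι.left j.left ≫ D.U.hom)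
  let w : W ⟶ D.U := Over.homMk (pullback.fst D.uι.left j.left) rfl
  let wI : W ⟶ I := Over.homMk (pullback.snd D.uι.left j.left) (by
    show pullback.snd D.uι.left j.left ≫ I.hom = pullback.fst D.uι.left j.left ≫ D.U.hom
    rw [← Over.w j, ← pullback.condition_assoc, Over.w D.uι])
  have hw : w ≫ D.uι = wI ≫ j := Over.OverMorphism.ext pullback.condition
  haveI : IsClosedImmersion w.left := inferInstanceAs (IsClosedImmersion (pullback.fst D.uι.left j.left))
  haveI : IsIso w.left := by
    refine IsClosedImmersion.isIso_of_injective_of_isAffine ((injective_iff_map_eq_zero _).mpr fun a ha => ?_)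
    refine D.dense a fun n => ?_
    obtain ⟨g, hg⟩ := h n
    let l : D.N n ⟶ W := Over.homMk (pullback.lift (D.j n).left g.left (congrArg CommaMorphism.left hg.symm)) (by
      show pullback.lift (D.j n).left g.left _ ≫ pullback.fst D.uι.left j.left ≫ D.U.hom = _
      rw [pullback.lift_fst_assoc, Over.w (D.j n)])
    have hl : l ≫ w = D.j n := Over.OverMorphism.ext (pullback.lift_fst _ _ _)
    rw [← hl, ← ev_ev, show ev w a = 0 from ha, map_zero]
  haveI : IsIso w := by
    haveI : IsIso ((Over.forget _).map w) := inferInstanceAs (IsIso w.left)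
    exact isIso_of_reflects_iso w (Over.forget _)
  have hu : inv w ≫ wI ≫ j = D.uι := by rw [← hw, IsIso.inv_hom_id_assoc]
  let M : D.U ⊗ D.U ⟶ G := (D.uι ⊗ₘ D.uι) ≫ μ[G]
  let a : D.U ⊗ D.U ⟶ I := (fst D.U D.U ≫ inv w ≫ wI) * (snd D.U D.U ≫ inv w ≫ wI)
  have ha : a ≫ j = M := by
    simp only [a, M]
    simp only [MonObj.mul_comp, Category.assoc, hu]
    rw [Hom.mul_def, lift_fst_comp_snd_comp]
  haveI := surjective_mul_open D
  haveI : Flat M.left := by
    haveI : Flat μ[G].left := by
      rw [mul_eq_id_whiskerRight]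
      exact flat_whiskerRight_mul (𝟙 G)
    haveI : IsOpenImmersion (D.uι ⊗ₘ D.uι).left := by
      have e : (D.uι ⊗ₘ D.uι).left = pullback.map D.U.hom D.U.hom G.hom G.hom D.uι.left D.uι.left (𝟙 _)
          (by simp) (by simp) := by
        apply pullback.hom_ext
        · rw [pullback.lift_fst]
          exact congrArg (fun r : _ ⟶ G => r.left) (tensorHom_fst D.uι D.uι)
        · rw [pullback.lift_snd]
          exact congrArg (fun r : _ ⟶ G => r.left) (tensorHom_snd D.uι D.uι)
      rw [e]
      infer_instance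
    show Flat ((D.uι ⊗ₘ D.uι).left ≫ μ[G].left)
    infer_instance
  haveI : IsAffine (D.U ⊗ D.U).left := inferInstanceAs (IsAffine (pullback D.U.hom D.U.hom))
  haveI : QuasiCompact (M.left ≫ G.hom) := by rw [Over.w M]; infer_instance
  haveI : QuasiCompact M.left := QuasiCompact.of_comp M.left G.hom
  obtain ⟨c, hc⟩ := exists_factor M.left (𝟙 G.left) j.left a.left (by
    rw [← Over.comp_left, ha, Category.comp_id])
  haveI : IsSplitEpi j.left := ⟨⟨⟨c, hc⟩⟩⟩
  haveI : IsIso j.left := isIso_of_mono_of_isSplitEpi _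
  haveI : IsIso ((Over.forget _).map j) := inferInstanceAs (IsIso j.left)
  exact isIso_of_reflects_iso j (Over.forget _)

/-- An anti-affine group over a perfect field of positive characteristic is reduced. -/
theorem isReduced_charP [PerfectField k] (p : ℕ) [Fact p.Prime] [CharP k p]
    (hG : Function.Bijective G.hom.appTop) : IsReduced G.left := by
  classical
  haveI : ExpChar k p := ExpChar.prime Fact.out
  haveI := AntiAffine.connectedSpace_of_bijective hG
  haveI := AntiAffine.isSeparated_grp G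
  haveI : IsCommMonObj G := ⟨by
    have h := AntiAffine.commute hG (𝟙 G) ((Category.comp_id _).trans (MonObj.one_eq_one G)) (snd G G) (fst G G)
    simp only [Category.comp_id] at h
    rw [show (β_ G G).hom = lift (snd G G) (fst G G) by ext <;> simp, ← Hom.mul_def, h, Hom.mul_def, lift_fst_snd,
      Category.id_comp]⟩
  obtain ⟨H, _, i, hi, hic, hred, hsurj, hlft, hqc⟩ := RedSubgroup.exists_redSubgroup G
  haveI := hi; haveI := hic; haveI := hred; haveI := hlft; haveI := hqc; haveI := hsurj
  obtain ⟨D⟩ := exists_nbhds G η[G]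
  choose K strK κ hκ hmono haff hlftK hsub hfro huniv hN using fun m => FrobKernel.exists_kernel p m G D
  haveI := hκ; haveI := hmono; haveI := haff; haveI := hlftK
  haveI : ∀ m, QuasiCompact (H ⊗ K m).hom := fun m =>
    inferInstanceAs (QuasiCompact (pullback.fst H.hom (K m).hom ≫ H.hom))
  haveI : ∀ m, LocallyOfFiniteType (H ⊗ K m).hom := fun m =>
    inferInstanceAs (LocallyOfFiniteType (pullback.fst H.hom (K m).hom ≫ H.hom))
  let f : ∀ m, H ⊗ K m ⟶ G := fun m => lift (fst H (K m) ≫ i) (snd H (K m) ≫ κ m) ≫ μ[G]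
  have hf : ∀ m, IsMonHom (f m) := fun m => inferInstance
  choose I strI pI jI hpI hjI hpj hjc hflat hps hlftI hqcI using fun m => (haveI := hf m; ImageFactor.exists_image (f m))
  haveI := hjI; haveI := hjc; haveI := hflat; haveI := hps; haveI := hlftI; haveI := hqcI
  haveI : ∀ m, IsSeparated (I m).hom := fun m => AntiAffine.isSeparated_grp (I m)
  haveI : ∀ m, QuasiCompact (pI m).left := fun m => by
    haveI : QuasiCompact ((pI m).left ≫ (I m).hom) := by rw [Over.w (pI m)]; infer_instance
    exact QuasiCompact.of_comp (pI m).left (I m).hom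
  have hinc : ∀ m m', m ≤ m' → ∃ c : I m ⟶ I m', c ≫ jI m' = jI m := by
    intro m m' hmm'
    obtain ⟨g, hg⟩ := huniv m' (K m) η[K m]
      (FrobKernel.frobby_mono (Nat.pow_le_pow_right (Fact.out : p.Prime).pos hmm') (hfro m)) (κ m) (IsMonHom.one_hom _)
    obtain ⟨c, hc⟩ := exists_factor (pI m).left (jI m).left (jI m').left
      (lift (fst H (K m)) (snd H (K m) ≫ g) ≫ pI m').left (by
      rw [← Over.comp_left, ← Over.comp_left, Category.assoc, hpj, hpj]
      congr 1
      simp only [f, ← Category.assoc]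
      congr 1
      ext <;> simp [hg])
    exact ⟨Over.homMk c (by rw [← Over.w (jI m'), reassoc_of% hc, Over.w (jI m)]), Over.OverMorphism.ext hc⟩
  have hjs : ∀ m, Surjective (jI m).left := fun m => ⟨fun x => by
    obtain ⟨y, rfl⟩ := i.left.surjective x
    refine ⟨((lift (𝟙 H) 1 : H ⟶ H ⊗ K m) ≫ pI m).left y, ?_⟩
    rw [← Scheme.Hom.comp_apply, ← Over.comp_left, Category.assoc, hpj]
    simp [f, ← Hom.mul_def, MonObj.one_comp]⟩
  haveI := hjs
  haveI : IrreducibleSpace G.left := by
    haveI := geometricallyIrreducible (G := G)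
    exact GeometricallyIrreducible.irreducibleSpace_of_subsingleton G.hom
  let gη : G.left := genericPoint G.left
  haveI : IsLocallyNoetherian G.left := LocallyOfFiniteType.isLocallyNoetherian G.hom
  haveI : IsArtinianRing (G.left.presheaf.stalk gη) :=
    H9Misc.RatFunLib.isArtinianRing_stalk gη fun y hy =>
      (Specializes.antisymm hy ((genericPoint_spec G.left).specializes (by trivial))).eq
  choose x hx using fun m => (jI m).left.surjective gη
  obtain ⟨𝔞, ⟨m₀, rfl⟩, hmin⟩ := set_has_minimal_iff_artinian.mpr ‹_›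
    (Set.range fun m => kerAt (jI m).left (x m) (hx m)) ⟨_, 0, rfl⟩
  have hstab : ∀ m, m₀ ≤ m → ∃ c : I m ⟶ I m₀, c ≫ jI m₀ = jI m := by
    intro m hm
    obtain ⟨c, hc⟩ := hinc m₀ m hm
    haveI : IsMonHom c := by
      haveI : Mono (jI m) := (Over.forget _).mono_of_mono_map (inferInstanceAs (Mono (jI m).left))
      exact
      { one_hom := by rw [← cancel_mono (jI m), Category.assoc, hc, IsMonHom.one_hom, IsMonHom.one_hom]
        mul_hom := by
          rw [← cancel_mono (jI m), Category.assoc, hc, IsMonHom.mul_hom, Category.assoc, IsMonHom.mul_hom,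
            MonoidalCategory.tensorHom_comp_tensorHom_assoc, hc] }
    have hcl : c.left ≫ (jI m).left = (jI m₀).left := congrArg CommaMorphism.left hc
    haveI : IsClosedImmersion (c.left ≫ (jI m).left) := by rw [hcl]; infer_instance
    haveI : IsClosedImmersion c.left := IsClosedImmersion.of_comp c.left (jI m).left
    have hcx : c.left (x m₀) = x m := (jI m).left.isClosedEmbedding.injective (by
      rw [← Scheme.Hom.comp_apply, hcl, hx, hx])
    have key : ∀ (j : (I m₀).left ⟶ G.left), j = c.left ≫ (jI m).left → ∀ h, kerAt j (x m₀) h =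
        kerAt (c.left ≫ (jI m).left) (x m₀) (by rw [hcl, hx]) := by rintro _ rfl _; rfl
    have key2 : ∀ (y : (I m).left), y = c.left (x m₀) → ∀ h, kerAt (jI m).left y h =
        kerAt (jI m).left (c.left (x m₀)) (by rw [hcx, hx]) := by rintro _ rfl _; rfl
    obtain ⟨hle, hfl⟩ := kerAt_comp (jI m).left c.left (x m₀) (pt := gη) (by rw [hcl, hx]) (by rw [hcx, hx])
    rw [← key _ hcl.symm (hx m₀), ← key2 _ hcx.symm (hx m)] at hle hfl
    haveI : Flat (I m₀).hom := inferInstance
    haveI : Flat c.left := S5336.result k (I m₀) (I m) c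
      ⟨x m₀, hfl (eq_of_le_of_not_lt hle (hmin _ ⟨m, rfl⟩)).ge⟩
    haveI : LocallyOfFiniteType (c.left ≫ (I m).hom) := by rw [Over.w c]; infer_instance
    haveI : LocallyOfFiniteType c.left := locallyOfFiniteType_of_comp c.left (I m).hom
    haveI : IsLocallyNoetherian (I m).left := LocallyOfFiniteType.isLocallyNoetherian (I m).hom
    haveI : LocallyOfFinitePresentation c.left := inferInstance
    haveI : IsOpenImmersion c.left := IsOpenImmersion.of_flat_of_mono c.left
    haveI : Surjective c.left := ⟨fun y => by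
      obtain ⟨z, hz⟩ := (jI m₀).left.surjective ((jI m).left y)
      exact ⟨z, (jI m).left.isClosedEmbedding.injective (by rw [← Scheme.Hom.comp_apply, hcl, hz])⟩⟩
    haveI : IsIso c.left := (isIso_iff_isOpenImmersion_and_surjective c.left).mpr ⟨inferInstance, inferInstance⟩
    haveI : IsIso ((Over.forget _).map c) := inferInstanceAs (IsIso c.left)
    haveI : IsIso c := isIso_of_reflects_iso c (Over.forget _)
    exact ⟨inv c, by rw [IsIso.inv_comp_eq, hc]⟩
  haveI : IsIso (jI m₀) := isIso_of_nbhds D (jI m₀) fun n => by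
    obtain ⟨g, hg⟩ := hN (max m₀ (n + 1)) n
      ((le_max_right m₀ (n + 1)).trans (Nat.lt_pow_self (Fact.out : p.Prime).one_lt).le)
    obtain ⟨c, hc⟩ := hstab (max m₀ (n + 1)) (le_max_left _ _)
    refine ⟨lift 1 g ≫ pI _ ≫ c, ?_⟩
    rw [Category.assoc, Category.assoc, hc, hpj]
    simp [f, ← Hom.mul_def, MonObj.one_comp, hg]
  haveI : IsIso i := isIso_of_nbhds D i fun l => by
    obtain ⟨m, hm, hlm⟩ : ∃ m, m₀ ≤ m ∧ l + 1 ≤ p ^ m :=
      ⟨max m₀ (l + 1), le_max_left _ _, (le_max_right m₀ (l + 1)).trans (Nat.lt_pow_self (Fact.out : p.Prime).one_lt).le⟩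
    haveI : IsIso (jI m) := by
      obtain ⟨c, hc⟩ := hinc m₀ m hm
      haveI : IsSplitEpi (jI m) := ⟨⟨⟨inv (jI m₀) ≫ c, by rw [Category.assoc, hc, IsIso.inv_hom_id]⟩⟩⟩
      haveI : Mono (jI m) := (Over.forget _).mono_of_mono_map (inferInstanceAs (Mono (jI m).left))
      exact isIso_of_mono_of_isSplitEpi _
    haveI := hf m
    -- the multiplication map is faithfully flat
    haveI hffl : Flat (f m).left := by
      rw [← hpj, Over.comp_left]
      haveI : IsIso (jI m).left := inferInstanceAs (IsIso ((Over.forget _).map (jI m)))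
      infer_instance
    haveI hfsu : Surjective (f m).left := by
      rw [← hpj, Over.comp_left]
      infer_instance
    -- the intersection with the reduced subgroup
    let M : Over (Spec (CommRingCat.of k)) := Over.mk (pullback.fst (κ m).left i.left ≫ (K m).hom)
    let a : M ⟶ K m := Over.homMk (pullback.fst (κ m).left i.left) rfl
    let b : M ⟶ H := Over.homMk (pullback.snd (κ m).left i.left) (by
      show pullback.snd (κ m).left i.left ≫ H.hom = pullback.fst (κ m).left i.left ≫ (K m).hom
      rw [← Over.w i, ← pullback.condition_assoc, Over.w (κ m)])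
    have hab : a ≫ κ m = b ≫ i := Over.OverMorphism.ext pullback.condition
    haveI : IsClosedImmersion a.left := inferInstanceAs (IsClosedImmersion (pullback.fst (κ m).left i.left))
    haveI : Mono a := (Over.forget _).mono_of_mono_map (inferInstanceAs (Mono a.left))
    have hmem : ∀ (T : Over (Spec (CommRingCat.of k))) (t : T ⟶ K m) (s : T ⟶ H), t ≫ κ m = s ≫ i →
        ∃ l : T ⟶ M, l ≫ a = t := fun T t s h =>
      ⟨Over.homMk (pullback.lift t.left s.left (congrArg CommaMorphism.left h)) (by
        show pullback.lift t.left s.left _ ≫ pullback.fst (κ m).left i.left ≫ (K m).hom = _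
        rw [pullback.lift_fst_assoc, Over.w t]), Over.OverMorphism.ext (pullback.lift_fst _ _ _)⟩
    obtain ⟨e, he⟩ := hmem _ η[K m] η[H] (by rw [IsMonHom.one_hom, IsMonHom.one_hom])
    obtain ⟨μ', hμ'⟩ := hmem (M ⊗ M) ((fst M M ≫ a) * (snd M M ≫ a)) ((fst M M ≫ b) * (snd M M ≫ b)) (by
      simp only [MonObj.mul_comp, Category.assoc, hab])
    obtain ⟨v, hv⟩ := hmem M a⁻¹ b⁻¹ (by simp only [GrpObj.inv_comp, hab])
    obtain ⟨strM, haM⟩ := exists_grpObj_of_mono a e he μ' hμ' v hv
    letI := strM
    haveI := haM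
    have hnor : AlgGrp.IsNormalHom a := fun T g n => ⟨n, by
      have : g * (n ≫ a) * g⁻¹ = n ≫ a := by
        haveI : Mono (κ m) := hmono m
        rw [← cancel_mono (κ m)]
        simp only [MonObj.mul_comp, GrpObj.inv_comp]
        rw [mul_comm (g ≫ κ m), mul_inv_cancel_right]
      exact this⟩
    obtain ⟨Q, _, π, hπ, hQa, hQlft, -, -, hker⟩ := NormalQuot.exists_quot (K m) M a hnor
    haveI := hπ; haveI := hQa; haveI := hQlft
    haveI : QuasiCompact Q.hom := inferInstance
    haveI : IsSeparated Q.hom := inferInstance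
    obtain ⟨N, _, n, -, -, -, hkn⟩ := exists_kernel (f m)
    have hn0 : n ≫ snd H (K m) ≫ π = toUnit N ≫ η[Q] := by
      have h1 : (n ≫ fst H (K m) ≫ i) * (n ≫ snd H (K m) ≫ κ m) = 1 := by
        rw [← MonObj.comp_mul, Hom.mul_def]
        exact hkn.w
      obtain ⟨l, hl⟩ := hmem N (n ≫ snd H (K m)) (n ≫ fst H (K m))⁻¹ (by
        rw [GrpObj.inv_comp, Category.assoc, Category.assoc]
        exact eq_inv_of_mul_eq_one_right h1)
      rw [← Category.assoc, ← hl, Category.assoc, hker.w, ← Category.assoc, comp_toUnit]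
    obtain ⟨φ, _, hφ, -⟩ := S3280.result k (H ⊗ K m) N G Q (f m) n hkn (snd H (K m) ≫ π) hn0
    have hφc : φ = 1 := by
      rw [AntiAffine.eq_const_of_isAffine hG φ η[G], IsMonHom.one_hom]
      rfl
    have hπ1 : π = 1 := by
      have := congrArg (lift (1 : K m ⟶ H) (𝟙 (K m)) ≫ ·) hφ
      simp only [hφc, MonObj.comp_one, lift_snd_assoc, Category.id_comp] at this
      exact this.symm
    let r : K m ⟶ M := hker.lift (𝟙 _) (toUnit _) (by rw [Category.id_comp, hπ1]; rfl)
    have hr : r ≫ a = 𝟙 _ := hker.lift_fst _ _ _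
    obtain ⟨g, hg⟩ := hN m l hlm
    exact ⟨g ≫ r ≫ b, by rw [Category.assoc, Category.assoc, ← hab, reassoc_of% hr, hg]⟩
  haveI : IsIso i.left := inferInstanceAs (IsIso ((Over.forget _).map i))
  exact isReduced_of_isOpenImmersion (inv i.left)

end Groth.Agent.GrpSchLib.AntiAffineSmooth
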