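import Mathlib

/-! Flatness descends along an injective ring map out of an Artinian local ring. -/

universe u

open scoped TensorProduct

namespace Groth.Agent.GrpSchLib.ArtinDescentFlat

variable {A : Type u} [CommRing A] [IsArtinianRing A] [IsLocalRing A]

theorem flat_of_baseChange {B : Type u} [CommRing B] [Algebra A B] (hinj : Function.Injective (algebraMap A B))
    (M : Type u) [AddCommGroup M] [Module A M] [Module.Flat B (B ⊗[A] M)] : Module.Flat A M := by
  classical
  let m := IsLocalRing.maximalIdeal A
  letI : Field (A ⧸ m) := Ideal.Quotient.field m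
  let Q := M ⧸ (m • ⊤ : Submodule A M)
  obtain ⟨⟨ι, b⟩⟩ := Module.Free.exists_basis (R := A ⧸ m) (M := Q)
  choose e he using fun i => Submodule.Quotient.mk_surjective (m • ⊤ : Submodule A M) (b i)
  obtain ⟨N, hN⟩ := IsArtinianRing.isNilpotent_jacobson_bot (R := A)
  rw [IsLocalRing.jacobson_eq_maximalIdeal ⊥ bot_ne_top, Ideal.zero_eq_bot] at hN
  change m ^ N = ⊥ at hN
  let n : Ideal B := m.map (algebraMap A B)
  let g : (A ⧸ m) →ₗ[A] B ⧸ n := Submodule.liftQ _ ((Ideal.Quotient.mkₐ A n).toLinearMap ∘ₗ Algebra.linearMap A B)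
    (fun a ha => Ideal.Quotient.eq_zero_iff_mem.mpr (Ideal.mem_map_of_mem _ ha))
  let Φ : ι → (B ⊗[A] M) →ₗ[B] B ⧸ n := fun l =>
    LinearMap.liftBaseChange B (g ∘ₗ (b.coord l).restrictScalars A ∘ₗ (m • ⊤ : Submodule A M).mkQ)
  have hΦ : ∀ l i, Φ l (1 ⊗ₜ e i) = if i = l then 1 else 0 := by
    intro l i
    simp only [Φ, LinearMap.liftBaseChange_tmul, one_smul, LinearMap.comp_apply,
      LinearMap.restrictScalars_apply, Module.Basis.coord_apply]
    rw [show (m • ⊤ : Submodule A M).mkQ (e i) = b i from he i, Module.Basis.repr_self, Finsupp.single_apply]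
    split
    · show Ideal.Quotient.mk n (algebraMap A B 1) = 1
      rw [map_one, map_one]
    · exact map_zero g
  have hli : LinearIndependent A e := by
    rw [linearIndependent_iff']
    intro s a hsum i hi
    let f : s → B := fun i => algebraMap A B (a i)
    let x : s → B ⊗[A] M := fun i => 1 ⊗ₜ e i
    have h0 : ∑ i, f i • x i = 0 := by
      have := congrArg (fun z => (1 : B) ⊗ₜ[A] z) hsum
      simp only [TensorProduct.tmul_sum, TensorProduct.tmul_zero] at this
      rw [← Finset.sum_coe_sort s] at this
      refine Eq.trans (Finset.sum_congr rfl fun i _ => ?_) this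
      rw [TensorProduct.tmul_smul, algebraMap_smul]
    obtain ⟨κ, c, y, hxy, hc⟩ := Module.Flat.isTrivialRelation_of_sum_smul_eq_zero h0
    choose d hd using fun (j : Fin κ) (l : s) => Ideal.Quotient.mk_surjective (Φ l (y j))
    let C : Matrix s s B := Matrix.of c * Matrix.of d
    have hC : C.map (Ideal.Quotient.mk n) = 1 := by
      refine Matrix.ext fun i l => ?_
      have h1 := congrArg (Φ l) (hxy i)
      rw [map_sum, hΦ] at h1
      rw [Matrix.map_apply, show (1 : Matrix s s (B ⧸ n)) i l = if (i : ι) = l then 1 else 0 by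
        simp [Matrix.one_apply, Subtype.coe_inj]]
      rw [h1]
      simp only [C, Matrix.mul_apply, Matrix.of_apply, map_sum, map_mul, hd]
      exact Finset.sum_congr rfl fun j _ => by
        rw [map_smul, Algebra.smul_def]
        rfl
    have hdet : IsUnit C.det := by
      have h2 : C.det - 1 ∈ n := by
        rw [← Ideal.Quotient.eq_zero_iff_mem, map_sub, map_one, RingHom.map_det, RingHom.mapMatrix_apply, hC,
          Matrix.det_one, sub_self]
      have h3 : IsNilpotent (C.det - 1) := ⟨N, by
        have := Ideal.pow_mem_pow h2 N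
        rwa [← Ideal.map_pow, hN, Ideal.map_bot, Ideal.mem_bot] at this⟩
      have := h3.isUnit_one_add
      rwa [add_sub_cancel] at this
    have hf : Matrix.vecMul f C = 0 := by
      rw [← Matrix.vecMul_vecMul, show Matrix.vecMul f (Matrix.of c) = 0 from funext hc, Matrix.zero_vecMul]
    have hf0 := congrArg (fun v => Matrix.vecMul v C⁻¹) hf
    simp only [Matrix.vecMul_vecMul, Matrix.mul_nonsing_inv C hdet, Matrix.vecMul_one, Matrix.zero_vecMul] at hf0
    have := congrFun hf0 ⟨i, hi⟩
    exact hinj (this.trans (map_zero _).symm)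
  have hspan : ⊤ ≤ Submodule.span A (Set.range e) := by
    have h1 : ∀ z : M, z ∈ Submodule.span A (Set.range e) ⊔ (m • ⊤ : Submodule A M) := by
      intro z
      choose r hr using fun i => Ideal.Quotient.mk_surjective (b.repr (Submodule.Quotient.mk z) i)
      let w := ∑ i ∈ (b.repr (Submodule.Quotient.mk z : Q)).support, r i • e i
      have hw : w ∈ Submodule.span A (Set.range e) :=
        Submodule.sum_mem _ fun i _ => Submodule.smul_mem _ _ (Submodule.subset_span ⟨i, rfl⟩)
      refine Submodule.mem_sup.mpr ⟨w, hw, z - w, ?_, by abel⟩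
      rw [← Submodule.Quotient.mk_eq_zero, Submodule.Quotient.mk_sub, sub_eq_zero]
      conv_lhs => rw [← b.linearCombination_repr (Submodule.Quotient.mk z)]
      rw [Finsupp.linearCombination_apply, Finsupp.sum, show (Submodule.Quotient.mk w : Q) =
        ∑ i ∈ (b.repr (Submodule.Quotient.mk z : Q)).support, Submodule.Quotient.mk (r i • e i) from map_sum (Submodule.mkQ _) _ _]
      refine Finset.sum_congr rfl fun i _ => ?_
      rw [Submodule.Quotient.mk_smul, he, ← hr i]
      rfl
    have h2 : ∀ j : ℕ, (⊤ : Submodule A M) ≤ Submodule.span A (Set.range e) ⊔ m ^ j • ⊤ := by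
      intro j
      induction j with
      | zero => simp
      | succ j ih =>
        refine ih.trans (sup_le le_sup_left ?_)
        calc m ^ j • (⊤ : Submodule A M) ≤ m ^ j • (Submodule.span A (Set.range e) ⊔ m • ⊤) :=
              Submodule.smul_mono le_rfl fun z _ => h1 z
          _ = m ^ j • Submodule.span A (Set.range e) ⊔ m ^ (j + 1) • ⊤ := by
              rw [Submodule.smul_sup, pow_succ, Submodule.mul_smul]
          _ ≤ _ := sup_le_sup Submodule.smul_le_right le_rfl
    simpa [hN] using h2 N
  haveI : Module.Free A M := Module.Free.of_basis (Module.Basis.mk hli hspan)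
  infer_instance

end Groth.Agent.GrpSchLib.ArtinDescentFlat
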