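import Groth.Agent.GrpSchLib.AffineHopf
import Mathlib.RingTheory.Bialgebra.TensorProduct

/-! Points of the base change of an affine group scheme with values in an algebra over the new base. -/

open CategoryTheory CategoryTheory.Limits MonoidalCategory CartesianMonoidalCategory MonObj GrpObj AlgebraicGeometry
open TensorProduct WithConv

universe u

namespace Groth.Agent.GrpSchLib.AffineHopf

variable {R S : Type u} [CommRing R] [CommRing S] [Algebra R S]

local notation "bcH" => Spec.map (CommRingCat.ofHom (algebraMap R S))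

section Alg

variable {A C : Type u} [CommRing A] [CommRing C] [Algebra R A] [Algebra S C] [Algebra R C] [IsScalarTower R S C]

/-- The point of the base change given by an algebra map over the old base. -/
noncomputable def toBc (f : A →ₐ[R] C) : sp S C ⟶ Red.bc bcH (sp R A) :=
  Over.homMk (pullback.lift (Spec.map (CommRingCat.ofHom f.toRingHom)) (Spec.map (CommRingCat.ofHom (algebraMap S C)))
    (by
      show Spec.map _ ≫ Spec.map _ = Spec.map _ ≫ Spec.map _
      rw [← Spec.map_comp, ← Spec.map_comp, ← CommRingCat.ofHom_comp, ← CommRingCat.ofHom_comp,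
        ← IsScalarTower.algebraMap_eq]
      exact congrArg (fun φ => Spec.map (CommRingCat.ofHom φ)) f.comp_algebraMap))
    (pullback.lift_snd _ _ _)

theorem toBc_fst (f : A →ₐ[R] C) :
    (toBc (S := S) f).left ≫ pullback.fst _ _ = Spec.map (CommRingCat.ofHom f.toRingHom) :=
  pullback.lift_fst _ _ _

theorem toBc_injective {f g : A →ₐ[R] C} (h : toBc (S := S) f = toBc (S := S) g) : f = g := by
  have h2 := congrArg (fun x : sp S C ⟶ Red.bc bcH (sp R A) => x.left ≫ pullback.fst _ _) h
  simp only [toBc_fst] at h2
  exact AlgHom.coe_ringHom_injective (congrArg CommRingCat.Hom.hom (Spec.map_injective h2))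

theorem exists_eq_toBc (x : sp S C ⟶ Red.bc bcH (sp R A)) : ∃ f : A →ₐ[R] C, x = toBc f := by
  let g := Spec.preimage (x.left ≫ pullback.fst _ _)
  have hg : Spec.map g = x.left ≫ pullback.fst _ _ := Spec.map_preimage _
  have hw : CommRingCat.ofHom (algebraMap R A) ≫ g = CommRingCat.ofHom (algebraMap R C) := by
    apply Spec.map_injective
    have e1 : x.left ≫ pullback.snd _ _ = Spec.map (CommRingCat.ofHom (algebraMap S C)) := Over.w x
    rw [Spec.map_comp, hg]
    refine (Category.assoc _ _ _).trans ?_
    refine (congrArg (x.left ≫ ·) pullback.condition).trans ?_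
    refine (Category.assoc _ _ _).symm.trans ?_
    refine (congrArg (· ≫ _) e1).trans ?_
    refine (Spec.map_comp _ _).symm.trans (congrArg Spec.map ?_)
    rw [← CommRingCat.ofHom_comp, ← IsScalarTower.algebraMap_eq]
  let f : A →ₐ[R] C := { g.hom with commutes' := fun r => congrArg (fun φ => φ.hom r) hw }
  refine ⟨f, Over.OverMorphism.ext (pullback.hom_ext ?_ ?_)⟩
  · rw [toBc_fst, ← hg]; rfl
  · refine (Over.w x).trans ?_
    exact (pullback.lift_snd _ _ _).symm

theorem spMap_comp_toBc {D : Type u} [CommRing D] [Algebra S D] [Algebra R D] [IsScalarTower R S D]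
    (f : A →ₐ[R] C) (h : C →ₐ[S] D) : spMap h ≫ toBc f = toBc (S := S) ((h.restrictScalars R).comp f) := by
  refine Over.OverMorphism.ext (pullback.hom_ext ?_ ?_)
  · show (Spec.map _ ≫ _) ≫ _ = _
    refine (Category.assoc _ _ _).trans ((congrArg (_ ≫ ·) (toBc_fst f)).trans ?_)
    refine Eq.trans ?_ (toBc_fst _).symm
    exact (Spec.map_comp _ _).symm
  · refine (Over.w (spMap h ≫ toBc f)).trans ?_
    exact (pullback.lift_snd _ _ _).symm

theorem toBc_comp_map {B : Type u} [CommRing B] [Algebra R B] (f : A →ₐ[R] C) (h : B →ₐ[R] A) :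
    toBc (S := S) f ≫ (Over.pullback bcH).map (spMap h) = toBc (f.comp h) := by
  refine Over.OverMorphism.ext (pullback.hom_ext ?_ ?_)
  · refine Eq.trans ?_ (toBc_fst (f.comp h)).symm
    show ((toBc f).left ≫ pullback.lift (pullback.fst _ _ ≫ (spMap h).left) (pullback.snd _ _) _) ≫ pullback.fst _ _ = _
    rw [Category.assoc, pullback.lift_fst, ← Category.assoc, toBc_fst]
    show Spec.map _ ≫ Spec.map _ = _
    rw [← Spec.map_comp]
    rfl
  · refine (Over.w (toBc f ≫ (Over.pullback bcH).map (spMap h))).trans ?_
    exact (pullback.lift_snd _ _ _).symm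

end Alg

section Hopf

variable {A C : Type u} [CommRing A] [CommRing C] [HopfAlgebra R A] [Algebra S C] [Algebra R C] [IsScalarTower R S C]

/-- The extension of scalars of an algebra map. -/
noncomputable def extendScalars (f : A →ₐ[R] C) : S ⊗[R] A →ₐ[S] C :=
  Algebra.TensorProduct.lift (Algebra.ofId S C) f fun _ _ => .all _ _

theorem extendScalars_tmul (f : A →ₐ[R] C) (s : S) (a : A) : extendScalars f (s ⊗ₜ[R] a) = s • f a := by
  rw [extendScalars, Algebra.TensorProduct.lift_tmul, Algebra.smul_def]
  rfl

theorem extendScalars_mul (f g : WithConv (A →ₐ[R] C)) :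
    (toConv (extendScalars (S := S) f.ofConv) * toConv (extendScalars (S := S) g.ofConv)).ofConv =
      extendScalars (f * g).ofConv := by
  refine Algebra.TensorProduct.ext (Subsingleton.elim _ _) (AlgHom.ext fun a => ?_)
  show (toConv (extendScalars (S := S) f.ofConv) * toConv (extendScalars (S := S) g.ofConv)).ofConv (1 ⊗ₜ[R] a) =
    extendScalars (f * g).ofConv (1 ⊗ₜ[R] a)
  rw [AlgHom.convMul_apply, extendScalars_tmul, one_smul, AlgHom.convMul_apply, TensorProduct.comul_tmul]
  generalize Coalgebra.comul (R := R) a = z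
  simp only [CommSemiring.comul_apply]
  induction z using TensorProduct.induction_on with
  | zero => simp
  | tmul x y => simp [extendScalars_tmul]
  | add s t hs ht => simp only [TensorProduct.tmul_add, map_add, hs, ht]

set_option backward.isDefEq.respectTransparency false in
/-- The canonical isomorphism of the base change with the spectrum of the base-changed algebra. -/
noncomputable def bcToSp : Red.bc bcH (sp R A) ⟶ sp S (S ⊗[R] A) :=
  (pullbackSymmetry .. ≪≫ pullbackSpecIso' R S A).hom.asOver (Spec (CommRingCat.of S))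

set_option backward.isDefEq.respectTransparency false in
instance : IsMonHom (bcToSp (R := R) (S := S) (A := A)) :=
  inferInstanceAs (IsMonHom ((pullbackSymmetry .. ≪≫ pullbackSpecIso' R S A).hom.asOver (Spec (CommRingCat.of S))))

set_option backward.isDefEq.respectTransparency false in
theorem toBc_bcToSp (f : A →ₐ[R] C) : toBc (S := S) f ≫ bcToSp = spMap (extendScalars f) := by
  refine Over.OverMorphism.ext ?_
  show (toBc f).left ≫ (pullbackSymmetry .. ≪≫ pullbackSpecIso' R S A).hom = Spec.map _
  rw [← cancel_mono (pullbackSpecIso' R S A).inv, Category.assoc, Iso.trans_hom, Category.assoc, Iso.hom_inv_id,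
    Category.comp_id]
  refine pullback.hom_ext ?_ ?_
  · rw [Category.assoc, pullbackSymmetry_hom_comp_fst, Category.assoc]
    refine (pullback.lift_snd _ _ _).trans ?_
    erw [pullbackSpecIso_inv_fst]
    rw [← Spec.map_comp, ← CommRingCat.ofHom_comp]
    congr 2
    refine RingHom.ext fun s => ?_
    show algebraMap S C s = extendScalars f (s ⊗ₜ[R] 1)
    rw [extendScalars_tmul, map_one, Algebra.smul_def, _root_.mul_one]
  · rw [Category.assoc, pullbackSymmetry_hom_comp_snd, Category.assoc]
    refine (pullback.lift_fst _ _ _).trans ?_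
    erw [pullbackSpecIso_inv_snd]
    rw [← Spec.map_comp, ← CommRingCat.ofHom_comp]
    congr 2
    refine RingHom.ext fun a => ?_
    show f a = extendScalars f (1 ⊗ₜ[R] a)
    rw [extendScalars_tmul, one_smul]

theorem toBc_mul (f g : WithConv (A →ₐ[R] C)) :
    toBc (S := S) f.ofConv * toBc (S := S) g.ofConv = toBc (f * g).ofConv := by
  haveI : IsIso (bcToSp (R := R) (S := S) (A := A)).left :=
    inferInstanceAs (IsIso (pullbackSymmetry .. ≪≫ pullbackSpecIso' R S A).hom)
  haveI : Mono (bcToSp (R := R) (S := S) (A := A)) := by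
    haveI : IsIso ((Over.forget _).map (bcToSp (R := R) (S := S) (A := A))) := ‹IsIso (bcToSp (R := R) (S := S) (A := A)).left›
    haveI := isIso_of_reflects_iso (bcToSp (R := R) (S := S) (A := A)) (Over.forget _)
    infer_instance
  rw [← cancel_mono (bcToSp (R := R) (S := S) (A := A)), MonObj.mul_comp, toBc_bcToSp, toBc_bcToSp, toBc_bcToSp,
    spMap_mul, extendScalars_mul]

/-- Points of the base change as a monoid homomorphism. -/
noncomputable def toBcHom : WithConv (A →ₐ[R] C) →* (sp S C ⟶ Red.bc bcH (sp R A)) :=
  MonoidHom.mk' (fun f => toBc f.ofConv) fun f g => (toBc_mul f g).symm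

theorem toBcHom_apply (f : WithConv (A →ₐ[R] C)) : toBcHom (S := S) f = toBc f.ofConv := rfl

end Hopf

end Groth.Agent.GrpSchLib.AffineHopf
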