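import Groth.Agent.GrpSchLib.Action
import Groth.Agent.DescLib.SigmaLocal

/-! The associated bundle of a principal bundle with affine fibre, by descent. -/

set_option backward.isDefEq.respectTransparency false
set_option backward.isDefEq.respectTransparency.types false

open CategoryTheory AlgebraicGeometry Limits MonoidalCategory CartesianMonoidalCategory MonObj

namespace Groth.Agent.GrpSchLib.BundleAssoc

universe u

variable {S : Scheme.{u}} {G X Y Z : Over S} [GrpObj G] (a : AlgGrp.Action G X) (b : AlgGrp.Action G Z)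
  {f : X ⟶ Y} (hsq : IsPullback a.act.left (snd G X).left f.left f.left)

include hsq in
theorem existsUnique_trans {T : Over S} (c d : T ⟶ X) (h : c ≫ f = d ≫ f) :
    ∃! g : T ⟶ G, lift g c ≫ a.act = d := by
  obtain ⟨w, hw1, hw2⟩ := hsq.exists_lift d.left c.left (congrArg CommaMorphism.left h).symm
  let W : T ⟶ G ⊗ X := Over.homMk w (by rw [← Over.w (snd G X), ← Category.assoc, hw2, Over.w c])
  have hWc : W ≫ snd G X = c := Over.OverMorphism.ext hw2
  refine ⟨W ≫ fst G X, ?_, fun g hg => ?_⟩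
  · show lift (W ≫ fst G X) c ≫ a.act = d
    rw [← hWc, ← comp_lift, lift_fst_snd, Category.comp_id]
    exact Over.OverMorphism.ext hw1
  · have : lift g c = W := by
      refine Over.OverMorphism.ext (hsq.hom_ext ?_ ?_)
      · exact (congrArg CommaMorphism.left hg).trans hw1.symm
      · exact (congrArg CommaMorphism.left (lift_snd g c)).trans hw2.symm
    rw [← this, lift_fst]

/-- The element carrying one point of the bundle to another of the same fibre. -/
noncomputable def trans {T : Over S} (c d : T ⟶ X) (h : c ≫ f = d ≫ f) : T ⟶ G :=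
  (existsUnique_trans a hsq c d h).choose

theorem trans_act {T : Over S} (c d : T ⟶ X) (h : c ≫ f = d ≫ f) : lift (trans a hsq c d h) c ≫ a.act = d :=
  (existsUnique_trans a hsq c d h).choose_spec.1

theorem trans_eq {T : Over S} {c d : T ⟶ X} {h : c ≫ f = d ≫ f} {g : T ⟶ G} (hg : lift g c ≫ a.act = d) :
    trans a hsq c d h = g :=
  ((existsUnique_trans a hsq c d h).choose_spec.2 g hg).symm

theorem trans_self {T : Over S} (c : T ⟶ X) : trans a hsq c c rfl = 1 := trans_eq a hsq (act_one a c)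

theorem trans_mul {T : Over S} (c d e : T ⟶ X) (h : c ≫ f = d ≫ f) (h' : d ≫ f = e ≫ f) :
    trans a hsq d e h' * trans a hsq c d h = trans a hsq c e (h.trans h') :=
  (trans_eq a hsq (by rw [← act_mul, trans_act, trans_act])).symm

theorem trans_comp {T T' : Over S} (u : T' ⟶ T) (c d : T ⟶ X) (h : c ≫ f = d ≫ f)
    (h' : (u ≫ c) ≫ f = (u ≫ d) ≫ f) : trans a hsq (u ≫ c) (u ≫ d) h' = u ≫ trans a hsq c d h :=
  trans_eq a hsq (by rw [← comp_lift, Category.assoc, trans_act])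

/-- The diagonal translate of a point. -/
noncomputable def move {T : Over S} (g : T ⟶ G) (p : T ⟶ X ⊗ Z) : T ⟶ X ⊗ Z :=
  lift (lift g (p ≫ fst X Z) ≫ a.act) (lift g (p ≫ snd X Z) ≫ b.act)

theorem move_one {T : Over S} (p : T ⟶ X ⊗ Z) : move a b 1 p = p := by
  rw [move, act_one, act_one, ← comp_lift, lift_fst_snd, Category.comp_id]

theorem move_mul {T : Over S} (g h : T ⟶ G) (p : T ⟶ X ⊗ Z) : move a b g (move a b h p) = move a b (g * h) p := by
  simp only [move, lift_fst, lift_snd, act_mul]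

theorem move_comp {T T' : Over S} (u : T' ⟶ T) (g : T ⟶ G) (p : T ⟶ X ⊗ Z) :
    u ≫ move a b g p = move a b (u ≫ g) (u ≫ p) := by
  simp only [move, comp_lift, Category.assoc, comp_lift_assoc]

/-- The gluing map on points. -/
noncomputable def tr {T : Over S} (c d : T ⟶ X) (h : c ≫ f = d ≫ f) (p : T ⟶ X ⊗ Z) : T ⟶ X ⊗ Z :=
  move a b (trans a hsq c d h) p

theorem tr_fst {T : Over S} (c d : T ⟶ X) (h : c ≫ f = d ≫ f) (p : T ⟶ X ⊗ Z) (hp : p ≫ fst X Z = c) :
    tr a b hsq c d h p ≫ fst X Z = d := by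
  rw [tr, move, lift_fst, hp, trans_act]

theorem tr_tr {T : Over S} (c d e : T ⟶ X) (h : c ≫ f = d ≫ f) (h' : d ≫ f = e ≫ f) (p : T ⟶ X ⊗ Z) :
    tr a b hsq d e h' (tr a b hsq c d h p) = tr a b hsq c e (h.trans h') p := by
  rw [tr, tr, tr, move_mul, trans_mul]

theorem tr_self {T : Over S} (c : T ⟶ X) (p : T ⟶ X ⊗ Z) : tr a b hsq c c rfl p = p := by
  rw [tr, trans_self, move_one]

theorem tr_comp {T T' : Over S} (u : T' ⟶ T) (c d : T ⟶ X) (h : c ≫ f = d ≫ f)
    (h' : (u ≫ c) ≫ f = (u ≫ d) ≫ f) (p : T ⟶ X ⊗ Z) :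
    u ≫ tr a b hsq c d h p = tr a b hsq (u ≫ c) (u ≫ d) h' (u ≫ p) := by
  rw [tr, tr, move_comp, trans_comp a hsq u c d h h']

theorem tr_congr {T : Over S} {c c' d d' : T ⟶ X} {h : c ≫ f = d ≫ f} {h' : c' ≫ f = d' ≫ f}
    {p p' : T ⟶ X ⊗ Z} (hc : c = c') (hd : d = d') (hp : p = p') :
    tr a b hsq c d h p = tr a b hsq c' d' h' p' := by
  subst hc hd hp
  rfl

theorem point_w {T : Scheme.{u}} {x₀ x₁ : T ⟶ X.left} (h : x₀ ≫ f.left = x₁ ≫ f.left) :
    x₁ ≫ X.hom = x₀ ≫ X.hom := by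
  rw [← Over.w f, ← Category.assoc, ← h, Category.assoc]

/-- The forward map of the datum. -/
noncomputable def fwd {T : Scheme.{u}} (x₀ x₁ : T ⟶ X.left) (h : x₀ ≫ f.left = x₁ ≫ f.left)
    (v : Desc.Lifts (Over.mk (fst X Z).left) x₀) : Desc.Lifts (Over.mk (fst X Z).left) x₁ :=
  let c : Over.mk (x₀ ≫ X.hom) ⟶ X := Over.homMk x₀ rfl
  let d : Over.mk (x₀ ≫ X.hom) ⟶ X := Over.homMk x₁ (point_w h)
  let p : Over.mk (x₀ ≫ X.hom) ⟶ X ⊗ Z := Over.homMk v.1 (by
    show v.1 ≫ (X ⊗ Z).hom = x₀ ≫ X.hom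
    rw [← Over.w (fst X Z), ← Category.assoc]
    exact congrArg (· ≫ X.hom) v.2)
  ⟨(tr a b hsq c d (Over.OverMorphism.ext h) p).left,
    congrArg CommaMorphism.left (tr_fst a b hsq c d (Over.OverMorphism.ext h) p (Over.OverMorphism.ext v.2))⟩

theorem fwd_eq {T₀ : Over S} (c d : T₀ ⟶ X) (hcd : c ≫ f = d ≫ f) (p : T₀ ⟶ X ⊗ Z)
    (x₀ x₁ : T₀.left ⟶ X.left) (hc : c.left = x₀) (hd : d.left = x₁) (h : x₀ ≫ f.left = x₁ ≫ f.left)
    (v : Desc.Lifts (Over.mk (fst X Z).left) x₀) (hp : p.left = v.1) :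
    (fwd a b hsq x₀ x₁ h v).1 = (tr a b hsq c d hcd p).left := by
  subst hc hd
  let c' : Over.mk (c.left ≫ X.hom) ⟶ X := Over.homMk c.left rfl
  let u : Over.mk (c.left ≫ X.hom) ⟶ T₀ := Over.homMk (𝟙 _) (by
    show 𝟙 _ ≫ T₀.hom = c.left ≫ X.hom
    rw [Category.id_comp, Over.w c])
  have h2 := congrArg CommaMorphism.left (tr_comp a b hsq u c d hcd (by rw [Category.assoc, Category.assoc, hcd]) p)
  have h3 : (tr a b hsq c d hcd p).left = (tr a b hsq (u ≫ c) (u ≫ d) _ (u ≫ p)).left :=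
    (Category.id_comp _).symm.trans h2
  rw [h3]
  exact congrArg CommaMorphism.left (tr_congr a b hsq (Over.OverMorphism.ext (Category.id_comp _).symm)
    (Over.OverMorphism.ext (Category.id_comp _).symm)
    (Over.OverMorphism.ext (hp.symm.trans (Category.id_comp _).symm)))

/-- The descent datum of the associated bundle. -/
noncomputable def datum : Desc.SchDD f.left where
  obj := Over.mk (fst X Z).left
  φ _ x₀ x₁ h :=
    { toFun := fwd a b hsq x₀ x₁ h
      invFun := fwd a b hsq x₁ x₀ h.symm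
      left_inv := fun v => by
        apply Subtype.ext
        let c : Over.mk (x₀ ≫ X.hom) ⟶ X := Over.homMk x₀ rfl
        let d : Over.mk (x₀ ≫ X.hom) ⟶ X := Over.homMk x₁ (point_w h)
        let p : Over.mk (x₀ ≫ X.hom) ⟶ X ⊗ Z := Over.homMk v.1 (by
          show v.1 ≫ (X ⊗ Z).hom = x₀ ≫ X.hom
          rw [← Over.w (fst X Z), ← Category.assoc]
          exact congrArg (· ≫ X.hom) v.2)
        rw [fwd_eq a b hsq d c (Over.OverMorphism.ext h.symm)
          (tr a b hsq c d (Over.OverMorphism.ext h) p) x₁ x₀ rfl rfl h.symm (fwd a b hsq x₀ x₁ h v) rfl,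
          tr_tr, tr_self]
        rfl
      right_inv := fun v => by
        apply Subtype.ext
        let c : Over.mk (x₁ ≫ X.hom) ⟶ X := Over.homMk x₁ rfl
        let d : Over.mk (x₁ ≫ X.hom) ⟶ X := Over.homMk x₀ (point_w h.symm)
        let p : Over.mk (x₁ ≫ X.hom) ⟶ X ⊗ Z := Over.homMk v.1 (by
          show v.1 ≫ (X ⊗ Z).hom = x₁ ≫ X.hom
          rw [← Over.w (fst X Z), ← Category.assoc]
          exact congrArg (· ≫ X.hom) v.2)
        rw [fwd_eq a b hsq d c (Over.OverMorphism.ext h)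
          (tr a b hsq c d (Over.OverMorphism.ext h.symm) p) x₀ x₁ rfl rfl h (fwd a b hsq x₁ x₀ h.symm v) rfl,
          tr_tr, tr_self]
        rfl }
  φ_natural T T' g x₀ x₁ h h' v v' hv' := by
    let c : Over.mk (x₀ ≫ X.hom) ⟶ X := Over.homMk x₀ rfl
    let d : Over.mk (x₀ ≫ X.hom) ⟶ X := Over.homMk x₁ (point_w h)
    let u : Over.mk ((g ≫ x₀) ≫ X.hom) ⟶ Over.mk (x₀ ≫ X.hom) := Over.homMk g (Category.assoc _ _ _).symm
    let p : Over.mk (x₀ ≫ X.hom) ⟶ X ⊗ Z := Over.homMk v.1 (by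
      show v.1 ≫ (X ⊗ Z).hom = x₀ ≫ X.hom
      rw [← Over.w (fst X Z), ← Category.assoc]
      exact congrArg (· ≫ X.hom) v.2)
    show (fwd a b hsq _ _ h' v').1 = g ≫ (fwd a b hsq x₀ x₁ h v).1
    rw [fwd_eq a b hsq (u ≫ c) (u ≫ d) (Over.OverMorphism.ext h') (u ≫ p) (g ≫ x₀) (g ≫ x₁) rfl rfl h' v' hv'.symm,
      ← tr_comp a b hsq u c d (Over.OverMorphism.ext h)]
    rfl
  φ_self T x v := by
    apply Subtype.ext
    show (fwd a b hsq x x rfl v).1 = v.1
    exact congrArg CommaMorphism.left (tr_self a b hsq _ _)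
  φ_comp T x₀ x₁ x₂ h₀₁ h₁₂ v := by
    apply Subtype.ext
    let c : Over.mk (x₀ ≫ X.hom) ⟶ X := Over.homMk x₀ rfl
    let d : Over.mk (x₀ ≫ X.hom) ⟶ X := Over.homMk x₁ (point_w h₀₁)
    let e : Over.mk (x₀ ≫ X.hom) ⟶ X := Over.homMk x₂ (point_w (h₀₁.trans h₁₂))
    let p : Over.mk (x₀ ≫ X.hom) ⟶ X ⊗ Z := Over.homMk v.1 (by
      show v.1 ≫ (X ⊗ Z).hom = x₀ ≫ X.hom
      rw [← Over.w (fst X Z), ← Category.assoc]
      exact congrArg (· ≫ X.hom) v.2)
    show (fwd a b hsq x₁ x₂ h₁₂ (fwd a b hsq x₀ x₁ h₀₁ v)).1 = (fwd a b hsq x₀ x₂ (h₀₁.trans h₁₂) v).1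
    rw [fwd_eq a b hsq d e (Over.OverMorphism.ext h₁₂)
      (tr a b hsq c d (Over.OverMorphism.ext h₀₁) p) x₁ x₂ rfl rfl h₁₂ (fwd a b hsq x₀ x₁ h₀₁ v) rfl, tr_tr]
    rfl

include hsq in
/-- The associated bundle exists when the fibre is affine over the base. -/
theorem exists_bundle [IsAffineHom Z.hom] [Flat f.left] [Surjective f.left] [QuasiCompact f.left] :
    ∃ (W : Over S) (φ : X ⊗ Z ⟶ W) (ψ : W ⟶ Y),
      IsPullback (fst X Z).left φ.left f.left ψ.left ∧
      lift ((G ◁ fst X Z) ≫ a.act) ((G ◁ snd X Z) ≫ b.act) ≫ φ = snd G (X ⊗ Z) ≫ φ := by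
  let D := datum a b hsq
  haveI : IsAffineHom D.obj.hom := by
    show IsAffineHom (fst X Z).left
    exact MorphismProperty.pullback_fst (P := @IsAffineHom) X.hom Z.hom inferInstance
  obtain ⟨U, ⟨e⟩⟩ := DescLib.effective_of_isAffineHom f.left D
  have hei : IsIso e.inv.hom.left :=
    ⟨e.hom.hom.left, congrArg (fun t => t.hom.left) e.inv_hom_id, congrArg (fun t => t.hom.left) e.hom_inv_id⟩
  let m : (X ⊗ Z).left ⟶ pullback f.left U.hom := e.inv.hom.left
  haveI : IsIso m := hei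
  have hm : m ≫ pullback.fst f.left U.hom = (fst X Z).left := Over.w e.inv.hom
  let W : Over S := Over.mk (U.hom ≫ Y.hom)
  let ψ : W ⟶ Y := Over.homMk U.hom rfl
  let φ : X ⊗ Z ⟶ W := Over.homMk (m ≫ pullback.snd f.left U.hom) (by
    show (m ≫ pullback.snd f.left U.hom) ≫ U.hom ≫ Y.hom = (X ⊗ Z).hom
    rw [Category.assoc, ← pullback.condition_assoc, reassoc_of% hm, Over.w f, Over.w (fst X Z)])
  refine ⟨W, φ, ψ, ?_, ?_⟩
  · refine (IsPullback.of_hasPullback f.left U.hom).of_iso (asIso m).symm (Iso.refl _) (Iso.refl _) (Iso.refl _)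
      ?_ ?_ (by simp) (by simp [ψ])
    · simp [← hm]
    · simp [φ]
  let T := G ⊗ (X ⊗ Z)
  let p : T ⟶ X ⊗ Z := snd G (X ⊗ Z)
  let q : T ⟶ X ⊗ Z := lift ((G ◁ fst X Z) ≫ a.act) ((G ◁ snd X Z) ≫ b.act)
  let c : T ⟶ X := p ≫ fst X Z
  let d : T ⟶ X := lift (fst G (X ⊗ Z)) c ≫ a.act
  have hcd : c ≫ f = d ≫ f := by
    have : a.act ≫ f = snd G X ≫ f := Over.OverMorphism.ext hsq.w
    simp only [d, Category.assoc, this, lift_snd_assoc]
  have hq : tr a b hsq c d hcd p = q := by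
    rw [tr, trans_eq a hsq (g := fst G (X ⊗ Z)) rfl, move]
    simp only [q, p]
    congr 1
  let v : Desc.Lifts D.obj c.left := ⟨p.left, rfl⟩
  have hφ : (D.φ c.left d.left (congrArg CommaMorphism.left hcd) v).1 = q.left :=
    (fwd_eq a b hsq c d hcd p c.left d.left rfl rfl (congrArg CommaMorphism.left hcd) v rfl).trans (congrArg CommaMorphism.left hq)
  let w : Desc.Lifts ((Desc.toDD f.left).obj U).obj c.left :=
    ⟨v.1 ≫ e.inv.hom.left, by rw [Category.assoc, Over.w e.inv.hom]; exact v.2⟩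
  have key := e.inv.comm c.left d.left (congrArg CommaMorphism.left hcd) v w rfl
  rw [hφ] at key
  have key' := congrArg (fun t => t ≫ pullback.snd f.left U.hom) key
  refine Over.OverMorphism.ext ?_
  simp only [Category.assoc] at key'
  refine key'.symm.trans ?_
  exact (pullback.lift_snd _ _ _).trans (Category.assoc _ _ _)

end Groth.Agent.GrpSchLib.BundleAssoc
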