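import Groth.Agent.S2501
import Groth.Prelude.Def_Red
import Mathlib.AlgebraicGeometry.Geometrically.Connected

/-!
# The fibres of `S' ×_S S' ⟶ S'` when the geometric fibres of `S' ⟶ S` are connected
-/

universe u

open CategoryTheory CategoryTheory.Limits AlgebraicGeometry

namespace Groth.Agent.GrpSchLib.GeomConnFibre

variable {S S' : Scheme.{u}} (π : S' ⟶ S)

theorem connected_pullback (hconn : ∀ s : S, ConnectedSpace ↥(pullback π (Red.geomPt s))) {K : Type u} [Field K]
    [IsAlgClosed K] {s : S} (φ : S.residueField s →+* K) :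
    ConnectedSpace ↥(pullback π (Spec.map (CommRingCat.ofHom φ) ≫ S.fromSpecResidueField s)) := by
  letI := φ.toAlgebra
  let e : AlgebraicClosure (S.residueField s) →ₐ[S.residueField s] K := IsAlgClosed.lift
  haveI := hconn s
  haveI : GeometricallyConnected (pullback.snd π (Red.geomPt s)) := Groth.Agent.S2501.result _
  have he : Spec.map (CommRingCat.ofHom φ) ≫ S.fromSpecResidueField s =
      Spec.map (CommRingCat.ofHom e.toRingHom) ≫ Red.geomPt s := by
    rw [Red.geomPt, ← Spec.map_comp_assoc, ← CommRingCat.ofHom_comp,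
      show e.toRingHom.comp (algebraMap _ _) = φ from e.comp_algebraMap]
  rw [he]
  haveI : ConnectedSpace ↥(pullback (pullback.snd π (Red.geomPt s)) (Spec.map (CommRingCat.ofHom e.toRingHom))) :=
    GeometricallyConnected.geometrically_connectedSpace _ _ _ (IsPullback.of_hasPullback _ _)
  let i := pullbackLeftPullbackSndIso π (Red.geomPt s) (Spec.map (CommRingCat.ofHom e.toRingHom))
  exact i.hom.homeomorph.surjective.connectedSpace i.hom.homeomorph.continuous

theorem isConnected_fst (hconn : ∀ s : S, ConnectedSpace ↥(pullback π (Red.geomPt s))) (y : S') :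
    _root_.IsConnected (pullback.fst π π ⁻¹' {y}) := by
  let K := AlgebraicClosure (S'.residueField y)
  let pt : Spec (CommRingCat.of K) ⟶ S' :=
    Spec.map (CommRingCat.ofHom (algebraMap (S'.residueField y) K)) ≫ S'.fromSpecResidueField y
  have hpt : pt ≫ π = Spec.map (CommRingCat.ofHom ((algebraMap (S'.residueField y) K).comp (π.residueFieldMap y).hom)) ≫
      S.fromSpecResidueField (π y) := by
    rw [CommRingCat.ofHom_comp, Spec.map_comp, Category.assoc]
    show Spec.map _ ≫ S'.fromSpecResidueField y ≫ π = _
    rw [← Scheme.Hom.SpecMap_residueFieldMap_fromSpecResidueField]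
    rfl
  haveI : ConnectedSpace ↥(pullback π (pt ≫ π)) := by
    rw [hpt]
    exact connected_pullback π hconn _
  haveI : ConnectedSpace ↥(pullback (pullback.fst π π) pt) := by
    let i := (pullbackSymmetry π (pt ≫ π)) ≪≫ (pullbackRightPullbackFstIso π π pt).symm ≪≫ pullbackSymmetry _ _
    exact i.hom.homeomorph.surjective.connectedSpace i.hom.homeomorph.continuous
  have hr : Set.range pt = {y} := by
    haveI : Subsingleton ↥(Spec (CommRingCat.of K)) := inferInstanceAs (Subsingleton (PrimeSpectrum K))
    refine Set.ext fun x => ⟨?_, fun hx => ?_⟩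
    · rintro ⟨q, rfl⟩
      show pt q = y
      rw [Scheme.Hom.comp_apply]
      exact Scheme.fromSpecResidueField_apply _ _
    · refine ⟨IsLocalRing.closedPoint K, ?_⟩
      rw [hx, Scheme.Hom.comp_apply]
      exact Scheme.fromSpecResidueField_apply _ _
  rw [← hr, ← Scheme.Pullback.range_fst]
  exact isConnected_range (pullback.fst (pullback.fst π π) pt).continuous

end Groth.Agent.GrpSchLib.GeomConnFibre
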