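import Groth.Agent.GrpSchLib.HomUnitLocus
import Groth.Agent.GrpSchLib.MultTypeBC
import Groth.Agent.GrpSchLib.GeomConnFibre
import Groth.Agent.TransLib.MultEssFree

/-!
# Descent of central homomorphisms along coverings with geometrically connected fibres

The two pullbacks of a central homomorphism to `S' ×_S S'` differ by a homomorphism which is the unit on a clopen subset
containing the diagonal, hence everywhere.
-/

universe u

open CategoryTheory CategoryTheory.Limits MonoidalCategory CartesianMonoidalCategory MonObj GrpObj AlgebraicGeometry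

namespace Groth.Agent.GrpSchLib.CentralDescent

variable {S S' : Scheme.{u}} {H G : Over S} [GrpObj H] [GrpObj G] (π : S' ⟶ S) (u' : Red.bc π H ⟶ Red.bc π G)

/-- The same scheme over the base. -/
noncomputable def toMap : H ⊗ Over.mk π ⟶ (Over.map π).obj (Red.bc π H) :=
  Over.homMk (𝟙 (pullback H.hom π)) (by
    show 𝟙 _ ≫ pullback.snd H.hom π ≫ π = pullback.fst H.hom π ≫ H.hom
    rw [Category.id_comp, pullback.condition])

/-- The family over the covering. -/
noncomputable def fam : H ⊗ Over.mk π ⟶ G := toMap π ≫ DSPtsLib.theta π u'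

/-- A point over the covering, moved down. -/
noncomputable def down {Y : Over S} (σ : Y ⟶ Over.mk π) : Y ⟶ (Over.map π).obj (Over.mk σ.left) :=
  Over.homMk (𝟙 Y.left) ((Category.id_comp _).trans (Over.w σ))

/-- The same, backwards. -/
noncomputable def up {Y : Over S} (σ : Y ⟶ Over.mk π) : (Over.map π).obj (Over.mk σ.left) ⟶ Y :=
  Over.homMk (𝟙 Y.left) ((Category.id_comp _).trans (Over.w σ).symm)

theorem down_up {Y : Over S} (σ : Y ⟶ Over.mk π) : down π σ ≫ up π σ = 𝟙 Y :=
  Over.OverMorphism.ext (Category.id_comp _)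

omit [GrpObj H] [GrpObj G] in
theorem fam_eq {Y : Over S} (h : Y ⟶ H) (σ : Y ⟶ Over.mk π) (a : Over.mk σ.left ⟶ Red.bc π H)
    (ha : DSPtsLib.theta π a = up π σ ≫ h) :
    lift h σ ≫ fam π u' = down π σ ≫ DSPtsLib.theta π (a ≫ u') := by
  have he : lift h σ ≫ toMap π = down π σ ≫ (Over.map π).map a := by
    refine Over.OverMorphism.ext ?_
    show (lift h σ).left ≫ 𝟙 (pullback H.hom π) = 𝟙 Y.left ≫ a.left
    refine ((Category.comp_id _).trans ?_).trans (Category.id_comp _).symm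
    refine pullback.hom_ext ?_ ?_
    · refine (congrArg (fun m : Y ⟶ H => m.left) (lift_fst h σ)).trans ?_
      exact ((congrArg (fun m : (Over.map π).obj (Over.mk σ.left) ⟶ H => m.left) ha).trans (Category.id_comp _)).symm
    · exact (congrArg (fun m : Y ⟶ Over.mk π => m.left) (lift_snd h σ)).trans (Over.w a).symm
  rw [fam, reassoc_of% he, DSPtsLib.theta_comp]

theorem fam_mul [IsMonHom u'] {Y : Over S} (h h' : Y ⟶ H) (σ : Y ⟶ Over.mk π) :
    lift (h * h') σ ≫ fam π u' = (lift h σ ≫ fam π u') * (lift h' σ ≫ fam π u') := by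
  obtain ⟨a, ha⟩ := (DSPtsLib.theta_bijective (H := H) (Y := Over.mk σ.left) π).2 (up π σ ≫ h)
  obtain ⟨b, hb⟩ := (DSPtsLib.theta_bijective (H := H) (Y := Over.mk σ.left) π).2 (up π σ ≫ h')
  rw [fam_eq π u' h σ a ha, fam_eq π u' h' σ b hb,
    fam_eq π u' (h * h') σ (a * b) (by rw [DSPtsLib.theta_mul, ha, hb, MonObj.comp_mul]), MonObj.mul_comp,
    DSPtsLib.theta_mul, MonObj.comp_mul]

variable {u'} in
theorem fam_central (hc : ∀ (X : Over S') (g : X ⟶ Red.bc π G) (h : X ⟶ Red.bc π H), g * (h ≫ u') = (h ≫ u') * g)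
    {Y : Over S} (h : Y ⟶ H) (σ : Y ⟶ Over.mk π) (g : Y ⟶ G) :
    g * (lift h σ ≫ fam π u') = (lift h σ ≫ fam π u') * g := by
  obtain ⟨a, ha⟩ := (DSPtsLib.theta_bijective (H := H) (Y := Over.mk σ.left) π).2 (up π σ ≫ h)
  obtain ⟨b, hb⟩ := (DSPtsLib.theta_bijective (H := G) (Y := Over.mk σ.left) π).2 (up π σ ≫ g)
  have h1 := congrArg (fun m => down π σ ≫ DSPtsLib.theta (H := G) π m) (hc _ b a)
  simp only [DSPtsLib.theta_mul, MonObj.comp_mul, hb, reassoc_of% (down_up π σ), ← fam_eq π u' h σ a ha] at h1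
  exact h1

/-- The universal morphism to `S' ×_S S'`. -/
noncomputable abbrev qq : pullback π π ⟶ S := pullback.fst π π ≫ π

/-- The first projection of a point over the square. -/
noncomputable def pr₁ (Y : Over (pullback π π)) : (Over.map (qq π)).obj Y ⟶ Over.mk π :=
  Over.homMk (Y.hom ≫ pullback.fst π π) (Category.assoc _ _ _)

/-- The second projection of a point over the square. -/
noncomputable def pr₂ (Y : Over (pullback π π)) : (Over.map (qq π)).obj Y ⟶ Over.mk π :=
  Over.homMk (Y.hom ≫ pullback.snd π π) (by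
    show (Y.hom ≫ pullback.snd π π) ≫ π = Y.hom ≫ pullback.fst π π ≫ π
    rw [Category.assoc, pullback.condition])

variable {u'}

/-- The two pullbacks agree. -/
theorem fam_agree [IsMonHom u'] (hH : SGA3x.IsMultTypeFT H) [IsSeparated G.hom] [LocallyOfFinitePresentation G.hom]
    (hconn : ∀ y : S', _root_.IsConnected (pullback.fst π π ⁻¹' {y}))
    (hc : ∀ (X : Over S') (g : X ⟶ Red.bc π G) (h : X ⟶ Red.bc π H), g * (h ≫ u') = (h ≫ u') * g)
    {Y : Over S} (h : Y ⟶ H) (σ₁ σ₂ : Y ⟶ Over.mk π) : lift h σ₁ ≫ fam π u' = lift h σ₂ ≫ fam π u' := by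
  let q := qq π
  obtain ⟨w, hw⟩ := (DSPtsLib.theta_bijective (H := G) (Y := Red.bc q H) q).2
    ((lift (DSPtsLib.theta q (𝟙 _)) (pr₁ π _) ≫ fam π u') *
      (lift (DSPtsLib.theta q (𝟙 _)) (pr₂ π _) ≫ fam π u')⁻¹)
  have hwp : ∀ {Z : Over (pullback π π)} (a : Z ⟶ Red.bc q H), DSPtsLib.theta q (a ≫ w) =
      (lift (DSPtsLib.theta q a) (pr₁ π Z) ≫ fam π u') * (lift (DSPtsLib.theta q a) (pr₂ π Z) ≫ fam π u')⁻¹ := by
    intro Z a
    have e0 : (Over.map q).map a ≫ DSPtsLib.theta (H := H) q (𝟙 _) = DSPtsLib.theta q a := by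
      rw [← DSPtsLib.theta_comp, Category.comp_id]
    have e1 : (Over.map q).map a ≫ pr₁ π (Red.bc q H) = pr₁ π Z := Over.OverMorphism.ext (by
      show a.left ≫ (Red.bc q H).hom ≫ pullback.fst π π = Z.hom ≫ pullback.fst π π
      rw [Over.w_assoc a])
    have e2 : (Over.map q).map a ≫ pr₂ π (Red.bc q H) = pr₂ π Z := Over.OverMorphism.ext (by
      show a.left ≫ (Red.bc q H).hom ≫ pullback.snd π π = Z.hom ≫ pullback.snd π π
      rw [Over.w_assoc a])
    rw [DSPtsLib.theta_comp, hw, MonObj.comp_mul, GrpObj.comp_inv, comp_lift_assoc, comp_lift_assoc, e0, e1, e2]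
  have hwm : ∀ {Z : Over (pullback π π)} (a b : Z ⟶ Red.bc q H), (a * b) ≫ w = (a ≫ w) * (b ≫ w) := by
    intro Z a b
    refine (DSPtsLib.theta_bijective q).1 ?_
    rw [hwp, DSPtsLib.theta_mul, DSPtsLib.theta_mul, hwp, hwp, fam_mul, fam_mul, _root_.mul_inv_rev]
    set A := lift (DSPtsLib.theta q a) (pr₁ π Z) ≫ fam π u'
    set B := lift (DSPtsLib.theta q b) (pr₁ π Z) ≫ fam π u'
    set A' := lift (DSPtsLib.theta q a) (pr₂ π Z) ≫ fam π u'
    set B' := lift (DSPtsLib.theta q b) (pr₂ π Z) ≫ fam π u'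
    have hA' : ∀ g, g * A'⁻¹ = A'⁻¹ * g := fun g => (Commute.inv_right (fam_central π hc _ _ g))
    rw [show A * B * (B'⁻¹ * A'⁻¹) = A * ((B * B'⁻¹) * A'⁻¹) by group, hA' (B * B'⁻¹)]
    group
  haveI : IsMonHom w := by
    constructor
    · have h1 := hwm (1 : 𝟙_ _ ⟶ Red.bc q H) 1
      rw [_root_.one_mul, left_eq_mul] at h1
      rwa [Hom.one_def, Hom.one_def, toUnit_unique (toUnit _) (𝟙 _), Category.id_comp, Category.id_comp] at h1
    · have h1 := hwm (fst (Red.bc q H) (Red.bc q H)) (snd _ _)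
      rw [Hom.mul_def, Hom.mul_def, lift_fst_snd, Category.id_comp] at h1
      rw [h1, ← lift_map, lift_fst_snd, Category.id_comp]
  have hHq : SGA3x.IsMultTypeFT (Red.bc q H) := MultTypeBC.isMultTypeFT_bc q hH
  haveI : IsSeparated (Red.bc q G).hom := inferInstanceAs (IsSeparated (pullback.snd G.hom q))
  haveI : LocallyOfFiniteType (Red.bc q G).hom := inferInstanceAs (LocallyOfFiniteType (pullback.snd G.hom q))
  obtain ⟨U, hU, hmem, htriv⟩ := HomUnitLocus.main (u := w) hHq (Or.inr inferInstance)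
  let δ : S' ⟶ pullback π π := pullback.lift (𝟙 _) (𝟙 _) rfl
  have hδ : HomUnitLocus.Triv w δ := by
    intro Z r a
    refine (DSPtsLib.theta_bijective q).1 ?_
    rw [hwp, HomUnitLocus.theta_one]
    have hpr : pr₁ π Z = pr₂ π Z := Over.OverMorphism.ext (by
      show Z.hom ≫ pullback.fst π π = Z.hom ≫ pullback.snd π π
      rw [← Over.w r]
      show (r.left ≫ δ) ≫ _ = (r.left ≫ δ) ≫ _
      simp only [δ, Category.assoc, pullback.lift_fst, pullback.lift_snd])
    rw [hpr, mul_inv_cancel]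
  have hall : ∀ z : (pullback π π : Scheme.{u}), z ∈ U := by
    intro z
    let y := pullback.fst π π z
    have hδy : δ y ∈ U := by
      have hb : (S'.fromSpecResidueField y ≫ δ) (IsLocalRing.closedPoint (S'.residueField y)) = δ y := by
        rw [Scheme.Hom.comp_apply]
        exact congrArg (fun x => δ x) (Scheme.fromSpecResidueField_apply y _)
      rw [hmem, ← hb]
      exact (HomUnitLocus.triv_iff_of_field _).mp (hδ.comp _)
    have hsub := (hconn y).isPreconnected.subset_isClopen (show IsClopen (U : Set _) from ⟨hU, U.2⟩)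
      ⟨δ y, show pullback.fst π π (δ y) = y by
        rw [← Scheme.Hom.comp_apply, pullback.lift_fst]; rfl, hδy⟩
    exact hsub rfl
  let l : Y.left ⟶ pullback π π := pullback.lift σ₁.left σ₂.left ((Over.w σ₁).trans (Over.w σ₂).symm)
  let Y' : Over (pullback π π) := Over.mk l
  have hl : l ≫ q = Y.hom := by
    show l ≫ pullback.fst π π ≫ π = Y.hom
    rw [pullback.lift_fst_assoc]
    exact Over.w σ₁
  let e : Y ⟶ (Over.map q).obj Y' := Over.homMk (𝟙 _) ((Category.id_comp _).trans hl)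
  let e' : (Over.map q).obj Y' ⟶ Y := Over.homMk (𝟙 _) ((Category.id_comp _).trans hl.symm)
  have hee : e ≫ e' = 𝟙 _ := Over.OverMorphism.ext (Category.id_comp _)
  have he1 : e ≫ pr₁ π Y' = σ₁ := Over.OverMorphism.ext ((Category.id_comp _).trans (pullback.lift_fst _ _ _))
  have he2 : e ≫ pr₂ π Y' = σ₂ := Over.OverMorphism.ext ((Category.id_comp _).trans (pullback.lift_snd _ _ _))
  obtain ⟨a, ha⟩ := (DSPtsLib.theta_bijective (H := H) (Y := Y') q).2 (e' ≫ h)
  have hr : Set.range l ⊆ Set.range U.ι := by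
    rw [Scheme.Opens.range_ι]
    exact fun x _ => hall x
  have h1 := htriv Y' (Over.homMk (IsOpenImmersion.lift U.ι l hr) (IsOpenImmersion.lift_fac _ _ _)) a
  have h2 := congrArg (fun m => e ≫ DSPtsLib.theta (H := G) q m) h1
  simp only [hwp, HomUnitLocus.theta_one, MonObj.comp_one, MonObj.comp_mul, GrpObj.comp_inv, comp_lift_assoc, ha,
    reassoc_of% hee, he1, he2] at h2
  exact mul_inv_eq_one.mp h2

theorem exists_unique_descent [IsMonHom u'] (hH : SGA3x.IsMultTypeFT H) [IsSeparated G.hom]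
    [LocallyOfFinitePresentation G.hom] (hπ : FpqcDescLib.Covers π)
    (hconn : ∀ y : S', _root_.IsConnected (pullback.fst π π ⁻¹' {y}))
    (hc : ∀ (X : Over S') (g : X ⟶ Red.bc π G) (h : X ⟶ Red.bc π H), g * (h ≫ u') = (h ≫ u') * g) :
    ∃! v : H ⟶ G, IsMonHom v ∧ (Over.pullback π).map v = u' := by
  let p : H ⊗ Over.mk π ⟶ H := fst _ _
  have hp : FpqcDescLib.Covers p.left :=
    hπ.pullback H.hom p.left (pullback.snd H.hom π) (IsPullback.of_hasPullback H.hom π)
  haveI := hp.over_epi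
  have hdec : ∀ {T : Over S} (a : T ⟶ H ⊗ Over.mk π), a ≫ fam π u' = lift (a ≫ p) (a ≫ snd _ _) ≫ fam π u' :=
    fun a => by congr 1; apply CartesianMonoidalCategory.hom_ext <;> simp [p]
  obtain ⟨v, hv, hvu⟩ := hp.over_desc (fam π u') fun T a b e => by
    rw [hdec a, hdec b, e]
    exact fam_agree π hH hconn hc _ _ _
  have hval : ∀ {Y : Over S} (h : Y ⟶ H) (σ : Y ⟶ Over.mk π), h ≫ v = lift h σ ≫ fam π u' := fun h σ => by
    rw [← hv]
    simp only [p, lift_fst_assoc]
  have hmul : ∀ {Y : Over S} (h h' : Y ⟶ H), (h * h') ≫ v = (h ≫ v) * (h' ≫ v) := by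
    intro Y h h'
    let k : Y ⊗ Over.mk π ⟶ Y := fst _ _
    have hk : FpqcDescLib.Covers k.left :=
      hπ.pullback Y.hom k.left (pullback.snd Y.hom π) (IsPullback.of_hasPullback Y.hom π)
    haveI := hk.over_epi
    rw [← cancel_epi k, ← Category.assoc, MonObj.comp_mul, MonObj.comp_mul, ← Category.assoc, ← Category.assoc,
      hval _ (snd Y (Over.mk π)), hval _ (snd Y (Over.mk π)), hval _ (snd Y (Over.mk π)), fam_mul]
  have hvm : IsMonHom v := by
    constructor
    · have h := hmul (1 : 𝟙_ _ ⟶ H) 1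
      rw [_root_.one_mul, left_eq_mul] at h
      rwa [Hom.one_def, Hom.one_def, toUnit_unique (toUnit _) (𝟙 _), Category.id_comp, Category.id_comp] at h
    · have h := hmul (fst H H) (snd H H)
      rw [Hom.mul_def, Hom.mul_def, lift_fst_snd, Category.id_comp] at h
      rw [h, ← lift_map, lift_fst_snd, Category.id_comp]
  let i : (Over.map π).obj (Red.bc π H) ⟶ H ⊗ Over.mk π := Over.homMk (𝟙 (pullback H.hom π)) (by
    show 𝟙 _ ≫ pullback.fst H.hom π ≫ H.hom = pullback.snd H.hom π ≫ π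
    rw [Category.id_comp, pullback.condition])
  have hit : i ≫ toMap π = 𝟙 _ := Over.OverMorphism.ext (Category.id_comp _)
  have hip : i ≫ p = DSPtsLib.theta π (𝟙 _) := Over.OverMorphism.ext rfl
  have hti : toMap π ≫ DSPtsLib.theta π (𝟙 (Red.bc π H)) = p := Over.OverMorphism.ext (by
    show 𝟙 _ ≫ 𝟙 _ ≫ pullback.fst H.hom π = pullback.fst H.hom π
    rw [Category.id_comp]
    exact Category.id_comp _)
  have hiff : ∀ x : H ⟶ G, (Over.pullback π).map x = u' ↔ p ≫ x = fam π u' := fun x => by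
    have e := HomUnitLocus.theta_comp_map π _ (𝟙 (Red.bc π H)) x
    rw [Category.id_comp] at e
    constructor
    · intro hx
      rw [← hti, Category.assoc, ← e, hx]
      rfl
    · intro hx
      refine (DSPtsLib.theta_bijective π).1 ?_
      rw [e, ← hip, Category.assoc, hx]
      show i ≫ toMap π ≫ _ = _
      rw [reassoc_of% hit]
  exact ⟨v, ⟨hvm, (hiff v).mpr hv⟩, fun x hx => (cancel_epi p).mp (((hiff x).mp hx.2).trans hv.symm)⟩

end Groth.Agent.GrpSchLib.CentralDescent
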