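import Groth.Agent.GrpSchLib.SplitTorusPoints
import Groth.Agent.GrpSchLib.CocycleSplit
import Groth.Agent.GrpSchLib.LaurentPic
import Mathlib.AlgebraicGeometry.Sites.Fpqc

/-! Characters of the kernel of a faithfully flat map to a torus extend. -/

universe u

set_option autoImplicit false
set_option backward.isDefEq.respectTransparency false
set_option backward.isDefEq.respectTransparency.types false

open CategoryTheory MonoidalCategory CartesianMonoidalCategory MonObj GrpObj AlgebraicGeometry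
open scoped TensorProduct

namespace Groth.Agent.GrpSchLib.CharDescent

open Kunneth SplitTorusPoints AffineHopf

variable {k : Type u} [Field k]

theorem exists_affine_cover (G : Over (Spec (CommRingCat.of k))) [QuasiCompact G.hom] [IsSeparated G.hom] :
    ∃ (B : Type u) (_ : CommRing B) (_ : Algebra k B) (p : sp k B ⟶ G),
      Flat p.left ∧ Surjective p.left ∧ QuasiCompact p.left := by
  haveI : CompactSpace G.left := (quasiCompact_iff_compactSpace G.hom).mp inferInstance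
  let 𝒰 := G.left.affineCover.finiteSubcover
  haveI : ∀ i, IsAffine (𝒰.X i) := fun i =>
    inferInstanceAs (IsAffine (G.left.affineCover.X (G.left.affineCover.idx i.1)))
  let d : (∐ 𝒰.X) ⟶ G.left := Limits.Sigma.desc 𝒰.f
  haveI : IsAffine (∐ 𝒰.X) := inferInstance
  haveI : Flat d := IsZariskiLocalAtSource.sigmaDesc (P := @Flat) fun i => inferInstance
  haveI : Surjective d := ⟨fun x => by
    obtain ⟨y, hy⟩ := 𝒰.covers x
    refine ⟨Limits.Sigma.ι 𝒰.X _ y, ?_⟩
    rw [← Scheme.Hom.comp_apply, Limits.Sigma.ι_desc]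
    exact hy⟩
  haveI : QuasiCompact d := by
    haveI : QuasiCompact (d ≫ G.hom) := (quasiCompact_iff_compactSpace _).mpr inferInstance
    exact QuasiCompact.of_comp d G.hom
  let X : Over (Spec (CommRingCat.of k)) := Over.mk (d ≫ G.hom)
  haveI : IsAffine X.left := inferInstanceAs (IsAffine (∐ 𝒰.X))
  obtain ⟨B, _, _, ⟨io⟩⟩ := S19228.exists_sp X
  haveI : IsIso io.hom.left := inferInstanceAs (IsIso ((Over.forget _).map io.hom))
  exact ⟨B, inferInstance, inferInstance, io.hom ≫ (Over.homMk d rfl : X ⟶ G),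
    inferInstanceAs (Flat (io.hom.left ≫ d)), inferInstanceAs (Surjective (io.hom.left ≫ d)),
    inferInstanceAs (QuasiCompact (io.hom.left ≫ d))⟩

variable [IsAlgClosed k] {G : Over (Spec (CommRingCat.of k))} [GrpObj G] [Smooth G.hom] [QuasiCompact G.hom]
  [ConnectedSpace G.left] {R : Type u} [CommRing R] [Algebra k R] [Subsingleton (CommRing.Pic R)]
  {Q : Over (Spec (CommRingCat.of k))} [GrpObj Q] (jQ : Q ≅ sp k R) (q : G ⟶ Q) [IsMonHom q]
  {H : Over (Spec (CommRingCat.of k))} [GrpObj H] (h : H ⟶ G) [IsMonHom h]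

include jQ in
/-- A character of the kernel extends. -/
theorem exists_extend (hk : AlgGrp.IsKernel h q) [Flat q.left] [Surjective q.left] [QuasiCompact q.left]
    (ψ : H ⟶ D k ℤ) [IsMonHom ψ] : ∃ χ : G ⟶ D k ℤ, IsMonHom χ ∧ h ≫ χ = ψ := by
  haveI := AntiAffine.isSeparated_grp G
  haveI hmono : Mono h := ⟨fun a b hab => hk.hom_ext hab (toUnit_unique _ _)⟩
  have hq1 : ∀ {Z : Over (Spec (CommRingCat.of k))} {n : Z ⟶ G}, n ≫ q = 1 → n ≫ q = toUnit Z ≫ η[Q] :=
    fun hn => by rw [hn]; exact Hom.one_def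
  let lft : ∀ {Z : Over (Spec (CommRingCat.of k))} (n : Z ⟶ G), n ≫ q = 1 → (Z ⟶ H) :=
    fun {Z} n hn => hk.lift n (toUnit Z) (hq1 hn)
  have hlft : ∀ {Z : Over (Spec (CommRingCat.of k))} (n : Z ⟶ G) (hn : n ≫ q = 1), lft n hn ≫ h = n :=
    fun n hn => hk.lift_fst _ _ _
  have hmul : ∀ {Z : Over (Spec (CommRingCat.of k))} (n n' : Z ⟶ G) (hn : n ≫ q = 1) (hn' : n' ≫ q = 1)
      (hh : (n * n') ≫ q = 1), lft (n * n') hh ≫ ψ = (lft n hn ≫ ψ) * (lft n' hn' ≫ ψ) := by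
    intro Z n n' hn hn' hh
    rw [← MonObj.mul_comp]
    congr 1
    rw [← cancel_mono h, MonObj.mul_comp, hlft _ hh, hlft _ hn, hlft _ hn']
  have hcongr : ∀ {Z : Over (Spec (CommRingCat.of k))} (n n' : Z ⟶ G) (hn : n ≫ q = 1) (hn' : n' ≫ q = 1),
      n = n' → lft n hn ≫ ψ = lft n' hn' ≫ ψ := by
    intro Z n n' hn hn' e; subst e; rfl
  have hnat : ∀ {Z Z' : Over (Spec (CommRingCat.of k))} (w : Z' ⟶ Z) (n : Z ⟶ G) (hn : n ≫ q = 1)
      (hn' : (w ≫ n) ≫ q = 1), w ≫ lft n hn ≫ ψ = lft (w ≫ n) hn' ≫ ψ := by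
    intro Z Z' w n hn hn'
    rw [← Category.assoc]
    congr 1
    rw [← cancel_mono h, Category.assoc, hlft _ hn, hlft _ hn']
  have hdiv : ∀ {Z : Over (Spec (CommRingCat.of k))} {x y : Z ⟶ G}, x ≫ q = y ≫ q → (x⁻¹ * y) ≫ q = 1 :=
    fun e => by rw [MonObj.mul_comp, GrpObj.inv_comp, e, inv_mul_cancel]
  obtain ⟨B, _, _, p, hp1, hp2, hp3⟩ := exists_affine_cover G
  haveI := hp1; haveI := hp2; haveI := hp3
  obtain ⟨φ, hφ⟩ := exists_eq_spMap' (p ≫ q ≫ jQ.hom)
  haveI : IsIso jQ.hom.left := inferInstanceAs (IsIso ((Over.forget _).map jQ.hom))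
  letI : Algebra R B := φ.toRingHom.toAlgebra
  haveI : IsScalarTower k R B := IsScalarTower.of_algebraMap_eq fun c => (φ.commutes c).symm
  haveI : Module.FaithfullyFlat R B := by
    have hf : Flat (p.left ≫ q.left ≫ jQ.hom.left) := inferInstance
    have hs : Surjective (p.left ≫ q.left ≫ jQ.hom.left) := inferInstance
    have e : p.left ≫ q.left ≫ jQ.hom.left = Spec.map (CommRingCat.ofHom (algebraMap R B)) := congrArg CommaMorphism.left hφ
    rw [e] at hf hs
    exact RingHom.faithfullyFlat_algebraMap_iff.1 ((flat_and_surjective_SpecMap_iff _).1 ⟨hf, hs⟩)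
  have hpt : ∀ {C : Type u} [CommRing C] [Algebra k C] (f : B →ₐ[k] C), (spMap f ≫ p) ≫ q ≫ jQ.hom = spMap (f.comp φ) :=
    fun f => by rw [Category.assoc, hφ, spMap_comp]
  let i₁ : B →ₐ[k] B ⊗[R] B := (Algebra.TensorProduct.includeLeft : B →ₐ[R] B ⊗[R] B).restrictScalars k
  let i₂ : B →ₐ[k] B ⊗[R] B := (Algebra.TensorProduct.includeRight : B →ₐ[R] B ⊗[R] B).restrictScalars k
  have hi : (spMap i₁ ≫ p) ≫ q = (spMap i₂ ≫ p) ≫ q := by
    rw [← cancel_mono jQ.hom, Category.assoc (spMap i₁ ≫ p), Category.assoc (spMap i₂ ≫ p), hpt, hpt]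
    congr 1
    refine AlgHom.ext fun x => ?_
    show (algebraMap R B x) ⊗ₜ[R] (1 : B) = (1 : B) ⊗ₜ[R] algebraMap R B x
    rw [Algebra.algebraMap_eq_smul_one, TensorProduct.smul_tmul]
  let δ := lft ((spMap i₁ ≫ p)⁻¹ * (spMap i₂ ≫ p)) (hdiv hi) ≫ ψ
  let u : B ⊗[R] B := (fnSp k (B ⊗[R] B)).symm (ev δ (mon k (1 : ℤ)))
  have hu : IsUnit u := (isUnit_ev_mon δ 1).map (fnSp k (B ⊗[R] B)).symm
  have key : ∀ (f : B ⊗[R] B →ₐ[R] B ⊗[R] (B ⊗[R] B)) (hn), fnSp k _ (f u) =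
      ev (lft ((spMap ((f.restrictScalars k).comp i₁) ≫ p)⁻¹ * (spMap ((f.restrictScalars k).comp i₂) ≫ p)) hn ≫ ψ)
        (mon k (1 : ℤ)) := by
    intro f hn
    have h1 : fnSp k _ (f u) = ev (spMap (f.restrictScalars k) ≫ δ) (mon k (1 : ℤ)) := by
      rw [← ev_ev, ← (fnSp k (B ⊗[R] B)).apply_symm_apply (ev δ (mon k (1 : ℤ))), ev_spMap]
      rfl
    have hn' : (spMap (f.restrictScalars k) ≫ ((spMap i₁ ≫ p)⁻¹ * (spMap i₂ ≫ p))) ≫ q = 1 := by
      rw [Category.assoc, hdiv hi, MonObj.comp_one]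
    rw [h1, hnat _ _ (hdiv hi) hn']
    refine congrArg (fun z => ev z (mon k (1 : ℤ))) (hcongr _ _ hn' hn ?_)
    rw [MonObj.comp_mul, GrpObj.comp_inv, ← Category.assoc, ← Category.assoc, spMap_comp, spMap_comp]
  have hc : GmH1Lib.Hilbert90.p02 R B u =
      GmH1Lib.Hilbert90.p01 R B u * GmH1Lib.Hilbert90.p12 R B u := by
    have hn : ∀ f : B ⊗[R] B →ₐ[R] B ⊗[R] (B ⊗[R] B),
        ((spMap ((f.restrictScalars k).comp i₁) ≫ p)⁻¹ * (spMap ((f.restrictScalars k).comp i₂) ≫ p)) ≫ q = 1 := fun f =>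
      hdiv (by rw [← spMap_comp, ← spMap_comp, Category.assoc, Category.assoc, Category.assoc, Category.assoc,
        ← Category.assoc (spMap i₁), hi, Category.assoc])
    apply (fnSp k (B ⊗[R] (B ⊗[R] B))).injective
    have hh := (MonObj.mul_comp _ _ q).trans ((congrArg₂ (· * ·) (hn (GmH1Lib.Hilbert90.p01 R B))
      (hn (GmH1Lib.Hilbert90.p12 R B))).trans (_root_.one_mul _))
    rw [map_mul, key _ (hn _), key _ (hn _), key _ (hn _), ← ev_mul_mon, ← hmul _ _ (hn _) (hn _) hh]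
    refine congrArg (fun z => ev z (mon k (1 : ℤ))) (hcongr _ _ (hn _) hh ?_)
    have e1 : ((GmH1Lib.Hilbert90.p02 R B).restrictScalars k).comp i₁ =
        ((GmH1Lib.Hilbert90.p01 R B).restrictScalars k).comp i₁ := by
      refine AlgHom.ext fun x => ?_
      show GmH1Lib.Hilbert90.p02 R B (x ⊗ₜ[R] (1 : B)) = GmH1Lib.Hilbert90.p01 R B (x ⊗ₜ[R] (1 : B))
      simp [Algebra.TensorProduct.one_def]
    have e2 : ((GmH1Lib.Hilbert90.p01 R B).restrictScalars k).comp i₂ =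
        ((GmH1Lib.Hilbert90.p12 R B).restrictScalars k).comp i₁ := by
      refine AlgHom.ext fun x => ?_
      show GmH1Lib.Hilbert90.p01 R B ((1 : B) ⊗ₜ[R] x) = GmH1Lib.Hilbert90.p12 R B (x ⊗ₜ[R] (1 : B))
      simp
    have e3 : ((GmH1Lib.Hilbert90.p02 R B).restrictScalars k).comp i₂ =
        ((GmH1Lib.Hilbert90.p12 R B).restrictScalars k).comp i₂ := by
      refine AlgHom.ext fun x => ?_
      show GmH1Lib.Hilbert90.p02 R B ((1 : B) ⊗ₜ[R] x) = GmH1Lib.Hilbert90.p12 R B ((1 : B) ⊗ₜ[R] x)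
      simp
    rw [e1, e2, e3, _root_.mul_assoc, mul_inv_cancel_left]
  obtain ⟨a, ha, hau⟩ := CocycleSplit.exists_unit u hu hc
  obtain ⟨a', ha'⟩ := ha.exists_left_inv
  obtain ⟨α, hα⟩ := exists_hom_int (Z := sp k B) (f := fnSp k B a') ((IsUnit.of_mul_eq_one _ ha').map (fnSp k B))
  have hrel : ∀ {Z : Over (Spec (CommRingCat.of k))} (x y : Z ⟶ sp k B) (hn : ((x ≫ p)⁻¹ * (y ≫ p)) ≫ q = 1),
      y ≫ α = (x ≫ α) * (lft ((x ≫ p)⁻¹ * (y ≫ p)) hn ≫ ψ) := by
    intro Z x y hn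
    let fx : B →ₐ[k] Fn Z := (ev x).comp (fnSp k B).toAlgHom
    let fy : B →ₐ[k] Fn Z := (ev y).comp (fnSp k B).toAlgHom
    have hxy : (x ≫ p) ≫ q = (y ≫ p) ≫ q := by
      rw [MonObj.mul_comp, GrpObj.inv_comp, inv_mul_eq_one] at hn
      exact hn
    rw [← cancel_mono jQ.hom, Category.assoc, Category.assoc, Category.assoc, Category.assoc, hφ] at hxy
    have hfR : ∀ c : R, fx (φ c) = fy (φ c) := fun c => by
      show ev x (fnSp k B (φ c)) = ev y (fnSp k B (φ c))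
      rw [← ev_spMap φ, ev_ev, ev_ev, hxy]
    letI : Algebra R (Fn Z) := (fx.comp φ).toRingHom.toAlgebra
    haveI : IsScalarTower k R (Fn Z) := IsScalarTower.of_algebraMap_eq fun c => ((fx.comp φ).commutes c).symm
    let fxR : B →ₐ[R] Fn Z := { fx.toRingHom with commutes' := fun c => rfl }
    let fyR : B →ₐ[R] Fn Z := { fy.toRingHom with commutes' := fun c => (hfR c).symm }
    let F := ((Algebra.TensorProduct.productMap fxR fyR).restrictScalars k).comp (fnSp k (B ⊗[R] B)).symm.toAlgHom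
    obtain ⟨w, hw⟩ := LineGroups.exists_hom_ev (T := Z) (X := sp k (B ⊗[R] B)) F
    have hwx : w ≫ spMap i₁ = x := LineGroups.ext_ev (AlgHom.ext fun f => by
      obtain ⟨b, rfl⟩ := (fnSp k B).surjective f
      rw [← ev_ev, ev_spMap, hw]
      show Algebra.TensorProduct.productMap fxR fyR ((fnSp k (B ⊗[R] B)).symm (fnSp k _ (b ⊗ₜ[R] (1 : B)))) = _
      rw [AlgEquiv.symm_apply_apply, Algebra.TensorProduct.productMap_apply_tmul, map_one, _root_.mul_one]
      rfl)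
    have hwy : w ≫ spMap i₂ = y := LineGroups.ext_ev (AlgHom.ext fun f => by
      obtain ⟨b, rfl⟩ := (fnSp k B).surjective f
      rw [← ev_ev, ev_spMap, hw]
      show Algebra.TensorProduct.productMap fxR fyR ((fnSp k (B ⊗[R] B)).symm (fnSp k _ ((1 : B) ⊗ₜ[R] b))) = _
      rw [AlgEquiv.symm_apply_apply, Algebra.TensorProduct.productMap_apply_tmul, map_one, _root_.one_mul]
      rfl)
    have huniv : spMap i₂ ≫ α = (spMap i₁ ≫ α) * δ := by
      refine ext_mon_int ?_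
      rw [ev_mul_mon, ← ev_ev, ← ev_ev, hα, ev_spMap, ev_spMap,
        show ev δ (mon k (1 : ℤ)) = fnSp k _ u from ((fnSp k (B ⊗[R] B)).apply_symm_apply _).symm, ← map_mul]
      congr 1
      show (1 : B) ⊗ₜ[R] a' = (a' ⊗ₜ[R] (1 : B)) * u
      calc (1 : B) ⊗ₜ[R] a' = ((a' ⊗ₜ[R] (1 : B)) * (a ⊗ₜ[R] (1 : B))) * ((1 : B) ⊗ₜ[R] a') := by
            simp [ha']
        _ = (a' ⊗ₜ[R] (1 : B)) * u * (((1 : B) ⊗ₜ[R] a) * ((1 : B) ⊗ₜ[R] a')) := by rw [hau]; ring
        _ = _ := by simp [mul_comm a, ha', Algebra.TensorProduct.one_def.symm]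
    have h2 := congrArg (w ≫ ·) huniv
    rw [MonObj.comp_mul, ← Category.assoc, ← Category.assoc, hwx, hwy] at h2
    rw [h2]
    congr 1
    have hn' : (w ≫ ((spMap i₁ ≫ p)⁻¹ * (spMap i₂ ≫ p))) ≫ q = 1 := by
      rw [Category.assoc, hdiv hi, MonObj.comp_one]
    rw [hnat _ _ (hdiv hi) hn']
    refine hcongr _ _ hn' hn ?_
    rw [MonObj.comp_mul, GrpObj.comp_inv, ← Category.assoc, ← Category.assoc, hwx, hwy]
  have hdesc : ∀ {W : Scheme.{u}} (g₁ g₂ : W ⟶ (sp k B).left), g₁ ≫ p.left = g₂ ≫ p.left →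
      g₁ ≫ α.left = g₂ ≫ α.left := by
    intro W g₁ g₂ e
    let Z : Over (Spec (CommRingCat.of k)) := Over.mk (g₁ ≫ (sp k B).hom)
    let x : Z ⟶ sp k B := Over.homMk g₁ rfl
    let y : Z ⟶ sp k B := Over.homMk g₂ (by
      show g₂ ≫ (sp k B).hom = g₁ ≫ (sp k B).hom
      rw [← Over.w p, ← Category.assoc, ← e, Category.assoc])
    have exy : x ≫ p = y ≫ p := Over.OverMorphism.ext e
    have hn : ((x ≫ p)⁻¹ * (y ≫ p)) ≫ q = 1 := hdiv (by rw [exy])
    have h2 := hrel x y hn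
    rw [hcongr _ 1 hn (MonObj.one_comp q) (by rw [exy, inv_mul_cancel]),
      show lft (1 : Z ⟶ G) (MonObj.one_comp q) = 1 by rw [← cancel_mono h, hlft _ (MonObj.one_comp q), MonObj.one_comp],
      MonObj.one_comp, _root_.mul_one] at h2
    exact (congrArg CommaMorphism.left h2).symm
  haveI : Epi p.left := inferInstance
  let f : G ⟶ D k ℤ := Over.homMk (EffectiveEpi.desc p.left α.left hdesc) (by
    rw [← cancel_epi p.left, ← Category.assoc, EffectiveEpi.fac, Over.w α, Over.w p])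
  have hf : p ≫ f = α := Over.OverMorphism.ext (EffectiveEpi.fac p.left α.left hdesc)
  have htrans : (fst G H * (snd G H ≫ h)) ≫ f = (fst G H ≫ f) * (snd G H ≫ ψ) := by
    let a₀ := fst G H
    let b₀ := fst G H * (snd G H ≫ h)
    let P₁ := Limits.pullback p.left a₀.left
    let g₁ : P₁ ⟶ (G ⊗ H).left := Limits.pullback.snd p.left a₀.left
    let P₂ := Limits.pullback p.left (g₁ ≫ b₀.left)
    let g₂ : P₂ ⟶ P₁ := Limits.pullback.snd p.left (g₁ ≫ b₀.left)
    let Z : Over (Spec (CommRingCat.of k)) := Over.mk ((g₂ ≫ g₁) ≫ (G ⊗ H).hom)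
    let c : Z ⟶ G ⊗ H := Over.homMk (g₂ ≫ g₁) rfl
    let x : Z ⟶ sp k B := Over.homMk (g₂ ≫ Limits.pullback.fst p.left a₀.left) (by
      show (g₂ ≫ Limits.pullback.fst p.left a₀.left) ≫ (sp k B).hom = (g₂ ≫ g₁) ≫ (G ⊗ H).hom
      rw [← Over.w p, ← Category.assoc, Category.assoc g₂, Limits.pullback.condition, Category.assoc, Category.assoc, Over.w a₀]
      simp only [g₁, Category.assoc])
    let y : Z ⟶ sp k B := Over.homMk (Limits.pullback.fst p.left (g₁ ≫ b₀.left)) (by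
      show Limits.pullback.fst p.left (g₁ ≫ b₀.left) ≫ (sp k B).hom = (g₂ ≫ g₁) ≫ (G ⊗ H).hom
      rw [← Over.w p, ← Category.assoc, Limits.pullback.condition, Category.assoc, Category.assoc, Over.w b₀, Category.assoc])
    haveI : Flat g₁ := MorphismProperty.pullback_snd _ _ hp1
    haveI : Surjective g₁ := MorphismProperty.pullback_snd _ _ hp2
    haveI : QuasiCompact g₁ := MorphismProperty.pullback_snd _ _ hp3
    haveI : Flat g₂ := MorphismProperty.pullback_snd _ _ hp1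
    haveI : Surjective g₂ := MorphismProperty.pullback_snd _ _ hp2
    haveI : QuasiCompact g₂ := MorphismProperty.pullback_snd _ _ hp3
    haveI : Epi c := (Over.forget _).epi_of_epi_map (inferInstanceAs (Epi (g₂ ≫ g₁)))
    have hx : x ≫ p = c ≫ a₀ := Over.OverMorphism.ext (by
      show (g₂ ≫ Limits.pullback.fst p.left a₀.left) ≫ p.left = (g₂ ≫ g₁) ≫ a₀.left
      rw [Category.assoc, Limits.pullback.condition, Category.assoc])
    have hy : y ≫ p = c ≫ b₀ := Over.OverMorphism.ext (by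
      show Limits.pullback.fst p.left (g₁ ≫ b₀.left) ≫ p.left = (g₂ ≫ g₁) ≫ b₀.left
      rw [Limits.pullback.condition, Category.assoc])
    have hxy : (x ≫ p)⁻¹ * (y ≫ p) = c ≫ snd G H ≫ h := by
      rw [hx, hy, MonObj.comp_mul, inv_mul_cancel_left]
    have hn : ((x ≫ p)⁻¹ * (y ≫ p)) ≫ q = 1 := by
      rw [hxy, Category.assoc, Category.assoc, hk.w, ← Category.assoc (snd G H), ← Category.assoc c,
        toUnit_unique (c ≫ snd G H ≫ toUnit H) (toUnit _)]
      exact Hom.one_def.symm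
    have hl : lft _ hn = c ≫ snd G H := by rw [← cancel_mono h, hlft _ hn, hxy, Category.assoc]
    have h2 := hrel x y hn
    rw [hl, ← hf, ← Category.assoc x, ← Category.assoc y, hx, hy, Category.assoc, Category.assoc, Category.assoc] at h2
    rw [← cancel_epi c, h2, MonObj.comp_mul]
  let c0 : Fn G := algebraMap k (Fn G) (evPt η[G] (ev f (mon k (1 : ℤ))))⁻¹
  have hne : evPt η[G] (ev f (mon k (1 : ℤ))) ≠ 0 := ((isUnit_ev_mon f 1).map (evPt η[G])).ne_zero
  let F : Fn G := ev f (mon k (1 : ℤ)) * c0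
  have hFu : IsUnit F := (isUnit_ev_mon f 1).mul ((isUnit_iff_ne_zero.2 (inv_ne_zero hne)).map _)
  have hF1 : evPt η[G] F = 1 := by
    rw [map_mul, AlgHom.commutes, Algebra.algebraMap_self_apply, mul_inv_cancel₀ hne]
  obtain ⟨χ, hχ⟩ := exists_hom_int (Z := G) hFu
  have hχm : IsMonHom χ := isMonHom_of χ fun m => by
    induction m using Int.induction_on with
    | zero => simp [ev_zero]
    | succ n ih => rw [ev_add, map_mul, map_mul, map_mul, ih, hχ, unit_isChar hFu hF1]; ring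
    | pred n ih =>
      have e : ev χ (mon k (-(n : ℤ))) = ev χ (mon k (-(n : ℤ) - 1)) * F := by
        rw [← hχ, ← ev_add, sub_add_cancel]
      rw [e, map_mul (ev μ[G]), map_mul (ev (fst G G)), map_mul (ev (snd G G)), unit_isChar hFu hF1] at ih
      refine ((hFu.map (ev (fst G G))).mul (hFu.map (ev (snd G G)))).mul_right_cancel ?_
      rw [ih]; ring
  refine ⟨χ, hχm, ext_mon_int ?_⟩
  have h3 := congrArg (fun g => ev (lift (toUnit H ≫ η[G]) (𝟙 H) ≫ g) (mon k (1 : ℤ))) htrans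
  simp only [MonObj.comp_mul, lift_fst_assoc, lift_snd_assoc, ev_mul_mon] at h3
  have e4 : lift (toUnit H ≫ η[G]) (𝟙 H) ≫ (fst G H * (snd G H ≫ h)) = h := by
    rw [MonObj.comp_mul, lift_fst, lift_snd_assoc, Category.id_comp, ← Hom.one_def, _root_.one_mul]
  rw [← Category.assoc (lift (toUnit H ≫ η[G]) (𝟙 H)), e4, Category.id_comp, ← ev_ev (toUnit H ≫ η[G]),
    one_fn_const] at h3
  rw [← ev_ev, hχ, map_mul, AlgHom.commutes, ev_ev, h3, mul_comm _ (ev ψ _), _root_.mul_assoc, ← map_mul,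
    mul_inv_cancel₀ hne, map_one, _root_.mul_one]

end Groth.Agent.GrpSchLib.CharDescent
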