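import Groth.Agent.GrpSchLib.SplitTorusPoints
import Groth.Agent.GrpSchLib.HomClosedRange
import Groth.Agent.GrpSchLib.HomFlat
import Groth.Agent.GrpSchLib.LaurentPic
import Groth.Agent.UnitsFG.Basic
import Mathlib.LinearAlgebra.FreeModule.PID
import Mathlib.LinearAlgebra.Dimension.Free

/-! The character lattice of a connected smooth group and the associated torus quotient. -/

universe u

set_option autoImplicit false
set_option backward.isDefEq.respectTransparency false
set_option backward.isDefEq.respectTransparency.types false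

open CategoryTheory MonoidalCategory CartesianMonoidalCategory MonObj GrpObj AlgebraicGeometry

namespace Groth.Agent.GrpSchLib.CharLattice

open Kunneth SplitTorusPoints AffineHopf

variable {k : Type u} [Field k] [IsAlgClosed k] (G : Over (Spec (CommRingCat.of k))) [GrpObj G] [Smooth G.hom]
  [QuasiCompact G.hom] [ConnectedSpace G.left]

/-- Units taking the value one at the identity. -/
noncomputable def normUnits : Subgroup (Fn G)ˣ :=
  (Units.map ((evPt η[G]) : Fn G →* k)).ker

theorem mem_normUnits {u : (Fn G)ˣ} : u ∈ normUnits G ↔ evPt η[G] (u : Fn G) = 1 := by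
  simp [normUnits, MonoidHom.mem_ker, Units.ext_iff]

theorem eq_one_of_isIntegral {f : Fn G} (hf : IsIntegral k f) (h1 : evPt η[G] f = 1) : f = 1 := by
  haveI := isIntegral_grp G
  haveI := isDomain_fn G
  obtain ⟨c, rfl⟩ : f ∈ (algebraMap k (Fn G)).range := by
    rw [← minpoly.natDegree_eq_one_iff]
    exact Polynomial.natDegree_eq_of_degree_eq_some
      (IsAlgClosed.degree_eq_one_of_irreducible k (minpoly.irreducible hf))
  rw [AlgHom.commutes, Algebra.algebraMap_self_apply] at h1
  rw [h1, map_one]

theorem exists_lattice : ∃ (r : ℕ) (c : (Fin r → ℤ) → Fn G),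
    (∀ m n, c (m + n) = c m * c n) ∧ c 0 = 1 ∧ (∀ m, IsUnit (c m)) ∧ (∀ m, evPt η[G] (c m) = 1) ∧
      Function.Injective c ∧ (∀ f : Fn G, IsUnit f → evPt η[G] f = 1 → ∃ m, c m = f) := by
  haveI := isIntegral_grp G
  obtain ⟨U, hU, hxU, -⟩ := exists_isAffineOpen_mem_and_subset (X := G.left) (x := Classical.arbitrary G.left)
    (U := ⊤) trivial
  haveI : Nonempty U := ⟨⟨_, hxU⟩⟩
  let ρ : Fn G →+* Γ(G.left, U) := (G.left.presheaf.map (homOfLE (le_top : U ≤ ⊤)).op).hom
  have hρ : Function.Injective ρ := map_injective_of_isIntegral G.left (homOfLE (le_top : U ≤ ⊤))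
  letI : Algebra k Γ(G.left, U) := (ρ.comp (algebraMap k (Fn G))).toAlgebra
  let ρ' : Fn G →ₐ[k] Γ(G.left, U) := { ρ with commutes' := fun _ => rfl }
  haveI : Algebra.FiniteType k Γ(G.left, U) := by
    have h := G.hom.finiteType_appLE (isAffineOpen_top (Spec (CommRingCat.of k))) hU (by simp)
    show (algebraMap k Γ(G.left, U)).FiniteType
    have e : algebraMap k Γ(G.left, U) =
        (G.hom.appLE ⊤ U (by simp)).hom.comp ((Scheme.ΓSpecIso (CommRingCat.of k)).inv).hom := rfl
    rw [e]
    exact h.comp (RingHom.FiniteType.of_surjective _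
      (ConcreteCategory.bijective_of_isIso (Scheme.ΓSpecIso (CommRingCat.of k)).inv).2)
  obtain ⟨J, _, h, hh⟩ := UnitsFG.exists_hom_units k Γ(G.left, U)
  let h' : normUnits G →* Multiplicative (J → ℤ) := h.comp ((Units.map (ρ' : Fn G →* Γ(G.left, U))).comp (normUnits G).subtype)
  have hinj : Function.Injective h' := by
    refine (injective_iff_map_eq_one h').2 fun u hu => ?_
    have h1 : IsIntegral k (ρ' ((u : (Fn G)ˣ) : Fn G)) := hh _ hu
    rw [isIntegral_algHom_iff ρ' hρ] at h1
    exact Subtype.ext (Units.ext (eq_one_of_isIntegral G h1 ((mem_normUnits G).1 u.2)))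
  let φ : Additive (normUnits G) →ₗ[ℤ] (J → ℤ) := (MonoidHom.toAdditiveLeft h').toIntLinearMap
  have hφ : Function.Injective φ := hinj
  haveI : Fintype J := Fintype.ofFinite J
  haveI : Module.Free ℤ (LinearMap.range φ) := Module.free_of_finite_type_torsion_free'
  let b := (LinearEquiv.ofInjective φ hφ).trans (Module.finBasis ℤ (LinearMap.range φ)).equivFun
  refine ⟨_, fun m => ((Additive.toMul (b.symm m) : normUnits G) : (Fn G)ˣ), fun m n => ?_, ?_, fun m => Units.isUnit _,
    fun m => (mem_normUnits G).1 (Additive.toMul (b.symm m)).2, fun m n e => ?_, fun f hf h1 => ?_⟩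
  · simp [map_add]
  · simp
  · exact b.symm.injective (Additive.toMul.injective (Subtype.ext (Units.ext e)))
  · refine ⟨b (Additive.ofMul ⟨hf.unit, (mem_normUnits G).2 h1⟩), ?_⟩
    simp

theorem linearIndependent_char {r : ℕ} (c : (Fin r → ℤ) → Fn G) (hu : ∀ m, IsUnit (c m))
    (he : ∀ m, evPt η[G] (c m) = 1) (hc : Function.Injective c) : LinearIndependent k c := by
  classical
  haveI := isReduced_of_smooth_field G.hom
  let χ : (Fin r → ℤ) → ((𝟙_ (Over (Spec (CommRingCat.of k))) ⟶ G) →* k) := fun m =>
    { toFun := fun g => evPt g (c m)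
      map_one' := by rw [← MonObj.one_eq_one]; exact he m
      map_mul' := fun g g' => by
        rw [Hom.mul_def, ← evPt_comp, unit_isChar (hu m) (he m), map_mul, evPt_comp, evPt_comp, lift_fst, lift_snd] }
  have hχ : Function.Injective χ := fun m n e => hc (by
    rw [← sub_eq_zero]
    refine eq_zero_of_forall_evPt _ fun g => ?_
    rw [map_sub, sub_eq_zero]
    exact DFunLike.congr_fun e g)
  have := (linearIndependent_monoidHom (𝟙_ (Over (Spec (CommRingCat.of k))) ⟶ G) k).comp χ hχ
  rw [linearIndependent_iff'] at this ⊢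
  intro s a h m hm
  refine this s a ?_ m hm
  funext g
  have h2 := congrArg (evPt g) h
  simp only [map_sum, map_smul, map_zero] at h2
  simpa [χ, Finset.sum_apply] using h2

/-- The torus quotient: a faithfully flat homomorphism through which all characters factor. -/
theorem exists_quotient : ∃ (r : ℕ) (q : G ⟶ D k (Fin r → ℤ)), IsMonHom q ∧ Flat q.left ∧ Surjective q.left ∧
    QuasiCompact q.left ∧ ∀ χ : G ⟶ D k ℤ, IsMonHom χ → ∃ a : D k (Fin r → ℤ) ⟶ D k ℤ, IsMonHom a ∧ q ≫ a = χ := by
  obtain ⟨r, c, hadd, h0, hu, he, hinj, hex⟩ := exists_lattice G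
  haveI := isIntegral_grp G
  let χ₀ : Multiplicative (Fin r → ℤ) →* Fn G :=
    { toFun := fun m => c (Multiplicative.toAdd m)
      map_one' := h0
      map_mul' := fun m n => hadd _ _ }
  obtain ⟨q, hq⟩ := exists_hom χ₀
  have hq' : ∀ m, ev q (mon k m) = c m := hq
  haveI : IsMonHom q := isMonHom_of q fun m => by rw [hq']; exact unit_isChar (hu m) (he m)
  obtain ⟨hdom, -⟩ := LaurentPic.ufd_lattice k r
  haveI : IsReduced (D k (Fin r → ℤ)).left :=
    inferInstanceAs (IsReduced (Spec (CommRingCat.of (MonoidAlgebra k (Multiplicative (Fin r → ℤ))))))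
  haveI : IsSeparated (D k (Fin r → ℤ)).hom := inferInstance
  haveI : QuasiCompact q.left := by
    haveI : QuasiCompact (q.left ≫ (D k (Fin r → ℤ)).hom) := by rw [Over.w q]; infer_instance
    exact QuasiCompact.of_comp q.left (D k (Fin r → ℤ)).hom
  haveI : LocallyOfFiniteType (D k (Fin r → ℤ)).hom := by
    haveI : Algebra.FiniteType k (MonoidAlgebra k (Multiplicative (Fin r → ℤ))) := inferInstance
    exact (HasRingHomProperty.Spec_iff (P := @LocallyOfFiniteType)).2
      (RingHom.finiteType_algebraMap.2 this)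
  have hinjq : Function.Injective (ev q) := by
    rw [injective_iff_map_eq_zero]
    intro z hz
    obtain ⟨b, rfl⟩ := (fnSp k (MonoidAlgebra k (Multiplicative (Fin r → ℤ)))).surjective z
    have key : ∀ b : MonoidAlgebra k (Multiplicative (Fin r → ℤ)),
        ev q (fnSp k _ b) = Finsupp.linearCombination k (fun m => c (Multiplicative.toAdd m)) b.coeff := by
      intro b
      induction b using MonoidAlgebra.induction_linear with
      | zero => simp
      | add x y hx hy => simp only [map_add, hx, hy, MonoidAlgebra.coeff_add]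
      | single m s =>
        rw [show MonoidAlgebra.single m s = s • MonoidAlgebra.single m 1 by simp [MonoidAlgebra.smul_single],
          map_smul, map_smul, MonoidAlgebra.coeff_smul, MonoidAlgebra.coeff_single, map_smul,
          Finsupp.linearCombination_single, one_smul]
        exact congrArg (s • ·) (hq' (Multiplicative.toAdd m))
    have hli : LinearIndependent k (fun m => c (Multiplicative.toAdd m)) :=
      (linearIndependent_char G c hu he hinj).comp _ Multiplicative.toAdd.injective
    rw [key] at hz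
    have : b.coeff = 0 := hli.finsuppLinearCombination_injective (hz.trans (map_zero _).symm)
    rw [show b = 0 from MonoidAlgebra.coeff_injective this, map_zero]
  haveI : Surjective q.left := by
    refine ⟨fun y => ?_⟩
    by_contra hy
    obtain ⟨_, ⟨b, rfl⟩, hyb, hsub⟩ := PrimeSpectrum.isTopologicalBasis_basic_opens.exists_subset_of_mem_open
      (show y ∈ (Set.range q.left)ᶜ from hy) (HomClosedRange.isClosed_range q).isOpen_compl
    let z : Fn (D k (Fin r → ℤ)) := (Scheme.ΓSpecIso (CommRingCat.of (MonoidAlgebra k (Multiplicative (Fin r → ℤ))))).inv b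
    have hyz : y ∈ (D k (Fin r → ℤ)).left.basicOpen z := basicOpen_eq_of_affine b ▸ hyb
    have hz0 : ev q z = 0 := by
      haveI := isReduced_of_smooth_field G.hom
      apply basicOpen_eq_bot_iff _ |>.mp
      refine TopologicalSpace.Opens.ext (Set.eq_empty_of_forall_notMem fun x hx => ?_)
      have hx' : x ∈ q.left ⁻¹ᵁ (D k (Fin r → ℤ)).left.basicOpen z := by
        rw [Scheme.preimage_basicOpen_top]; exact hx
      rw [show (D k (Fin r → ℤ)).left.basicOpen z = PrimeSpectrum.basicOpen b from basicOpen_eq_of_affine (R := CommRingCat.of _) b] at hx'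
      exact hsub hx' ⟨x, rfl⟩
    rw [(injective_iff_map_eq_zero _).1 hinjq z hz0, Scheme.basicOpen_zero] at hyz
    exact hyz
  refine ⟨r, q, inferInstance, flat_of_surjective_hom q, inferInstance, inferInstance, fun χ _ => ?_⟩
  obtain ⟨v, hv⟩ := hex (ev χ (mon k (1 : ℤ))) (isUnit_ev_mon χ 1) (evPt_eta χ 1)
  obtain ⟨a, ha⟩ := exists_hom (Z := D k (Fin r → ℤ)) (M := ℤ)
    { toFun := fun n => mon k (Multiplicative.toAdd n • v)
      map_one' := by simp [mon_zero]
      map_mul' := fun m n => by rw [← mon_add, ← add_smul]; rfl }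
  refine ⟨a, isMonHom_of a fun n => by rw [ha]; exact ev_mu_mon _, ext_mon_int ?_⟩
  rw [← ev_ev, ha]
  show ev q (mon k ((1 : ℤ) • v)) = _
  rw [hq', one_smul, hv]

end Groth.Agent.GrpSchLib.CharLattice
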