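import Groth.Agent.GrpSchLib.DiagActionRigid
import Groth.Agent.FpqcDescLib.Basic
import Groth.Prelude.Def_TwC

/-!
# Actions of groups of multiplicative type which are trivial modulo a locally nilpotent ideal
-/

universe u

open CategoryTheory CategoryTheory.Limits MonoidalCategory CartesianMonoidalCategory MonObj AlgebraicGeometry


namespace Groth.Agent.GrpSchLib.MultActionRigid

open DiagActionRigid (sp spm)
open DSPtsLib (CoordM)

variable {S S₀ : Scheme.{u}}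

/-- An algebra killed by the ideal of a closed subscheme maps into it. -/
theorem exists_hom_closed (i₀ : S₀ ⟶ S) [IsClosedImmersion i₀] (V : S.affineOpens) {R B : Type u} [CommRing R]
    [CommRing B] [Algebra R B] {β : Spec (CommRingCat.of R) ⟶ S} (τ : Γ(S, V.1) ⟶ CommRingCat.of R)
    (hτ : Spec.map τ ≫ V.2.fromSpec = β)
    (hB : ∀ l ∈ (i₀.ker.ideal V).map τ.hom, algebraMap R B l = 0) :
    Nonempty (sp β B ⟶ Over.mk i₀) := by
  have hV' : IsAffineOpen (i₀ ⁻¹ᵁ V.1) := V.2.preimage i₀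
  have hker : RingHom.ker (i₀.app V.1).hom ≤ RingHom.ker ((algebraMap R B).comp τ.hom) := by
    rw [← Scheme.Hom.ker_apply]
    exact fun v hv => RingHom.mem_ker.mpr (hB _ (Ideal.mem_map_of_mem _ hv))
  obtain ⟨ψ, hψ⟩ : ∃ ψ : Γ(S₀, i₀ ⁻¹ᵁ V.1) →+* B, ψ.comp (i₀.app V.1).hom = (algebraMap R B).comp τ.hom :=
    ⟨RingHom.liftOfSurjective _ (i₀.app_surjective V.1 V.2) ⟨_, hker⟩, RingHom.liftOfSurjective_comp _ _ _⟩
  refine ⟨Over.homMk (Spec.map (CommRingCat.ofHom ψ) ≫ hV'.fromSpec) ?_⟩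
  show (_ ≫ _) ≫ i₀ = Spec.map (CommRingCat.ofHom (algebraMap R B)) ≫ β
  rw [Category.assoc, ← IsAffineOpen.SpecMap_appLE_fromSpec i₀ V.2 hV' le_rfl, Scheme.Hom.appLE_eq_app, ← hτ,
    ← Spec.map_comp_assoc, ← Spec.map_comp_assoc]
  congr 2
  exact CommRingCat.hom_ext hψ

/-- A group of multiplicative type acting trivially modulo a locally nilpotent ideal acts trivially. -/
theorem action_trivial (i₀ : S₀ ⟶ S) [IsClosedImmersion i₀]
    (hnil : ∀ x : S, ∃ U : S.affineOpens, x ∈ (U : S.Opens) ∧ IsNilpotent (i₀.ker.ideal U))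
    {G X : Over S} [GrpObj G] (hG : TwC.Locally S TwC.Topology.fpqc (fun S' f => ∃ (M : Type) (_ : AddCommGroup M),
      Nonempty (Grp.mk (Red.bc f G) ≅ Grp.mk (Red.DS S' M))))
    (a : AlgGrp.Action G X)
    (h0 : ∀ (Y : Over S) (_ : Y ⟶ Over.mk i₀) (g : Y ⟶ G) (x : Y ⟶ X), lift g x ≫ a.act = x)
    (Y : Over S) (g : Y ⟶ G) (x : Y ⟶ X) : lift g x ≫ a.act = x := by
  obtain ⟨S', f, hflat, hsurj, hqc, hloc⟩ := hG
  let P : Over S := Over.mk (pullback.fst Y.hom f ≫ Y.hom)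
  let p : P ⟶ Y := Over.homMk (pullback.fst Y.hom f) rfl
  have hcov : FpqcDescLib.Covers f :=
    FpqcDescLib.covers_of_hcov f ⟨S', f, 𝟙 _, Category.id_comp _, hsurj, hflat, hqc⟩
  have hp : FpqcDescLib.Covers p.left :=
    hcov.pullback Y.hom p.left (pullback.snd Y.hom f) (IsPullback.of_hasPullback Y.hom f)
  haveI := hp.over_epi
  rw [← cancel_epi p]
  refine Over.OverMorphism.ext (Scheme.hom_ext_of_forall _ _ fun z => ?_)
  obtain ⟨U, hzU, M, instM, ⟨e⟩⟩ := hloc (pullback.snd Y.hom f z)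
  obtain ⟨V, hzV, hVnil⟩ := hnil (P.hom z)
  obtain ⟨O, hO, hzO, hOle⟩ := exists_isAffineOpen_mem_and_subset
    (show z ∈ pullback.snd Y.hom f ⁻¹ᵁ U ⊓ P.hom ⁻¹ᵁ V.1 from ⟨hzU, hzV⟩)
  refine ⟨O, hzO, ?_⟩
  suffices key : hO.fromSpec ≫ (p ≫ lift g x ≫ a.act).left = hO.fromSpec ≫ (p ≫ x).left by
    rwa [← hO.isoSpec_inv_ι, Category.assoc, Category.assoc, cancel_epi] at key
  let R : Type u := Γ(P.left, O)
  let β : Spec (CommRingCat.of R) ⟶ S := hO.fromSpec ≫ P.hom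
  have hmemO : ∀ r, hO.fromSpec r ∈ O := fun r => by
    rw [← SetLike.mem_coe, ← hO.range_fromSpec]; exact ⟨r, rfl⟩
  have hβ : ∀ r, β r ∈ V.1 := fun r => (hOle (hmemO r)).2
  have hUr : Set.range (hO.fromSpec ≫ pullback.snd Y.hom f) ⊆ Set.range U.ι := by
    rintro _ ⟨r, rfl⟩
    rw [Scheme.Opens.range_ι]
    exact (hOle (hmemO r)).1
  let jR : Spec (CommRingCat.of R) ⟶ U := IsOpenImmersion.lift U.ι (hO.fromSpec ≫ pullback.snd Y.hom f) hUr
  let gU : (U : Scheme.{u}) ⟶ S := U.ι ≫ f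
  have hjR : jR ≫ gU = β := by
    show jR ≫ U.ι ≫ f = hO.fromSpec ≫ pullback.fst Y.hom f ≫ Y.hom
    rw [← Category.assoc, IsOpenImmersion.lift_fac, Category.assoc, pullback.condition]
  have hbr : Set.range β ⊆ Set.range V.2.fromSpec := by
    rintro _ ⟨r, rfl⟩
    rw [V.2.range_fromSpec]
    exact hβ r
  let τ : Γ(S, V.1) ⟶ CommRingCat.of R := Spec.preimage (IsOpenImmersion.lift V.2.fromSpec β hbr)
  have hτ : Spec.map τ ≫ V.2.fromSpec = β := by rw [Spec.map_preimage, IsOpenImmersion.lift_fac]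
  -- characters give points of the group
  let ei : Red.bc gU G ≅ Red.DS (U : Scheme.{u}) M :=
    ⟨e.hom.hom.hom, e.inv.hom.hom, congrArg (fun h => h.hom.hom) e.hom_inv_id,
      congrArg (fun h => h.hom.hom) e.inv_hom_id⟩
  haveI : IsMonHom ei.inv := e.inv.hom.isMonHom_hom
  let tr : ∀ (A : Type u) [CommRing A] [Algebra R A],
      sp β A ⟶ (Over.map gU).obj (DSPtsLib.spU (Spec.map (CommRingCat.ofHom (algebraMap R A)) ≫ jR)) :=
    fun A _ _ => Over.homMk (𝟙 _) (by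
      show 𝟙 _ ≫ (_ ≫ jR) ≫ gU = _ ≫ β
      rw [Category.id_comp, Category.assoc, hjR])
  let χ : ∀ (A : Type u) [CommRing A] [Algebra R A], (CoordM.{u} M →+* A) → (sp β A ⟶ G) :=
    fun A _ _ c => tr A ≫ DSPtsLib.theta gU
      (DSPtsLib.pt (Spec.map (CommRingCat.ofHom (algebraMap R A)) ≫ jR) c ≫ ei.inv)
  have hnat : ∀ {A A' : Type u} [CommRing A] [Algebra R A] [CommRing A'] [Algebra R A'] (φ : A →ₐ[R] A')
      (c : CoordM.{u} M →+* A), spm β φ ≫ χ A c = χ A' (φ.toRingHom.comp c) := by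
    intro A A' _ _ _ _ φ c
    have hj : Spec.map (CommRingCat.ofHom φ.toRingHom) ≫ Spec.map (CommRingCat.ofHom (algebraMap R A)) ≫ jR =
        Spec.map (CommRingCat.ofHom (algebraMap R A')) ≫ jR := by
      rw [← Spec.map_comp_assoc, ← CommRingCat.ofHom_comp]
      congr 3
      exact φ.comp_algebraMap
    have htrn : spm β φ ≫ tr A = tr A' ≫ (Over.map gU).map (Over.homMk (Spec.map (CommRingCat.ofHom φ.toRingHom)) hj :
        DSPtsLib.spU (Spec.map (CommRingCat.ofHom (algebraMap R A')) ≫ jR) ⟶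
          DSPtsLib.spU (Spec.map (CommRingCat.ofHom (algebraMap R A)) ≫ jR)) := by
      refine Over.OverMorphism.ext ?_
      show Spec.map _ ≫ 𝟙 _ = 𝟙 _ ≫ Spec.map _
      rw [Category.id_comp, Category.comp_id]
    show spm β φ ≫ tr A ≫ _ = tr A' ≫ _
    rw [← DSPtsLib.pt_comp _ c φ.toRingHom _ hj, ← Category.assoc, htrn, Category.assoc]
    simp only [DSPtsLib.theta_comp, Category.assoc]
  have hmul : ∀ {A : Type u} [CommRing A] [Algebra R A] (c c' d : CoordM.{u} M →+* A),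
      (∀ m, d (MonoidAlgebra.single m 1) = c (MonoidAlgebra.single m 1) * c' (MonoidAlgebra.single m 1)) →
        χ A c * χ A c' = χ A d := by
    intro A _ _ c c' d h
    show (tr A ≫ _) * (tr A ≫ _) = tr A ≫ _
    have e2 := MonObj.mul_comp (DSPtsLib.pt (Spec.map (CommRingCat.ofHom (algebraMap R A)) ≫ jR) c)
      (DSPtsLib.pt (Spec.map (CommRingCat.ofHom (algebraMap R A)) ≫ jR) c') ei.inv
    rw [← MonObj.comp_mul, ← DSPtsLib.theta_mul, ← e2, DSPtsLib.pt_mul _ c c' d h]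
  let t : sp β R ⟶ P := Over.homMk hO.fromSpec (by
    show hO.fromSpec ≫ P.hom = Spec.map (CommRingCat.ofHom (algebraMap R R)) ≫ β
    rw [show Spec.map (CommRingCat.ofHom (algebraMap R R)) = 𝟙 _ from Spec.map_id _, Category.id_comp])
  obtain ⟨c, hc⟩ : ∃ c, t ≫ p ≫ g = χ R c := by
    have htr : IsIso (tr R) := by
      haveI : IsIso ((Over.forget S).map (tr R)) := inferInstanceAs (IsIso (𝟙 _))
      exact isIso_of_reflects_iso _ (Over.forget S)
    obtain ⟨w, hw⟩ := (DSPtsLib.theta_bijective (H := G) gU).2 (inv (tr R) ≫ t ≫ p ≫ g)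
    obtain ⟨c, hc⟩ := DSPtsLib.exists_eq_pt _ (w ≫ ei.hom)
    refine ⟨c, ?_⟩
    show _ = tr R ≫ DSPtsLib.theta gU (DSPtsLib.pt _ c ≫ ei.inv)
    rw [← hc, Category.assoc, Iso.hom_inv_id, Category.comp_id, hw, IsIso.hom_inv_id_assoc]
  have hmain := DiagActionRigid.main a χ hnat hmul V.2 hβ ((i₀.ker.ideal V).map τ.hom)
    (by obtain ⟨n, hn⟩ := hVnil; exact ⟨n, by rw [← Ideal.map_pow, hn, Ideal.zero_eq_bot, Ideal.map_bot]; rfl⟩)
    (fun B _ _ hB c' z' => by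
      obtain ⟨q⟩ := exists_hom_closed i₀ V τ hτ hB
      exact h0 _ q _ _)
    (t ≫ p ≫ x) c
  rw [← hc, ← comp_lift, ← comp_lift, Category.assoc, Category.assoc] at hmain
  exact congrArg (fun m => Over.Hom.left m) hmain

end Groth.Agent.GrpSchLib.MultActionRigid
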