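import Groth.Agent.GrpSchLib.DiagActionRigid
import Groth.Agent.SBAut.Yoneda
import Groth.Agent.FpqcDescLib.Basic
import Groth.Prelude.Def_TwC
import Groth.Agent.GrpSchLib.MultActionRigid
import Mathlib.AlgebraicGeometry.Morphisms.FiniteType
import Mathlib.AlgebraicGeometry.ResidueField
import Mathlib.RingTheory.Nakayama

/-!
# Actions of groups of multiplicative type which are trivial on every fibre

Over a local test ring the coefficients of `g·x - x` span a finitely generated ideal `c`; modulo `m c` the coefficients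
are additive in `g`, hence zero, so `c = m c` and `c = 0` by Nakayama.
-/

universe u

open CategoryTheory CategoryTheory.Limits MonoidalCategory CartesianMonoidalCategory MonObj AlgebraicGeometry

namespace Groth.Agent.GrpSchLib.FibreActionRigid

open DiagActionRigid
open DSPtsLib (CoordM)

section Algebra

variable {R : Type u} [CommRing R] {N : Type*} [Monoid N]

theorem coeff_mem {J : Ideal R} {d : MonoidAlgebra R N} (hd : d ∈ J.map (algebraMap R (MonoidAlgebra R N))) (n : N) :
    d.coeff n ∈ J := by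
  classical
  have key : ∀ (e d : MonoidAlgebra R N), (∀ n, d.coeff n ∈ J) → ∀ n, (e * d).coeff n ∈ J := fun e d hd n => by
    rw [MonoidAlgebra.coeff_mul]
    simp only [Finsupp.sum, Finsupp.finset_sum_apply]
    exact Ideal.sum_mem _ fun i _ => Ideal.sum_mem _ fun j _ => by
      split_ifs
      · exact Ideal.mul_mem_left _ _ (hd j)
      · exact zero_mem _
  refine Submodule.span_induction (p := fun d _ => ∀ n, d.coeff n ∈ J) ?_ ?_ ?_ ?_ hd n
  · rintro _ ⟨r, hr, rfl⟩ n
    show (MonoidAlgebra.single (1 : N) (algebraMap R R r)).coeff n ∈ J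
    rw [MonoidAlgebra.coeff_single, Finsupp.single_apply]
    split_ifs
    · exact hr
    · exact zero_mem _
  · intro n; exact zero_mem _
  · intro p q _ _ hp hq n; exact add_mem (hp n) (hq n)
  · intro e p _ hp n; exact key e p hp n

theorem mem_map_of_coeff {J : Ideal R} {d : MonoidAlgebra R N} (hd : ∀ n, d.coeff n ∈ J) :
    d ∈ J.map (algebraMap R (MonoidAlgebra R N)) := by
  rw [← MonoidAlgebra.sum_single d]
  refine Ideal.sum_mem _ fun n _ => ?_
  have : MonoidAlgebra.single n (d.coeff n) =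
      MonoidAlgebra.single n 1 * algebraMap R (MonoidAlgebra R N) (d.coeff n) := by
    show _ = _ * MonoidAlgebra.single 1 (algebraMap R R (d.coeff n))
    simp [MonoidAlgebra.single_mul_single]
  rw [this]
  exact Ideal.mul_mem_left _ _ (Ideal.mem_map_of_mem _ (hd n))

theorem sub_mem_closure {A B : Type u} [CommRing A] [CommRing B] [Algebra R A] (e e' : B →+* A) (J : Ideal A)
    {G : Type u} [CommRing G] (σ : G →+* B) (hσ : ∀ g, e (σ g) - e' (σ g) ∈ J) (T : Set B)
    (hT : ∀ t ∈ T, e t - e' t ∈ J) {v : B}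
    (hv : v ∈ Subring.closure (Set.range σ ∪ T)) : e v - e' v ∈ J := by
  refine Subring.closure_induction ?_ ?_ ?_ ?_ ?_ ?_ hv
  · rintro w (⟨g, rfl⟩ | hw)
    · exact hσ g
    · exact hT w hw
  · simp
  · simp
  · intro p q _ _ hp hq
    rw [map_add, map_add, add_sub_add_comm]
    exact add_mem hp hq
  · intro p _ hp
    rw [map_neg, map_neg, ← neg_sub']
    exact neg_mem hp
  · intro p q _ _ hp hq
    rw [map_mul, map_mul, show e p * e q - e' p * e' q = e p * (e q - e' q) + e' q * (e p - e' p) by ring]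
    exact add_mem (Ideal.mul_mem_left _ _ hq) (Ideal.mul_mem_left _ _ hp)

end Algebra

section Local

variable {S : Scheme.{u}} {R : Type u} [CommRing R] {β : Spec (CommRingCat.of R) ⟶ S}
  {G X : Over S} [GrpObj G] (a : AlgGrp.Action G X) {M : Type} [AddCommGroup M]
  (χ : ∀ (A : Type u) [CommRing A] [Algebra R A], (CoordM.{u} M →+* A) → (sp β A ⟶ G))
  (hnat : ∀ {A A' : Type u} [CommRing A] [Algebra R A] [CommRing A'] [Algebra R A'] (φ : A →ₐ[R] A')
    (f : CoordM.{u} M →+* A), spm β φ ≫ χ A f = χ A' (φ.toRingHom.comp f))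
  (hmul : ∀ {A : Type u} [CommRing A] [Algebra R A] (f g h : CoordM.{u} M →+* A),
    (∀ m, h (MonoidAlgebra.single m 1) = f (MonoidAlgebra.single m 1) * g (MonoidAlgebra.single m 1)) →
      χ A f * χ A g = χ A h)
include hnat hmul

omit hmul in
/-- A pair whose first branch is fixed modulo `L` is fixed modulo `L` if the points killed by `𝔪` are fixed. -/
theorem pair_fixed {L 𝔪 : Ideal R} {T : Type u} [CommRing T] [Algebra R T] {W : X.left.Opens} (hW : IsAffineOpen W)
    (hmL : ∀ r ∈ 𝔪, ∀ l ∈ L, algebraMap R T (r * l) = 0) (hLL : ∀ r ∈ L, ∀ l ∈ L, algebraMap R T (r * l) = 0)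
    (f : CoordM.{u} M →+* Pair L T) (z : sp β (Pair L T) ⟶ X) (hzW : ∀ s, z.left s ∈ W)
    (hfst : ∀ (T' : Type u) [CommRing T'] [Algebra R T'], (∀ l ∈ L, algebraMap R T' l = 0) →
      ∀ (ρ : T →ₐ[R] T'), lift (χ T' (ρ.toRingHom.comp ((pairFst L T).toRingHom.comp f)))
          (spm β ρ ≫ spm β (A := Pair L T) (pairFst L T) ≫ z) ≫ a.act =
        spm β ρ ≫ spm β (A := Pair L T) (pairFst L T) ≫ z)
    (hfibm : ∀ (T' : Type u) [CommRing T'] [Algebra R T'], (∀ r ∈ 𝔪, algebraMap R T' r = 0) →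
      ∀ (f : CoordM.{u} M →+* T') (z : sp β T' ⟶ X), lift (χ T' f) z ≫ a.act = z) :
    redMap L (Pair L T) ≫ lift (χ (Pair L T) f) z ≫ a.act = redMap L (Pair L T) ≫ z := by
  let J := L.map (algebraMap R T)
  have hJm : ∀ r ∈ 𝔪, ∀ y ∈ J, algebraMap R T r * y = 0 := by
    intro r hr y hy
    refine Submodule.span_induction (p := fun y _ => algebraMap R T r * y = 0) ?_ ?_ ?_ ?_ hy
    · rintro _ ⟨l, hl, rfl⟩; rw [← map_mul]; exact hmL r hr l hl
    · exact mul_zero _
    · intro _ _ _ _ h1 h2; rw [mul_add, h1, h2, add_zero]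
    · intro e y _ h; rw [smul_eq_mul, mul_left_comm, h, mul_zero]
  let ρ : T →ₐ[R] T ⧸ J := Ideal.Quotient.mkₐ R J
  let ρ₁ : Pair L T →ₐ[R] T ⧸ J := ρ.comp (pairFst L T)
  let w := lift (χ (Pair L T) f) z ≫ a.act
  have hJ0 : ∀ l ∈ L, algebraMap R (T ⧸ J) l = 0 := fun l hl => by
    rw [IsScalarTower.algebraMap_apply R T (T ⧸ J)]
    exact Ideal.Quotient.eq_zero_iff_mem.mpr (Ideal.mem_map_of_mem _ hl)
  have h1 : spm β (A := Pair L T) ρ₁ ≫ w = spm β (A := Pair L T) ρ₁ ≫ z := by
    show spm β (A := Pair L T) (ρ.comp (pairFst L T)) ≫ lift _ _ ≫ a.act = spm β (A := Pair L T) (ρ.comp (pairFst L T)) ≫ z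
    rw [← Category.assoc, comp_lift, hnat, ← spm_comp, Category.assoc]
    exact hfst _ hJ0 ρ
  let I₂ := 𝔪.map (algebraMap R (Pair L T))
  let ρ₂ : Pair L T →ₐ[R] Pair L T ⧸ I₂ := Ideal.Quotient.mkₐ R I₂
  have h2 : spm β (A := Pair L T) (A' := Pair L T ⧸ I₂) ρ₂ ≫ w = spm β (A := Pair L T) (A' := Pair L T ⧸ I₂) ρ₂ ≫ z := by
    show spm β (A := Pair L T) (A' := Pair L T ⧸ I₂) ρ₂ ≫ lift _ _ ≫ a.act = _
    rw [← Category.assoc, comp_lift, hnat]
    refine hfibm (Pair L T ⧸ I₂) ?_ _ _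
    intro r hr
    rw [IsScalarTower.algebraMap_apply R (Pair L T) (Pair L T ⧸ I₂)]
    exact Ideal.Quotient.eq_zero_iff_mem.mpr (Ideal.mem_map_of_mem _ hr)
  have hsurj : Function.Surjective (spm β (A := Pair L T) ρ₁).left := by
    have hsq : ∀ p ∈ RingHom.ker ρ₁.toRingHom, p * p = 0 := by
      intro p hp
      have hp1 : p.1.1 ∈ J := Ideal.Quotient.eq_zero_iff_mem.mp hp
      have hp2 : p.1.2 ∈ J := by
        have := J.sub_mem hp1 p.2
        rwa [sub_sub_cancel] at this
      have hJJ : J * J = ⊥ := by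
        rw [← Ideal.map_mul, eq_bot_iff, Ideal.map_le_iff_le_comap]
        exact Ideal.mul_le.mpr fun l hl l' hl' => hLL l hl l' hl'
      have hz : ∀ y ∈ J, y * y = 0 := fun y hy => by
        rw [← Ideal.mem_bot, ← hJJ]; exact Ideal.mul_mem_mul hy hy
      exact Subtype.ext (Prod.ext (hz _ hp1) (hz _ hp2))
    have hs : Function.Surjective ρ₁.toRingHom := fun q => by
      obtain ⟨t, rfl⟩ := Ideal.Quotient.mk_surjective q
      exact ⟨pairDiag L T t, rfl⟩
    intro p
    have hker : RingHom.ker ρ₁.toRingHom ≤ p.asIdeal := fun q hq => p.isPrime.mem_of_pow_mem 2 (by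
      rw [sq, hsq q hq]; exact zero_mem _)
    refine ⟨⟨p.asIdeal.map ρ₁.toRingHom, Ideal.map_isPrime_of_surjective hs hker⟩, PrimeSpectrum.ext ?_⟩
    show Ideal.comap ρ₁.toRingHom (Ideal.map ρ₁.toRingHom p.asIdeal) = p.asIdeal
    rw [Ideal.comap_map_of_surjective _ hs, ← RingHom.ker_eq_comap_bot]
    exact sup_eq_left.mpr hker
  have hwW : ∀ s, w.left s ∈ W := fun s => by
    obtain ⟨t, rfl⟩ := hsurj s
    rw [← Scheme.Hom.comp_apply, ← Over.comp_left, h1, Over.comp_left, Scheme.Hom.comp_apply]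
    exact hzW _
  obtain ⟨ω, hω⟩ := exists_ev hW w hwW
  obtain ⟨ζ, hζ⟩ := exists_ev hW z hzW
  have e1 : ∀ v, ρ₁ (ω.hom v) = ρ₁ (ζ.hom v) := by
    have h := congrArg (fun m => Over.Hom.left m) h1
    simp only [Over.comp_left, spm_left, ← hω, ← hζ, ← Spec.map_comp_assoc, cancel_mono] at h
    exact fun v => RingHom.congr_fun (congrArg CommRingCat.Hom.hom (Spec.map_injective h)) v
  have e2 : ∀ v, ω.hom v - ζ.hom v ∈ I₂ := by
    have h := congrArg (fun m => Over.Hom.left m) h2
    simp only [Over.comp_left, spm_left, ← hω, ← hζ, ← Spec.map_comp_assoc, cancel_mono] at h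
    exact fun v => Ideal.Quotient.eq.mp (RingHom.congr_fun (congrArg CommRingCat.Hom.hom (Spec.map_injective h)) v)
  have hmem : ∀ v, ω.hom v - ζ.hom v ∈ L.map (algebraMap R (Pair L T)) := by
    intro v
    set d := ω.hom v - ζ.hom v
    have hd1 : d.1.1 ∈ J := by
      have := e1 v
      exact Ideal.Quotient.eq.mp this
    have hdiag : d.1.2 = d.1.1 := by
      refine Submodule.span_induction (p := fun (p : Pair L T) _ => p.1.2 = p.1.1) ?_ ?_ ?_ ?_ (e2 v)
      · rintro _ ⟨r, hr, rfl⟩; rfl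
      · rfl
      · intro p q _ _ hp hq
        show p.1.2 + q.1.2 = p.1.1 + q.1.1
        rw [hp, hq]
      · intro e p hp hpe
        show e.1.2 * p.1.2 = e.1.1 * p.1.1
        rw [hpe]
        have h0 : (e.1.1 - e.1.2) * p.1.1 = 0 := by
          have hpm : p.1.1 ∈ 𝔪.map (algebraMap R T) := by
            have h := Ideal.mem_map_of_mem (pairFst L T).toRingHom hp
            change _ ∈ Ideal.map (pairFst L T).toRingHom (Ideal.map (algebraMap R (Pair L T)) 𝔪) at h
            rwa [Ideal.map_map, show (pairFst L T).toRingHom.comp (algebraMap R (Pair L T)) = algebraMap R T from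
              (pairFst L T).comp_algebraMap] at h
          refine Submodule.span_induction (p := fun y _ => (e.1.1 - e.1.2) * y = 0) ?_ ?_ ?_ ?_ hpm
          · rintro _ ⟨r, hr, rfl⟩; rw [mul_comm]; exact hJm r hr _ e.2
          · exact mul_zero _
          · intro _ _ _ _ a b; rw [mul_add, a, b, add_zero]
          · intro g y _ hy; rw [smul_eq_mul, mul_left_comm, hy, mul_zero]
        rw [sub_mul, sub_eq_zero] at h0
        exact h0.symm
    have hd : d = pairDiag L T d.1.1 := Subtype.ext (Prod.ext rfl hdiag)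
    rw [hd]
    have := Ideal.mem_map_of_mem (pairDiag L T).toRingHom hd1
    change _ ∈ Ideal.map (pairDiag L T).toRingHom (Ideal.map (algebraMap R T) L) at this
    rwa [Ideal.map_map, show (pairDiag L T).toRingHom.comp (algebraMap R T) = algebraMap R (Pair L T) from
      (pairDiag L T).comp_algebraMap] at this
  refine Over.OverMorphism.ext ?_
  show (redMap L (Pair L T)).left ≫ w.left = (redMap L (Pair L T)).left ≫ z.left
  rw [← hω, ← hζ]
  simp only [redMap, spm_left, ← Spec.map_comp_assoc]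
  congr 2
  exact CommRingCat.hom_ext (RingHom.ext fun v => Ideal.Quotient.eq.mpr (hmem v))

theorem local_main [IsLocalRing R] [LocallyOfFiniteType X.hom]
    (hfib : ∀ (K : Type u) [Field K] (κ : R →+* K) (B' : Type u) [CommRing B'] [Algebra R B'] (ψ : K →+* B'),
      algebraMap R B' = ψ.comp κ →
      ∀ (f : CoordM.{u} M →+* B') (z : sp β B' ⟶ X), lift (χ B' f) z ≫ a.act = z)
    (x : sp β R ⟶ X) (f : CoordM.{u} M →+* R) : lift (χ R f) x ≫ a.act = x := by
  classical
  let s₀ : Spec (CommRingCat.of R) := IsLocalRing.closedPoint R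
  obtain ⟨V, hV, hsV, -⟩ := exists_isAffineOpen_mem_and_subset (show β s₀ ∈ (⊤ : S.Opens) from trivial)
  have hxβ : ∀ q, X.hom (x.left q) = β q := fun q => by
    rw [← Scheme.Hom.comp_apply, Over.w x]
    show (Spec.map (CommRingCat.ofHom (algebraMap R R)) ≫ β) q = β q
    rw [show Spec.map (CommRingCat.ofHom (algebraMap R R)) = 𝟙 _ from Spec.map_id _, Category.id_comp]
  obtain ⟨W, hW, hsW, hWle⟩ := exists_isAffineOpen_mem_and_subset
    (show x.left s₀ ∈ X.hom ⁻¹ᵁ V by show X.hom (x.left s₀) ∈ V; rw [hxβ]; exact hsV)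
  have hWV : W ≤ X.hom ⁻¹ᵁ V := hWle
  have hgen : ∀ q : Spec (CommRingCat.of R), q ⤳ s₀ := fun q => IsLocalRing.specializes_closedPoint q
  have hxW : ∀ q, x.left q ∈ W := fun q => ((hgen q).map x.left.base.hom.continuous).mem_open W.isOpen hsW
  have hβ : ∀ q, β q ∈ V := fun q => ((hgen q).map β.base.hom.continuous).mem_open V.isOpen hsV
  -- pullbacks of the point
  let xT : ∀ (T : Type u) [CommRing T] [Algebra R T], sp β T ⟶ X := fun T _ _ => spm β (Algebra.ofId R T) ≫ x
  have hxT : ∀ {T T' : Type u} [CommRing T] [Algebra R T] [CommRing T'] [Algebra R T'] (φ : T →ₐ[R] T'),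
      spm β φ ≫ xT T = xT T' := fun {T T'} _ _ _ _ φ => by
    show spm β φ ≫ spm β (Algebra.ofId R T) ≫ x = _
    rw [← Category.assoc, spm_comp]
    congr 2
    exact Subsingleton.elim _ _
  have hxTW : ∀ (T : Type u) [CommRing T] [Algebra R T] (q), (xT T).left q ∈ W := fun T _ _ q => hxW _
  -- the universal point
  let A := MonoidAlgebra R (Multiplicative M)
  let u₀ := univPt R (AddMonoidHom.id M)
  let y : sp β A ⟶ X := lift (χ A u₀) (xT A) ≫ a.act
  have hyW : ∀ q, y.left q ∈ W := fun q => by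
    let K := IsLocalRing.ResidueField (Localization.AtPrime (q : PrimeSpectrum A).asIdeal)
    let φ : A →ₐ[R] K := IsScalarTower.toAlgHom R A K
    have h := hfib K (algebraMap R K) K (RingHom.id K) (RingHom.id_comp _).symm
      (φ.toRingHom.comp u₀) (xT K)
    rw [← hnat, ← hxT φ, ← comp_lift, Category.assoc] at h
    have hq : (spm β φ).left (IsLocalRing.closedPoint K) = q := by
      refine PrimeSpectrum.ext ?_
      show Ideal.comap (algebraMap A K) (IsLocalRing.maximalIdeal K) = (q : PrimeSpectrum A).asIdeal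
      rw [IsLocalRing.maximalIdeal_eq_bot, ← RingHom.ker_eq_comap_bot,
        IsScalarTower.algebraMap_eq A (Localization.AtPrime (q : PrimeSpectrum A).asIdeal) K, ← RingHom.comap_ker,
        IsLocalRing.ResidueField.algebraMap_eq, IsLocalRing.ker_residue]
      exact IsLocalization.AtPrime.comap_maximalIdeal (Localization.AtPrime (q : PrimeSpectrum A).asIdeal) (q : PrimeSpectrum A).asIdeal
    have h' : (spm β φ ≫ y).left (IsLocalRing.closedPoint K) = (spm β φ ≫ xT A).left (IsLocalRing.closedPoint K) :=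
      congrArg (fun m : sp β K ⟶ X => m.left.base (IsLocalRing.closedPoint K)) h
    rw [← hq]
    show (spm β φ ≫ y).left.base (IsLocalRing.closedPoint K) ∈ W
    exact (congrArg (· ∈ W) h').mpr (hxTW A _)
  obtain ⟨ex, hex⟩ := exists_ev hW (xT A) (hxTW A)
  obtain ⟨ey, hey⟩ := exists_ev hW y hyW
  -- coefficients
  let σ := X.hom.appLE V W hWV
  have hσ : Spec.map σ ≫ hV.fromSpec = hW.fromSpec ≫ X.hom := IsAffineOpen.SpecMap_appLE_fromSpec X.hom hV hW hWV
  have hbase : σ ≫ ey = σ ≫ ex := by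
    apply Spec.map_injective
    rw [← cancel_mono hV.fromSpec, Spec.map_comp, Spec.map_comp, Category.assoc, Category.assoc, hσ,
      reassoc_of% hey, reassoc_of% hex, Over.w, Over.w]
  obtain ⟨T, hT⟩ : ∃ T : Finset Γ(X.left, W), Subring.closure (Set.range σ.hom ∪ ↑T) = ⊤ := by
    letI : Algebra Γ(S, V) Γ(X.left, W) := σ.hom.toAlgebra
    obtain ⟨T, hT⟩ : (⊤ : Subalgebra Γ(S, V) Γ(X.left, W)).FG :=
      (X.hom.finiteType_appLE hV hW hWV : σ.hom.FiniteType).out
    exact ⟨T, by rw [← Algebra.top_toSubring (R := Γ(S, V)), ← hT, Algebra.adjoin_eq_ring_closure]; rfl⟩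
  let c : Ideal R := Ideal.span ↑(T.biUnion fun t =>
    (ey.hom t - ex.hom t : A).coeff.support.image fun m => (ey.hom t - ex.hom t : A).coeff m)
  have hcfg : c.FG := ⟨_, rfl⟩
  have hDc : ∀ v, (ey.hom v - ex.hom v : A) ∈ c.map (algebraMap R A) := fun v => by
    refine sub_mem_closure (R := R) ey.hom ex.hom _ σ.hom (fun g => ?_) (T : Set Γ(X.left, W)) (fun t ht => ?_)
      (hT ▸ Subring.mem_top v)
    · have : ey.hom (σ.hom g) = ex.hom (σ.hom g) := congr($hbase g)
      rw [this, sub_self]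
      exact zero_mem _
    · refine mem_map_of_coeff fun m => ?_
      by_cases hm : m ∈ (ey.hom t - ex.hom t : A).coeff.support
      · exact Ideal.subset_span (Finset.mem_coe.mpr (Finset.mem_biUnion.mpr
          ⟨t, ht, Finset.mem_image.mpr ⟨m, hm, rfl⟩⟩))
      · rw [Finsupp.notMem_support_iff.mp hm]; exact zero_mem _
  let 𝔪 := IsLocalRing.maximalIdeal R
  have hfibm : ∀ (T : Type u) [CommRing T] [Algebra R T], (∀ r ∈ 𝔪, algebraMap R T r = 0) →
      ∀ (f : CoordM.{u} M →+* T) (z : sp β T ⟶ X), lift (χ T f) z ≫ a.act = z := fun T _ _ hT f z => by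
    haveI : 𝔪.IsMaximal := IsLocalRing.maximalIdeal.isMaximal R
    letI := Ideal.Quotient.field 𝔪
    exact hfib (R ⧸ 𝔪) (Ideal.Quotient.mk 𝔪) T (Ideal.Quotient.lift 𝔪 (algebraMap R T) hT) rfl f z
  have hcm : c ≤ 𝔪 := by
    refine Ideal.span_le.mpr fun r hr => ?_
    obtain ⟨t, -, hrt⟩ := Finset.mem_biUnion.mp (Finset.mem_coe.mp hr)
    obtain ⟨m, -, rfl⟩ := Finset.mem_image.mp hrt
    refine coeff_mem ?_ m
    refine ev_sub_mem hW ?_ hex hey t
    exact (fix_mod a χ hnat hfibm u₀ (xT A)).symm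
  -- everything is fixed modulo `c`
  have hfixc : ∀ (T : Type u) [CommRing T] [Algebra R T], (∀ r ∈ c, algebraMap R T r = 0) →
      ∀ (f : CoordM.{u} M →+* T), lift (χ T f) (xT T) ≫ a.act = xT T := fun T _ _ hT f => by
    let φ : A →ₐ[R] T := (MonoidAlgebra.lift R T (Multiplicative M))
      ((f : CoordM.{u} M →* T).comp (MonoidAlgebra.of (ULift.{u} ℤ) (Multiplicative M)))
    have hφ : φ.toRingHom.comp u₀ = f := coord_ext fun m => by
      show φ (univPt R (AddMonoidHom.id M) (MonoidAlgebra.single m 1)) = f (MonoidAlgebra.single m 1)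
      rw [univPt_single]
      simp [φ]
      erw [MonoidAlgebra.lift_single, one_smul]
      rfl
    have hzero : ∀ d ∈ c.map (algebraMap R A), φ d = 0 := fun d hd => by
      refine (Ideal.map_le_iff_le_comap.mpr ?_ : c.map (algebraMap R A) ≤ RingHom.ker φ.toRingHom) hd
      intro r hr
      show φ (algebraMap R A r) = 0
      rw [φ.commutes, hT r hr]
    have h : spm β φ ≫ y = spm β φ ≫ xT A := by
      refine Over.OverMorphism.ext ?_
      simp only [Over.comp_left, spm_left, ← hex, ← hey, ← Spec.map_comp_assoc]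
      congr 2
      refine CommRingCat.hom_ext (RingHom.ext fun v => ?_)
      show φ (ey.hom v) = φ (ex.hom v)
      rw [← sub_eq_zero, ← map_sub]
      exact hzero _ (hDc v)
    change spm β φ ≫ lift _ _ ≫ a.act = _ at h
    rwa [← Category.assoc, comp_lift, hnat, hφ, hxT] at h
  -- additivity modulo `m c`
  let L := 𝔪 * c
  let B := A ⧸ L.map (algebraMap R A)
  have hB : ∀ l ∈ L, algebraMap R B l = 0 := fun l hl => by
    rw [IsScalarTower.algebraMap_apply R A B]
    exact Ideal.Quotient.eq_zero_iff_mem.mpr (Ideal.mem_map_of_mem _ hl)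
  have hBsq : ∀ l ∈ c, ∀ l' ∈ c, algebraMap R B (l * l') = 0 := fun l hl l' hl' =>
    hB _ (Ideal.mul_mem_mul (hcm hl) hl')
  have key : lift (χ B ((Ideal.Quotient.mk (L.map (algebraMap R A))).comp u₀)) (xT B) ≫ a.act = xT B := by
    refine step_affine a χ hnat hmul hV hβ (L := c) (B := B) hBsq hW hWV (xT B) (hxTW B) ?_ ?_ _
    · intro T _ _ φ f
      rw [hxT φ]
      unfold redMap
      rw [← Category.assoc, comp_lift, hnat, hxT]
      refine hfixc _ ?_ _
      intro r hr
      rw [IsScalarTower.algebraMap_apply R T (T ⧸ c.map (algebraMap R T))]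
      exact Ideal.Quotient.eq_zero_iff_mem.mpr (Ideal.mem_map_of_mem _ hr)
    · intro T _ _ φ f z hz hzW
      exact pair_fixed a χ hnat (L := c) (𝔪 := 𝔪) hW
        (fun r hr r' hr' => by rw [← φ.commutes, hB _ (Ideal.mul_mem_mul hr hr'), map_zero])
        (fun r hr r' hr' => by rw [← φ.commutes, hB _ (Ideal.mul_mem_mul (hcm hr) hr'), map_zero])
        f z hzW (fun T' _ _ hT' ρ => by
          have h1 : spm β ρ ≫ spm β (A := Pair c T) (pairFst c T) ≫ z = xT T' := by rw [hz, hxT φ, hxT ρ]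
          rw [h1]
          exact hfixc T' hT' _) hfibm
  have hmk : spm β (A' := B) (Ideal.Quotient.mkₐ R (L.map (algebraMap R A))) ≫ y =
      spm β (A' := B) (Ideal.Quotient.mkₐ R (L.map (algebraMap R A))) ≫ xT A := by
    show spm β (A' := B) _ ≫ lift _ _ ≫ a.act = _
    rw [← Category.assoc, comp_lift, hnat, hxT]
    exact key
  have hcL : c ≤ 𝔪 • c := by
    refine Ideal.span_le.mpr fun r hr => ?_
    obtain ⟨t, -, hrt⟩ := Finset.mem_biUnion.mp (Finset.mem_coe.mp hr)
    obtain ⟨m, -, rfl⟩ := Finset.mem_image.mp hrt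
    exact coeff_mem (J := 𝔪 * c) (ev_sub_mem (L := L) hW hmk.symm hex hey t) m
  have hc0 : c = ⊥ := Submodule.eq_bot_of_le_smul_of_le_jacobson_bot 𝔪 c hcfg hcL
    (IsLocalRing.jacobson_eq_maximalIdeal ⊥ bot_ne_top).ge
  have h0 := hfixc R (fun r hr => by rw [hc0, Ideal.mem_bot] at hr; rw [hr, map_zero]) f
  rwa [show xT R = x from by
    show spm β (Algebra.ofId R R) ≫ x = x
    rw [show Algebra.ofId R R = AlgHom.id R R from Subsingleton.elim _ _, spm_id, Category.id_comp]] at h0

end Local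

section Top

variable {S : Scheme.{u}}

/-- An action of a group which is fpqc-locally diagonalisable and trivial on every fibre is trivial. -/
theorem action_trivial_of_fibres {G X : Over S} [GrpObj G] [LocallyOfFiniteType X.hom]
    (hG : TwC.Locally S TwC.Topology.fpqc (fun S' f => ∃ (M : Type) (_ : AddCommGroup M),
      Nonempty (Grp.mk (Red.bc f G) ≅ Grp.mk (Red.DS S' M))))
    (a : AlgGrp.Action G X)
    (h0 : ∀ (s : S) (Y : Over S) (_ : Y ⟶ Over.mk (S.fromSpecResidueField s)) (g : Y ⟶ G) (x : Y ⟶ X),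
      lift g x ≫ a.act = x)
    (Y : Over S) (g : Y ⟶ G) (x : Y ⟶ X) : lift g x ≫ a.act = x := by
  obtain ⟨S', f, hflat, hsurj, hqc, hloc⟩ := hG
  let P : Over S := Over.mk (pullback.fst Y.hom f ≫ Y.hom)
  let p : P ⟶ Y := Over.homMk (pullback.fst Y.hom f) rfl
  have hcov : FpqcDescLib.Covers f :=
    FpqcDescLib.covers_of_hcov f ⟨S', f, 𝟙 _, Category.id_comp _, hsurj, hflat, hqc⟩
  have hp : FpqcDescLib.Covers p.left :=
    hcov.pullback Y.hom p.left (pullback.snd Y.hom f) (IsPullback.of_hasPullback Y.hom f)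
  haveI := hp.over_epi
  rw [← cancel_epi p]
  refine Over.OverMorphism.ext (SBAut.hom_ext_fromSpecStalk _ _ fun z => ?_)
  obtain ⟨U, hzU, M, instM, ⟨e⟩⟩ := hloc (pullback.snd Y.hom f z)
  let R : Type u := P.left.presheaf.stalk z
  haveI : IsLocalRing R := inferInstanceAs (IsLocalRing (P.left.presheaf.stalk z))
  let β : Spec (CommRingCat.of R) ⟶ S := P.left.fromSpecStalk z ≫ P.hom
  have hUr : Set.range (P.left.fromSpecStalk z ≫ pullback.snd Y.hom f) ⊆ Set.range U.ι := by
    rintro _ ⟨r, rfl⟩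
    have hr : P.left.fromSpecStalk z r ⤳ z := by
      have : P.left.fromSpecStalk z r ∈ Set.range (P.left.fromSpecStalk z) := ⟨r, rfl⟩
      rwa [Scheme.range_fromSpecStalk] at this
    rw [Scheme.Opens.range_ι]
    exact (hr.map (pullback.snd Y.hom f).base.hom.continuous).mem_open U.isOpen hzU
  let jR : Spec (CommRingCat.of R) ⟶ U := IsOpenImmersion.lift U.ι (P.left.fromSpecStalk z ≫ pullback.snd Y.hom f) hUr
  let gU : (U : Scheme.{u}) ⟶ S := U.ι ≫ f
  have hjR : jR ≫ gU = β := by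
    show jR ≫ U.ι ≫ f = P.left.fromSpecStalk z ≫ pullback.fst Y.hom f ≫ Y.hom
    rw [← Category.assoc, IsOpenImmersion.lift_fac, Category.assoc, pullback.condition]
  -- characters give points of the group
  let ei : Red.bc gU G ≅ Red.DS (U : Scheme.{u}) M :=
    ⟨e.hom.hom.hom, e.inv.hom.hom, congrArg (fun h => h.hom.hom) e.hom_inv_id,
      congrArg (fun h => h.hom.hom) e.inv_hom_id⟩
  haveI : IsMonHom ei.inv := e.inv.hom.isMonHom_hom
  let tr : ∀ (A : Type u) [CommRing A] [Algebra R A],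
      sp β A ⟶ (Over.map gU).obj (DSPtsLib.spU (Spec.map (CommRingCat.ofHom (algebraMap R A)) ≫ jR)) :=
    fun A _ _ => Over.homMk (𝟙 _) (by
      show 𝟙 _ ≫ (_ ≫ jR) ≫ gU = _ ≫ β
      rw [Category.id_comp, Category.assoc, hjR])
  let χ : ∀ (A : Type u) [CommRing A] [Algebra R A], (CoordM.{u} M →+* A) → (sp β A ⟶ G) :=
    fun A _ _ c => tr A ≫ DSPtsLib.theta gU
      (DSPtsLib.pt (Spec.map (CommRingCat.ofHom (algebraMap R A)) ≫ jR) c ≫ ei.inv)
  have hnat : ∀ {A A' : Type u} [CommRing A] [Algebra R A] [CommRing A'] [Algebra R A'] (φ : A →ₐ[R] A')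
      (c : CoordM.{u} M →+* A), spm β φ ≫ χ A c = χ A' (φ.toRingHom.comp c) := by
    intro A A' _ _ _ _ φ c
    have hj : Spec.map (CommRingCat.ofHom φ.toRingHom) ≫ Spec.map (CommRingCat.ofHom (algebraMap R A)) ≫ jR =
        Spec.map (CommRingCat.ofHom (algebraMap R A')) ≫ jR := by
      rw [← Spec.map_comp_assoc, ← CommRingCat.ofHom_comp]
      congr 3
      exact φ.comp_algebraMap
    have htrn : spm β φ ≫ tr A = tr A' ≫ (Over.map gU).map (Over.homMk (Spec.map (CommRingCat.ofHom φ.toRingHom)) hj :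
        DSPtsLib.spU (Spec.map (CommRingCat.ofHom (algebraMap R A')) ≫ jR) ⟶
          DSPtsLib.spU (Spec.map (CommRingCat.ofHom (algebraMap R A)) ≫ jR)) := by
      refine Over.OverMorphism.ext ?_
      show Spec.map _ ≫ 𝟙 _ = 𝟙 _ ≫ Spec.map _
      rw [Category.id_comp, Category.comp_id]
    show spm β φ ≫ tr A ≫ _ = tr A' ≫ _
    rw [← DSPtsLib.pt_comp _ c φ.toRingHom _ hj, ← Category.assoc, htrn, Category.assoc]
    simp only [DSPtsLib.theta_comp, Category.assoc]
  have hmul : ∀ {A : Type u} [CommRing A] [Algebra R A] (c c' d : CoordM.{u} M →+* A),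
      (∀ m, d (MonoidAlgebra.single m 1) = c (MonoidAlgebra.single m 1) * c' (MonoidAlgebra.single m 1)) →
        χ A c * χ A c' = χ A d := by
    intro A _ _ c c' d h
    show (tr A ≫ _) * (tr A ≫ _) = tr A ≫ _
    have e2 := MonObj.mul_comp (DSPtsLib.pt (Spec.map (CommRingCat.ofHom (algebraMap R A)) ≫ jR) c)
      (DSPtsLib.pt (Spec.map (CommRingCat.ofHom (algebraMap R A)) ≫ jR) c') ei.inv
    rw [← MonObj.comp_mul, ← DSPtsLib.theta_mul, ← e2, DSPtsLib.pt_mul _ c c' d h]
  let t : sp β R ⟶ P := Over.homMk (P.left.fromSpecStalk z) (by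
    show P.left.fromSpecStalk z ≫ P.hom = Spec.map (CommRingCat.ofHom (algebraMap R R)) ≫ β
    rw [show Spec.map (CommRingCat.ofHom (algebraMap R R)) = 𝟙 _ from Spec.map_id _, Category.id_comp])
  obtain ⟨c, hc⟩ : ∃ c, t ≫ p ≫ g = χ R c := by
    have htr : IsIso (tr R) := by
      haveI : IsIso ((Over.forget S).map (tr R)) := inferInstanceAs (IsIso (𝟙 _))
      exact isIso_of_reflects_iso _ (Over.forget S)
    obtain ⟨w, hw⟩ := (DSPtsLib.theta_bijective (H := G) gU).2 (inv (tr R) ≫ t ≫ p ≫ g)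
    obtain ⟨c, hc⟩ := DSPtsLib.exists_eq_pt _ (w ≫ ei.hom)
    refine ⟨c, ?_⟩
    show _ = tr R ≫ DSPtsLib.theta gU (DSPtsLib.pt _ c ≫ ei.inv)
    rw [← hc, Category.assoc, Iso.hom_inv_id, Category.comp_id, hw, IsIso.hom_inv_id_assoc]
  have hmain := local_main a χ hnat hmul (fun K _ κ B' _ _ ψ hψ c' z' => by
      let bK : Spec (CommRingCat.of K) ⟶ S := Spec.map (CommRingCat.ofHom κ) ≫ β
      refine h0 (bK (IsLocalRing.closedPoint K)) _ (Over.homMk
        (Spec.map (CommRingCat.ofHom ψ) ≫ Spec.map (Scheme.descResidueField (Scheme.stalkClosedPointTo bK))) ?_) _ _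
      show (_ ≫ _) ≫ S.fromSpecResidueField _ = Spec.map (CommRingCat.ofHom (algebraMap R B')) ≫ β
      rw [Category.assoc, Scheme.descResidueField_stalkClosedPointTo_fromSpecResidueField, hψ, CommRingCat.ofHom_comp,
        Spec.map_comp, Category.assoc])
    (t ≫ p ≫ x) c
  rw [← hc, ← comp_lift, ← comp_lift, Category.assoc, Category.assoc] at hmain
  exact congrArg (fun m => Over.Hom.left m) hmain

end Top

end Groth.Agent.GrpSchLib.FibreActionRigid
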