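import Groth.Agent.GrpSchLib.Coincidence
import Groth.Agent.GrpSchLib.MonoSubgroup
import Groth.Prelude.Def_AlgGrp

/-!
# A smallest closed subgroup containing a conjugation invariant family is normal
-/

universe u

open CategoryTheory CategoryTheory.Limits MonoidalCategory CartesianMonoidalCategory MonObj AlgebraicGeometry

namespace Groth.Agent.GrpSchLib.CommutatorNormal

variable {k : Type u} [Field k] {G X Γ : Over (Spec (CommRingCat.of k))} [GrpObj G]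

/-- The conjugates of a point by all points of `G` lie in `Γ`. -/
def ConjIn (i : Γ ⟶ G) {T : Over (Spec (CommRingCat.of k))} (z : T ⟶ Γ) : Prop :=
  ∀ (T' : Over (Spec (CommRingCat.of k))) (t : T' ⟶ T) (g : T' ⟶ G),
    ∃ y : T' ⟶ Γ, y ≫ i = g * (t ≫ z ≫ i) * g⁻¹

theorem exists_conjIn (i : Γ ⟶ G) [IsClosedImmersion i.left] :
    ∃ (Z : Over (Spec (CommRingCat.of k))) (j : Z ⟶ Γ), IsClosedImmersion j.left ∧
      ∀ (T : Over (Spec (CommRingCat.of k))) (z : T ⟶ Γ), (∃ w : T ⟶ Z, w ≫ j = z) ↔ ConjIn i z := by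
  let c : G ⊗ Γ ⟶ G := fst G Γ * (snd G Γ ≫ i) * (fst G Γ)⁻¹
  have hc : ∀ {T : Over (Spec (CommRingCat.of k))} (g : T ⟶ G) (z : T ⟶ Γ), lift g z ≫ c = g * (z ≫ i) * g⁻¹ := by
    intro T g z
    simp only [c, MonObj.comp_mul, GrpObj.comp_inv, lift_fst, lift_snd_assoc]
  obtain ⟨Z, j, hj, hfac⟩ := exists_weilRestriction (hasIdeals_field (pullback.fst c.left i.left))
  refine ⟨Over.mk (j ≫ Γ.hom), Over.homMk j rfl, hj, fun T z => ?_⟩
  have h : Good (snd G Γ).left (pullback.fst c.left i.left) z.left ↔ ConjIn i z := by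
    rw [good_iff_whiskerLeft]
    constructor
    · rintro ⟨l, hl⟩ T' t g
      let y₀ : G ⊗ T ⟶ Γ := Over.homMk (l ≫ pullback.snd c.left i.left) (by
        rw [← Over.w i, ← Category.assoc, Category.assoc l, ← pullback.condition, ← Category.assoc l, hl,
          Category.assoc, Over.w c, Over.w (G ◁ z)])
      have hy₀ : y₀ ≫ i = (G ◁ z) ≫ c := Over.OverMorphism.ext (by
        show (l ≫ pullback.snd c.left i.left) ≫ i.left = (G ◁ z).left ≫ c.left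
        rw [Category.assoc, ← pullback.condition, ← Category.assoc, hl])
      refine ⟨lift g t ≫ y₀, ?_⟩
      rw [Category.assoc, hy₀, ← Category.assoc, lift_whiskerLeft, hc, Category.assoc]
    · intro h
      obtain ⟨y, hy⟩ := h (G ⊗ T) (snd G T) (fst G T)
      refine ⟨pullback.lift (G ◁ z).left y.left ?_, pullback.lift_fst _ _ _⟩
      rw [← Over.comp_left, ← Over.comp_left, hy]
      congr 1
      rw [show G ◁ z = lift (fst G T) (snd G T ≫ z) by ext1 <;> simp, hc, Category.assoc]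
  rw [← h, ← hfac]
  constructor
  · rintro ⟨w, hw⟩
    exact ⟨w.left, congrArg CommaMorphism.left hw⟩
  · rintro ⟨w, hw⟩
    exact ⟨Over.homMk w (by show w ≫ j ≫ Γ.hom = T.hom; rw [← Category.assoc, hw, Over.w z]),
      Over.OverMorphism.ext hw⟩

theorem isNormalHom_of_min [GrpObj Γ] (i : Γ ⟶ G) [IsMonHom i] [IsClosedImmersion i.left] (F : X ⟶ G)
    (hf : ∃ f' : X ⟶ Γ, f' ≫ i = F)
    (hconj : ∀ (T : Over (Spec (CommRingCat.of k))) (g : T ⟶ G) (x : T ⟶ X), ∃ x' : T ⟶ X, x' ≫ F = g * (x ≫ F) * g⁻¹)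
    (hmin : ∀ (Γ' : Over (Spec (CommRingCat.of k))) (_ : GrpObj Γ') (i' : Γ' ⟶ G), IsMonHom i' → IsClosedImmersion i'.left →
        (∃ f'' : X ⟶ Γ', f'' ≫ i' = F) → ∃ j : Γ ⟶ Γ', j ≫ i' = i) :
    AlgGrp.IsNormalHom i := by
  obtain ⟨f', hf'⟩ := hf
  obtain ⟨Z, j, hj, hZ⟩ := exists_conjIn i
  haveI : IsClosedImmersion (j ≫ i).left := inferInstanceAs (IsClosedImmersion (j.left ≫ i.left))
  haveI : Mono (j ≫ i) := (Over.forget _).mono_of_mono_map (show Mono (j ≫ i).left from inferInstance)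
  haveI : Mono i := (Over.forget _).mono_of_mono_map (show Mono i.left from inferInstance)
  have hj' : ∀ {T : Over (Spec (CommRingCat.of k))} (w : T ⟶ Z), ConjIn i (w ≫ j) := fun w => (hZ _ _).1 ⟨w, rfl⟩
  obtain ⟨e', he'⟩ := (hZ _ η[Γ]).2 fun T' t g => ⟨1, by
    rw [MonObj.one_comp, show t ≫ η[Γ] ≫ i = 1 by
      rw [IsMonHom.one_hom, Hom.one_def, toUnit_unique (toUnit T') t]]
    group⟩
  obtain ⟨m', hm'⟩ := (hZ _ ((fst Z Z ≫ j) * (snd Z Z ≫ j))).2 fun T' t g => by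
    obtain ⟨a, ha⟩ := hj' (fst Z Z) T' t g
    obtain ⟨b, hb⟩ := hj' (snd Z Z) T' t g
    refine ⟨a * b, ?_⟩
    rw [MonObj.mul_comp, ha, hb, MonObj.mul_comp, MonObj.comp_mul]
    group
  obtain ⟨v', hv'⟩ := (hZ _ j⁻¹).2 fun T' t g => by
    obtain ⟨a, ha⟩ := hj' (𝟙 Z) T' t g
    refine ⟨a⁻¹, ?_⟩
    rw [Category.id_comp] at ha
    rw [GrpObj.inv_comp, ha, GrpObj.inv_comp, GrpObj.comp_inv]
    group
  obtain ⟨str, hstr⟩ := exists_grpObj_of_mono (j ≫ i) e' (by rw [reassoc_of% he', IsMonHom.one_hom]) m'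
    (by rw [reassoc_of% hm', MonObj.mul_comp, Category.assoc, Category.assoc]) v'
    (by rw [reassoc_of% hv', GrpObj.inv_comp])
  obtain ⟨f'', hf''⟩ := (hZ _ f').2 fun T' t g => by
    obtain ⟨x', hx'⟩ := hconj T' g t
    exact ⟨x' ≫ f', by rw [Category.assoc, hf', hx']⟩
  obtain ⟨l, hl⟩ := hmin Z str (j ≫ i) hstr inferInstance ⟨f'', by rw [reassoc_of% hf'', hf']⟩
  have hlj : l ≫ j = 𝟙 Γ := by rw [← cancel_mono i, Category.assoc, hl, Category.id_comp]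
  intro T g n
  obtain ⟨y, hy⟩ := hj' (n ≫ l) T (𝟙 T) g
  rw [show (n ≫ l) ≫ j = n by rw [Category.assoc, hlj, Category.comp_id], Category.id_comp] at hy
  exact ⟨y, hy.symm⟩

theorem main {A B : Over (Spec (CommRingCat.of k))} [GrpObj A] [GrpObj B] [GrpObj Γ]
    (a : A ⟶ G) (b : B ⟶ G) (hA : AlgGrp.IsNormalHom a) (hB : AlgGrp.IsNormalHom b)
    (i : Γ ⟶ G) [IsMonHom i] [IsClosedImmersion i.left]
    (hf : ∃ f' : A ⊗ B ⟶ Γ, f' ≫ i = (((fst A B) ≫ a) * ((snd A B) ≫ b) * ((fst A B) ≫ a)⁻¹ * ((snd A B) ≫ b)⁻¹))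
    (hmin : ∀ (Γ' : Over (Spec (CommRingCat.of k))) (_ : GrpObj Γ') (i' : Γ' ⟶ G), IsMonHom i' → IsClosedImmersion i'.left →
        (∃ f'' : A ⊗ B ⟶ Γ', f'' ≫ i' = (((fst A B) ≫ a) * ((snd A B) ≫ b) * ((fst A B) ≫ a)⁻¹ * ((snd A B) ≫ b)⁻¹)) → ∃ j : Γ ⟶ Γ', j ≫ i' = i) :
    AlgGrp.IsNormalHom i := by
  refine isNormalHom_of_min i _ hf (fun T g x => ?_) hmin
  obtain ⟨p, hp⟩ := hA T g (x ≫ fst A B)
  obtain ⟨q, hq⟩ := hB T g (x ≫ snd A B)
  refine ⟨lift p q, ?_⟩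
  simp only [MonObj.comp_mul, GrpObj.comp_inv, lift_fst_assoc, lift_snd_assoc, ← hp, ← hq, Category.assoc]
  group

end Groth.Agent.GrpSchLib.CommutatorNormal
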