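import Groth.Agent.GrpSchLib.Coincidence
import Groth.Agent.GrpSchLib.MonoSubgroup
import Groth.Agent.S5342

/-!
# The subgroup generated by a connected family through the identity is connected
-/

universe u

open CategoryTheory CategoryTheory.Limits MonoidalCategory CartesianMonoidalCategory MonObj AlgebraicGeometry TopologicalSpace

namespace Groth.Agent.GrpSchLib.ConnGenerated

variable {k : Type u} [Field k] {Γ : Over (Spec (CommRingCat.of k))}

/-- The scheme over `k` on an open set. -/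
noncomputable abbrev openOver (U : Γ.left.Opens) : Over (Spec (CommRingCat.of k)) := Over.mk (U.ι ≫ Γ.hom)

/-- Its inclusion. -/
noncomputable abbrev openIncl (U : Γ.left.Opens) : openOver U ⟶ Γ := Over.homMk U.ι rfl

theorem exists_lift_iff (U : Γ.left.Opens) {T : Over (Spec (CommRingCat.of k))} (m : T ⟶ Γ) :
    (∃ w : T ⟶ openOver U, w ≫ openIncl U = m) ↔ Set.range m.left ⊆ U := by
  constructor
  · rintro ⟨w, rfl⟩ _ ⟨p, rfl⟩
    exact (w.left p).2
  · intro h
    have h' : Set.range m.left ⊆ Set.range U.ι := by rw [Scheme.Opens.range_ι]; exact h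
    exact ⟨Over.homMk (IsOpenImmersion.lift U.ι m.left h')
      (by show _ ≫ U.ι ≫ Γ.hom = T.hom; rw [← Category.assoc, IsOpenImmersion.lift_fac, Over.w m]),
      Over.OverMorphism.ext (IsOpenImmersion.lift_fac U.ι m.left h')⟩

/-- The closed locus of points over which a family lands in a clopen set. -/
theorem exists_lands (U : Γ.left.Opens) (hUc : IsClosed (U : Set Γ.left)) {W X : Over (Spec (CommRingCat.of k))}
    (c : W ⊗ X ⟶ Γ) :
    ∃ (Z : Over (Spec (CommRingCat.of k))) (j : Z ⟶ X), IsClosedImmersion j.left ∧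
      ∀ (T : Over (Spec (CommRingCat.of k))) (z : T ⟶ X), (∃ w : T ⟶ Z, w ≫ j = z) ↔
        ∀ (T' : Over (Spec (CommRingCat.of k))) (t : T' ⟶ T) (g : T' ⟶ W),
          Set.range (lift g (t ≫ z) ≫ c).left ⊆ U := by
  let V := c.left ⁻¹ᵁ U
  haveI : IsClosedImmersion V.ι := IsClosedImmersion.of_isPreimmersion V.ι (by
    rw [Scheme.Opens.range_ι]; exact hUc.preimage c.left.continuous)
  obtain ⟨Z, j, hj, hfac⟩ := exists_weilRestriction (hasIdeals_field V.ι)
  refine ⟨Over.mk (j ≫ X.hom), Over.homMk j rfl, hj, fun T z => ?_⟩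
  have h : Good (snd W X).left V.ι z.left ↔ ∀ (T' : Over (Spec (CommRingCat.of k))) (t : T' ⟶ T) (g : T' ⟶ W),
      Set.range (lift g (t ≫ z) ≫ c).left ⊆ U := by
    rw [good_iff_whiskerLeft]
    constructor
    · rintro ⟨l, hl⟩ T' t g _ ⟨p, rfl⟩
      have e : lift g (t ≫ z) ≫ c = lift g t ≫ (W ◁ z) ≫ c := by rw [lift_whiskerLeft_assoc]
      rw [e]
      show c.left ((W ◁ z).left ((lift g t).left p)) ∈ U
      rw [← hl]
      exact (l ((lift g t).left p)).2
    · intro h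
      have hh : Set.range (W ◁ z).left ⊆ Set.range V.ι := by
        rw [Scheme.Opens.range_ι]
        rintro _ ⟨p, rfl⟩
        have := h (W ⊗ T) (snd W T) (fst W T) ⟨p, rfl⟩
        rw [show lift (fst W T) (snd W T ≫ z) = W ◁ z by ext1 <;> simp] at this
        exact this
      exact ⟨IsOpenImmersion.lift V.ι _ hh, IsOpenImmersion.lift_fac _ _ hh⟩
  rw [← h, ← hfac]
  constructor
  · rintro ⟨w, hw⟩
    exact ⟨w.left, congrArg CommaMorphism.left hw⟩
  · rintro ⟨w, hw⟩
    exact ⟨Over.homMk w (by show w ≫ j ≫ X.hom = T.hom; rw [← Category.assoc, hw, Over.w z]),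
      Over.OverMorphism.ext hw⟩

theorem range_one [GrpObj Γ] (U : Γ.left.Opens) (he : η[Γ].left (IsLocalRing.closedPoint k) ∈ U)
    (T : Over (Spec (CommRingCat.of k))) : Set.range (1 : T ⟶ Γ).left ⊆ U := by
  haveI : Subsingleton ↥(𝟙_ (Over (Spec (CommRingCat.of k)))).left := inferInstanceAs (Subsingleton ↥(Spec (CommRingCat.of k)))
  rintro _ ⟨p, rfl⟩
  show η[Γ].left ((toUnit T).left p) ∈ U
  rwa [Subsingleton.elim ((toUnit T).left p) (IsLocalRing.closedPoint k)]

/-- A family over a connected scheme with a rational point stays in a clopen set if it does so at the point. -/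
theorem range_subset_of_clopen {X W : Over (Spec (CommRingCat.of k))} [ConnectedSpace X.left]
    (x : 𝟙_ (Over (Spec (CommRingCat.of k))) ⟶ X) (φ : X ⊗ W ⟶ Γ) (U : Γ.left.Opens)
    (hUc : IsClosed (U : Set Γ.left)) (hx : Set.range (lift (toUnit W ≫ x) (𝟙 W) ≫ φ).left ⊆ U) :
    Set.range φ.left ⊆ U := by
  rintro _ ⟨q, rfl⟩
  let u := (snd X W).left q
  let Tu : Over (Spec (CommRingCat.of k)) := Over.mk (W.left.fromSpecResidueField u ≫ W.hom)
  let ιu : Tu ⟶ W := Over.homMk (W.left.fromSpecResidueField u) rfl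
  haveI : ConnectedSpace (X ⊗ Tu).left :=
    S5342.result k X.left (Spec (W.left.residueField u)) X.hom Tu.hom x.left (Over.w x)
  have hconn : Set.range ((X ◁ ιu) ≫ φ).left ⊆ U := by
    have hcl : IsClopen (((X ◁ ιu) ≫ φ).left ⁻¹' (U : Set Γ.left)) :=
      ⟨hUc.preimage (Scheme.Hom.continuous _), U.2.preimage (Scheme.Hom.continuous _)⟩
    have hne : (((X ◁ ιu) ≫ φ).left ⁻¹' (U : Set Γ.left)).Nonempty := by
      refine ⟨(lift (toUnit Tu ≫ x) (𝟙 Tu)).left (IsLocalRing.closedPoint (W.left.residueField u)), ?_⟩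
      refine hx ⟨ιu.left (IsLocalRing.closedPoint (W.left.residueField u)), ?_⟩
      rw [← Scheme.Hom.comp_apply, ← Over.comp_left, ← Scheme.Hom.comp_apply, ← Over.comp_left]
      congr 2
      rw [← Category.assoc, ← Category.assoc, comp_lift, lift_whiskerLeft, ← Category.assoc,
        Category.comp_id, Category.id_comp, comp_toUnit]
    rintro _ ⟨p, rfl⟩
    exact (hcl.eq_univ hne).ge (Set.mem_univ p)
  have hq : q ∈ Set.range (X ◁ ιu).left := by
    have hsq := isPullback_whiskerLeft (W := X) ιu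
    rw [← IsPullback.isoPullback_hom_fst hsq, Scheme.Hom.comp_base, TopCat.coe_comp, Set.range_comp,
      Set.range_eq_univ.mpr hsq.isoPullback.hom.surjective, Set.image_univ, Scheme.Pullback.range_fst]
    show u ∈ Set.range (W.left.fromSpecResidueField u)
    rw [Scheme.range_fromSpecResidueField]
    exact Set.mem_singleton u
  obtain ⟨p, hp⟩ := hq
  rw [← hp]
  exact hconn ⟨p, rfl⟩

variable {G X : Over (Spec (CommRingCat.of k))} [GrpObj G] [GrpObj Γ]

theorem main [ConnectedSpace X.left] (x : 𝟙_ (Over (Spec (CommRingCat.of k))) ⟶ X) (f : X ⟶ G)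
    (hx : x ≫ f = η[G]) (i : Γ ⟶ G) [IsMonHom i] [IsClosedImmersion i.left]
    (hf : ∃ f' : X ⟶ Γ, f' ≫ i = f)
    (hmin : ∀ (Γ' : Over (Spec (CommRingCat.of k))) (_ : GrpObj Γ') (i' : Γ' ⟶ G), IsMonHom i' → IsClosedImmersion i'.left →
        (∃ f'' : X ⟶ Γ', f'' ≫ i' = f) → ∃ j : Γ ⟶ Γ', j ≫ i' = i) :
    ConnectedSpace Γ.left := by
  haveI : Mono i := (Over.forget _).mono_of_mono_map (show Mono i.left from inferInstance)
  obtain ⟨f', hf'⟩ := hf
  have hx' : x ≫ f' = η[Γ] := by rw [← cancel_mono i, Category.assoc, hf', hx, IsMonHom.one_hom]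
  have key : ∀ U : Γ.left.Opens, IsClosed (U : Set Γ.left) → η[Γ].left (IsLocalRing.closedPoint k) ∈ U →
      (U : Set Γ.left) = Set.univ := by
    intro U hUc he
    let c₁ : openOver U ⊗ Γ ⟶ Γ := snd _ Γ * (fst (openOver U) Γ ≫ openIncl U)
    let c₂ : openOver U ⊗ Γ ⟶ Γ := (snd _ Γ)⁻¹ * (fst (openOver U) Γ ≫ openIncl U)
    obtain ⟨Z₁, j₁, hj₁, hZ₁⟩ := exists_lands U hUc c₁
    obtain ⟨Z₂, j₂, hj₂, hZ₂⟩ := exists_lands U hUc (W := openOver U) (X := Z₁) ((openOver U ◁ j₁) ≫ c₂)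
    let j : Z₂ ⟶ Γ := j₂ ≫ j₁
    haveI : IsClosedImmersion j.left := inferInstanceAs (IsClosedImmersion (j₂.left ≫ j₁.left))
    let K : ∀ {T : Over (Spec (CommRingCat.of k))}, (T ⟶ Γ) → Prop := fun {T} z =>
      ∀ (T' : Over (Spec (CommRingCat.of k))) (t : T' ⟶ T) (w : T' ⟶ Γ), Set.range w.left ⊆ U →
        Set.range ((t ≫ z) * w).left ⊆ U ∧ Set.range ((t ≫ z)⁻¹ * w).left ⊆ U
    have hK : ∀ {T : Over (Spec (CommRingCat.of k))} (z : T ⟶ Γ), (∃ w : T ⟶ Z₂, w ≫ j = z) ↔ K z := by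
      intro T z
      constructor
      · rintro ⟨l, hl⟩ T' t w hw
        obtain ⟨g, rfl⟩ := (exists_lift_iff U w).2 hw
        have h1 := (hZ₁ T z).1 ⟨l ≫ j₂, by rw [Category.assoc]; exact hl⟩ T' t g
        have h2 := (hZ₂ T (l ≫ j₂)).1 ⟨l, rfl⟩ T' t g
        rw [lift_whiskerLeft_assoc, show (t ≫ l ≫ j₂) ≫ j₁ = t ≫ z by
          rw [← hl]; simp [j]] at h2
        simp only [c₁, c₂, MonObj.comp_mul, GrpObj.comp_inv, lift_snd, lift_fst_assoc] at h1 h2
        exact ⟨h1, h2⟩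
      · intro h
        obtain ⟨z₁, hz₁⟩ := (hZ₁ T z).2 fun T' t g => by
          simp only [c₁, MonObj.comp_mul, lift_snd, lift_fst_assoc]
          exact (h T' t _ ((exists_lift_iff U _).1 ⟨g, rfl⟩)).1
        obtain ⟨z₂, hz₂⟩ := (hZ₂ T z₁).2 fun T' t g => by
          rw [lift_whiskerLeft_assoc, Category.assoc, hz₁]
          simp only [c₂, MonObj.comp_mul, GrpObj.comp_inv, lift_snd, lift_fst_assoc]
          exact (h T' t _ ((exists_lift_iff U _).1 ⟨g, rfl⟩)).2
        exact ⟨z₂, by show z₂ ≫ j₂ ≫ j₁ = z; rw [← Category.assoc, hz₂, hz₁]⟩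
    have hKj : ∀ {T : Over (Spec (CommRingCat.of k))} (l : T ⟶ Z₂), K (l ≫ j) := fun l => (hK _).1 ⟨l, rfl⟩
    obtain ⟨e', he'⟩ := (hK η[Γ]).2 fun T' t w hw => by
      rw [show t ≫ η[Γ] = 1 by rw [Hom.one_def, toUnit_unique (toUnit T') t], inv_one, _root_.one_mul]
      exact ⟨hw, hw⟩
    obtain ⟨m', hm'⟩ := (hK ((fst Z₂ Z₂ ≫ j) * (snd Z₂ Z₂ ≫ j))).2 fun T' t w hw => by
      rw [MonObj.comp_mul, mul_inv_rev, _root_.mul_assoc, _root_.mul_assoc]
      exact ⟨((hKj _) T' t _ ((hKj _) T' t w hw).1).1, ((hKj _) T' t _ ((hKj _) T' t w hw).2).2⟩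
    obtain ⟨v', hv'⟩ := (hK j⁻¹).2 fun T' t w hw => by
      have := hKj (𝟙 Z₂) T' t w hw
      rw [Category.id_comp] at this
      rw [GrpObj.comp_inv, inv_inv]
      exact this.symm
    haveI : IsClosedImmersion (j ≫ i).left := inferInstanceAs (IsClosedImmersion (j.left ≫ i.left))
    haveI : Mono (j ≫ i) := (Over.forget _).mono_of_mono_map (show Mono (j ≫ i).left from inferInstance)
    obtain ⟨str, hstr⟩ := exists_grpObj_of_mono (j ≫ i) e' (by rw [reassoc_of% he', IsMonHom.one_hom]) m'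
      (by rw [reassoc_of% hm', MonObj.mul_comp]; simp [j]) v'
      (by rw [reassoc_of% hv', GrpObj.inv_comp])
    have hrange : ∀ (φ : X ⊗ openOver U ⟶ Γ),
        lift (toUnit _ ≫ x) (𝟙 _) ≫ φ = openIncl U → Set.range φ.left ⊆ U := fun φ hφ =>
      range_subset_of_clopen x φ U hUc (by rw [hφ]; exact (exists_lift_iff U _).1 ⟨𝟙 _, Category.id_comp _⟩)
    obtain ⟨f'', hf''⟩ := (hK f').2 fun T' t w hw => by
      obtain ⟨g, rfl⟩ := (exists_lift_iff U w).2 hw
      have h1 := hrange ((fst X _ ≫ f') * (snd X _ ≫ openIncl U)) (by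
        rw [MonObj.comp_mul, lift_fst_assoc, lift_snd_assoc, Category.id_comp, Category.assoc, hx', ← Hom.one_def,
          _root_.one_mul])
      have h2 := hrange ((fst X _ ≫ f')⁻¹ * (snd X _ ≫ openIncl U)) (by
        rw [MonObj.comp_mul, GrpObj.comp_inv, lift_fst_assoc, lift_snd_assoc, Category.id_comp, Category.assoc, hx',
          ← Hom.one_def, inv_one, _root_.one_mul])
      constructor
      · rintro _ ⟨p, rfl⟩
        refine h1 ⟨(lift t g).left p, ?_⟩
        rw [← Scheme.Hom.comp_apply, ← Over.comp_left, MonObj.comp_mul, lift_fst_assoc, lift_snd_assoc]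
      · rintro _ ⟨p, rfl⟩
        refine h2 ⟨(lift t g).left p, ?_⟩
        rw [← Scheme.Hom.comp_apply, ← Over.comp_left, MonObj.comp_mul, GrpObj.comp_inv, lift_fst_assoc, lift_snd_assoc]
    obtain ⟨l, hl⟩ := hmin Z₂ str (j ≫ i) hstr inferInstance ⟨f'', by rw [reassoc_of% hf'', hf']⟩
    have hlj : l ≫ j = 𝟙 Γ := by rw [← cancel_mono i, Category.assoc, hl, Category.id_comp]
    have h := (hKj l Γ (𝟙 Γ) 1 (range_one U he Γ)).1
    rw [hlj, Category.comp_id, _root_.mul_one] at h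
    exact Set.eq_univ_of_forall fun p => h ⟨p, rfl⟩
  haveI : Nonempty Γ.left := ⟨η[Γ].left (IsLocalRing.closedPoint k)⟩
  haveI : PreconnectedSpace Γ.left := by
    refine preconnectedSpace_iff_clopen.2 fun s hs => ?_
    by_cases he : η[Γ].left (IsLocalRing.closedPoint k) ∈ s
    · exact Or.inr (key ⟨s, hs.2⟩ hs.1 he)
    · exact Or.inl (Set.compl_univ_iff.1 (key ⟨sᶜ, hs.1.isOpen_compl⟩ hs.2.isClosed_compl he))
  exact ⟨inferInstance⟩

end Groth.Agent.GrpSchLib.ConnGenerated
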