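import Groth.Agent.H23.MulEtale
import Mathlib.RingTheory.Ideal.Cotangent
import Mathlib.RingTheory.Ideal.IdempotentFG
import Mathlib.Topology.KrullDimension
import Mathlib.LinearAlgebra.Dual.Lemmas

/-! If the multiplication by an integer vanishing in the base field is étale, the group is a point. -/

universe u

open CategoryTheory Limits AlgebraicGeometry MonoidalCategory CartesianMonoidalCategory MonObj TrivSqZeroExt
open Groth.Agent.GrpSchLib Groth.Agent.H23.MulTangent

namespace Groth.Agent.GrpSchLib.DiffMul

variable {K : Type u} [Field K] {X : Over (Spec (CommRingCat.of K))} [GrpObj X] {B : Type u} [CommRing B] [Algebra K B]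
  (j : Spec (CommRingCat.of B) ⟶ X.left) [IsOpenImmersion j]
  (hj : j ≫ X.hom = Spec.map (CommRingCat.ofHom (algebraMap K B))) {χ : B →ₐ[K] K} (hone : pt j hj χ = 1)

include hone in
theorem pow_eq_one_of_cast_eq_zero {n : ℕ} (hn : (n : K) = 0) (g : B →ₐ[K] TrivSqZeroExt K K)
    (hg : (TrivSqZeroExt.fstHom K K K).comp g = χ) : pt j hj g ^ n = 1 := by
  let cst : B →ₐ[K] TrivSqZeroExt K K := (TrivSqZeroExt.inlAlgHom K K K).comp χ
  have hcst : pt j hj cst = 1 := by rw [← pt_comp, hone, MonObj.comp_one]
  have key : ∀ m : ℕ, ∃ gm : B →ₐ[K] TrivSqZeroExt K K, pt j hj gm = pt j hj g ^ m ∧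
      (TrivSqZeroExt.fstHom K K K).comp gm = χ ∧ ∀ b, (gm b).snd = (m : K) • (g b).snd := by
    intro m
    induction m with
    | zero =>
      exact ⟨cst, by rw [hcst, _root_.pow_zero], by ext b; simp [cst], fun b => by simp [cst]⟩
    | succ m ih =>
      obtain ⟨gm, h1, h2, h3⟩ := ih
      obtain ⟨g', hg', h⟩ := exists_pt j hj K (pt j hj gm * pt j hj g) (by
        rw [MonObj.comp_mul, pt_comp, pt_comp, h2, hg, hone, _root_.mul_one])
      exact ⟨g', by rw [h, h1, _root_.pow_succ], hg', fun b => by
        rw [snd_mul j hj K hone h2 hg h.symm, h3, Nat.cast_succ, add_smul, one_smul]⟩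
  obtain ⟨gn, h1, h2, h3⟩ := key n
  have : gn = cst := by
    refine AlgHom.ext fun b => TrivSqZeroExt.ext ?_ ?_
    · simpa [cst] using AlgHom.congr_fun h2 b
    · simpa [cst, hn] using h3 b
  rw [← h1, this, hcst]

include hone in
theorem zpow_eq_one_of_cast_eq_zero {d : ℤ} (hd : (d : K) = 0) (g : B →ₐ[K] TrivSqZeroExt K K)
    (hg : (TrivSqZeroExt.fstHom K K K).comp g = χ) : pt j hj g ^ d = 1 := by
  obtain ⟨n, rfl | rfl⟩ := d.eq_nat_or_neg
  · rw [zpow_natCast]; exact pow_eq_one_of_cast_eq_zero j hj hone (by simpa using hd) g hg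
  · rw [zpow_neg, zpow_natCast, pow_eq_one_of_cast_eq_zero j hj hone (by simpa using hd) g hg, inv_one]

/-- Two tangent vectors at a point with the same image under an unramified morphism are equal. -/
theorem pt_eq_of_unramified {Y : Scheme.{u}} (f : X.left ⟶ Y) [FormallyUnramified f] [LocallyOfFiniteType f]
    {g g' : B →ₐ[K] TrivSqZeroExt K K} (hg : (TrivSqZeroExt.fstHom K K K).comp g = χ)
    (hg' : (TrivSqZeroExt.fstHom K K K).comp g' = χ)
    (h : (pt j hj g).left ≫ f = (pt j hj g').left ≫ f) : g = g' := by
  apply pt_injective j hj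
  refine Over.OverMorphism.ext ?_
  let l := pullback.lift (pt j hj g).left (pt j hj g').left h
  have hsub := subsingleton_spec (K := K) K
  have he : (specHom (TrivSqZeroExt.fstHom K K K)).left ≫ l =
      (pt j hj χ).left ≫ pullback.diagonal f := by
    refine pullback.hom_ext ?_ ?_
    · rw [Category.assoc, Category.assoc, pullback.lift_fst, pullback.diagonal_fst, Category.comp_id]
      exact congrArg CommaMorphism.left ((pt_comp j hj g _).trans (congrArg (pt j hj) hg))
    · rw [Category.assoc, Category.assoc, pullback.lift_snd, pullback.diagonal_snd, Category.comp_id]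
      exact congrArg CommaMorphism.left ((pt_comp j hj g' _).trans (congrArg (pt j hj) hg'))
  have hr : Set.range l ⊆ Set.range (pullback.diagonal f) := by
    rintro _ ⟨q, rfl⟩
    let p₀ : Spec (CommRingCat.of K) := IsLocalRing.closedPoint K
    have e : (specHom (TrivSqZeroExt.fstHom K K K)).left p₀ = q := Subsingleton.elim (α := PrimeSpectrum _) _ _
    refine ⟨(pt j hj χ).left p₀, ?_⟩
    rw [← e]
    exact (congrArg (fun φ => φ p₀) he).symm
  let m := IsOpenImmersion.lift (pullback.diagonal f) l hr
  have hm : m ≫ pullback.diagonal f = l := IsOpenImmersion.lift_fac _ _ _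
  have h1 : (pt j hj g).left = m := by
    have := congrArg (· ≫ pullback.fst f f) hm
    simp only [Category.assoc, pullback.diagonal_fst, Category.comp_id, l, pullback.lift_fst] at this
    exact this.symm
  have h2 : (pt j hj g').left = m := by
    have := congrArg (· ≫ pullback.snd f f) hm
    simp only [Category.assoc, pullback.diagonal_snd, Category.comp_id, l, pullback.lift_snd] at this
    exact this.symm
  exact h1.trans h2.symm

include hone in
theorem injective_of_etale [IsDomain B] [Algebra.FiniteType K B] {d : ℤ} (hd : (d : K) = 0)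
    [Etale (𝟙 X ^ d : X ⟶ X).left] : Function.Injective χ := by
  let cst : B →ₐ[K] TrivSqZeroExt K K := (TrivSqZeroExt.inlAlgHom K K K).comp χ
  have hc : (TrivSqZeroExt.fstHom K K K).comp cst = χ := by ext b; simp [cst]
  have hD : ∀ D : B →ₗ[K] K, (∀ a b, D (a * b) = χ a * D b + χ b * D a) → D = 0 := by
    intro D hD
    obtain ⟨g, hg⟩ := exists_algHom_of_derivation χ D hD
    have hg1 : (TrivSqZeroExt.fstHom K K K).comp g = χ := by ext b; simp [hg]
    have h : g = cst := by
      refine pt_eq_of_unramified j hj (𝟙 X ^ d : X ⟶ X).left hg1 hc ?_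
      have e : pt j hj g ≫ (𝟙 X ^ d) = pt j hj cst ≫ (𝟙 X ^ d) := by
        rw [GrpObj.comp_zpow, GrpObj.comp_zpow, Category.comp_id, Category.comp_id,
          zpow_eq_one_of_cast_eq_zero j hj hone hd g hg1, zpow_eq_one_of_cast_eq_zero j hj hone hd cst hc]
      exact congrArg CommaMorphism.left e
    refine LinearMap.ext fun b => ?_
    have := congrArg (fun φ : B →ₐ[K] TrivSqZeroExt K K => (φ b).snd) h
    simpa [hg, cst] using this
  let m := RingHom.ker χ
  have hm : m = m ^ 2 := by
    refine le_antisymm (fun b hb => ?_) (Ideal.pow_le_self two_ne_zero)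
    by_contra hb2
    let S : Submodule K B := (m ^ 2).restrictScalars K ⊔ Submodule.span K {1}
    have hbS : b ∉ S := by
      intro h
      obtain ⟨c, hc, r, hr, rfl⟩ := Submodule.mem_sup.1 h
      obtain ⟨r, rfl⟩ := Submodule.mem_span_singleton.1 hr
      have hc' : χ c = 0 := Ideal.pow_le_self two_ne_zero (hc : c ∈ m ^ 2)
      have hr0 : r = 0 := by
        have := (RingHom.mem_ker).1 hb
        rw [map_add, hc', zero_add, map_smul, map_one] at this
        simpa using this
      rw [hr0, zero_smul, add_zero] at hb2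
      exact hb2 hc
    obtain ⟨l, hl, hl0⟩ := Submodule.exists_dual_map_eq_bot_of_notMem hbS inferInstance
    have hl1 : ∀ x ∈ S, l x = 0 := fun x hx => by
      have : l x ∈ S.map l := ⟨x, hx, rfl⟩
      rw [hl0] at this; simpa using this
    refine hl (LinearMap.congr_fun (hD l fun a c => ?_) b)
    have h2 : l ((a - algebraMap K B (χ a)) * (c - algebraMap K B (χ c))) = 0 := by
      refine hl1 _ (Submodule.mem_sup_left ?_)
      show _ ∈ m ^ 2
      rw [pow_two]
      exact Ideal.mul_mem_mul (by simp [m, RingHom.mem_ker]) (by simp [m, RingHom.mem_ker])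
    have h1 : ∀ r : K, l (algebraMap K B r) = 0 := fun r => hl1 _ (Submodule.mem_sup_right (by
      rw [Algebra.algebraMap_eq_smul_one]; exact Submodule.smul_mem _ r (Submodule.subset_span rfl)))
    rw [show (a - algebraMap K B (χ a)) * (c - algebraMap K B (χ c)) =
      a * c - χ a • c - χ c • a + algebraMap K B (χ a * χ c) by simp [Algebra.smul_def]; ring] at h2
    simp only [map_add, map_sub, map_smul, h1, smul_eq_mul] at h2
    linear_combination h2
  haveI : IsNoetherianRing B := Algebra.FiniteType.isNoetherianRing K B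
  obtain ⟨e, he, hme⟩ := (Ideal.isIdempotentElem_iff_of_fg m (IsNoetherian.noetherian m)).1 (by
    show m * m = m
    rw [← pow_two, ← hm])
  rcases IsIdempotentElem.iff_eq_zero_or_one.1 he with rfl | rfl
  · rw [injective_iff_map_eq_zero]
    intro b hb
    have : b ∈ m := hb
    rw [hme] at this
    simpa using this
  · exfalso
    have : (1 : B) ∈ m := by rw [hme]; exact Submodule.subset_span rfl
    simpa [m, RingHom.mem_ker] using this

end Groth.Agent.GrpSchLib.DiffMul
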