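import Mathlib.RingTheory.HopfAlgebra.Quotient
import Mathlib.RingTheory.LocalRing.Basic

/-! Descending bialgebra maps to quotients by unit components. -/

universe u

namespace Groth.Agent.GrpSchLib.QuotDescend

variable {R : Type u} [CommRing R] {A B : Type u} [CommRing A] [CommRing B]

/-- An idempotent of counit one maps to one in a local ring with a counit. -/
theorem eq_one_of_isIdempotentElem [Nontrivial R] [Algebra R B] [IsLocalRing B] (ε : B →ₐ[R] R) {e : B}
    (he : IsIdempotentElem e) (hε : ε e = 1) : e = 1 := by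
  rcases IsLocalRing.isUnit_or_isUnit_one_sub_self e with h | h
  · exact h.mul_left_cancel (he.eq.trans (mul_one e).symm)
  · have : e = 0 := h.mul_right_eq_zero.mp he.one_sub_mul_self
    rw [this, map_zero] at hε
    exact absurd hε zero_ne_one

variable [Bialgebra R A] [Bialgebra R B]

/-- A bialgebra map killing a bi-ideal factors through the quotient. -/
theorem exists_desc (I : Ideal A) [(I.restrictScalars R).IsCoideal] (f : A →ₐc[R] B) (hf : ∀ a ∈ I, f a = 0) :
    ∃ g : (A ⧸ I) →ₐc[R] B, ∀ a, g (Ideal.Quotient.mk I a) = f a := by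
  let g₀ : A ⧸ I →ₐ[R] B := Ideal.Quotient.liftₐ I (f : A →ₐ[R] B) hf
  have hg : g₀.comp (Ideal.Quotient.mkₐ R I) = (f : A →ₐ[R] B) := AlgHom.ext fun a => rfl
  have hc : (Bialgebra.counitAlgHom R B).comp g₀ = Bialgebra.counitAlgHom R (A ⧸ I) := by
    refine Ideal.Quotient.algHom_ext R (AlgHom.ext fun a => ?_)
    show Coalgebra.counit (f a) = Coalgebra.counit (R := R) (Bialgebra.Quotient.mkBialgHom (R := R) I a)
    rw [CoalgHomClass.counit_comp_apply, CoalgHomClass.counit_comp_apply]
  have hΔ : (Algebra.TensorProduct.map g₀ g₀).comp (Bialgebra.comulAlgHom R (A ⧸ I)) =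
      (Bialgebra.comulAlgHom R B).comp g₀ := by
    refine Ideal.Quotient.algHom_ext R (AlgHom.ext fun a => ?_)
    show Algebra.TensorProduct.map g₀ g₀ (Coalgebra.comul (Bialgebra.Quotient.mkBialgHom (R := R) I a)) =
      Coalgebra.comul (f a)
    rw [← CoalgHomClass.map_comp_comul_apply, ← CoalgHomClass.map_comp_comul_apply]
    generalize Coalgebra.comul (R := R) a = z
    induction z using TensorProduct.induction_on with
    | zero => simp
    | tmul x y => rfl
    | add x y hx hy => simp only [map_add, hx, hy]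
  exact ⟨BialgHom.ofAlgHom g₀ hc hΔ, fun a => rfl⟩

end Groth.Agent.GrpSchLib.QuotDescend
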