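import Groth.Prelude.Def_CartDual2
import Groth.Agent.GrpSchLib.QuotDescend
import Mathlib.RingTheory.HopfAlgebra.Quotient

/-! Linear forms invariant under the unit component of a dual Hopf algebra, and transposes. -/

universe u

open TensorProduct

namespace Groth.Agent.GrpSchLib.DualInvariant

variable {R : Type u} [CommRing R] {D E : Type u} [CommRing D] [CommRing E] [Bialgebra R D] [Bialgebra R E]

/-- Invariant elements map to invariant elements. -/
theorem map_invariant (T : D →ₐc[R] E) {f x : D} {f' : E} (hff : f' * T f = f')
    (hx : LinearMap.lTensor D (LinearMap.mulLeft R f) (Coalgebra.comul (R := R) x) = x ⊗ₜ[R] f) :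
    LinearMap.lTensor E (LinearMap.mulLeft R f') (Coalgebra.comul (R := R) (T x)) = T x ⊗ₜ[R] f' := by
  rw [← CoalgHomClass.map_comp_comul_apply]
  have key : ∀ z : D ⊗[R] D,
      LinearMap.lTensor E (LinearMap.mulLeft R f') (TensorProduct.map (T : D →ₗ[R] E) (T : D →ₗ[R] E) z) =
        LinearMap.lTensor E (LinearMap.mulLeft R f')
          (TensorProduct.map (T : D →ₗ[R] E) (T : D →ₗ[R] E) (LinearMap.lTensor D (LinearMap.mulLeft R f) z)) := by
    intro z
    induction z using TensorProduct.induction_on with
    | zero => simp
    | tmul a b => simp [← mul_assoc, hff]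
    | add a b ha hb => simp only [map_add, ha, hb]
  rw [key, hx]
  simp [hff]

/-- Elements coming from a Hopf algebra that is trivial near the unit are invariant. -/
theorem invariant_of_mul_eq (T : D →ₐc[R] E) {f' : E}
    (h : ∀ y : D, f' * T y = Coalgebra.counit (R := R) y • f') (x : D) :
    LinearMap.lTensor E (LinearMap.mulLeft R f') (Coalgebra.comul (R := R) (T x)) = T x ⊗ₜ[R] f' := by
  rw [← CoalgHomClass.map_comp_comul_apply]
  have key : ∀ z : D ⊗[R] D,
      LinearMap.lTensor E (LinearMap.mulLeft R f') (TensorProduct.map (T : D →ₗ[R] E) (T : D →ₗ[R] E) z) =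
        T (TensorProduct.rid R D (LinearMap.lTensor D (Coalgebra.counit (R := R)) z)) ⊗ₜ[R] f' := by
    intro z
    induction z using TensorProduct.induction_on with
    | zero => simp
    | tmul a b => simp [h, TensorProduct.smul_tmul']
    | add a b ha hb => simp only [map_add, TensorProduct.add_tmul, ha, hb]
  rw [key, Coalgebra.lTensor_counit_comul]
  simp

end Groth.Agent.GrpSchLib.DualInvariant
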