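import Groth.Prelude.Def_W4c5ffgsreadingcourseOT
import Groth.Prelude.Def_CartDual
import Mathlib.RingTheory.IntegralDomain
import Mathlib.Algebra.Ring.GeomSum
import Mathlib.FieldTheory.Finite.Basic

/-! Eigenspace decomposition of the augmentation ideal under the units of `ℤ/p` (Oort–Tate). -/

open WithConv TensorProduct

namespace Groth.Agent.GrpSchLib

universe u

variable {R : Type u} [CommRing R] {p : ℕ} [Fact p.Prime]

theorem sum_char_pow_unit (χ : (ZMod p)ˣ →* Rˣ) (hχ : ∀ m : (ZMod p)ˣ, m ≠ 1 → IsUnit ((χ m : R) - 1))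
    (j : ℕ) : ∑ m : (ZMod p)ˣ, ((χ m : R) ^ j) = if (p - 1) ∣ j then ((p - 1 : ℕ) : R) else 0 := by
  have hcard : Fintype.card (ZMod p)ˣ = p - 1 := ZMod.card_units p
  split_ifs with hj
  · obtain ⟨c, rfl⟩ := hj
    have : ∀ m : (ZMod p)ˣ, ((χ m : R) ^ ((p - 1) * c)) = 1 := fun m => by
      rw [← Units.val_pow_eq_pow_val, ← map_pow, ← hcard, pow_mul, pow_card_eq_one, one_pow, map_one, Units.val_one]
    simp [this, hcard]
  · obtain ⟨g, hg⟩ := IsCyclic.exists_generator (α := (ZMod p)ˣ)
    have hgj : g ^ j ≠ 1 := fun h => hj <| by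
      have := orderOf_dvd_of_pow_eq_one h
      rwa [orderOf_eq_card_of_forall_mem_zpowers hg, Nat.card_eq_fintype_card, hcard] at this
    have h0 : ((χ g : R) ^ j - 1) * ∑ m : (ZMod p)ˣ, ((χ m : R) ^ j) = 0 := by
      rw [sub_mul, one_mul, Finset.mul_sum, sub_eq_zero]
      exact Fintype.sum_equiv (Equiv.mulLeft g) _ _ fun m => by simp [mul_pow]
    have hu : IsUnit ((χ g : R) ^ j - 1) := by
      have := hχ _ hgj
      rwa [map_pow, Units.val_pow_eq_pow_val] at this
    exact hu.mul_right_eq_zero.mp h0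

theorem sum_range_char (χ : (ZMod p)ˣ →* Rˣ) (hχ : ∀ m : (ZMod p)ˣ, m ≠ 1 → IsUnit ((χ m : R) - 1))
    (m : (ZMod p)ˣ) : ∑ i : Fin (p - 1), ((χ m : R) ^ (i : ℕ)) = if m = 1 then ((p - 1 : ℕ) : R) else 0 := by
  rw [Fin.sum_univ_eq_sum_range (fun i => (χ m : R) ^ i)]
  split_ifs with hm
  · simp [hm]
  · refine (hχ m hm).mul_right_eq_zero.mp ?_
    rw [mul_comm, geom_sum_mul, ← Units.val_pow_eq_pow_val, ← map_pow,
      show m ^ (p - 1) = 1 from ZMod.units_pow_card_sub_one_eq_one p m, map_one, Units.val_one, sub_self]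

theorem char_inv_pow_mul (χ : (ZMod p)ˣ →* Rˣ) (m : (ZMod p)ˣ) (i : ℕ) :
    (χ m⁻¹ : R) ^ i * (χ m : R) ^ i = 1 := by
  rw [← mul_pow, ← Units.val_mul, ← map_mul, inv_mul_cancel, map_one, Units.val_one, one_pow]

section Hopf

variable {A : Type u} [CommRing A] [HopfAlgebra R A]

theorem powConv_comp (a b : ℕ) :
    (SGA3b.powConv R A a).comp (SGA3b.powConv R A b) = SGA3b.powConv R A (a * b) := by
  induction b with
  | zero =>
    show (SGA3b.powConv R A a).comp ((1 : WithConv (A →ₐ[R] A)).ofConv) = (1 : WithConv (A →ₐ[R] A)).ofConv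
    ext x
    exact (SGA3b.powConv R A a).commutes _
  | succ b ih =>
    show (SGA3b.powConv R A a).comp (toConv (AlgHom.id R A) ^ (b + 1)).ofConv = _
    rw [pow_succ, AlgHom.comp_convMul_distrib]
    change (toConv ((SGA3b.powConv R A a).comp (SGA3b.powConv R A b)) *
      toConv ((SGA3b.powConv R A a).comp (AlgHom.id R A))).ofConv = _
    rw [ih, AlgHom.comp_id, mul_add, mul_one]
    simp only [SGA3b.powConv, toConv_ofConv, pow_add]

variable (hp : (toConv (AlgHom.id R A)) ^ p = 1)

include hp in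
theorem powConv_mod (a : ℕ) : SGA3b.powConv R A (a % p) = SGA3b.powConv R A a := by
  conv_rhs => rw [← Nat.mod_add_div a p]
  simp only [SGA3b.powConv]
  rw [pow_add, pow_mul, hp, one_pow, mul_one]

/-- The action of a unit of `ℤ/p`. -/
noncomputable def pw (m : (ZMod p)ˣ) : A →ₗ[R] A := (SGA3b.powConv R A (m : ZMod p).val).toLinearMap

include hp in
theorem pw_mul (m m' : (ZMod p)ˣ) (x : A) : pw (R := R) m (pw (R := R) m' x) = pw (R := R) (m * m') x := by
  show ((SGA3b.powConv R A _).comp (SGA3b.powConv R A _)) x = SGA3b.powConv R A _ x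
  rw [powConv_comp, Units.val_mul, ZMod.val_mul, powConv_mod hp]

theorem pw_one (x : A) : pw (R := R) (1 : (ZMod p)ˣ) x = x := by
  have : Fact (1 < p) := ⟨(Fact.out : p.Prime).one_lt⟩
  simp only [pw, Units.val_one, ZMod.val_one, SGA3b.powConv, pow_one]
  rfl

theorem counit_pw (m : (ZMod p)ˣ) (x : A) :
    Bialgebra.counitAlgHom R A (pw (R := R) m x) = Bialgebra.counitAlgHom R A x := by
  suffices h : ∀ n, (Bialgebra.counitAlgHom R A).comp (SGA3b.powConv R A n) = Bialgebra.counitAlgHom R A from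
    AlgHom.congr_fun (h _) x
  intro n
  induction n with
  | zero =>
    ext y
    show Bialgebra.counitAlgHom R A (algebraMap R A _) = _
    rw [AlgHom.commutes]
    rfl
  | succ n ih =>
    show (Bialgebra.counitAlgHom R A).comp (toConv (AlgHom.id R A) ^ (n + 1)).ofConv = _
    rw [pow_succ, AlgHom.comp_convMul_distrib]
    change (toConv ((Bialgebra.counitAlgHom R A).comp (SGA3b.powConv R A n)) *
      toConv ((Bialgebra.counitAlgHom R A).comp (AlgHom.id R A))).ofConv = _
    rw [ih, AlgHom.comp_id]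
    have e : toConv (Bialgebra.counitAlgHom R A) = (1 : WithConv (A →ₐ[R] R)) := rfl
    rw [e, one_mul]
    rfl

variable (u : R) (χ : (ZMod p)ˣ →* Rˣ)

theorem proj_apply (i : ℕ) (x : A) :
    OortTate.proj R A p u χ i x = u • ∑ m : (ZMod p)ˣ, ((χ m⁻¹ : R) ^ i) • pw (R := R) m x := by
  simp [OortTate.proj, pw]

theorem mem_eigenAug {i : ℕ} {x : A} : x ∈ OortTate.eigenAug R A p χ i ↔
    Bialgebra.counitAlgHom R A x = 0 ∧ ∀ m : (ZMod p)ˣ, pw (R := R) m x = ((χ m : R) ^ i) • x := by
  simp only [OortTate.eigenAug, Submodule.mem_inf, Submodule.mem_iInf, Module.End.mem_eigenspace_iff,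
    LinearMap.mem_ker]
  rfl

include hp in
theorem pw_proj (m : (ZMod p)ˣ) (i : ℕ) (x : A) :
    pw (R := R) m (OortTate.proj R A p u χ i x) = ((χ m : R) ^ i) • OortTate.proj R A p u χ i x := by
  simp only [proj_apply, map_smul, map_sum, pw_mul hp, smul_comm _ u, Finset.smul_sum]
  refine Fintype.sum_equiv (Equiv.mulLeft m) _ _ fun n => ?_
  simp only [Equiv.coe_mulLeft, smul_smul]
  congr 2
  rw [mul_inv, map_mul, Units.val_mul, mul_pow, ← mul_assoc, mul_comm ((χ m : R) ^ i), char_inv_pow_mul, one_mul]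

theorem proj_of_eigen (hχ : ∀ m : (ZMod p)ˣ, m ≠ 1 → IsUnit ((χ m : R) - 1)) (hu : u * ((p - 1 : ℕ) : R) = 1)
    {i j : ℕ} (hi : i < p - 1) (hj : j < p - 1) {x : A} (hx : x ∈ OortTate.eigenAug R A p χ i) :
    OortTate.proj R A p u χ j x = if i = j then x else 0 := by
  rw [proj_apply]
  simp only [((mem_eigenAug χ).mp hx).2, smul_smul, ← Finset.sum_smul, Finset.mul_sum]
  have hs : ∑ m : (ZMod p)ˣ, (χ m⁻¹ : R) ^ j * (χ m : R) ^ i = if i = j then ((p - 1 : ℕ) : R) else 0 := by
    have key : ∀ m : (ZMod p)ˣ, (χ m⁻¹ : R) ^ j * (χ m : R) ^ i = (χ m : R) ^ (i + (p - 1 - j)) := by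
      intro m
      have h1 : (χ m⁻¹ : R) ^ j = (χ m : R) ^ (p - 1 - j) := by
        rw [← Units.val_pow_eq_pow_val, ← Units.val_pow_eq_pow_val, ← map_pow, ← map_pow, inv_pow,
          inv_eq_of_mul_eq_one_right]
        rw [← pow_add, Nat.add_sub_cancel' hj.le, ZMod.units_pow_card_sub_one_eq_one]
      rw [h1, ← pow_add, add_comm]
    simp only [key, sum_char_pow_unit χ hχ]
    by_cases hij : i = j
    · subst hij
      rw [if_pos rfl, if_pos]
      rw [Nat.add_sub_cancel' hi.le]
    · rw [if_neg hij, if_neg]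
      rintro ⟨c, hc⟩
      rcases c with _ | _ | c
      · omega
      · omega
      · have h2 : (p - 1) * 2 ≤ (p - 1) * (c + 1 + 1) := Nat.mul_le_mul_left _ (by omega)
        omega
  rw [← Finset.mul_sum, hs]
  split_ifs <;> simp [hu]

theorem sum_proj (hχ : ∀ m : (ZMod p)ˣ, m ≠ 1 → IsUnit ((χ m : R) - 1)) (hu : u * ((p - 1 : ℕ) : R) = 1) (x : A) :
    ∑ i : Fin (p - 1), OortTate.proj R A p u χ (i : ℕ) x = x := by
  simp only [proj_apply, ← Finset.smul_sum]
  rw [Finset.sum_comm]
  simp only [← Finset.sum_smul, sum_range_char χ hχ, inv_eq_one, ite_smul, zero_smul, Finset.sum_ite_eq',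
    Finset.mem_univ, if_true, pw_one, smul_smul, hu, one_smul]

theorem counit_proj (i : ℕ) {x : A} (hx : Bialgebra.counitAlgHom R A x = 0) :
    Bialgebra.counitAlgHom R A (OortTate.proj R A p u χ i x) = 0 := by
  have hx' : ∀ m : (ZMod p)ˣ, Bialgebra.counitAlgHom R A (pw (R := R) m x) = 0 := fun m => (counit_pw m x).trans hx
  simp only [proj_apply, map_smul, map_sum, hx', smul_zero, Finset.sum_const_zero]

end Hopf

section Dual

variable {A : Type u} [CommRing A] [HopfAlgebra R A] [Coalgebra.IsCocomm R A] [Module.Finite R A]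
  [Module.Projective R A]

theorem dual_powConv (n : ℕ) (x : CartDual.D R A) (a : A) :
    (SGA3b.powConv R (CartDual.D R A) n x) a = x (SGA3b.powConv R A n a) := by
  induction n generalizing x a with
  | zero =>
    show (algebraMap R (CartDual.D R A) (x 1)) a = x (algebraMap R A (Coalgebra.counit a))
    rw [Algebra.algebraMap_eq_smul_one, Algebra.algebraMap_eq_smul_one, map_smul, smul_eq_mul]
    show (x 1) * (1 : CartDual.D R A) a = _
    rw [LinearMap.convOne_apply, Algebra.algebraMap_self, RingHom.id_apply, mul_comm]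
  | succ n ih =>
    have e1 : ∀ y, SGA3b.powConv R (CartDual.D R A) (n + 1) y = LinearMap.mul' R _
        (TensorProduct.map (SGA3b.powConv R (CartDual.D R A) n).toLinearMap LinearMap.id (Coalgebra.comul y)) := by
      intro y
      refine (congrArg (fun f : WithConv (CartDual.D R A →ₐ[R] CartDual.D R A) => f.ofConv y) (pow_succ (toConv (AlgHom.id R (CartDual.D R A))) n)).trans ?_
      exact LinearMap.convMul_apply (toConv (SGA3b.powConv R (CartDual.D R A) n).toLinearMap) (toConv LinearMap.id) y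
    have e2 : ∀ b, SGA3b.powConv R A (n + 1) b = LinearMap.mul' R A
        (TensorProduct.map (SGA3b.powConv R A n).toLinearMap LinearMap.id (Coalgebra.comul b)) := by
      intro b
      show (toConv (AlgHom.id R _) ^ (n + 1)).ofConv b = _
      rw [pow_succ]
      exact LinearMap.convMul_apply (toConv (SGA3b.powConv R A n).toLinearMap) (toConv LinearMap.id) b
    have key : ∀ y, (LinearMap.mul' R _ (TensorProduct.map (SGA3b.powConv R (CartDual.D R A) n).toLinearMap LinearMap.id y)) a =
        CartDual.ev₂ R A y (TensorProduct.map (SGA3b.powConv R A n).toLinearMap LinearMap.id (Coalgebra.comul a)) := by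
      intro y
      induction y using TensorProduct.induction_on with
      | zero => simp
      | tmul z w =>
        rw [TensorProduct.map_tmul, LinearMap.mul'_apply, LinearMap.convMul_apply]
        generalize Coalgebra.comul (R := R) a = t
        induction t using TensorProduct.induction_on with
        | zero => simp
        | tmul b c => simpa [CartDual.coe_apply] using congrArg (· * w.ofConv c) (ih z b)
        | add t t' ht ht' => simp only [map_add, ht, ht']
      | add y y' hy hy' => simp only [map_add, WithConv.ofConv_add, LinearMap.add_apply, hy, hy']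
    rw [e1, key, e2, CartDual.comul_def, CartDual.ev₂_comul]
    rfl

end Dual

end Groth.Agent.GrpSchLib
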