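import Groth.Agent.GrpSchLib.PrimeOrder
import Groth.Agent.S15897
import Mathlib.Algebra.MvPolynomial.Funext
import Mathlib.FieldTheory.IsAlgClosed.AlgebraicClosure
import Mathlib.FieldTheory.Minpoly.Finite
import Mathlib.RingTheory.Spectrum.Prime.FreeLocus
import Mathlib.LinearAlgebra.Matrix.NonsingularInverse
import Mathlib.RingTheory.LocalRing.ResidueField.Basic
import Mathlib.RingTheory.TensorProduct.Free
import Mathlib.RingTheory.LocalRing.Module
import Mathlib.RingTheory.HopfAlgebra.TensorProduct
import Mathlib.LinearAlgebra.Dimension.OrzechProperty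

/-! A finite locally free group scheme of prime order is commutative, over any base. -/

open TensorProduct WithConv

namespace Groth.Agent.GrpSchLib

universe u v w

/-- Over an algebraically closed field, some form has its powers below the dimension spanning all forms. -/
theorem exists_span_pow_eq_top_of_finrank_prime {k : Type u} [Field k] [IsAlgClosed k] {A : Type v} [CommRing A]
    [HopfAlgebra k A] [Module.Finite k A] {p : ℕ} (hp : p.Prime) (hA : Module.finrank k A = p) :
    ∃ y : CartDual.D k A, Submodule.span k (Set.range fun i : Fin p => y ^ (i : ℕ)) = ⊤ := by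
  obtain ⟨y, hy⟩ := exists_adjoin_eq_top_of_finrank_prime hp hA
  refine ⟨y, eq_top_iff.mpr fun z _ => ?_⟩
  haveI : Algebra.IsIntegral k (CartDual.D k A) := Algebra.IsIntegral.of_finite k _
  haveI : Nontrivial (CartDual.D k A) := Module.nontrivial_of_finrank_pos (R := k) (by
    rw [(CartDual.toDual k A).finrank_eq, Subspace.dual_finrank_eq, hA]; exact hp.pos)
  obtain ⟨f, rfl⟩ : ∃ f : Polynomial k, Polynomial.aeval y f = z := by
    have : z ∈ Algebra.adjoin k ({y} : Set (CartDual.D k A)) := hy ▸ Algebra.mem_top
    rwa [Algebra.adjoin_singleton_eq_range_aeval] at this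
  have hint : IsIntegral k y := Algebra.IsIntegral.isIntegral y
  rw [← Polynomial.modByMonic_add_div f (minpoly k y), map_add, map_mul, minpoly.aeval, zero_mul, add_zero,
    Polynomial.aeval_eq_sum_range]
  refine Submodule.sum_mem _ fun i hi => ?_
  have hd : (minpoly k y).natDegree ≤ p := by
    refine (minpoly.natDegree_le (A := k) y).trans (le_of_eq ?_)
    rw [(CartDual.toDual k A).finrank_eq, Subspace.dual_finrank_eq, hA]
  by_cases hzero : (f %ₘ minpoly k y).coeff i = 0
  · rw [hzero, zero_smul]; exact zero_mem _
  refine Submodule.smul_mem _ _ (Submodule.subset_span ⟨⟨i, ?_⟩, rfl⟩)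
  have h2 := Polynomial.le_natDegree_of_ne_zero hzero
  have h3 := Polynomial.natDegree_modByMonic_lt f (minpoly.monic hint) (minpoly.ne_one k y)
  omega

section Local

variable {R : Type u} [CommRing R] {A : Type v} [CommRing A] [HopfAlgebra R A]

/-- Push a form along an algebra map. -/
noncomputable def pushForm {S : Type w} [CommRing S] [Algebra R S] (x : CartDual.D R A) : WithConv (A →ₗ[R] S) :=
  toConv (Algebra.linearMap R S ∘ₗ x.ofConv)

theorem pushForm_mul {S : Type w} [CommRing S] [Algebra R S] (x y : CartDual.D R A) :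
    (pushForm (x * y) : WithConv (A →ₗ[R] S)) = pushForm x * pushForm y := by
  apply WithConv.ofConv_injective
  exact LinearMap.algHom_comp_convMul_distrib (Algebra.ofId R S) x y

/-- The restriction of forms on a base change. -/
theorem restrict_form_mul {S : Type w} [CommRing S] [Algebra R S] (x y : CartDual.D S (S ⊗[R] A)) :
    (toConv (((x * y).ofConv.restrictScalars R) ∘ₗ TensorProduct.mk R S A 1) : WithConv (A →ₗ[R] S)) =
      toConv ((x.ofConv.restrictScalars R) ∘ₗ TensorProduct.mk R S A 1) *
        toConv ((y.ofConv.restrictScalars R) ∘ₗ TensorProduct.mk R S A 1) := by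
  apply WithConv.ofConv_injective
  apply LinearMap.ext
  intro a
  simp only [LinearMap.convMul_apply, LinearMap.comp_apply, LinearMap.restrictScalars_apply, TensorProduct.mk_apply,
    WithConv.ofConv_toConv]
  rw [TensorProduct.comul_tmul, CommSemiring.comul_apply]
  generalize Coalgebra.comul (R := R) a = t
  induction t using TensorProduct.induction_on with
  | zero => simp
  | tmul b c => simp
  | add s t hs ht => simp only [TensorProduct.tmul_add, map_add, hs, ht]

theorem restrict_form_one {S : Type w} [CommRing S] [Algebra R S] :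
    (toConv (((1 : CartDual.D S (S ⊗[R] A)).ofConv.restrictScalars R) ∘ₗ TensorProduct.mk R S A 1) :
      WithConv (A →ₗ[R] S)) = 1 := by
  apply WithConv.ofConv_injective
  apply LinearMap.ext
  intro a
  simp [LinearMap.convOne_apply, Algebra.algebraMap_eq_smul_one]

theorem pow_push {S : Type w} [CommRing S] [Algebra R S] {T : Type*} [CommRing T] [Algebra R T] (φ : S →ₐ[R] T)
    (z : WithConv (A →ₗ[R] S)) (n : ℕ) :
    toConv (φ.toLinearMap ∘ₗ (z ^ n).ofConv) = (toConv (φ.toLinearMap ∘ₗ z.ofConv)) ^ n := by
  induction n with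
  | zero =>
    apply WithConv.ofConv_injective
    apply LinearMap.ext
    intro a
    simp [LinearMap.convOne_apply]
  | succ n ih =>
    rw [pow_succ, pow_succ, ← ih]
    apply WithConv.ofConv_injective
    exact LinearMap.algHom_comp_convMul_distrib φ (z ^ n) z

/-- Commutativity of the dual algebra over a local ring. -/
theorem dual_mul_comm_of_isLocalRing [IsLocalRing R] {p : ℕ} (hp : p.Prime) (b : Module.Basis (Fin p) R A)
    (x y : CartDual.D R A) : x * y = y * x := by
  classical
  let m := IsLocalRing.maximalIdeal R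
  let J : Ideal (Polynomial R) := m.map Polynomial.C
  haveI : J.IsPrime := Ideal.isPrime_map_C_of_isPrime
  let S := Localization.AtPrime J
  let k' := IsLocalRing.ResidueField S
  haveI : Infinite k' := by
    refine Infinite.of_injective (fun n : ℕ => IsLocalRing.residue S (algebraMap (Polynomial R) S (Polynomial.X ^ n))) ?_
    intro i j hij
    by_contra hne
    have h0 : algebraMap (Polynomial R) S (Polynomial.X ^ i - Polynomial.X ^ j) ∈ IsLocalRing.maximalIdeal S := by
      rw [← IsLocalRing.residue_eq_zero_iff, map_sub, map_sub, sub_eq_zero]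
      exact hij
    rw [IsLocalization.AtPrime.to_map_mem_maximal_iff S J, Ideal.mem_map_C_iff] at h0
    have := h0 i
    rw [Polynomial.coeff_sub, Polynomial.coeff_X_pow, Polynomial.coeff_X_pow, if_pos rfl, if_neg hne, sub_zero] at this
    exact (IsLocalRing.maximalIdeal.isMaximal R).ne_top ((Ideal.eq_top_iff_one _).mpr this)
  let K := AlgebraicClosure k'
  let P := MvPolynomial (Fin p) S
  let M : ∀ {T : Type u} [CommRing T] [Algebra R T], (Fin p → T) → Matrix (Fin p) (Fin p) T :=
    fun {T} _ _ c i j => ((toConv (b.constr R c) : WithConv (A →ₗ[R] T)) ^ (i : ℕ)).ofConv (b j)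
  have hnat : ∀ {T T' : Type u} [CommRing T] [Algebra R T] [CommRing T'] [Algebra R T'] (φ : T →ₐ[R] T') (c : Fin p → T),
      φ (M c).det = (M (fun i => φ (c i))).det := by
    intro T T' _ _ _ _ φ c
    rw [AlgHom.map_det]
    congr 1
    ext i j
    have hz : φ.toLinearMap ∘ₗ b.constr R c = b.constr R (fun i => φ (c i)) := b.ext fun l => by simp
    show φ (((toConv (b.constr R c) : WithConv (A →ₗ[R] T)) ^ (i : ℕ)).ofConv (b j)) =
      ((toConv (b.constr R fun i => φ (c i)) : WithConv (A →ₗ[R] T')) ^ (i : ℕ)).ofConv (b j)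
    rw [← hz, ← pow_push φ (toConv (b.constr R c)) (i : ℕ)]
    rfl
  -- nonvanishing over the algebraic closure
  have hBK : Module.finrank K (K ⊗[R] A) = p := by
    rw [Module.finrank_eq_card_basis (Algebra.TensorProduct.basis K b), Fintype.card_fin]
  haveI : Module.Finite R A := Module.Finite.of_basis b
  obtain ⟨yK, hyK⟩ := exists_span_pow_eq_top_of_finrank_prime (k := K) (A := K ⊗[R] A) hp hBK
  let cK : Fin p → K := fun l => yK.ofConv (1 ⊗ₜ b l)
  have hdetK : (M cK).det ≠ 0 := by
    have hMK : ∀ i j, M cK i j = (yK ^ (i : ℕ)).ofConv (1 ⊗ₜ b j) := by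
      intro i j
      have hz : (toConv (b.constr R cK) : WithConv (A →ₗ[R] K)) =
          toConv ((yK.ofConv.restrictScalars R) ∘ₗ TensorProduct.mk R K A 1) := by
        congr 1
        exact b.ext fun l => by simp [cK]
      have hpw : ∀ n : ℕ, (toConv (b.constr R cK) : WithConv (A →ₗ[R] K)) ^ n =
          toConv (((yK ^ n).ofConv.restrictScalars R) ∘ₗ TensorProduct.mk R K A 1) := by
        intro n
        induction n with
        | zero => rw [pow_zero, pow_zero, restrict_form_one]
        | succ n ih => rw [pow_succ, pow_succ, ih, hz, restrict_form_mul]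
      show ((toConv (b.constr R cK) : WithConv (A →ₗ[R] K)) ^ (i : ℕ)).ofConv (b j) = _
      rw [hpw]
      rfl
    let e : CartDual.D K (K ⊗[R] A) ≃ₗ[K] (Fin p → K) :=
      CartDual.toDual K (K ⊗[R] A) ≪≫ₗ ((Algebra.TensorProduct.basis K b).constr K).symm
    have hrows : LinearIndependent K (M cK).row := by
      have h1 : LinearIndependent K (fun i : Fin p => yK ^ (i : ℕ)) := by
        refine linearIndependent_of_top_le_span_of_card_eq_finrank hyK.ge ?_
        rw [Fintype.card_fin, (CartDual.toDual K (K ⊗[R] A)).finrank_eq, Subspace.dual_finrank_eq, hBK]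
      have h2 := h1.map' e.toLinearMap e.ker
      have e2 : (M cK).row = e.toLinearMap ∘ fun i : Fin p => yK ^ (i : ℕ) := by
        funext i j
        show M cK i j = _
        rw [hMK]
        simp [e, Algebra.TensorProduct.basis_apply]
      rw [e2]
      exact h2
    exact ((Matrix.linearIndependent_rows_iff_isUnit.mp hrows).map (Matrix.detMonoidHom)).ne_zero
  -- a rational point where the determinant is a unit
  let F : P := (M (fun i : Fin p => (MvPolynomial.X i : P))).det
  let resK : S →ₐ[R] K := (IsScalarTower.toAlgHom R k' K).comp (IsScalarTower.toAlgHom R S k')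
  obtain ⟨d, hd⟩ : ∃ d : Fin p → S, IsUnit (M d).det := by
    by_contra hcon
    push Not at hcon
    apply hdetK
    have hzero : MvPolynomial.map (IsLocalRing.residue S) F = 0 := by
      apply MvPolynomial.funext
      intro c
      choose d hd using fun i => IsLocalRing.residue_surjective (c i)
      have h1 := hnat (((MvPolynomial.aeval d).restrictScalars R) : P →ₐ[R] S) (fun i : Fin p => (MvPolynomial.X i : P))
      have h2 : IsLocalRing.residue S (M d).det = 0 := by
        rw [IsLocalRing.residue_eq_zero_iff]
        exact (IsLocalRing.mem_maximalIdeal _).mpr (hcon d)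
      have h3 : MvPolynomial.aeval d F = (M d).det := by simpa [F] using h1
      rw [map_zero, MvPolynomial.eval_map, show c = (IsLocalRing.residue S) ∘ d from funext fun i => (hd i).symm,
        ← MvPolynomial.eval₂_comp]
      rw [MvPolynomial.aeval_def, Algebra.algebraMap_self, MvPolynomial.eval₂_id] at h3
      rw [show MvPolynomial.eval d F = (M d).det from h3]
      exact h2
    have h1 := hnat (((MvPolynomial.aeval cK).restrictScalars R) : P →ₐ[R] K) (fun i : Fin p => (MvPolynomial.X i : P))
    have h3 : MvPolynomial.aeval cK F = (M cK).det := by simpa [F] using h1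
    rw [← h3, MvPolynomial.aeval_def,
      show algebraMap S K = (algebraMap k' K).comp (IsLocalRing.residue S) from IsScalarTower.algebraMap_eq S k' K,
      ← MvPolynomial.eval₂_map, hzero, MvPolynomial.eval₂_zero]
  -- all forms over `S` are combinations of powers
  let z : WithConv (A →ₗ[R] S) := toConv (b.constr R d)
  have hgen : ∀ w : WithConv (A →ₗ[R] S), ∃ a : Fin p → S, w = ∑ i, a i • z ^ (i : ℕ) := by
    intro w
    let N := M d
    refine ⟨Matrix.vecMul (fun j => w.ofConv (b j)) N⁻¹, ?_⟩
    apply WithConv.ofConv_injective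
    refine b.ext fun j => ?_
    have h1 := congrFun (show Matrix.vecMul (Matrix.vecMul (fun j => w.ofConv (b j)) N⁻¹) N = fun j => w.ofConv (b j) by
      rw [Matrix.vecMul_vecMul, Matrix.nonsing_inv_mul _ hd, Matrix.vecMul_one]) j
    rw [← h1]
    simp only [WithConv.ofConv_sum, LinearMap.sum_apply, WithConv.ofConv_smul, LinearMap.smul_apply, smul_eq_mul]
    rfl
  have hcomm : (pushForm x : WithConv (A →ₗ[R] S)) * pushForm y = pushForm y * pushForm x := by
    obtain ⟨a, ha⟩ := hgen (pushForm x)
    obtain ⟨a', ha'⟩ := hgen (pushForm y)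
    rw [ha, ha', Finset.sum_mul_sum, Finset.sum_mul_sum, Finset.sum_comm]
    refine Finset.sum_congr rfl fun i _ => Finset.sum_congr rfl fun j _ => ?_
    rw [smul_mul_smul_comm, smul_mul_smul_comm, ← pow_add, ← pow_add, Nat.add_comm, mul_comm (a' i)]
  rw [← pushForm_mul, ← pushForm_mul] at hcomm
  have hinj : ∀ r : R, algebraMap R S r = 0 → r = 0 := by
    intro r hr
    rw [IsScalarTower.algebraMap_apply R (Polynomial R) S, IsLocalization.map_eq_zero_iff J.primeCompl] at hr
    obtain ⟨⟨s, hs⟩, hsr⟩ := hr
    have hs' : ¬ ∀ n, s.coeff n ∈ m := fun h => hs (Ideal.mem_map_C_iff.mpr h)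
    push Not at hs'
    obtain ⟨n, hn⟩ := hs'
    have := congrArg (fun f : Polynomial R => f.coeff n) hsr
    simp only [Polynomial.algebraMap_eq, Polynomial.coeff_mul_C, Polynomial.coeff_zero] at this
    exact (IsLocalRing.notMem_maximalIdeal.mp hn).mul_right_eq_zero.mp this
  apply WithConv.ofConv_injective
  apply LinearMap.ext
  intro a
  rw [← sub_eq_zero]
  apply hinj
  rw [map_sub, sub_eq_zero]
  exact congrArg (fun f : WithConv (A →ₗ[R] S) => f.ofConv a) hcomm

end Local

/-- A finite locally free group scheme of prime order is commutative. -/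
theorem isCocomm_of_rankAtStalk_prime {R : Type u} [CommRing R] {A : Type v} [CommRing A] [HopfAlgebra R A]
    [Module.Finite R A] [Module.Projective R A] {p : ℕ} (hp : p.Prime)
    (hrk : ∀ q : PrimeSpectrum R, Module.rankAtStalk A q = p) : Coalgebra.IsCocomm R A := by
  refine S15897.result R A fun x y => ?_
  apply WithConv.ofConv_injective
  apply LinearMap.ext
  intro a
  rw [← sub_eq_zero]
  refine Module.eq_zero_of_localization_maximal (fun (I : Ideal R) [I.IsMaximal] => Localization.AtPrime I)
    (fun I [I.IsMaximal] => Algebra.linearMap R (Localization.AtPrime I)) _ fun I _ => ?_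
  let S := Localization.AtPrime I
  haveI : Module.Free S (S ⊗[R] A) := Module.free_of_flat_of_isLocalRing
  have hfr : Module.finrank S (S ⊗[R] A) = p := by
    rw [← hrk ⟨I, inferInstance⟩, Module.rankAtStalk_eq_finrank_tensorProduct]
  let b := (Module.finBasis S (S ⊗[R] A)).reindex (finCongr hfr)
  let ψ : CartDual.D R A → CartDual.D S (S ⊗[R] A) :=
    fun x => toConv ((Algebra.linearMap R S ∘ₗ x.ofConv).liftBaseChange S)
  have hψ : ∀ x, (toConv (((ψ x).ofConv.restrictScalars R) ∘ₗ TensorProduct.mk R S A 1) : WithConv (A →ₗ[R] S)) =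
      pushForm x := fun x => by
    apply WithConv.ofConv_injective
    apply LinearMap.ext
    intro a
    simp [ψ, pushForm]
  have h := dual_mul_comm_of_isLocalRing hp b (ψ x) (ψ y)
  have h' := congrArg (fun f : CartDual.D S (S ⊗[R] A) =>
    (toConv ((f.ofConv.restrictScalars R) ∘ₗ TensorProduct.mk R S A 1) : WithConv (A →ₗ[R] S))) h
  simp only [restrict_form_mul, hψ, ← pushForm_mul] at h'
  show algebraMap R S ((x * y).ofConv a - (y * x).ofConv a) = 0
  rw [map_sub, sub_eq_zero]
  exact congrArg (fun f : WithConv (A →ₗ[R] S) => f.ofConv a) h'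

end Groth.Agent.GrpSchLib
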