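import Groth.Agent.GrpSchLib.EigenAug
import Groth.Agent.GrpSchLib.PrimeOrderBase
import Groth.Agent.S18468
import Groth.Agent.S15048
import Mathlib.LinearAlgebra.DFinsupp

/-! The eigen-decomposition of a group of prime order over an algebraically closed field (Oort–Tate). -/

open TensorProduct WithConv

namespace Groth.Agent.GrpSchLib

universe u

variable {p : ℕ} [Fact p.Prime]

theorem eigenAug_mul {R : Type u} [CommRing R] {A : Type u} [CommRing A] [HopfAlgebra R A] (χ : (ZMod p)ˣ →* Rˣ)
    {i j : ℕ} {x y : A} (hx : x ∈ OortTate.eigenAug R A p χ i) (hy : y ∈ OortTate.eigenAug R A p χ j) :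
    x * y ∈ OortTate.eigenAug R A p χ (i + j) := by
  obtain ⟨hx0, hxm⟩ := (mem_eigenAug χ).mp hx
  obtain ⟨hy0, hym⟩ := (mem_eigenAug χ).mp hy
  refine (mem_eigenAug χ).mpr ⟨by rw [map_mul, hx0, zero_mul], fun m => ?_⟩
  have h1 : pw (R := R) m (x * y) = pw (R := R) m x * pw (R := R) m y :=
    map_mul (SGA3b.powConv R A (m : ZMod p).val) x y
  rw [h1, hxm, hym, smul_mul_smul_comm, pow_add]

theorem eigenAug_pow {R : Type u} [CommRing R] {A : Type u} [CommRing A] [HopfAlgebra R A] (χ : (ZMod p)ˣ →* Rˣ)
    {x : A} (hx : x ∈ OortTate.eigenAug R A p χ 1) {t : ℕ} (ht : 1 ≤ t) :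
    x ^ t ∈ OortTate.eigenAug R A p χ t := by
  induction t, ht using Nat.le_induction with
  | base => rwa [pow_one]
  | succ t _ ih => rw [pow_succ]; exact eigenAug_mul χ ih hx

theorem eigenAug_mod {R : Type u} [CommRing R] {A : Type u} [CommRing A] [HopfAlgebra R A] (χ : (ZMod p)ˣ →* Rˣ)
    (i : ℕ) : OortTate.eigenAug R A p χ i = OortTate.eigenAug R A p χ (i % (p - 1)) := by
  ext x
  simp only [mem_eigenAug]
  have : ∀ m : (ZMod p)ˣ, (χ m : R) ^ i = (χ m : R) ^ (i % (p - 1)) := fun m => by
    conv_lhs => rw [← Nat.mod_add_div i (p - 1)]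
    rw [pow_add, pow_mul, ← Units.val_pow_eq_pow_val (χ m) (p - 1), ← map_pow,
      ZMod.units_pow_card_sub_one_eq_one, map_one, Units.val_one, one_pow, _root_.mul_one]
  simp only [this]

theorem pow_eq_one_of_rank {R : Type u} [CommRing R] {A : Type u} [CommRing A] [HopfAlgebra R A] [Module.Finite R A]
    [Module.Projective R A] (hrk : ∀ q : PrimeSpectrum R, Module.rankAtStalk A q = p) :
    (WithConv.toConv (AlgHom.id R A)) ^ p = 1 :=
  haveI := isCocomm_of_rankAtStalk_prime (A := A) (Fact.out : p.Prime) hrk
  S15048.result R A p hrk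

section Field

variable {k : Type u} [Field k] {A : Type u} [CommRing A] [HopfAlgebra k A]

theorem deriv_powConv {y : CartDual.D k A}
    (hy : ∀ a b, y.ofConv (a * b) = Coalgebra.counit (R := k) a * y.ofConv b + Coalgebra.counit (R := k) b * y.ofConv a)
    (n : ℕ) (a : A) : y.ofConv (SGA3b.powConv k A n a) = (n : k) * y.ofConv a := by
  have hy1 : y.ofConv (1 : A) = 0 := by
    have h := hy 1 1
    simp only [Bialgebra.counit_one, _root_.one_mul] at h
    linear_combination -h
  induction n generalizing a with
  | zero =>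
    show y.ofConv (algebraMap k A _) = _
    rw [Algebra.algebraMap_eq_smul_one, map_smul, hy1, smul_zero, Nat.cast_zero, zero_mul]
  | succ n ih =>
    have e : SGA3b.powConv k A (n + 1) a = LinearMap.mul' k A
        (TensorProduct.map (SGA3b.powConv k A n).toLinearMap LinearMap.id (Coalgebra.comul a)) := by
      refine (congrArg (fun f : WithConv (A →ₐ[k] A) => f.ofConv a) (pow_succ (toConv (AlgHom.id k A)) n)).trans ?_
      exact LinearMap.convMul_apply (toConv (SGA3b.powConv k A n).toLinearMap) (toConv LinearMap.id) a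
    have hεn : ∀ m (b : A), Bialgebra.counitAlgHom k A (SGA3b.powConv k A m b) = Bialgebra.counitAlgHom k A b := by
      intro m
      induction m with
      | zero =>
        intro b
        show Bialgebra.counitAlgHom k A (algebraMap k A _) = _
        rw [AlgHom.commutes]
        rfl
      | succ m ihm =>
        intro b
        show ((Bialgebra.counitAlgHom k A).comp (toConv (AlgHom.id k A) ^ (m + 1)).ofConv) b = _
        rw [pow_succ, AlgHom.comp_convMul_distrib]
        have e0 : (Bialgebra.counitAlgHom k A).comp (SGA3b.powConv k A m) = Bialgebra.counitAlgHom k A := AlgHom.ext ihm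
        change (toConv ((Bialgebra.counitAlgHom k A).comp (SGA3b.powConv k A m)) *
          toConv ((Bialgebra.counitAlgHom k A).comp (AlgHom.id k A))).ofConv b = _
        rw [e0, AlgHom.comp_id]
        have e1 : toConv (Bialgebra.counitAlgHom k A) = (1 : WithConv (A →ₐ[k] k)) := rfl
        rw [e1, one_mul]
        rfl
    have key : ∀ t : A ⊗[k] A,
        y.ofConv (LinearMap.mul' k A (TensorProduct.map (SGA3b.powConv k A n).toLinearMap LinearMap.id t)) =
          y.ofConv (TensorProduct.lid k A ((Coalgebra.counit (R := k) (A := A)).rTensor A t)) +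
            (n : k) * y.ofConv (TensorProduct.rid k A ((Coalgebra.counit (R := k) (A := A)).lTensor A t)) := by
      intro t
      induction t using TensorProduct.induction_on with
      | zero => simp
      | tmul b c =>
        simp only [TensorProduct.map_tmul, LinearMap.mul'_apply, AlgHom.toLinearMap_apply, LinearMap.id_apply, hy,
          LinearMap.rTensor_tmul, LinearMap.lTensor_tmul, TensorProduct.lid_tmul, TensorProduct.rid_tmul, map_smul,
          smul_eq_mul, ih]
        have hb : Coalgebra.counit (R := k) (SGA3b.powConv k A n b) = Coalgebra.counit (R := k) b := hεn n b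
        rw [hb]
        ring
      | add s t hs ht => simp only [map_add, hs, ht]; ring
    rw [e, key, Coalgebra.rTensor_counit_comul, Coalgebra.lTensor_counit_comul]
    simp
    ring

theorem point_powConv (g : WithConv (A →ₐ[k] k)) (n : ℕ) (a : A) :
    g.ofConv (SGA3b.powConv k A n a) = (g ^ n).ofConv a := by
  have h : toConv (g.ofConv.comp (SGA3b.powConv k A n)) = g ^ n := by
    induction n with
    | zero =>
      apply WithConv.ofConv_injective
      ext b
      exact g.ofConv.commutes _
    | succ n ih =>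
      apply WithConv.ofConv_injective
      show g.ofConv.comp (toConv (AlgHom.id k A) ^ (n + 1)).ofConv = _
      rw [pow_succ, AlgHom.comp_convMul_distrib, pow_succ, ← ih]
      rfl
  rw [← h]
  rfl

theorem eval_points_bijective [Module.Finite k A] (hp : Nat.card (WithConv (A →ₐ[k] k)) = p)
    (hA : Module.finrank k A = p) :
    Function.Bijective (fun (a : A) (g : WithConv (A →ₐ[k] k)) => g.ofConv a) := by
  classical
  let G := WithConv (A →ₐ[k] k)
  haveI : Finite G := Nat.finite_of_card_ne_zero (by rw [hp]; exact (Fact.out : p.Prime).ne_zero)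
  haveI : Fintype G := Fintype.ofFinite G
  have hcard : Fintype.card G = p := by rw [← Nat.card_eq_fintype_card, hp]
  let ev : A →ₗ[k] G → k := LinearMap.pi fun g => g.ofConv.toLinearMap
  have hli : LinearIndependent k (fun g : G => g.ofConv.toLinearMap) := by
    have h := (linearIndependent_monoidHom A k).comp (fun g : G => (g.ofConv : A →* k))
      (fun g h e => WithConv.ofConv_injective (AlgHom.ext fun a => DFunLike.congr_fun e a))
    rw [Fintype.linearIndependent_iff] at h ⊢
    intro c hc
    refine h c (funext fun a => ?_)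
    have := LinearMap.congr_fun hc a
    simpa using this
  have htop := hli.span_eq_top_of_card_eq_finrank (by rw [hcard]; exact (Subspace.dual_finrank_eq.trans hA).symm)
  have hinj : Function.Injective ev := by
    rw [injective_iff_map_eq_zero]
    intro a ha
    rw [← Module.forall_dual_apply_eq_zero_iff k]
    intro φ
    have hφ : φ ∈ Submodule.span k (Set.range fun g : G => g.ofConv.toLinearMap) := htop ▸ Submodule.mem_top
    induction hφ using Submodule.span_induction with
    | mem x hx =>
      obtain ⟨g, rfl⟩ := hx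
      exact congrFun ha g
    | zero => rfl
    | add x y _ _ hx hy => rw [LinearMap.add_apply, hx, hy, add_zero]
    | smul c x _ hx => rw [LinearMap.smul_apply, hx, smul_zero]
  exact ⟨hinj, (LinearMap.injective_iff_surjective_of_finrank_eq_finrank
    (by rw [hA, Module.finrank_fintype_fun_eq_card, hcard])).mp hinj⟩

theorem exists_eigen_pow_ne_zero [IsAlgClosed k] [Module.Finite k A] (hA : Module.finrank k A = p)
    (u : k) (hu : u * ((p - 1 : ℕ) : k) = 1) (χ : (ZMod p)ˣ →* kˣ)
    (hχp : ∀ m : (ZMod p)ˣ, ((χ m : kˣ) : k) - (((m : ZMod p).val : ℕ) : k) ∈ Ideal.span ({(p : k)} : Set k))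
    (hpk : (WithConv.toConv (AlgHom.id k A)) ^ p = 1) :
    ∃ f ∈ OortTate.eigenAug k A p χ 1, f ^ (p - 1) ≠ 0 := by
  classical
  have hp : p.Prime := Fact.out
  rcases deriv_or_card_points_of_finrank_prime hp hA with ⟨y, x, hy, hx0, hx, hchar⟩ | hG
  · let f := OortTate.proj k A p u χ 1 x
    have hχm : ∀ m : (ZMod p)ˣ, (χ m : k) = ((m : ZMod p).val : k) := fun m => by
      have h := hχp m
      rw [hchar, Ideal.mem_span_singleton, zero_dvd_iff, sub_eq_zero] at h
      exact h
    have hf0 : Bialgebra.counitAlgHom k A f = 0 := counit_proj u χ 1 hx0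
    have hfy : y.ofConv f = 1 := by
      simp only [f, proj_apply, map_smul, map_sum, pw, AlgHom.toLinearMap_apply, deriv_powConv hy, hx, mul_one,
        smul_eq_mul, ← hχm, char_inv_pow_mul χ _ 1, pow_one]
      rw [Finset.sum_congr rfl fun m _ => (by simpa using char_inv_pow_mul χ m 1 : (χ m⁻¹ : k) * (χ m : k) = 1)]
      simp [ZMod.card_units p, hu]
    refine ⟨f, (mem_eigenAug χ).mpr ⟨hf0, fun m => pw_proj hpk u χ m 1 x⟩, fun h0 => ?_⟩
    have h := pow_form_apply_pow hy hfy hf0 (p - 1)
    rw [h0, map_zero] at h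
    haveI : CharP k p := (CharP.charP_iff_prime_eq_zero hp).mpr hchar
    have h' := h.symm
    rw [CharP.cast_eq_zero_iff k p, hp.dvd_factorial] at h'
    have := hp.two_le
    omega
  · let G := WithConv (A →ₐ[k] k)
    haveI : Finite G := Nat.finite_of_card_ne_zero (by rw [hG]; exact hp.ne_zero)
    haveI : IsCyclic G := isCyclic_of_prime_card (p := p) hG
    obtain ⟨g₀, hg₀⟩ := IsCyclic.exists_generator (α := G)
    have hord : orderOf g₀ = p := by rw [orderOf_eq_card_of_forall_mem_zpowers hg₀, hG]
    have hgp : g₀ ^ p = 1 := hord ▸ pow_orderOf_eq_one g₀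
    have hbij : Function.Bijective (fun z : ZMod p => g₀ ^ z.val) := by
      refine ⟨fun a b h => ZMod.val_injective p ?_, fun g => ?_⟩
      · exact pow_injOn_Iio_orderOf (hord.symm ▸ ZMod.val_lt a) (hord.symm ▸ ZMod.val_lt b) h
      · obtain ⟨n, rfl⟩ := (mem_powers_iff_mem_zpowers.mpr (hg₀ g) : g ∈ Submonoid.powers g₀)
        exact ⟨(n : ZMod p), by simp only [ZMod.val_natCast, ← hord, pow_mod_orderOf]⟩
    let e := Equiv.ofBijective _ hbij
    have hev := eval_points_bijective hG hA
    obtain ⟨f, hf⟩ := hev.2 (fun g => if h : e.symm g = 0 then 0 else (χ (Units.mk0 _ h) : k))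
    have hfe : ∀ z : ZMod p, (g₀ ^ z.val).ofConv f = if h : z = 0 then 0 else (χ (Units.mk0 z h) : k) := by
      intro z
      have h1 := congrFun hf (g₀ ^ z.val)
      simp only [show e.symm (g₀ ^ z.val) = z from e.symm_apply_apply z] at h1
      exact h1
    have hf0 : Bialgebra.counitAlgHom k A f = 0 := by
      have h1 := hfe 0
      rw [ZMod.val_zero, pow_zero, dif_pos rfl] at h1
      exact h1
    refine ⟨f, (mem_eigenAug χ).mpr ⟨hf0, fun m => hev.1 (funext fun g => ?_)⟩, fun h0 => ?_⟩
    · obtain ⟨z, rfl⟩ := hbij.2 g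
      show (g₀ ^ z.val).ofConv (SGA3b.powConv k A (m : ZMod p).val f) = (g₀ ^ z.val).ofConv (((χ m : k) ^ 1) • f)
      rw [point_powConv, ← pow_mul, map_smul, hfe z, pow_one, smul_eq_mul,
        pow_eq_pow_mod (z.val * (m : ZMod p).val) hgp, ← ZMod.val_mul, hfe]
      by_cases hz : z = 0
      · rw [dif_pos hz, dif_pos (by rw [hz, zero_mul]), mul_zero]
      · rw [dif_neg hz, dif_neg (mul_ne_zero hz m.ne_zero), ← Units.val_mul, ← map_mul]
        congr 2
        ext
        simp [mul_comm]
    · have h1 := hfe 1
      rw [dif_neg one_ne_zero] at h1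
      have h2 : ((g₀ ^ (1 : ZMod p).val).ofConv f) ^ (p - 1) = 0 := by rw [← map_pow, h0, map_zero]
      rw [h1] at h2
      exact (pow_ne_zero _ (Units.ne_zero _)) h2

end Field

end Groth.Agent.GrpSchLib
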