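import Groth.Agent.GrpSchLib.EigenRank
import Mathlib.LinearAlgebra.TensorAlgebra.Basic
import Mathlib.RingTheory.Support

/-! The tensor algebra of the first eigenspace presents a group of prime order (Oort–Tate). -/

open TensorProduct WithConv

namespace Groth.Agent.GrpSchLib

universe u

variable {R : Type u} [CommRing R]

theorem exists_locally_principal {M : Type u} [AddCommGroup M] [Module R M] [Module.Finite R M] [Module.Projective R M]
    (h1 : ∀ q : PrimeSpectrum R, Module.rankAtStalk M q = 1) (q : PrimeSpectrum R) :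
    ∃ (x : M) (s : R), s ∉ q.asIdeal ∧ ∀ m : M, ∃ r : R, s • m = r • x := by
  let κ := q.asIdeal.ResidueField
  have hfr : Module.finrank κ (κ ⊗[R] M) = 1 := (Module.rankAtStalk_eq (M := M) q).symm.trans (h1 q)
  obtain ⟨x, hx⟩ : ∃ x : M, (1 : κ) ⊗ₜ[R] x ≠ 0 := by
    by_contra hc
    push Not at hc
    haveI : Subsingleton (κ ⊗[R] M) := subsingleton_of_forall_eq 0 fun w => by
      induction w using TensorProduct.induction_on with
      | zero => rfl
      | tmul c m => rw [show c ⊗ₜ[R] m = c • ((1 : κ) ⊗ₜ[R] m) by rw [TensorProduct.smul_tmul', smul_eq_mul, mul_one],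
          hc m, smul_zero]
      | add a b ha hb => rw [ha, hb, add_zero]
    rw [Module.finrank_zero_of_subsingleton] at hfr
    exact absurd hfr zero_ne_one
  have hall := (finrank_eq_one_iff_of_nonzero' _ hx).mp hfr
  let Q := M ⧸ Submodule.span R {x}
  haveI : Subsingleton (κ ⊗[R] Q) := subsingleton_of_forall_eq 0 fun w => by
    obtain ⟨z, rfl⟩ := LinearMap.lTensor_surjective κ (Submodule.span R {x}).mkQ_surjective w
    obtain ⟨c, rfl⟩ := hall z
    show (Submodule.span R {x}).mkQ.baseChange κ (c • ((1 : κ) ⊗ₜ[R] x)) = 0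
    rw [map_smul, LinearMap.baseChange_tmul]
    rw [show (Submodule.span R {x}).mkQ x = 0 from
      (Submodule.Quotient.mk_eq_zero _).mpr (Submodule.mem_span_singleton_self x), TensorProduct.tmul_zero, smul_zero]
  have hns : q ∉ Module.support R Q := by
    rw [Module.mem_support_iff_nontrivial_residueField_tensorProduct, not_nontrivial_iff_subsingleton]
    infer_instance
  rw [Module.mem_support_iff_of_finite, SetLike.not_le_iff_exists] at hns
  obtain ⟨s, hs, hsq⟩ := hns
  refine ⟨x, s, hsq, fun m => ?_⟩
  have h := Module.mem_annihilator.mp hs (Submodule.Quotient.mk m : Q)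
  rw [← Submodule.Quotient.mk_smul, Submodule.Quotient.mk_eq_zero, Submodule.mem_span_singleton] at h
  obtain ⟨r, hr⟩ := h
  exact ⟨r, hr.symm⟩

theorem exists_smul_eq_zero_of_rank_one {M : Type u} [AddCommGroup M] [Module R M] [Module.Finite R M]
    [Module.Projective R M] (h1 : ∀ q : PrimeSpectrum R, Module.rankAtStalk M q = 1) (q : PrimeSpectrum R) {r : R}
    (hr : ∀ m : M, r • m = 0) : ∃ s : R, s ∉ q.asIdeal ∧ s * r = 0 := by
  let S := Localization.AtPrime q.asIdeal
  haveI : Module.Free S (S ⊗[R] M) := Module.free_of_flat_of_isLocalRing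
  have hfr : Module.finrank S (S ⊗[R] M) = 1 := by rw [← Module.rankAtStalk_eq_finrank_tensorProduct, h1]
  let b := Module.finBasis S (S ⊗[R] M)
  have hz : ∀ w : S ⊗[R] M, algebraMap R S r • w = 0 := by
    intro w
    induction w using TensorProduct.induction_on with
    | zero => simp
    | tmul c m => rw [algebraMap_smul, ← TensorProduct.tmul_smul, hr, TensorProduct.tmul_zero]
    | add a b ha hb => rw [smul_add, ha, hb, add_zero]
  let i₀ : Fin (Module.finrank S (S ⊗[R] M)) := ⟨0, by omega⟩
  have h0 : algebraMap R S r = 0 := by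
    have h2 : b.repr (algebraMap R S r • b i₀) i₀ = b.repr (0 : S ⊗[R] M) i₀ :=
      congrArg (fun w => b.repr w i₀) (hz (b i₀))
    rw [map_smul, Finsupp.smul_apply, Module.Basis.repr_self, Finsupp.single_eq_same, smul_eq_mul, mul_one,
      map_zero, Finsupp.zero_apply] at h2
    exact h2
  obtain ⟨s, hs⟩ := (IsLocalization.map_eq_zero_iff q.asIdeal.primeCompl S r).mp h0
  exact ⟨s, s.2, hs⟩

theorem eq_zero_of_lift_eq_zero {A : Type u} [CommRing A] [Algebra R A] (I : Submodule R A) [Module.Finite R I]
    [Module.Projective R I] (h1 : ∀ q : PrimeSpectrum R, Module.rankAtStalk I q = 1) (t : ℕ)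
    [Module.Finite R (I ^ t : Submodule R A)] [Module.Projective R (I ^ t : Submodule R A)]
    (ht : ∀ q : PrimeSpectrum R, Module.rankAtStalk (I ^ t : Submodule R A) q = 1)
    {z : TensorAlgebra R I} (hz : z ∈ LinearMap.range (TensorAlgebra.ι R (M := I)) ^ t)
    (hz0 : TensorAlgebra.lift R I.subtype z = 0) : z = 0 := by
  let ann : Ideal R := LinearMap.ker (LinearMap.toSpanSingleton R _ z)
  suffices h : ann = ⊤ by
    have h' : (1 : R) ∈ ann := h ▸ Submodule.mem_top
    simpa [ann] using h'
  by_contra hne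
  obtain ⟨q, hq, hle⟩ := Ideal.exists_le_maximal ann hne
  obtain ⟨x, s, hs, hgen⟩ := exists_locally_principal h1 ⟨q, hq.isPrime⟩
  let L := TensorAlgebra.lift R I.subtype
  have hL : L (TensorAlgebra.ι R x) = (x : A) := TensorAlgebra.lift_ι_apply _ _
  have hT : ∀ (n : ℕ) (w : TensorAlgebra R I), w ∈ LinearMap.range (TensorAlgebra.ι R (M := I)) ^ n →
      s ^ n • w ∈ Submodule.span R {TensorAlgebra.ι R x ^ n} := by
    intro n
    induction n with
    | zero =>
      intro w hw
      rw [pow_zero, Submodule.one_eq_span] at hw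
      simpa using hw
    | succ n ih =>
      intro w hw
      rw [pow_succ] at hw
      refine Submodule.mul_induction_on hw (fun a ha b hb => ?_) (fun a b ha hb => by
        rw [smul_add]; exact add_mem ha hb)
      obtain ⟨c, hc⟩ := Submodule.mem_span_singleton.mp (ih a ha)
      obtain ⟨m, rfl⟩ := hb
      obtain ⟨r, hr⟩ := hgen m
      simp only [pow_succ]
      rw [← smul_mul_smul_comm, ← hc, ← map_smul, hr, map_smul, smul_mul_smul_comm]
      exact Submodule.smul_mem _ _ (Submodule.mem_span_singleton_self _)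
  have hA : ∀ (n : ℕ) (w : A), w ∈ I ^ n → s ^ n • w ∈ Submodule.span R {(x : A) ^ n} := by
    intro n
    induction n with
    | zero =>
      intro w hw
      rw [pow_zero, Submodule.one_eq_span] at hw
      simpa using hw
    | succ n ih =>
      intro w hw
      rw [pow_succ] at hw
      refine Submodule.mul_induction_on hw (fun a ha b hb => ?_) (fun a b ha hb => by
        rw [smul_add]; exact add_mem ha hb)
      obtain ⟨c, hc⟩ := Submodule.mem_span_singleton.mp (ih a ha)
      obtain ⟨r, hr⟩ := hgen ⟨b, hb⟩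
      have hr' : s • b = r • (x : A) := congrArg Subtype.val hr
      simp only [pow_succ]
      rw [← smul_mul_smul_comm, ← hc, hr', smul_mul_smul_comm]
      exact Submodule.smul_mem _ _ (Submodule.mem_span_singleton_self _)
  obtain ⟨c, hc⟩ := Submodule.mem_span_singleton.mp (hT t z hz)
  have hcx : c • (x : A) ^ t = 0 := by
    have h := congrArg L hc
    rw [map_smul, map_pow, hL, map_smul, show L z = 0 from hz0, smul_zero] at h
    exact h
  have hkill : ∀ m : (I ^ t : Submodule R A), (c * s ^ t) • m = 0 := fun m => by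
    apply Subtype.ext
    obtain ⟨d, hd⟩ := Submodule.mem_span_singleton.mp (hA t m.1 m.2)
    rw [SetLike.val_smul, mul_smul, ← hd, smul_comm, hcx, smul_zero]
    rfl
  obtain ⟨s', hs', hs'0⟩ := exists_smul_eq_zero_of_rank_one ht ⟨q, hq.isPrime⟩ hkill
  have hmem : s' * s ^ t * s ^ t ∈ ann := by
    show (s' * s ^ t * s ^ t) • z = 0
    rw [mul_smul, ← hc, smul_smul, show s' * s ^ t * c = s' * (c * s ^ t) by ring, hs'0, zero_smul]
  rcases hq.isPrime.mem_or_mem (hle hmem) with h | h
  · rcases hq.isPrime.mem_or_mem h with h' | h'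
    · exact hs' h'
    · exact hs (hq.isPrime.mem_of_pow_mem t h')
  · exact hs (hq.isPrime.mem_of_pow_mem t h)

end Groth.Agent.GrpSchLib
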