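import Groth.Agent.GrpSchLib.EigenProduct
import Groth.Agent.GrpSchLib.DualPairing
import Groth.Agent.S18474
import Mathlib.RingTheory.Bialgebra.Equiv

/-! Groups of prime order are determined by the first eigenspace and its two multiplications (Oort–Tate). -/

open TensorProduct WithConv

namespace Groth.Agent.GrpSchLib

universe u

variable {p : ℕ} [Fact p.Prime] {R : Type u} [CommRing R] {A : Type u} [CommRing A] [HopfAlgebra R A]
  [Module.Finite R A] [Module.Projective R A]
  (hrk : ∀ q : PrimeSpectrum R, Module.rankAtStalk A q = p)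
  (u : R) (hu : u * ((p - 1 : ℕ) : R) = 1) (χ : (ZMod p)ˣ →* Rˣ)
  (hχ : ∀ m : (ZMod p)ˣ, m ≠ 1 → IsUnit ((χ m : R) - 1))
  (hχp : ∀ m : (ZMod p)ˣ, ((χ m : Rˣ) : R) - (((m : ZMod p).val : ℕ) : R) ∈ Ideal.span ({(p : R)} : Set R))

include hrk hu hχ hχp

theorem algHom_ext_eigen {B : Type*} [Semiring B] [Algebra R B] {F G : A →ₐ[R] B}
    (h : ∀ x ∈ OortTate.eigenAug R A p χ 1, F x = G x) : F = G := by
  obtain ⟨hs, -⟩ := S18474.result p R u hu χ hχ hχp A hrk
  ext a
  obtain ⟨z, rfl⟩ := hs a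
  have : F.comp (TensorAlgebra.lift R (OortTate.eigenAug R A p χ 1).subtype) =
      G.comp (TensorAlgebra.lift R (OortTate.eigenAug R A p χ 1).subtype) := by
    apply TensorAlgebra.hom_ext
    apply LinearMap.ext
    intro x
    show F (TensorAlgebra.lift R (OortTate.eigenAug R A p χ 1).subtype (TensorAlgebra.ι R x)) =
      G (TensorAlgebra.lift R (OortTate.eigenAug R A p χ 1).subtype (TensorAlgebra.ι R x))
    rw [TensorAlgebra.lift_ι_apply]
    exact h x x.2
  exact AlgHom.congr_fun this z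

theorem exists_algHom_of_eigen {B : Type*} [CommRing B] [Algebra R B]
    (θ : OortTate.eigenAug R A p χ 1 →ₗ[R] B)
    (hθ : ∀ (f : Fin p → OortTate.eigenAug R A p χ 1) (g : OortTate.eigenAug R A p χ 1),
      (g : A) = ∏ i, (f i : A) → θ g = ∏ i, θ (f i)) :
    ∃ F : A →ₐ[R] B, ∀ x : OortTate.eigenAug R A p χ 1, F x = θ x := by
  obtain ⟨hs, hk⟩ := S18474.result p R u hu χ hχ hχp A hrk
  let L := TensorAlgebra.lift R (OortTate.eigenAug R A p χ 1).subtype
  let G := TensorAlgebra.lift R θ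
  have hle : RingHom.ker L ≤ RingHom.ker G := by
    rw [hk, Ideal.span_le]
    rintro _ ⟨f, g, hg, rfl⟩
    show G _ = 0
    rw [map_sub, map_list_prod, List.map_ofFn, List.prod_ofFn, TensorAlgebra.lift_ι_apply, hθ f g hg]
    simp [G]
  have key : ∀ z z', L z = L z' → G z = G z' := fun z z' h => by
    have := hle (show z - z' ∈ RingHom.ker L by rw [RingHom.mem_ker, map_sub, h, sub_self])
    rwa [RingHom.mem_ker, map_sub, sub_eq_zero] at this
  choose σ hσ using hs
  refine ⟨{ toFun := fun a => G (σ a)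
            map_one' := (key _ 1 ((hσ 1).trans (map_one L).symm)).trans (map_one G)
            map_mul' := fun a b => by
              rw [← map_mul]; exact key _ _ (by rw [map_mul, hσ, hσ, hσ])
            map_zero' := (key _ 0 ((hσ 0).trans (map_zero L).symm)).trans (map_zero G)
            map_add' := fun a b => by
              rw [← map_add]; exact key _ _ (by rw [map_add, hσ, hσ, hσ])
            commutes' := fun r => (key _ (algebraMap R _ r) ((hσ _).trans (L.commutes r).symm)).trans (G.commutes r) },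
    fun x => ?_⟩
  show G (σ x) = θ x
  refine (key _ (TensorAlgebra.ι R x) ?_).trans (TensorAlgebra.lift_ι_apply _ _)
  rw [hσ, TensorAlgebra.lift_ι_apply]
  rfl

/-- An algebra map out of a group of order `p` respecting the first eigenspace commutes with the power maps. -/
theorem algHom_comm_pw {B : Type u} [CommRing B] [HopfAlgebra R B] (F : A →ₐ[R] B)
    (hF : ∀ x ∈ OortTate.eigenAug R A p χ 1, F x ∈ OortTate.eigenAug R B p χ 1) (m : (ZMod p)ˣ) (a : A) :
    F (pw (R := R) m a) = pw (R := R) m (F a) := by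
  have h : F.comp (SGA3b.powConv R A (m : ZMod p).val) = (SGA3b.powConv R B (m : ZMod p).val).comp F := by
    refine algHom_ext_eigen hrk u hu χ hχ hχp fun x hx => ?_
    have h1 := ((mem_eigenAug χ).mp hx).2 m
    have h2 := ((mem_eigenAug χ).mp (hF x hx)).2 m
    simp only [pw, AlgHom.toLinearMap_apply] at h1 h2
    rw [AlgHom.comp_apply, AlgHom.comp_apply, h1, h2, map_smul]
  exact AlgHom.congr_fun h a

theorem algHom_counit {B : Type u} [CommRing B] [HopfAlgebra R B] (F : A →ₐ[R] B)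
    (hF : ∀ x ∈ OortTate.eigenAug R A p χ 1, F x ∈ OortTate.eigenAug R B p χ 1) :
    (Bialgebra.counitAlgHom R B).comp F = Bialgebra.counitAlgHom R A :=
  algHom_ext_eigen hrk u hu χ hχ hχp fun x hx => by
    rw [AlgHom.comp_apply, ((mem_eigenAug χ).mp (hF x hx)).1, ((mem_eigenAug χ).mp hx).1]

variable [Coalgebra.IsCocomm R A]
  {A' : Type u} [CommRing A'] [HopfAlgebra R A'] [Coalgebra.IsCocomm R A'] [Module.Finite R A'] [Module.Projective R A']
  (hrk' : ∀ q : PrimeSpectrum R, Module.rankAtStalk A' q = p)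

include hrk'

theorem map_eigenProj (E : A →ₐ[R] A') (hE : ∀ x ∈ OortTate.eigenAug R A p χ 1, E x ∈ OortTate.eigenAug R A' p χ 1)
    (i : ℕ) (a : A) : E (eigenProj u χ i a) = eigenProj u χ i (E a) := by
  simp only [eigenProj, LinearMap.comp_apply, proj_apply, map_smul, map_sum, algHom_comm_pw hrk u hu χ hχ hχp E hE]
  congr 1
  refine Finset.sum_congr rfl fun m _ => ?_
  congr 2
  have h : Bialgebra.counitAlgHom R A' (E a) = Bialgebra.counitAlgHom R A a :=
    AlgHom.congr_fun (algHom_counit hrk u hu χ hχ hχp E hE) a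
  show E (a - Bialgebra.counitAlgHom R A a • 1) = E a - Bialgebra.counitAlgHom R A' (E a) • 1
  rw [h, map_sub, map_smul, map_one]

theorem form_comp_eq (E : A →ₐ[R] A') (hE : ∀ x ∈ OortTate.eigenAug R A p χ 1, E x ∈ OortTate.eigenAug R A' p χ 1)
    (Ψ : CartDual.D R A' →ₐ[R] CartDual.D R A)
    (hΨm : ∀ f ∈ OortTate.eigenAug R (CartDual.D R A') p χ 1, Ψ f ∈ OortTate.eigenAug R (CartDual.D R A) p χ 1)
    (hpair : ∀ f ∈ OortTate.eigenAug R (CartDual.D R A') p χ 1, ∀ x ∈ OortTate.eigenAug R A p χ 1,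
      (Ψ f).ofConv x = f.ofConv (E x)) (f : CartDual.D R A') (a : A) :
    (Ψ f).ofConv a = f.ofConv (E a) := by
  classical
  have hrkD' : ∀ q : PrimeSpectrum R, Module.rankAtStalk (CartDual.D R A') q = p := fun q => by
    rw [rankAtStalk_cartDual, hrk']
  have hpkD' := pow_eq_one_of_rank (A := CartDual.D R A') hrkD'
  obtain ⟨-, hsup, -⟩ := S18468.result p R u hu χ hχ (CartDual.D R A') hpkD'
  let τ : CartDual.D R A' →ₗ[R] CartDual.D R A :=
    (CartDual.toDual R A).symm.toLinearMap ∘ₗ E.toLinearMap.dualMap ∘ₗ (CartDual.toDual R A').toLinearMap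
  suffices h : Ψ.toLinearMap = τ from congrArg (fun l : CartDual.D R A' →ₗ[R] CartDual.D R A => (l f).ofConv a) h
  apply LinearMap.ext
  intro g
  have h1 : Ψ 1 = τ 1 := by
    rw [map_one]
    apply WithConv.ofConv_injective
    apply LinearMap.ext
    intro b
    show _ = (1 : CartDual.D R A').ofConv (E b)
    rw [LinearMap.convOne_apply, LinearMap.convOne_apply]
    exact congrArg _ (AlgHom.congr_fun (algHom_counit hrk u hu χ hχ hχp E hE) b).symm
  have hker : LinearMap.ker (Bialgebra.counitAlgHom R (CartDual.D R A')).toLinearMap ≤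
      LinearMap.ker (Ψ.toLinearMap - τ) := by
    rw [← hsup]
    refine iSup_le fun i => ?_
    obtain ⟨t, ht1, ht2, hti⟩ : ∃ t, 1 ≤ t ∧ t ≤ p - 1 ∧ t % (p - 1) = (i : ℕ) := by
      have := i.2
      rcases Nat.eq_zero_or_pos (i : ℕ) with h | h
      · exact ⟨p - 1, by omega, le_rfl, by rw [Nat.mod_self, h]⟩
      · exact ⟨i, h, i.2.le, Nat.mod_eq_of_lt i.2⟩
    rw [← hti, ← eigenAug_mod, ← eigenAug_one_pow hrkD' u hu χ hχ hχp t ht1 ht2, Submodule.pow_eq_span_pow_set,
      Submodule.span_le]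
    intro φ hφ
    obtain ⟨c, rfl⟩ := Set.mem_pow.mp hφ
    show Ψ.toLinearMap _ - τ _ = 0
    rw [sub_eq_zero, List.prod_ofFn]
    obtain ⟨w, hw⟩ := Submodule.mem_span_singleton.mp
      (eigenAug_mu_le u hu χ hχ t (eigenAug_pow χ (ygen_mem u χ 1) ht1))
    have hmemD : ∏ j, Ψ (c j) ∈ OortTate.eigenAug R (CartDual.D R A) p χ t := by
      have h := Submodule.pow_subset_pow (M := OortTate.eigenAug R (CartDual.D R A) p χ 1) (n := t)
        (Set.mem_pow.mpr ⟨fun j => ⟨Ψ (c j), hΨm _ (c j).2⟩, rfl⟩)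
      rw [List.prod_ofFn] at h
      rw [← eigenAug_one_pow (A := CartDual.D R A) (fun q => by rw [rankAtStalk_cartDual, hrk]) u hu χ hχ hχp t ht1 ht2]
      exact h
    have hmemD' : (∏ j, (c j : CartDual.D R A')) ∈ OortTate.eigenAug R (CartDual.D R A') p χ t := by
      have h := Submodule.pow_subset_pow (M := OortTate.eigenAug R (CartDual.D R A') p χ 1) (n := t)
        (Set.mem_pow.mpr ⟨c, rfl⟩)
      rw [List.prod_ofFn] at h
      rw [← eigenAug_one_pow hrkD' u hu χ hχ hχp t ht1 ht2]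
      exact h
    apply WithConv.ofConv_injective
    apply LinearMap.ext
    intro b
    show (Ψ (∏ j, (c j : CartDual.D R A'))).ofConv b = (∏ j, (c j : CartDual.D R A')).ofConv (E b)
    rw [map_prod, ← form_eigenProj u hu χ hmemD b, ← form_eigenProj u hu χ hmemD' (E b),
      ← map_eigenProj hrk u hu χ hχ hχp hrk' E hE]
    have hb : eigenProj u χ t b ∈ OortTate.eigenAug R A p χ 1 ^ t := by
      rw [eigenAug_one_pow hrk u hu χ hχ hχp t ht1 ht2]
      exact eigenProj_mem (pow_eq_one_of_rank hrk) u χ t b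
    generalize eigenProj u χ t b = z at hb
    rw [Submodule.pow_eq_span_pow_set] at hb
    induction hb using Submodule.span_induction with
    | mem z hz =>
      obtain ⟨x, rfl⟩ := Set.mem_pow.mp hz
      rw [List.prod_ofFn, prod_form_apply_prod hrk u hu χ hχ hχp ht1 ht2 hw.symm (fun j => (x j).2)
          (fun j => hΨm _ (c j).2), map_prod,
        prod_form_apply_prod hrk' u hu χ hχ hχp ht1 ht2 hw.symm (fun j => hE _ (x j).2) (fun j => (c j).2)]
      congr 1
      exact Finset.prod_congr rfl fun j _ => hpair _ (c j).2 _ (x j).2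
    | zero => simp
    | add z z' _ _ hz hz' => simp only [map_add, hz, hz']
    | smul r z _ hz => simp only [map_smul, hz]
  have hg := hker (show g - Bialgebra.counitAlgHom R (CartDual.D R A') g • 1 ∈
    LinearMap.ker (Bialgebra.counitAlgHom R (CartDual.D R A')).toLinearMap by simp)
  rw [LinearMap.mem_ker, map_sub, map_smul, LinearMap.sub_apply, LinearMap.sub_apply] at hg
  rw [show Ψ.toLinearMap 1 - τ 1 = 0 from sub_eq_zero.mpr h1, smul_zero, sub_zero, sub_eq_zero] at hg
  exact hg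

theorem nonempty_bialgEquiv_of_eigen (θ : OortTate.eigenAug R A p χ 1 ≃ₗ[R] OortTate.eigenAug R A' p χ 1)
    (hθ : ∀ (f : Fin p → OortTate.eigenAug R A p χ 1) (g : OortTate.eigenAug R A p χ 1),
      (g : A) = ∏ i, (f i : A) → ((θ g : OortTate.eigenAug R A' p χ 1) : A') = ∏ i, ((θ (f i)) : A'))
    (hθD : ∀ (φ : Fin p → OortTate.eigenAug R (CartDual.D R A) p χ 1)
      (φ' : Fin p → OortTate.eigenAug R (CartDual.D R A') p χ 1)
      (ψ : OortTate.eigenAug R (CartDual.D R A) p χ 1) (ψ' : OortTate.eigenAug R (CartDual.D R A') p χ 1),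
      (∀ i, ∀ x : OortTate.eigenAug R A p χ 1,
        CartDual.toDual R A (φ i : CartDual.D R A) (x : A) =
          CartDual.toDual R A' (φ' i : CartDual.D R A') ((θ x : OortTate.eigenAug R A' p χ 1) : A')) →
      (ψ : CartDual.D R A) = ∏ i, (φ i : CartDual.D R A) →
      (ψ' : CartDual.D R A') = ∏ i, (φ' i : CartDual.D R A') →
      ∀ x : OortTate.eigenAug R A p χ 1,
        CartDual.toDual R A (ψ : CartDual.D R A) (x : A) =
          CartDual.toDual R A' (ψ' : CartDual.D R A') ((θ x : OortTate.eigenAug R A' p χ 1) : A')) :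
    Nonempty (A ≃ₐc[R] A') := by
  classical
  obtain ⟨E, hE⟩ := exists_algHom_of_eigen hrk u hu χ hχ hχp
    ((OortTate.eigenAug R A' p χ 1).subtype ∘ₗ θ.toLinearMap) (fun f g hg => hθ f g hg)
  have hp1 : ∀ {B : Type u} [CommRing B] [HopfAlgebra R B] (f : Fin p → OortTate.eigenAug R B p χ 1)
      [Module.Finite R B] [Module.Projective R B], (∀ q : PrimeSpectrum R, Module.rankAtStalk B q = p) →
      (∏ i, (f i : B)) ∈ OortTate.eigenAug R B p χ 1 := by
    intro B _ _ f _ _ hB
    have h := Submodule.pow_subset_pow (M := OortTate.eigenAug R B p χ 1) (n := p) (Set.mem_pow.mpr ⟨f, rfl⟩)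
    rw [List.prod_ofFn] at h
    have h2 : OortTate.eigenAug R B p χ 1 ^ p ≤ OortTate.eigenAug R B p χ 1 := by
      have hp2 := (Fact.out : p.Prime).two_le
      have e : OortTate.eigenAug R B p χ 1 ^ p =
          OortTate.eigenAug R B p χ 1 ^ (p - 1) * OortTate.eigenAug R B p χ 1 := by
        rw [← pow_succ, Nat.sub_add_cancel (by omega : 1 ≤ p)]
      rw [e, eigenAug_one_pow hB u hu χ hχ hχp (p - 1) (by omega) le_rfl, Submodule.mul_le]
      intro a ha b hb
      have := eigenAug_mul χ ha hb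
      rw [eigenAug_mod, Nat.add_mod_left, ← eigenAug_mod] at this
      exact this
    exact h2 h
  obtain ⟨E', hE'⟩ := exists_algHom_of_eigen hrk' u hu χ hχ hχp
    ((OortTate.eigenAug R A p χ 1).subtype ∘ₗ θ.symm.toLinearMap) (fun f g hg => by
      let h₀ : OortTate.eigenAug R A p χ 1 := ⟨∏ i, (θ.symm (f i) : A), hp1 (fun i => θ.symm (f i)) hrk⟩
      have h := hθ (fun i => θ.symm (f i)) h₀ rfl
      simp only [LinearEquiv.apply_symm_apply] at h
      have hg' : θ h₀ = g := Subtype.ext (h.trans hg.symm)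
      rw [← hg']
      simp [h₀])
  have hEm : ∀ x ∈ OortTate.eigenAug R A p χ 1, E x ∈ OortTate.eigenAug R A' p χ 1 := fun x hx => by
    rw [show E x = θ ⟨x, hx⟩ from hE ⟨x, hx⟩]; exact (θ ⟨x, hx⟩).2
  have hleft : E'.comp E = AlgHom.id R A := algHom_ext_eigen hrk u hu χ hχ hχp fun x hx => by
    rw [AlgHom.comp_apply, show E x = θ ⟨x, hx⟩ from hE ⟨x, hx⟩, hE']
    simp
  have hright : E.comp E' = AlgHom.id R A' := algHom_ext_eigen hrk' u hu χ hχ hχp fun x hx => by
    rw [AlgHom.comp_apply, show E' x = θ.symm ⟨x, hx⟩ from hE' ⟨x, hx⟩, hE]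
    simp
  have hpk := pow_eq_one_of_rank (A := A) hrk
  -- the transposed map on the first eigenspace of the dual
  let restr : OortTate.eigenAug R (CartDual.D R A) p χ 1 →ₗ[R] Module.Dual R (OortTate.eigenAug R A p χ 1) :=
    (OortTate.eigenAug R A p χ 1).subtype.dualMap ∘ₗ (CartDual.toDual R A).toLinearMap ∘ₗ
      (OortTate.eigenAug R (CartDual.D R A) p χ 1).subtype
  let re := LinearEquiv.ofBijective restr (S18471.result p R u hu χ hχ A hpk 1)
  let θD : OortTate.eigenAug R (CartDual.D R A') p χ 1 →ₗ[R] OortTate.eigenAug R (CartDual.D R A) p χ 1 :=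
    re.symm.toLinearMap ∘ₗ (((OortTate.eigenAug R A' p χ 1).subtype ∘ₗ θ.toLinearMap).dualMap ∘ₗ
      (CartDual.toDual R A').toLinearMap ∘ₗ (OortTate.eigenAug R (CartDual.D R A') p χ 1).subtype)
  have hθD' : ∀ f' (x : OortTate.eigenAug R A p χ 1),
      (θD f' : CartDual.D R A).ofConv (x : A) = (f' : CartDual.D R A').ofConv ((θ x : OortTate.eigenAug R A' p χ 1) : A') :=
    fun f' x => LinearMap.congr_fun (re.apply_symm_apply _) x
  have hrkD' : ∀ q : PrimeSpectrum R, Module.rankAtStalk (CartDual.D R A') q = p := fun q => by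
    rw [rankAtStalk_cartDual, hrk']
  have hrkD : ∀ q : PrimeSpectrum R, Module.rankAtStalk (CartDual.D R A) q = p := fun q => by
    rw [rankAtStalk_cartDual, hrk]
  obtain ⟨Ψ, hΨ⟩ := exists_algHom_of_eigen hrkD' u hu χ hχ hχp
    ((OortTate.eigenAug R (CartDual.D R A) p χ 1).subtype ∘ₗ θD) (fun φ' ψ' hψ' => by
      let ψ₀ : OortTate.eigenAug R (CartDual.D R A) p χ 1 :=
        ⟨∏ i, (θD (φ' i) : CartDual.D R A), hp1 (fun i => θD (φ' i)) hrkD⟩
      have h := hθD (fun i => θD (φ' i)) φ' ψ₀ ψ' (fun i x => hθD' (φ' i) x) rfl hψ'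
      have he : θD ψ' = ψ₀ := re.injective (LinearMap.ext fun x => (hθD' ψ' x).trans (h x).symm)
      show (θD ψ' : CartDual.D R A) = _
      rw [he]
      rfl)
  have hform := form_comp_eq hrk u hu χ hχ hχp hrk' E hEm Ψ
    (fun f hf => by rw [show Ψ f = θD ⟨f, hf⟩ from hΨ ⟨f, hf⟩]; exact (θD ⟨f, hf⟩).2)
    (fun f hf x hx => by
      rw [show Ψ f = θD ⟨f, hf⟩ from hΨ ⟨f, hf⟩, show E x = θ ⟨x, hx⟩ from hE ⟨x, hx⟩]
      exact hθD' ⟨f, hf⟩ ⟨x, hx⟩)
  let F : A →ₐc[R] A' := BialgHom.ofAlgHom E (algHom_counit hrk u hu χ hχ hχp E hEm) (by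
    apply AlgHom.ext
    intro a
    refine eq_of_forall_ev₂ (R := R) fun φ ψ => ?_
    have h1 : ∀ z : A ⊗[R] A, CartDual.ev₂ R A' (φ ⊗ₜ ψ) (Algebra.TensorProduct.map E E z) =
        CartDual.ev₂ R A (Ψ φ ⊗ₜ Ψ ψ) z := by
      intro z
      induction z using TensorProduct.induction_on with
      | zero => simp
      | tmul b c => simp [CartDual.coe_apply, hform]
      | add z z' hz hz' => simp only [map_add, hz, hz']
    show CartDual.ev₂ R A' (φ ⊗ₜ ψ) (Algebra.TensorProduct.map E E (Coalgebra.comul a)) =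
      CartDual.ev₂ R A' (φ ⊗ₜ ψ) (Coalgebra.comul (E a))
    rw [h1, ← convMul_eq_ev₂, ← convMul_eq_ev₂, ← map_mul, hform])
  have hF : Function.Bijective F :=
    ⟨Function.LeftInverse.injective (g := E') fun a => AlgHom.congr_fun hleft a,
      Function.RightInverse.surjective (g := E') fun a => AlgHom.congr_fun hright a⟩
  exact ⟨BialgEquiv.ofBijective (R := R) (A := A) (B := A') F hF⟩

end Groth.Agent.GrpSchLib
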