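import Groth.Agent.GrpSchLib.EigenRank

/-! The averaged generators of the augmentation ideal of `μ_p` (Oort–Tate). -/

open TensorProduct WithConv

namespace Groth.Agent.GrpSchLib

universe u

theorem powConv_isGroupLike {R : Type u} [CommRing R] {A : Type u} [CommRing A] [HopfAlgebra R A] {g : A}
    (hg : IsGroupLikeElem R g) (n : ℕ) : SGA3b.powConv R A n g = g ^ n := by
  induction n with
  | zero =>
    show algebraMap R A (Coalgebra.counit g) = _
    rw [hg.counit_eq_one, map_one, pow_zero]
  | succ n ih =>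
    show (toConv (AlgHom.id R A) ^ (n + 1)).ofConv g = _
    rw [pow_succ, pow_succ]
    refine (AlgHom.convMul_apply _ _ g).trans ?_
    rw [hg.comul_eq_tmul_self, Algebra.TensorProduct.lift_tmul]
    exact congrArg (· * g) ih

variable {p : ℕ} [Fact p.Prime] {R : Type u} [CommRing R]

theorem proj_pw {A : Type u} [CommRing A] [HopfAlgebra R A] (hp : (toConv (AlgHom.id R A)) ^ p = 1) (u : R)
    (χ : (ZMod p)ˣ →* Rˣ) (m : (ZMod p)ˣ) (i : ℕ) (x : A) :
    OortTate.proj R A p u χ i (pw (R := R) m x) = ((χ m : R) ^ i) • OortTate.proj R A p u χ i x := by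
  rw [← pw_proj hp u χ m i x]
  simp only [proj_apply, map_smul, map_sum, pw_mul hp, mul_comm m]

theorem proj_mod {A : Type u} [CommRing A] [HopfAlgebra R A] (u : R) (χ : (ZMod p)ˣ →* Rˣ) (i : ℕ) (x : A) :
    OortTate.proj R A p u χ i x = OortTate.proj R A p u χ (i % (p - 1)) x := by
  simp only [proj_apply]
  congr 1
  refine Finset.sum_congr rfl fun m _ => ?_
  congr 1
  conv_lhs => rw [← Nat.mod_add_div i (p - 1)]
  rw [pow_add, pow_mul, ← Units.val_pow_eq_pow_val (χ m⁻¹) (p - 1), ← map_pow,
    ZMod.units_pow_card_sub_one_eq_one, map_one, Units.val_one, one_pow, mul_one]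

theorem rankAtStalk_mu (q : PrimeSpectrum R) :
    Module.rankAtStalk (MonoidAlgebra R (Multiplicative (ZMod p))) q = p := by
  haveI : Nontrivial R := PrimeSpectrum.nontrivial q
  haveI : Module.Free R (MonoidAlgebra R (Multiplicative (ZMod p))) :=
    Module.Free.of_equiv (MonoidAlgebra.coeffLinearEquiv R).symm
  haveI : Module.Finite R (MonoidAlgebra R (Multiplicative (ZMod p))) :=
    Module.Finite.equiv ((Finsupp.linearEquivFunOnFinite R R (Multiplicative (ZMod p))).symm ≪≫ₗ
      (MonoidAlgebra.coeffLinearEquiv R).symm)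
  rw [Module.rankAtStalk_eq_finrank_of_free]
  show Module.finrank R (MonoidAlgebra R (Multiplicative (ZMod p))) = p
  rw [(MonoidAlgebra.coeffLinearEquiv R).finrank_eq, Module.finrank_finsupp_self]
  simp

variable (u : R) (hu : u * ((p - 1 : ℕ) : R) = 1) (χ : (ZMod p)ˣ →* Rˣ)
  (hχ : ∀ m : (ZMod p)ˣ, m ≠ 1 → IsUnit ((χ m : R) - 1))

theorem mu_pow_eq_one : (toConv (AlgHom.id R (MonoidAlgebra R (Multiplicative (ZMod p))))) ^ p = 1 := by
  haveI : Module.Free R (MonoidAlgebra R (Multiplicative (ZMod p))) :=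
    Module.Free.of_equiv (MonoidAlgebra.coeffLinearEquiv R).symm
  haveI : Module.Finite R (MonoidAlgebra R (Multiplicative (ZMod p))) :=
    Module.Finite.equiv ((Finsupp.linearEquivFunOnFinite R R (Multiplicative (ZMod p))).symm ≪≫ₗ
      (MonoidAlgebra.coeffLinearEquiv R).symm)
  exact pow_eq_one_of_rank rankAtStalk_mu

theorem pw_muT_sub_one (m : (ZMod p)ˣ) :
    pw (R := R) m (OortTate.muT R p - 1) =
      MonoidAlgebra.of R (Multiplicative (ZMod p)) (Multiplicative.ofAdd (m : ZMod p)) - 1 := by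
  show SGA3b.powConv R _ (m : ZMod p).val (OortTate.muT R p - 1) = _
  rw [map_sub, map_one, powConv_isGroupLike, ← map_pow, ← ofAdd_nsmul, nsmul_one, ZMod.natCast_val, ZMod.cast_id]
  exact ⟨by simp [MonoidAlgebra.counit_single], by simp [MonoidAlgebra.comul_single]⟩

theorem ygen_mem (i : ℕ) :
    OortTate.ygen R p u χ i ∈ OortTate.eigenAug R (MonoidAlgebra R (Multiplicative (ZMod p))) p χ i :=
  (mem_eigenAug χ).mpr ⟨counit_proj u χ _ (by simp [MonoidAlgebra.counit_single]),
    fun m => pw_proj mu_pow_eq_one u χ m _ _⟩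

theorem ygen_coeff (i : ℕ) :
    (OortTate.ygen R p u χ i).coeff (Multiplicative.ofAdd (1 : ZMod p)) = u := by
  classical
  simp only [OortTate.ygen, proj_apply, pw_muT_sub_one]
  simp only [MonoidAlgebra.coeff_smul, Finsupp.smul_apply, MonoidAlgebra.coeff_sum, Finsupp.finset_sum_apply,
    MonoidAlgebra.coeff_sub, Finsupp.sub_apply, MonoidAlgebra.of_apply, MonoidAlgebra.coeff_single,
    MonoidAlgebra.one_def, Finsupp.single_apply, smul_eq_mul]
  have h10 : ¬ (1 : Multiplicative (ZMod p)) = Multiplicative.ofAdd 1 := fun h =>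
    zero_ne_one (congrArg (fun z : Multiplicative (ZMod p) => z.toAdd) h)
  rw [Finset.sum_eq_single 1]
  · simp [h10]
  · intro m _ hm
    have h1 : ¬ (m : ZMod p) = 1 := fun h => hm (Units.ext h)
    simp [h1, h10]
  · simp

include hu in
theorem ygen_smul_eq_zero (i : ℕ) {r : R} (h : r • OortTate.ygen R p u χ i = 0) : r = 0 := by
  have h' := congrArg (fun z : MonoidAlgebra R (Multiplicative (ZMod p)) => z.coeff (Multiplicative.ofAdd (1 : ZMod p))) h
  simp only [MonoidAlgebra.coeff_smul, Finsupp.smul_apply, ygen_coeff, MonoidAlgebra.coeff_zero, Finsupp.zero_apply,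
    smul_eq_mul] at h'
  exact (IsUnit.of_mul_eq_one _ hu).mul_left_eq_zero.mp h'

include hu hχ in
theorem eigenAug_mu_le (i : ℕ) :
    OortTate.eigenAug R (MonoidAlgebra R (Multiplicative (ZMod p))) p χ i ≤
      Submodule.span R {OortTate.ygen R p u χ i} := by
  classical
  have hp1 : i % (p - 1) < p - 1 := Nat.mod_lt _ (Nat.sub_pos_of_lt (Fact.out : p.Prime).one_lt)
  intro x hx
  have hx' := hx
  rw [eigenAug_mod] at hx'
  have hfix := proj_of_eigen u χ hχ hu hp1 hp1 hx'
  rw [if_pos rfl, ← proj_mod] at hfix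
  rw [← hfix]
  have hsum : x = ∑ g : Multiplicative (ZMod p), x.coeff g • (MonoidAlgebra.of R _ g - 1) := by
    have h0 : ∑ g : Multiplicative (ZMod p), x.coeff g = 0 := by
      have h := ((mem_eigenAug χ).mp hx).1
      rw [← MonoidAlgebra.sum_coeff_single x] at h
      simp only [Finsupp.sum, map_sum] at h
      rw [← h]
      refine (Finset.sum_subset (Finset.subset_univ _) (fun g _ hg => by rw [Finsupp.notMem_support_iff.mp hg])).symm.trans ?_
      exact Finset.sum_congr rfl fun g _ => by simp [MonoidAlgebra.counit_single]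
    simp only [smul_sub, Finset.sum_sub_distrib, ← Finset.sum_smul, h0, zero_smul, sub_zero]
    conv_lhs => rw [← MonoidAlgebra.sum_coeff_single x]
    rw [Finsupp.sum_fintype _ _ (fun g => MonoidAlgebra.single_zero g)]
    exact Finset.sum_congr rfl fun g _ => by simp [MonoidAlgebra.smul_single]
  rw [hsum, map_sum]
  refine Submodule.sum_mem _ fun g _ => ?_
  rw [map_smul]
  refine Submodule.smul_mem _ _ ?_
  by_cases hg : Multiplicative.toAdd g = 0
  · rw [show g = 1 from hg, map_one, sub_self, map_zero]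
    exact zero_mem _
  · rw [show MonoidAlgebra.of R _ g - 1 = pw (R := R) (Units.mk0 _ hg) (OortTate.muT R p - 1) by
        rw [pw_muT_sub_one]; rfl, proj_pw mu_pow_eq_one]
    exact Submodule.smul_mem _ _ (Submodule.mem_span_singleton_self _)

end Groth.Agent.GrpSchLib
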