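import Groth.Agent.GrpSchLib.EigenTensor
import Groth.Agent.GrpSchLib.MuAug
import Groth.Agent.S18471
import Mathlib.LinearAlgebra.Contraction

/-! Forms in the eigenspaces of the dual, and endomorphisms of an invertible module (Oort–Tate). -/

open TensorProduct WithConv

namespace Groth.Agent.GrpSchLib

universe u

theorem endo_eq_smul_of_rank_one {R : Type u} [CommRing R] {M : Type u} [AddCommGroup M] [Module R M]
    [Module.Finite R M] [Module.Projective R M] (h1 : ∀ q : PrimeSpectrum R, Module.rankAtStalk M q = 1)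
    (g : M →ₗ[R] M) : ∃ r : R, g = r • LinearMap.id := by
  let J : Ideal R := Submodule.comap (LinearMap.toSpanSingleton R (M →ₗ[R] M) g)
    (Submodule.span R {(LinearMap.id : M →ₗ[R] M)})
  suffices h : J = ⊤ by
    have h' : (1 : R) ∈ J := h ▸ Submodule.mem_top
    obtain ⟨r, hr⟩ := Submodule.mem_span_singleton.mp h'
    exact ⟨r, by simpa using hr.symm⟩
  by_contra hne
  obtain ⟨q, hq, hle⟩ := Ideal.exists_le_maximal J hne
  obtain ⟨x, s, hs, hgen⟩ := exists_locally_principal h1 ⟨q, hq.isPrime⟩
  obtain ⟨r, hr⟩ := hgen (g x)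
  have hmem : s * s ∈ J := by
    refine Submodule.mem_span_singleton.mpr ⟨r * s, LinearMap.ext fun m => ?_⟩
    obtain ⟨a, ha⟩ := hgen m
    -- `s g x = r x` and `s m = a x`
    have h2 : (s * s) • g m = (r * a) • x :=
      calc (s * s) • g m = s • g (s • m) := by rw [map_smul, mul_smul]
        _ = a • (s • g x) := by rw [ha, map_smul, smul_comm]
        _ = (r * a) • x := by rw [hr, smul_smul, mul_comm]
    have h3 : r • (s • m) = (r * a) • x := by rw [ha, smul_smul]
    show (r * s) • m = (s * s) • g m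
    rw [h2, mul_smul, h3]
  exact hs ((hq.isPrime.mem_or_mem (hle hmem)).elim id id)

section Dual

variable {p : ℕ} [Fact p.Prime] {R : Type u} [CommRing R] {A : Type u} [CommRing A] [HopfAlgebra R A]
  [Coalgebra.IsCocomm R A] [Module.Finite R A] [Module.Projective R A]

/-- The projector onto an eigenspace. -/
noncomputable def eigenProj (u : R) (χ : (ZMod p)ˣ →* Rˣ) (i : ℕ) : A →ₗ[R] A :=
  OortTate.proj R A p u χ (i % (p - 1)) ∘ₗ (LinearMap.id - (Bialgebra.counitAlgHom R A).toLinearMap.smulRight 1)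

theorem eigenProj_mem (hp : (toConv (AlgHom.id R A)) ^ p = 1) (u : R) (χ : (ZMod p)ˣ →* Rˣ) (i : ℕ) (a : A) :
    eigenProj u χ i a ∈ OortTate.eigenAug R A p χ i := by
  rw [eigenAug_mod]
  exact (mem_eigenAug χ).mpr ⟨counit_proj u χ _ (by simp), fun m => pw_proj hp u χ m _ _⟩

theorem eigenProj_eq_self (u : R) (hu : u * ((p - 1 : ℕ) : R) = 1) (χ : (ZMod p)ˣ →* Rˣ)
    (hχ : ∀ m : (ZMod p)ˣ, m ≠ 1 → IsUnit ((χ m : R) - 1)) {i : ℕ} {x : A}
    (hx : x ∈ OortTate.eigenAug R A p χ i) : eigenProj u χ i x = x := by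
  have hj : i % (p - 1) < p - 1 := Nat.mod_lt _ (Nat.sub_pos_of_lt (Fact.out : p.Prime).one_lt)
  have h0 : Coalgebra.counit (R := R) x = 0 := ((mem_eigenAug χ).mp hx).1
  rw [eigenAug_mod] at hx
  simp [eigenProj, h0, proj_of_eigen u χ hχ hu hj hj hx]

theorem form_eigenProj (u : R) (hu : u * ((p - 1 : ℕ) : R) = 1) (χ : (ZMod p)ˣ →* Rˣ) {i : ℕ}
    {f : CartDual.D R A} (hf : f ∈ OortTate.eigenAug R (CartDual.D R A) p χ i) (a : A) :
    f.ofConv (eigenProj u χ i a) = f.ofConv a := by
  rw [eigenAug_mod] at hf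
  obtain ⟨h1, h2⟩ := (mem_eigenAug χ).mp hf
  have h2' : ∀ (m : (ZMod p)ˣ) (b : A), f.ofConv (pw (R := R) m b) = (χ m : R) ^ (i % (p - 1)) * f.ofConv b := by
    intro m b
    have h := congrArg (fun g : CartDual.D R A => g.ofConv b) (h2 m)
    rw [show (pw (R := R) m f).ofConv b = f.ofConv (pw (R := R) m b) from dual_powConv _ f b] at h
    exact h
  have h1' : f.ofConv (1 : A) = 0 := h1
  simp only [eigenProj, LinearMap.comp_apply, proj_apply, map_smul, map_sum, h2', smul_eq_mul, ← _root_.mul_assoc,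
    char_inv_pow_mul, _root_.one_mul, Finset.sum_const, Finset.card_univ, ZMod.card_units p, nsmul_eq_mul]
  rw [hu, _root_.one_mul]
  simp [h1']

end Dual

end Groth.Agent.GrpSchLib

namespace Groth.Agent.GrpSchLib

theorem rankAtStalk_dual {R : Type*} [CommRing R] {M : Type*} [AddCommGroup M] [Module R M] [Module.Finite R M]
    [Module.Projective R M] (q : PrimeSpectrum R) :
    Module.rankAtStalk (Module.Dual R M) q = Module.rankAtStalk M q := by
  haveI : Nontrivial R := PrimeSpectrum.nontrivial q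
  haveI := Module.finitePresentation_of_projective R M
  let S := q.asIdeal.primeCompl
  let Rp := Localization S
  let e := (Module.FinitePresentation.linearEquivMapExtendScalars (R := R) (M := M) (N := R) S).extendScalarsOfIsLocalization S Rp
  haveI : Module.Free Rp (LocalizedModule S M) := Module.free_of_flat_of_isLocalRing
  haveI : Module.Free Rp (LocalizedModule S R) := Module.free_of_flat_of_isLocalRing
  show Module.finrank Rp (LocalizedModule S (M →ₗ[R] R)) = Module.finrank Rp (LocalizedModule S M)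
  rw [e.finrank_eq, Module.finrank_linearMap]
  have h := congrFun (Module.rankAtStalk_self (R := R)) q
  change Module.finrank Rp (LocalizedModule S R) = 1 at h
  rw [h, mul_one]

theorem rankAtStalk_cartDual {R : Type*} [CommRing R] {A : Type*} [CommRing A] [HopfAlgebra R A] [Module.Finite R A]
    [Module.Projective R A] (q : PrimeSpectrum R) :
    Module.rankAtStalk (CartDual.D R A) q = Module.rankAtStalk A q := by
  rw [congrFun (Module.rankAtStalk_eq_of_equiv (CartDual.toDual R A)) q, rankAtStalk_dual]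

end Groth.Agent.GrpSchLib
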