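import Groth.Agent.GrpSchLib.EigenPairing

/-! The pairing of products of eigenvectors (Oort–Tate). -/

open TensorProduct WithConv

namespace Groth.Agent.GrpSchLib

universe u

theorem smul_comm_of_rank_one {R : Type u} [CommRing R] {M : Type u} [AddCommGroup M] [Module R M]
    [Module.Finite R M] [Module.Projective R M] (h1 : ∀ q : PrimeSpectrum R, Module.rankAtStalk M q = 1)
    (l : M →ₗ[R] R) (x y : M) : l y • x = l x • y := by
  rw [← sub_eq_zero]
  let ann : Ideal R := LinearMap.ker (LinearMap.toSpanSingleton R M (l y • x - l x • y))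
  suffices h : ann = ⊤ by
    have h' : (1 : R) ∈ ann := h ▸ Submodule.mem_top
    have h'' : (1 : R) • (l y • x - l x • y) = 0 := h'
    rwa [one_smul] at h''
  by_contra hne
  obtain ⟨q, hq, hle⟩ := Ideal.exists_le_maximal ann hne
  obtain ⟨e, s, hs, hgen⟩ := exists_locally_principal h1 ⟨q, hq.isPrime⟩
  obtain ⟨a, ha⟩ := hgen x
  obtain ⟨b, hb⟩ := hgen y
  have hmem : s * s ∈ ann := by
    show (s * s) • (l y • x - l x • y) = 0
    have e1 : (s * s) • l y • x = l (s • y) • (s • x) := by
      rw [map_smul, smul_eq_mul, smul_smul, smul_smul]; congr 1; ring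
    have e2 : (s * s) • l x • y = l (s • x) • (s • y) := by
      rw [map_smul, smul_eq_mul, smul_smul, smul_smul]; congr 1; ring
    rw [smul_sub, e1, e2, ha, hb, map_smul, map_smul, smul_smul, smul_smul, sub_eq_zero]
    congr 1
    simp only [smul_eq_mul]
    ring
  exact hs ((hq.isPrime.mem_or_mem (hle hmem)).elim id id)

theorem eq_zero_of_forall_smul_rank_one {R : Type u} [CommRing R] {M : Type u} [AddCommGroup M] [Module R M]
    [Module.Finite R M] [Module.Projective R M] (h1 : ∀ q : PrimeSpectrum R, Module.rankAtStalk M q = 1)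
    {r : R} (hr : ∀ m : M, r • m = 0) : r = 0 := by
  let ann : Ideal R := LinearMap.ker (LinearMap.toSpanSingleton R R r)
  suffices h : ann = ⊤ by
    have h' : (1 : R) ∈ ann := h ▸ Submodule.mem_top
    simpa [ann] using h'
  by_contra hne
  obtain ⟨q, hq, hle⟩ := Ideal.exists_le_maximal ann hne
  obtain ⟨s, hs, hsr⟩ := exists_smul_eq_zero_of_rank_one h1 ⟨q, hq.isPrime⟩ hr
  exact hs (hle (show s • r = 0 from hsr))

variable {p : ℕ} [Fact p.Prime] {R : Type u} [CommRing R] {A : Type u} [CommRing A] [HopfAlgebra R A]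
  [Coalgebra.IsCocomm R A] [Module.Finite R A] [Module.Projective R A]

/-- The operator `a ↦ f a • x` in the convolution algebra. -/
noncomputable def opTensor (x : A) (f : CartDual.D R A) : WithConv (A →ₗ[R] A) :=
  toConv (f.ofConv.smulRight x)

theorem opTensor_mul (x y : A) (f g : CartDual.D R A) :
    opTensor (x * y) (f * g) = opTensor x f * opTensor y g := by
  apply WithConv.ofConv_injective
  apply LinearMap.ext
  intro a
  rw [LinearMap.convMul_apply]
  show (f * g).ofConv a • (x * y) = _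
  rw [LinearMap.convMul_apply]
  generalize Coalgebra.comul (R := R) a = w
  induction w using TensorProduct.induction_on with
  | zero => simp
  | tmul b c => simp [opTensor, smul_mul_smul_comm, smul_smul, mul_comm]
  | add w w' hw hw' => simp only [map_add, add_smul, hw, hw']

theorem opTensor_one : opTensor (1 : A) (1 : CartDual.D R A) = 1 := by
  apply WithConv.ofConv_injective
  apply LinearMap.ext
  intro a
  simp [opTensor, LinearMap.convOne_apply, Algebra.algebraMap_eq_smul_one]

variable (hrk : ∀ q : PrimeSpectrum R, Module.rankAtStalk A q = p)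
  (u : R) (hu : u * ((p - 1 : ℕ) : R) = 1) (χ : (ZMod p)ˣ →* Rˣ)
  (hχ : ∀ m : (ZMod p)ˣ, m ≠ 1 → IsUnit ((χ m : R) - 1))
  (hχp : ∀ m : (ZMod p)ˣ, ((χ m : Rˣ) : R) - (((m : ZMod p).val : ℕ) : R) ∈ Ideal.span ({(p : R)} : Set R))

include hrk hu hχ hχp

theorem opTensor_eigen {x : A} (hx : x ∈ OortTate.eigenAug R A p χ 1) {f : CartDual.D R A}
    (hf : f ∈ OortTate.eigenAug R (CartDual.D R A) p χ 1) :
    opTensor x f = f.ofConv x • toConv (eigenProj u χ 1) := by
  apply WithConv.ofConv_injective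
  apply LinearMap.ext
  intro a
  haveI := (finite_projective_eigenAug hrk u hu χ hχ hχp 1).1
  haveI := (finite_projective_eigenAug hrk u hu χ hχ hχp 1).2
  have h := congrArg Subtype.val (smul_comm_of_rank_one (rankAtStalk_eigenAug hrk u hu χ hχ hχp 1)
    (f.ofConv ∘ₗ (OortTate.eigenAug R A p χ 1).subtype) (⟨x, hx⟩ : OortTate.eigenAug R A p χ 1)
    ⟨eigenProj u χ 1 a, eigenProj_mem (pow_eq_one_of_rank hrk) u χ 1 a⟩)
  show f.ofConv a • x = f.ofConv x • eigenProj u χ 1 a
  rw [← form_eigenProj u hu χ hf a]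
  exact h

theorem eigenProj_one_pow {t : ℕ} {w : R}
    (hw : OortTate.ygen R p u χ 1 ^ t = w • OortTate.ygen R p u χ t) :
    (toConv (eigenProj (A := A) u χ 1) : WithConv (A →ₗ[R] A)) ^ t = w • toConv (eigenProj u χ t) := by
  have hpk := pow_eq_one_of_rank (A := A) hrk
  let e : WithConv (A →ₗ[R] A) := toConv LinearMap.id
  have hen : ∀ n : ℕ, e ^ n = toConv (SGA3b.powConv R A n).toLinearMap := fun n => by
    simp only [SGA3b.powConv]
    rw [AlgHom.toLinearMap_convPow]
    rfl
  have hep : e ^ p = 1 := by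
    rw [hen]
    simp only [SGA3b.powConv, hpk]
    exact AlgHom.toLinearMap_convOne
  let φ : Multiplicative (ZMod p) →* WithConv (A →ₗ[R] A) :=
    { toFun := fun m => e ^ m.toAdd.val
      map_one' := by simp
      map_mul' := fun m n => by
        rw [← pow_add, toAdd_mul, ZMod.val_add, ← pow_eq_pow_mod _ hep] }
  let ψ : MonoidAlgebra R (Multiplicative (ZMod p)) →ₐ[R] WithConv (A →ₗ[R] A) := MonoidAlgebra.lift R _ _ φ
  have hy : ∀ i, ψ (OortTate.ygen R p u χ i) = toConv (eigenProj u χ i) := by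
    intro i
    rw [show OortTate.ygen R p u χ i = OortTate.proj R _ p u χ i (OortTate.muT R p - 1) from rfl, proj_mod,
      proj_apply]
    apply WithConv.ofConv_injective
    apply LinearMap.ext
    intro a
    simp only [map_smul, map_sum, pw_muT_sub_one]
    simp only [map_sub, map_one, ψ, MonoidAlgebra.lift_of]
    simp only [WithConv.ofConv_smul, WithConv.ofConv_sum, LinearMap.smul_apply, LinearMap.sum_apply,
      eigenProj, LinearMap.comp_apply, proj_apply, WithConv.ofConv_sub, LinearMap.sub_apply]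
    congr 1
    refine Finset.sum_congr rfl fun m _ => ?_
    congr 1
    show (e ^ (m : ZMod p).val).ofConv a - (1 : WithConv (A →ₗ[R] A)).ofConv a =
      pw (R := R) m (a - Bialgebra.counitAlgHom R A a • (1 : A))
    rw [hen, map_sub, map_smul, show pw (R := R) m (1 : A) = 1 from map_one (SGA3b.powConv R A (m : ZMod p).val),
      LinearMap.convOne_apply, Algebra.algebraMap_eq_smul_one]
    rfl
  rw [← hy, ← map_pow, hw, map_smul, hy]

theorem opTensor_prod {t : ℕ} {x : Fin t → A} (hx : ∀ j, x j ∈ OortTate.eigenAug R A p χ 1)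
    {f : Fin t → CartDual.D R A} (hf : ∀ j, f j ∈ OortTate.eigenAug R (CartDual.D R A) p χ 1) :
    opTensor (∏ j, x j) (∏ j, f j) = (∏ j, (f j).ofConv (x j)) • (toConv (eigenProj u χ 1)) ^ t := by
  induction t with
  | zero => simp [opTensor_one]
  | succ t ih =>
    rw [Fin.prod_univ_succ, Fin.prod_univ_succ, Fin.prod_univ_succ, opTensor_mul,
      opTensor_eigen hrk u hu χ hχ hχp (hx 0) (hf 0), ih (fun j => hx _) (fun j => hf _), smul_mul_smul_comm,
      pow_succ']

theorem prod_form_apply_prod {t : ℕ} (ht1 : 1 ≤ t) (ht2 : t ≤ p - 1) {w : R}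
    (hw : OortTate.ygen R p u χ 1 ^ t = w • OortTate.ygen R p u χ t)
    {x : Fin t → A} (hx : ∀ j, x j ∈ OortTate.eigenAug R A p χ 1)
    {f : Fin t → CartDual.D R A} (hf : ∀ j, f j ∈ OortTate.eigenAug R (CartDual.D R A) p χ 1) :
    (∏ j, f j).ofConv (∏ j, x j) = w * ∏ j, (f j).ofConv (x j) := by
  haveI := (finite_projective_eigenAug hrk u hu χ hχ hχp t).1
  haveI := (finite_projective_eigenAug hrk u hu χ hχ hχp t).2
  have h1 := rankAtStalk_eigenAug hrk u hu χ hχ hχp t
  have hz : ∏ j, x j ∈ OortTate.eigenAug R A p χ t := by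
    rw [← eigenAug_one_pow hrk u hu χ hχ hχp t ht1 ht2]
    have h := Submodule.pow_subset_pow (M := OortTate.eigenAug R A p χ 1) (n := t)
      (Set.mem_pow.mpr ⟨fun i => ⟨x i, hx i⟩, rfl⟩)
    rw [List.prod_ofFn] at h
    exact h
  have hop := opTensor_prod hrk u hu χ hχ hχp hx hf
  rw [eigenProj_one_pow hrk u hu χ hχ hχp hw, smul_smul] at hop
  have key : ∀ a : OortTate.eigenAug R A p χ t,
      ((∏ j, f j).ofConv (∏ j, x j) - w * ∏ j, (f j).ofConv (x j)) • a = 0 := by
    intro a
    have h := LinearMap.congr_fun (congrArg WithConv.ofConv hop) (a : A)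
    have h' : (∏ j, f j).ofConv (a : A) • (∏ j, x j) =
        ((∏ j, (f j).ofConv (x j)) * w) • eigenProj u χ t (a : A) := h
    rw [eigenProj_eq_self u hu χ hχ a.2] at h'
    have hc := congrArg Subtype.val (smul_comm_of_rank_one h1 ((∏ j, f j).ofConv ∘ₗ (OortTate.eigenAug R A p χ t).subtype)
      (⟨_, hz⟩ : OortTate.eigenAug R A p χ t) a)
    have hc' : (∏ j, f j).ofConv (a : A) • (∏ j, x j) = (∏ j, f j).ofConv (∏ j, x j) • (a : A) := hc
    apply Subtype.ext
    show _ • (a : A) = 0
    rw [sub_smul, sub_eq_zero, ← hc', h', mul_comm w]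
  exact sub_eq_zero.mp (eq_zero_of_forall_smul_rank_one h1 key)

end Groth.Agent.GrpSchLib
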