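import Groth.Agent.GrpSchLib.EigenFibre
import Mathlib.RingTheory.HopfAlgebra.TensorProduct
import Mathlib.RingTheory.Spectrum.Prime.FreeLocus
import Mathlib.RingTheory.LocalRing.Module
import Mathlib.FieldTheory.IsAlgClosed.AlgebraicClosure
import Mathlib.Algebra.Module.Projective

/-! The eigenspaces of a group of prime order are invertible and generated by the first one (Oort–Tate). -/

open TensorProduct WithConv

namespace Groth.Agent.GrpSchLib

universe u

variable {p : ℕ} [Fact p.Prime] {R : Type u} [CommRing R] {A : Type u} [CommRing A] [HopfAlgebra R A]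

/-- The base change of a character. -/
noncomputable def charBC (χ : (ZMod p)ˣ →* Rˣ) (S : Type u) [CommRing S] [Algebra R S] : (ZMod p)ˣ →* Sˣ :=
  (Units.map (algebraMap R S : R →* S)).comp χ

section BaseChange

variable (S : Type u) [CommRing S] [Algebra R S]

theorem powConv_baseChange (n : ℕ) (c : S) (a : A) :
    SGA3b.powConv S (S ⊗[R] A) n (c ⊗ₜ a) = c ⊗ₜ SGA3b.powConv R A n a := by
  induction n generalizing c a with
  | zero =>
    show algebraMap S (S ⊗[R] A) (Coalgebra.counit (R := S) (c ⊗ₜ[R] a)) = c ⊗ₜ algebraMap R A (Coalgebra.counit a)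
    rw [TensorProduct.counit_tmul, CommSemiring.counit_apply, Algebra.TensorProduct.algebraMap_apply,
      Algebra.algebraMap_eq_smul_one (A := A), TensorProduct.tmul_smul, TensorProduct.smul_tmul']
    simp
  | succ n ih =>
    have e1 : ∀ (T : Type u) (B : Type u) [CommRing T] [CommRing B] [HopfAlgebra T B] (b : B),
        SGA3b.powConv T B (n + 1) b = LinearMap.mul' T B
          (TensorProduct.map (SGA3b.powConv T B n).toLinearMap LinearMap.id (Coalgebra.comul b)) := by
      intro T B _ _ _ b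
      refine (congrArg (fun f : WithConv (B →ₐ[T] B) => f.ofConv b) (pow_succ (toConv (AlgHom.id T B)) n)).trans ?_
      exact LinearMap.convMul_apply (toConv (SGA3b.powConv T B n).toLinearMap) (toConv LinearMap.id) b
    rw [e1 S (S ⊗[R] A), e1 R A, TensorProduct.comul_tmul, CommSemiring.comul_apply]
    generalize Coalgebra.comul (R := R) a = t
    induction t using TensorProduct.induction_on with
    | zero => simp
    | tmul b d => simp [ih]
    | add s t hs ht => simp only [TensorProduct.tmul_add, map_add, hs, ht]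

theorem counit_one_tmul (a : A) :
    Bialgebra.counitAlgHom S (S ⊗[R] A) ((1 : S) ⊗ₜ a) = algebraMap R S (Bialgebra.counitAlgHom R A a) := by
  show Coalgebra.counit (R := S) ((1 : S) ⊗ₜ[R] a) = _
  rw [TensorProduct.counit_tmul, CommSemiring.counit_apply, Algebra.algebraMap_eq_smul_one]
  rfl

theorem one_tmul_mem_eigenAug (χ : (ZMod p)ˣ →* Rˣ) {i : ℕ} {a : A} (ha : a ∈ OortTate.eigenAug R A p χ i) :
    (1 : S) ⊗ₜ[R] a ∈ OortTate.eigenAug S (S ⊗[R] A) p (charBC χ S) i := by
  obtain ⟨h0, hm⟩ := (mem_eigenAug χ).mp ha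
  refine (mem_eigenAug _).mpr ⟨by rw [counit_one_tmul, h0, map_zero], fun m => ?_⟩
  have h := hm m
  simp only [pw, AlgHom.toLinearMap_apply] at h ⊢
  rw [powConv_baseChange, h, TensorProduct.tmul_smul]
  show _ = ((algebraMap R S (χ m : R)) ^ i) • _
  rw [← map_pow, algebraMap_smul]

theorem eigenAug_baseChange_le_span (hp : (toConv (AlgHom.id R A)) ^ p = 1) (u : R) (hu : u * ((p - 1 : ℕ) : R) = 1)
    (χ : (ZMod p)ˣ →* Rˣ) (hχS : ∀ m : (ZMod p)ˣ, m ≠ 1 → IsUnit ((charBC χ S m : S) - 1))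
    (i : ℕ) :
    OortTate.eigenAug S (S ⊗[R] A) p (charBC χ S) i ≤
      Submodule.span S ((fun a : A => (1 : S) ⊗ₜ[R] a) '' (OortTate.eigenAug R A p χ i : Set A)) := by
  have hp1 : 0 < p - 1 := Nat.sub_pos_of_lt (Fact.out : p.Prime).one_lt
  rw [eigenAug_mod (A := S ⊗[R] A), eigenAug_mod (A := A)]
  set j := i % (p - 1)
  have hj : j < p - 1 := Nat.mod_lt _ hp1
  have huS : algebraMap R S u * ((p - 1 : ℕ) : S) = 1 := by rw [← map_natCast (algebraMap R S), ← map_mul, hu, map_one]
  intro x hx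
  have hfix := proj_of_eigen (algebraMap R S u) (charBC χ S) hχS huS hj hj hx
  rw [if_pos rfl] at hfix
  rw [← hfix]
  suffices h : ∀ z : S ⊗[R] A,
      OortTate.proj S (S ⊗[R] A) p (algebraMap R S u) (charBC χ S) j
        (z - Bialgebra.counitAlgHom S (S ⊗[R] A) z • 1) ∈
      Submodule.span S ((fun a : A => (1 : S) ⊗ₜ[R] a) '' (OortTate.eigenAug R A p χ j : Set A)) by
    have := h x
    rwa [((mem_eigenAug _).mp hx).1, zero_smul, sub_zero] at this
  intro z
  induction z using TensorProduct.induction_on with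
  | zero => simp
  | add s t hs ht => simpa [map_add, add_smul, add_sub_add_comm] using add_mem hs ht
  | tmul c a =>
    let a' := a - Bialgebra.counitAlgHom R A a • 1
    have ha' : OortTate.proj R A p u χ j a' ∈ OortTate.eigenAug R A p χ j :=
      (mem_eigenAug χ).mpr ⟨counit_proj u χ _ (by simp [a']), fun m => pw_proj hp u χ m _ _⟩
    have e : OortTate.proj S (S ⊗[R] A) p (algebraMap R S u) (charBC χ S) j
        (c ⊗ₜ[R] a - Bialgebra.counitAlgHom S (S ⊗[R] A) (c ⊗ₜ[R] a) • 1) =
        c • ((1 : S) ⊗ₜ[R] OortTate.proj R A p u χ j a') := by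
      have e0 : c ⊗ₜ[R] a - Bialgebra.counitAlgHom S (S ⊗[R] A) (c ⊗ₜ[R] a) • 1 = c • ((1 : S) ⊗ₜ[R] a') := by
        rw [show c ⊗ₜ[R] a = c • ((1 : S) ⊗ₜ[R] a) by rw [TensorProduct.smul_tmul', smul_eq_mul, mul_one],
          map_smul, counit_one_tmul, smul_sub_tmul_aux]
      rw [e0, map_smul]
      congr 1
      simp only [proj_apply, pw, AlgHom.toLinearMap_apply, powConv_baseChange, TensorProduct.tmul_smul,
        TensorProduct.tmul_sum, Finset.smul_sum, smul_smul]
      refine Finset.sum_congr rfl fun m _ => ?_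
      show (algebraMap R S u * (algebraMap R S (χ m⁻¹ : R)) ^ j) • _ = _
      rw [← map_pow, ← map_mul, algebraMap_smul]
    rw [e]
    exact Submodule.smul_mem _ _ (Submodule.subset_span ⟨_, ha', rfl⟩)
where
  smul_sub_tmul_aux {c : S} {a : A} : c • ((1 : S) ⊗ₜ[R] a) - (c • algebraMap R S (Bialgebra.counitAlgHom R A a)) • 1 =
      c • ((1 : S) ⊗ₜ[R] (a - Bialgebra.counitAlgHom R A a • 1)) := by
    rw [TensorProduct.tmul_sub, smul_sub, smul_assoc, algebraMap_smul, TensorProduct.tmul_smul,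
      Algebra.TensorProduct.one_def]

theorem span_one_tmul_pow_le (I : Submodule R A) (t : ℕ) :
    Submodule.span S ((fun a : A => (1 : S) ⊗ₜ[R] a) '' (I : Set A)) ^ t ≤
      Submodule.span S ((fun a : A => (1 : S) ⊗ₜ[R] a) '' ((I ^ t : Submodule R A) : Set A)) := by
  induction t with
  | zero =>
    rw [pow_zero, Submodule.one_eq_span, Submodule.span_le]
    rintro _ rfl
    exact Submodule.subset_span ⟨1, by rw [pow_zero]; exact Submodule.one_le.mp le_rfl, Algebra.TensorProduct.one_def.symm⟩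
  | succ t ih =>
    rw [pow_succ, pow_succ]
    refine (mul_le_mul' ih le_rfl).trans ?_
    rw [Submodule.span_mul_span, Submodule.span_le]
    rintro _ ⟨_, ⟨a, ha, rfl⟩, _, ⟨b, hb, rfl⟩, rfl⟩
    exact Submodule.subset_span ⟨a * b, Submodule.mul_mem_mul ha hb, by simp⟩

end BaseChange

section Field

variable {K : Type u} [Field K] [IsAlgClosed K] {B : Type u} [CommRing B] [HopfAlgebra K B] [Module.Finite K B]

theorem exists_eigenAug_eq_span (hB : Module.finrank K B = p) (u : K) (hu : u * ((p - 1 : ℕ) : K) = 1)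
    (χ : (ZMod p)ˣ →* Kˣ) (hχ : ∀ m : (ZMod p)ˣ, m ≠ 1 → IsUnit ((χ m : K) - 1))
    (hχp : ∀ m : (ZMod p)ˣ, ((χ m : Kˣ) : K) - (((m : ZMod p).val : ℕ) : K) ∈ Ideal.span ({(p : K)} : Set K)) :
    ∃ f ∈ OortTate.eigenAug K B p χ 1, f ^ (p - 1) ≠ 0 ∧
      ∀ t, 1 ≤ t → t ≤ p - 1 → OortTate.eigenAug K B p χ t = Submodule.span K {f ^ t} := by
  classical
  have hp1 : 0 < p - 1 := Nat.sub_pos_of_lt (Fact.out : p.Prime).one_lt
  have hpk : (toConv (AlgHom.id K B)) ^ p = 1 :=
    pow_eq_one_of_rank fun q => by rw [Module.rankAtStalk_eq_finrank_of_free, hB]; rfl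
  obtain ⟨f, hf, hfne⟩ := exists_eigen_pow_ne_zero hB u hu χ hχp hpk
  let tt : Fin (p - 1) → ℕ := fun j => if (j : ℕ) = 0 then p - 1 else j
  have htt : ∀ j : Fin (p - 1), 1 ≤ tt j ∧ tt j ≤ p - 1 ∧ tt j % (p - 1) = j := fun j => by
    have := j.2
    simp only [tt]
    split_ifs with h
    · exact ⟨by omega, le_rfl, by rw [Nat.mod_self, h]⟩
    · exact ⟨by omega, by omega, Nat.mod_eq_of_lt j.2⟩
  have hmem : ∀ j : Fin (p - 1), f ^ tt j ∈ OortTate.eigenAug K B p χ (j : ℕ) := fun j => by
    have h := eigenAug_pow χ hf (htt j).1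
    rwa [eigenAug_mod, (htt j).2.2] at h
  obtain ⟨hind, hsup, -⟩ := S18468.result p K u hu χ hχ B hpk
  have hne : ∀ t, t ≤ p - 1 → f ^ t ≠ 0 := fun t ht h0 =>
    hfne (by rw [← Nat.sub_add_cancel ht, pow_add, h0, mul_zero])
  have hli : LinearIndependent K (fun j : Fin (p - 1) => f ^ tt j) :=
    hind.linearIndependent _ hmem fun j => hne _ (htt j).2.1
  have hker : Module.finrank K (LinearMap.ker (Bialgebra.counitAlgHom K B).toLinearMap) = p - 1 := by
    have h := LinearMap.finrank_range_add_finrank_ker (Bialgebra.counitAlgHom K B).toLinearMap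
    have hr : LinearMap.range (Bialgebra.counitAlgHom K B).toLinearMap = ⊤ :=
      LinearMap.range_eq_top.mpr (fun c => ⟨algebraMap K B c, (Bialgebra.counitAlgHom K B).commutes c⟩)
    rw [hr, finrank_top, Module.finrank_self, hB] at h
    omega
  have hspan : LinearMap.ker (Bialgebra.counitAlgHom K B).toLinearMap ≤
      Submodule.span K (Set.range fun j : Fin (p - 1) => f ^ tt j) := by
    refine (Submodule.eq_of_le_of_finrank_eq ?_ ?_).ge
    · rw [Submodule.span_le]
      rintro _ ⟨j, rfl⟩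
      exact inf_le_left (a := LinearMap.ker (Bialgebra.counitAlgHom K B).toLinearMap) (hmem j)
    · rw [finrank_span_eq_card hli, Fintype.card_fin, hker]
  refine ⟨f, hf, hfne, fun t ht1 ht2 => le_antisymm (fun x hx => ?_) ?_⟩
  · let j : Fin (p - 1) := ⟨t % (p - 1), Nat.mod_lt _ hp1⟩
    have hx' : x ∈ OortTate.eigenAug K B p χ (j : ℕ) := by rwa [eigenAug_mod] at hx
    have htj : tt j = t := by
      simp only [tt, j]
      rcases lt_or_eq_of_le ht2 with h | h
      · rw [Nat.mod_eq_of_lt h, if_neg (by omega)]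
      · rw [if_pos (by rw [h, Nat.mod_self]), h]
    obtain ⟨c, hc⟩ := (Submodule.mem_span_range_iff_exists_fun K).mp (hspan ((mem_eigenAug χ).mp hx).1)
    have h := congrArg (OortTate.proj K B p u χ (j : ℕ)) hc
    rw [proj_of_eigen u χ hχ hu j.2 j.2 hx', if_pos rfl, map_sum, Finset.sum_eq_single j] at h
    · rw [map_smul, proj_of_eigen u χ hχ hu j.2 j.2 (hmem j), if_pos rfl, htj] at h
      exact h ▸ Submodule.smul_mem _ _ (Submodule.mem_span_singleton_self _)
    · intro l _ hl
      rw [map_smul, proj_of_eigen u χ hχ hu l.2 j.2 (hmem l), if_neg (fun e => hl (Fin.ext e)), smul_zero]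
    · simp
  · rw [Submodule.span_singleton_le_iff_mem]
    exact eigenAug_pow χ hf ht1

end Field

theorem finrank_algClosure_tensor {R : Type u} [CommRing R] (q : PrimeSpectrum R) (M : Type u) [AddCommGroup M]
    [Module R M] [Module.Finite R M] [Module.Flat R M] :
    Module.finrank (AlgebraicClosure q.asIdeal.ResidueField) (AlgebraicClosure q.asIdeal.ResidueField ⊗[R] M) =
      Module.rankAtStalk M q := by
  let κ := q.asIdeal.ResidueField
  let K := AlgebraicClosure κ
  rw [Module.rankAtStalk_eq, ← Module.finrank_baseChange (R := K) (S := κ) (M' := κ ⊗[R] M)]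
  exact (TensorProduct.AlgebraTensorModule.cancelBaseChange R κ K K M).finrank_eq.symm

section Main

variable [Module.Finite R A] [Module.Projective R A]
  (hrk : ∀ q : PrimeSpectrum R, Module.rankAtStalk A q = p)
  (u : R) (hu : u * ((p - 1 : ℕ) : R) = 1) (χ : (ZMod p)ˣ →* Rˣ)
  (hχ : ∀ m : (ZMod p)ˣ, m ≠ 1 → IsUnit ((χ m : R) - 1))
  (hχp : ∀ m : (ZMod p)ˣ, ((χ m : Rˣ) : R) - (((m : ZMod p).val : ℕ) : R) ∈ Ideal.span ({(p : R)} : Set R))

include hrk hu hχ hχp

theorem exists_projection_eigenAug (i : ℕ) :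
    ∃ P : A →ₗ[R] OortTate.eigenAug R A p χ i, P ∘ₗ (OortTate.eigenAug R A p χ i).subtype = LinearMap.id := by
  have hp := pow_eq_one_of_rank (A := A) hrk
  have hj : i % (p - 1) < p - 1 := Nat.mod_lt _ (Nat.sub_pos_of_lt (Fact.out : p.Prime).one_lt)
  let P : A →ₗ[R] A := OortTate.proj R A p u χ (i % (p - 1)) ∘ₗ
    (LinearMap.id - (Bialgebra.counitAlgHom R A).toLinearMap.smulRight 1)
  have hP : ∀ a, P a ∈ OortTate.eigenAug R A p χ i := fun a => by
    rw [eigenAug_mod]
    exact (mem_eigenAug χ).mpr ⟨counit_proj u χ _ (by simp), fun m => pw_proj hp u χ m _ _⟩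
  refine ⟨P.codRestrict _ hP, LinearMap.ext fun x => Subtype.ext ?_⟩
  have hx : (x : A) ∈ OortTate.eigenAug R A p χ (i % (p - 1)) := by rw [← eigenAug_mod]; exact x.2
  show P (x : A) = (x : A)
  have h0 : Coalgebra.counit (R := R) (x : A) = 0 := ((mem_eigenAug χ).mp hx).1
  simp [P, h0, proj_of_eigen u χ hχ hu hj hj hx]

theorem finite_projective_eigenAug (i : ℕ) :
    Module.Finite R (OortTate.eigenAug R A p χ i) ∧ Module.Projective R (OortTate.eigenAug R A p χ i) := by
  obtain ⟨P, hP⟩ := exists_projection_eigenAug hrk u hu χ hχ hχp i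
  exact ⟨Module.Finite.of_surjective P fun x => ⟨x, LinearMap.congr_fun hP x⟩, Module.Projective.of_split _ P hP⟩

/-- The geometric fibre of an eigenspace is a line, generated by a power of a generator of the first one. -/
theorem fibre_eigenAug (K : Type u) [Field K] [IsAlgClosed K] [Algebra R K]
    (hfr : Module.finrank K (K ⊗[R] A) = p) :
    ∃ f : K ⊗[R] A, f ∈ Submodule.span K ((fun a : A => (1 : K) ⊗ₜ[R] a) '' (OortTate.eigenAug R A p χ 1 : Set A)) ∧
      ∀ t, 1 ≤ t → t ≤ p - 1 → f ^ t ≠ 0 ∧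
        LinearMap.range ((OortTate.eigenAug R A p χ t).subtype.baseChange K) = Submodule.span K {f ^ t} := by
  have hp := pow_eq_one_of_rank (A := A) hrk
  have hu' : algebraMap R K u * ((p - 1 : ℕ) : K) = 1 := by rw [← map_natCast (algebraMap R K), ← map_mul, hu, map_one]
  have hχ' : ∀ m : (ZMod p)ˣ, m ≠ 1 → IsUnit ((charBC χ K m : K) - 1) := fun m hm => by
    simpa [charBC] using (hχ m hm).map (algebraMap R K)
  have hχp' : ∀ m : (ZMod p)ˣ, ((charBC χ K m : Kˣ) : K) - (((m : ZMod p).val : ℕ) : K) ∈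
      Ideal.span ({(p : K)} : Set K) := fun m => by
    obtain ⟨c, hc⟩ := Ideal.mem_span_singleton.mp (hχp m)
    exact Ideal.mem_span_singleton.mpr ⟨algebraMap R K c, by simpa [charBC, -ZMod.natCast_val] using congrArg (algebraMap R K) hc⟩
  obtain ⟨f, hf, hfne, heq⟩ := exists_eigenAug_eq_span hfr (algebraMap R K u) hu' (charBC χ K) hχ' hχp'
  refine ⟨f, eigenAug_baseChange_le_span K hp u hu χ hχ' 1 hf,
    fun t ht1 ht2 => ⟨fun h0 => hfne (by rw [← Nat.sub_add_cancel ht2, pow_add, h0, mul_zero]), ?_⟩⟩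
  rw [← heq t ht1 ht2]
  apply le_antisymm
  · rintro _ ⟨z, rfl⟩
    induction z using TensorProduct.induction_on with
    | zero => simp
    | add s t hs ht => rw [map_add]; exact add_mem hs ht
    | tmul c a =>
      rw [LinearMap.baseChange_tmul, show c ⊗ₜ[R] ((OortTate.eigenAug R A p χ t).subtype a) =
        c • ((1 : K) ⊗ₜ[R] (a : A)) by rw [TensorProduct.smul_tmul', smul_eq_mul, mul_one]; rfl]
      exact Submodule.smul_mem _ _ (one_tmul_mem_eigenAug K χ a.2)
  · refine (eigenAug_baseChange_le_span K hp u hu χ hχ' t).trans (Submodule.span_le.mpr ?_)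
    rintro _ ⟨a, ha, rfl⟩
    exact ⟨(1 : K) ⊗ₜ[R] (⟨a, ha⟩ : OortTate.eigenAug R A p χ t), rfl⟩

theorem rankAtStalk_eigenAug (i : ℕ) (q : PrimeSpectrum R) :
    Module.rankAtStalk (↥(OortTate.eigenAug R A p χ i)) q = 1 := by
  have hp1 : 0 < p - 1 := Nat.sub_pos_of_lt (Fact.out : p.Prime).one_lt
  set t := if i % (p - 1) = 0 then p - 1 else i % (p - 1) with ht
  obtain ⟨P, hP⟩ := exists_projection_eigenAug hrk u hu χ hχ hχp t
  have ht12 : 1 ≤ t ∧ t ≤ p - 1 ∧ t % (p - 1) = i % (p - 1) := by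
    have := Nat.mod_lt i hp1
    rw [ht]; split_ifs with h
    · exact ⟨hp1, le_rfl, by rw [Nat.mod_self, h]⟩
    · exact ⟨by omega, by omega, Nat.mod_mod _ _⟩
  have hsame : OortTate.eigenAug R A p χ i = OortTate.eigenAug R A p χ t := by
    rw [eigenAug_mod, eigenAug_mod (i := t), ht12.2.2]
  rw [hsame]
  let K := AlgebraicClosure q.asIdeal.ResidueField
  obtain ⟨f, -, hf⟩ := fibre_eigenAug hrk u hu χ hχ hχp K (by rw [finrank_algClosure_tensor, hrk])
  obtain ⟨hne, hr⟩ := hf t ht12.1 ht12.2.1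
  haveI := (finite_projective_eigenAug hrk u hu χ hχ hχp t).1
  haveI := (finite_projective_eigenAug hrk u hu χ hχ hχp t).2
  rw [← finrank_algClosure_tensor]
  have hinj : Function.Injective ((OortTate.eigenAug R A p χ t).subtype.baseChange K) :=
    Function.LeftInverse.injective (g := P.baseChange K) fun z => by
      rw [← LinearMap.comp_apply, ← LinearMap.baseChange_comp, hP, LinearMap.baseChange_id, LinearMap.id_apply]
  rw [← LinearMap.finrank_range_of_inj hinj, hr, finrank_span_singleton hne]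

theorem eigenAug_one_pow (t : ℕ) (ht1 : 1 ≤ t) (ht2 : t ≤ p - 1) :
    OortTate.eigenAug R A p χ 1 ^ t = OortTate.eigenAug R A p χ t := by
  have hle : OortTate.eigenAug R A p χ 1 ^ t ≤ OortTate.eigenAug R A p χ t := by
    clear ht2
    induction t, ht1 using Nat.le_induction with
    | base => rw [pow_one]
    | succ t _ ih =>
      rw [pow_succ, Submodule.mul_le]
      exact fun x hx y hy => eigenAug_mul χ (ih hx) hy
  refine le_antisymm hle ?_
  haveI := (finite_projective_eigenAug hrk u hu χ hχ hχp t).1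
  let M := ↥(OortTate.eigenAug R A p χ t)
  let N : Submodule R M := (OortTate.eigenAug R A p χ 1 ^ t).comap (OortTate.eigenAug R A p χ t).subtype
  suffices hQ : Subsingleton (M ⧸ N) by
    intro x hx
    exact (Submodule.Quotient.mk_eq_zero N).mp (Subsingleton.elim (Submodule.Quotient.mk (⟨x, hx⟩ : M) : M ⧸ N) 0)
  rw [← Module.support_eq_empty_iff (R := R), Set.eq_empty_iff_forall_notMem]
  intro q hq
  rw [Module.mem_support_iff_nontrivial_residueField_tensorProduct] at hq
  let κ := q.asIdeal.ResidueField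
  let K := AlgebraicClosure κ
  obtain ⟨f, hf1, hf⟩ := fibre_eigenAug hrk u hu χ hχ hχp K (by rw [finrank_algClosure_tensor, hrk])
  obtain ⟨hne, hr⟩ := hf t ht1 ht2
  obtain ⟨P, hP⟩ := exists_projection_eigenAug hrk u hu χ hχ hχp t
  have hft : f ^ t ∈ Submodule.span K ((fun a : A => (1 : K) ⊗ₜ[R] a) ''
      ((OortTate.eigenAug R A p χ 1 ^ t : Submodule R A) : Set A)) :=
    span_one_tmul_pow_le K _ t (Submodule.pow_mem_pow _ hf1 t)
  -- the image of `K ⊗ N` is everything
  have hzero : ∀ z : K ⊗[R] M, N.mkQ.baseChange K z = 0 := by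
    intro z
    have hz : (OortTate.eigenAug R A p χ t).subtype.baseChange K z ∈
        Submodule.span K ((fun a : A => (1 : K) ⊗ₜ[R] a) '' ((OortTate.eigenAug R A p χ 1 ^ t : Submodule R A) : Set A)) :=
      Submodule.span_le.mpr (Set.singleton_subset_iff.mpr hft) (hr ▸ LinearMap.mem_range_self _ z)
    have hPz : P.baseChange K ((OortTate.eigenAug R A p χ t).subtype.baseChange K z) = z := by
      rw [← LinearMap.comp_apply, ← LinearMap.baseChange_comp, hP, LinearMap.baseChange_id, LinearMap.id_apply]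
    rw [← hPz]
    generalize (OortTate.eigenAug R A p χ t).subtype.baseChange K z = w at hz
    induction hz using Submodule.span_induction with
    | mem x hx =>
      obtain ⟨a, ha, rfl⟩ := hx
      have hPa : P a = ⟨a, hle ha⟩ := LinearMap.congr_fun hP (⟨a, hle ha⟩ : M)
      simp only [LinearMap.baseChange_tmul, hPa]
      rw [show N.mkQ (⟨a, hle ha⟩ : M) = 0 from (Submodule.Quotient.mk_eq_zero N).mpr ha, TensorProduct.tmul_zero]
    | zero => simp
    | add x y _ _ hx hy => rw [map_add, map_add, hx, hy, add_zero]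
    | smul c x _ hx => rw [map_smul, map_smul, hx, smul_zero]
  haveI hKQ : Subsingleton (K ⊗[R] (M ⧸ N)) := subsingleton_of_forall_eq 0 fun w => by
    obtain ⟨z, rfl⟩ := LinearMap.lTensor_surjective K N.mkQ_surjective w
    exact hzero z
  haveI : Module.Finite R (M ⧸ N) := inferInstance
  have h1 : Module.finrank κ (κ ⊗[R] (M ⧸ N)) = 0 := by
    rw [← Module.finrank_baseChange (R := K) (S := κ) (M' := κ ⊗[R] (M ⧸ N)),
      (TensorProduct.AlgebraTensorModule.cancelBaseChange R κ K K (M ⧸ N)).finrank_eq]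
    exact Module.finrank_zero_of_subsingleton
  exact not_nontrivial_iff_subsingleton.mpr (Module.finrank_zero_iff.mp h1) hq

end Main

end Groth.Agent.GrpSchLib
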