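import Groth.Agent.LocalCrit.Completion
import Mathlib.RingTheory.Unramified.LocalRing

/-! A local homomorphism between isomorphic noetherian local rings which is surjective on residue
fields and maps the maximal ideal onto a generating set of the maximal ideal is flat. -/

universe u

namespace Groth.Agent.GrpSchLib.EndoFlat

open IsLocalRing

/-- A surjective endomorphism of a noetherian ring is injective. -/
theorem injective_of_surjective {R : Type u} [CommRing R] [IsNoetherianRing R] (f : R →+* R)
    (hf : Function.Surjective f) : Function.Injective f := by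
  let g : ℕ → R →+* R := fun n => Nat.rec (RingHom.id R) (fun _ h => h.comp f) n
  have hg : ∀ n, Function.Surjective (g n) := fun n => by
    induction n with
    | zero => exact Function.surjective_id
    | succ n ih => exact ih.comp hf
  have hgf : ∀ n x, g (n + 1) x = f (g n x) := fun n => by
    induction n with
    | zero => intro x; rfl
    | succ n ih => intro x; exact ih (f x)
  have hmono : Monotone fun n => RingHom.ker (g n) := monotone_nat_of_le_succ fun n x hx => by
    rw [RingHom.mem_ker, hgf, show g n x = 0 from hx, map_zero]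
  obtain ⟨n, hn⟩ := monotone_stabilizes_iff_noetherian.mpr (inferInstance : IsNoetherian R R) ⟨_, hmono⟩
  refine (injective_iff_map_eq_zero f).mpr fun x hx => ?_
  obtain ⟨y, rfl⟩ := hg n x
  have : y ∈ RingHom.ker (g (n + 1)) := by rw [RingHom.mem_ker, hgf]; exact hx
  exact ((hn (n + 1) n.le_succ).symm.le this :)

theorem flat {A B : Type u} [CommRing A] [CommRing B] [IsLocalRing A] [IsLocalRing B]
    [IsNoetherianRing A] [Algebra A B] (σ : B ≃+* A)
    (hm : (maximalIdeal A).map (algebraMap A B) = maximalIdeal B)
    (hres : ∀ b : B, ∃ a : A, b - algebraMap A B a ∈ maximalIdeal B) : Module.Flat A B := by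
  haveI : IsNoetherianRing B := isNoetherianRing_of_ringEquiv A σ.symm
  have hJ : ∀ n, ((maximalIdeal A) ^ n).map (algebraMap A B) = maximalIdeal B ^ n := fun n => by
    rw [Ideal.map_pow, hm]
  have hsurj : ∀ n, ∀ b : B, ∃ a : A, b - algebraMap A B a ∈ maximalIdeal B ^ n := by
    intro n
    induction n with
    | zero => exact fun b => ⟨0, by simp⟩
    | succ n ih =>
      have step : ∀ z ∈ ((maximalIdeal A) ^ n).map (algebraMap A B),
          ∃ a ∈ (maximalIdeal A) ^ n, z - algebraMap A B a ∈ maximalIdeal B ^ (n + 1) := by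
        intro z hz
        induction hz using Submodule.span_induction with
        | mem y hy =>
          obtain ⟨a, ha, rfl⟩ := hy
          exact ⟨a, ha, by simp⟩
        | zero => exact ⟨0, Ideal.zero_mem _, by simp⟩
        | add y y' _ _ hy hy' =>
          obtain ⟨a, ha, h⟩ := hy
          obtain ⟨a', ha', h'⟩ := hy'
          refine ⟨a + a', Ideal.add_mem _ ha ha', ?_⟩
          rw [map_add, add_sub_add_comm]
          exact Ideal.add_mem _ h h'
        | smul c y hy' hy =>
          obtain ⟨a, ha, h⟩ := hy
          obtain ⟨e, he⟩ := hres c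
          refine ⟨e * a, Ideal.mul_mem_left _ _ ha, ?_⟩
          have hy'' : y ∈ maximalIdeal B ^ n := hJ n ▸ hy'
          have : c • y - algebraMap A B (e * a) =
              (c - algebraMap A B e) * y + algebraMap A B e * (y - algebraMap A B a) := by
            rw [map_mul, smul_eq_mul]; ring
          rw [this]
          exact Ideal.add_mem _ (by rw [pow_succ']; exact Ideal.mul_mem_mul he hy'')
            (Ideal.mul_mem_left _ _ h)
      intro b
      obtain ⟨a, ha⟩ := ih b
      obtain ⟨a', -, ha'⟩ := step _ ((hJ n).symm ▸ ha)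
      exact ⟨a + a', by rw [map_add, ← sub_sub]; exact ha'⟩
  have hσ : ∀ n, ∀ b : B, b ∈ maximalIdeal B ^ n ↔ σ b ∈ maximalIdeal A ^ n := by
    intro n b
    have h1 : (maximalIdeal B).map (σ : B →+* A) = maximalIdeal A := by
      haveI : ((maximalIdeal B).map (σ : B →+* A)).IsMaximal :=
        Ideal.map_isMaximal_of_equiv (σ : B ≃+* A) (p := maximalIdeal B)
      exact eq_maximalIdeal ‹_›
    rw [← h1, ← Ideal.map_pow, Ideal.map_comap_of_equiv σ |>.trans rfl]
    simp
  refine LocalCrit.flat_of_forall_quotient_pow (B := B) (maximalIdeal A)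
    (hm.le.trans (maximalIdeal_le_jacobson _)) fun n => ?_
  refine LocalCrit.keepsInjective_of_bijective_mod (C := A) _ (Algebra.ofId A B) (fun b => ?_) fun c hc => ?_
  · obtain ⟨a, ha⟩ := hsurj n b
    exact ⟨a, by rw [hJ]; exact ha⟩
  · rw [hJ] at hc
    rw [Algebra.algebraMap_self, Ideal.map_id]
    let f : A ⧸ maximalIdeal A ^ n →+* A ⧸ maximalIdeal A ^ n :=
      Ideal.quotientMap _ ((σ : B →+* A).comp (algebraMap A B)) (fun a ha => by
        rw [Ideal.mem_comap, RingHom.comp_apply]
        exact (hσ n _).mp (hJ n ▸ Ideal.mem_map_of_mem _ ha))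
    have hf : Function.Surjective f := fun y => by
      obtain ⟨y, rfl⟩ := Ideal.Quotient.mk_surjective y
      obtain ⟨a, ha⟩ := hsurj n (σ.symm y)
      refine ⟨Ideal.Quotient.mk _ a, ?_⟩
      rw [Ideal.quotientMap_mk, RingHom.comp_apply, eq_comm, Ideal.Quotient.eq]
      simpa using (hσ n _).mp ha
    rw [← Ideal.Quotient.eq_zero_iff_mem]
    refine injective_of_surjective f hf ?_
    rw [map_zero, Ideal.quotientMap_mk, Ideal.Quotient.eq_zero_iff_mem]
    exact (hσ n _).mp hc

end Groth.Agent.GrpSchLib.EndoFlat
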