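import Groth.Prelude.Def_NonAbH2
import Groth.Agent.GrpSchLib.Action
import Mathlib.AlgebraicGeometry.Sites.Fpqc
import Mathlib.AlgebraicGeometry.Sites.Etale
import Mathlib.CategoryTheory.Limits.Constructions.Over.Connected

/-! Gluing morphisms along an etale surjection. -/

set_option backward.isDefEq.respectTransparency.types false

open CategoryTheory AlgebraicGeometry Limits MonoidalCategory CartesianMonoidalCategory

namespace Groth.Agent.GrpSchLib.EtaleGlue

universe u

variable {S : Scheme.{u}}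

/-- Local triviality gives a section over one etale surjection. -/
theorem exists_section {X : Over S} (h : NonAbH1.IsLocallyTrivialFor Scheme.etalePrecoverage X) :
    ∃ U : Over S, Etale U.hom ∧ Surjective U.hom ∧ Nonempty (U ⟶ X) := by
  obtain ⟨R, hR, hsec⟩ := h
  obtain ⟨ι, Z, f, rfl⟩ := R.exists_eq_ofArrows
  obtain ⟨hcov, het⟩ := (Scheme.ofArrows_mem_precoverage_iff (P := @Etale)).mp hR
  choose i hi using hcov
  choose s hs using fun x => hsec (f (i x)) (Presieve.ofArrows.mk (i x))
  refine ⟨Over.mk (Sigma.desc fun x => f (i x)), ?_, ?_,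
    ⟨Over.homMk (Sigma.desc s) (Sigma.hom_ext _ _ fun x => by simp [hs])⟩⟩
  · exact IsZariskiLocalAtSource.sigmaDesc (P := @Etale) fun x => het _
  · refine ⟨fun x => ?_⟩
    obtain ⟨y, hy⟩ := hi x
    refine ⟨(Sigma.ι (fun x => Z (i x)) x) y, ?_⟩
    show (Sigma.desc fun x => f (i x)) _ = x
    rw [← Scheme.Hom.comp_apply, Sigma.ι_desc]
    exact hy

variable {T' T X : Over S} (p : T' ⟶ T) [Etale p.left] [Surjective p.left]

/-- Uniqueness. -/
theorem hom_ext {a b : T ⟶ X} (h : p ≫ a = p ≫ b) : a = b := by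
  have : EffectiveEpi p.left := inferInstance
  exact Over.OverMorphism.ext ((cancel_epi p.left).mp (congrArg CommaMorphism.left h))

/-- Existence. -/
theorem exists_desc (e : T' ⟶ X) (h : ∀ {W : Over S} (w₁ w₂ : W ⟶ T'), w₁ ≫ p = w₂ ≫ p → w₁ ≫ e = w₂ ≫ e) :
    ∃ a : T ⟶ X, p ≫ a = e := by
  have hh : ∀ {W : Scheme.{u}} (g₁ g₂ : W ⟶ T'.left), g₁ ≫ p.left = g₂ ≫ p.left → g₁ ≫ e.left = g₂ ≫ e.left := by
    intro W g₁ g₂ hg
    have hw : g₂ ≫ T'.hom = g₁ ≫ T'.hom := by rw [← Over.w p, ← Category.assoc, ← hg, Category.assoc]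
    exact congrArg CommaMorphism.left (h (W := Over.mk (g₁ ≫ T'.hom)) (Over.homMk g₁ rfl) (Over.homMk g₂ hw)
      (Over.OverMorphism.ext hg))
  let l := EffectiveEpi.desc p.left e.left fun g₁ g₂ hg => hh g₁ g₂ hg
  have hl : p.left ≫ l = e.left := EffectiveEpi.fac _ _ _
  refine ⟨Over.homMk l ?_, Over.OverMorphism.ext hl⟩
  rw [← cancel_epi p.left, ← Category.assoc, hl, Over.w e, Over.w p]

theorem etale_toUnit (U : Over S) [h : Etale U.hom] : Etale (toUnit U).left := h

theorem surjective_toUnit (U : Over S) [h : Surjective U.hom] : Surjective (toUnit U).left := h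

theorem etale_fst (T U : Over S) [Etale U.hom] : Etale (fst T U).left :=
  inferInstanceAs (Etale (pullback.fst T.hom U.hom))

theorem surjective_fst (T U : Over S) [Surjective U.hom] : Surjective (fst T U).left :=
  inferInstanceAs (Surjective (pullback.fst T.hom U.hom))

/-- Two points of a pseudo-torsor differ by a unique group element. -/
theorem exists_trans {G E T : Over S} [GrpObj G] (a : AlgGrp.Action G E) (h : NonAbH1.IsPseudoTorsorSch a)
    (x y : T ⟶ E) : ∃ g : T ⟶ G, lift g x ≫ a.act = y := by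
  haveI : IsIso (lift a.act (snd G E)) := h
  refine ⟨lift y x ≫ inv (lift a.act (snd G E)) ≫ fst G E, ?_⟩
  have h1 : inv (lift a.act (snd G E)) ≫ snd G E = snd E E := by simp
  have h0 : inv (lift a.act (snd G E)) ≫ a.act = fst E E := by simp
  have h2 : lift (lift y x ≫ inv (lift a.act (snd G E)) ≫ fst G E) x = lift y x ≫ inv (lift a.act (snd G E)) := by
    apply CartesianMonoidalCategory.hom_ext
    · simp
    · simp [h1]
  rw [h2, Category.assoc, h0, lift_fst]

end Groth.Agent.GrpSchLib.EtaleGlue
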