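import Groth.Agent.GrpExtRigid.Basic
import Groth.Agent.SchTorsor.Props
import Mathlib.AlgebraicGeometry.AlgClosed.Basic

/-!
# The quotient map of an extension by a smooth group is smooth; sections over Artinian points
-/

universe u

open CategoryTheory CategoryTheory.Limits MonoidalCategory CartesianMonoidalCategory MonObj GrpObj AlgebraicGeometry

set_option backward.isDefEq.respectTransparency false
set_option backward.isDefEq.respectTransparency.types false

namespace Groth.Agent.GrpSchLib.ExtSmooth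

variable {S : Scheme.{u}} {Z E Q : Over S} [GrpObj Z] [GrpObj E] [GrpObj Q] {u : Z ⟶ E} {v : E ⟶ Q}

theorem isKernel (hex : NonAbH1.IsExactSeq Scheme.fppfPrecoverage u v) : AlgGrp.IsKernel u v := by
  haveI := hex.1
  haveI := hex.2.1
  refine IsPullback.mk ⟨?_⟩ ⟨PullbackCone.IsLimit.mk _ (fun s => (GrpExtRigid.exists_ker hex
    (d := s.fst) (s.condition.trans (by rw [toUnit_unique s.snd (toUnit _)]; exact Hom.one_def.symm))).choose)
    (fun s => (GrpExtRigid.exists_ker hex
    (d := s.fst) (s.condition.trans (by rw [toUnit_unique s.snd (toUnit _)]; exact Hom.one_def.symm))).choose_spec)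
    (fun s => toUnit_unique _ _) fun s m h₁ _ => ?_⟩
  · rw [hex.2.2.1]; exact Hom.one_def
  · exact GrpExtRigid.comp_u_eq_of_eq hex (h₁.trans (GrpExtRigid.exists_ker hex
      (d := s.fst) (s.condition.trans (by rw [toUnit_unique s.snd (toUnit _)]; exact Hom.one_def.symm))).choose_spec.symm)

theorem smooth_surjective (hex : NonAbH1.IsExactSeq Scheme.fppfPrecoverage u v) [IsAffine Q.left] [Smooth Z.hom] :
    Smooth v.left ∧ Surjective v.left := by
  obtain ⟨R, hR, hsec⟩ := hex.2.2.2.2
  obtain ⟨W, p, hp₁, hp₂, hp₃, s, hs⟩ := SchTorsor.exists_single (X := (Over.mk v.left : Over Q.left))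
    ⟨R, Scheme.fppfPrecoverage_le_fpqcPrecoverage _ hR, hsec⟩ (𝟙 Q.left)
  rw [Category.comp_id] at hs
  have hs' : s ≫ v.left = p := hs
  refine ⟨?_, ⟨fun y => ?_⟩⟩
  · have h1 : IsPullback (fst E Z).left ((E ◁ u) ≫ μ[E]).left v.left v.left := hex.2.2.2.1.map (Over.forget S)
    let P := pullback (fst E Z).left s
    have h2 : IsPullback (pullback.fst (fst E Z).left s ≫ ((E ◁ u) ≫ μ[E]).left)
        (pullback.snd (fst E Z).left s) v.left (s ≫ v.left) :=
      (IsPullback.of_hasPullback (fst E Z).left s).paste_horiz h1.flip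
    have hfst : Smooth (fst E Z).left := MorphismProperty.pullback_fst E.hom Z.hom ‹Smooth Z.hom›
    have h4 : Smooth (pullback.snd (fst E Z).left s) := MorphismProperty.pullback_snd _ _ hfst
    rw [hs'] at h2
    have h5 : Smooth (pullback.snd v.left p) := by
      rw [← h2.isoPullback_inv_snd]
      exact (MorphismProperty.cancel_left_of_respectsIso (P := @Smooth) h2.isoPullback.inv _).mpr h4
    exact MorphismProperty.of_pullback_snd_of_descendsAlong (Q := @Surjective ⊓ @Flat ⊓ @QuasiCompact)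
      (g := p) ⟨⟨hp₁, hp₂⟩, hp₃⟩ h5
  · obtain ⟨w, rfl⟩ := p.surjective y
    exact ⟨s w, by rw [← hs']; rfl⟩

theorem isNilpotent_of_ker {A k : Type u} [CommRing A] [Field k] (χ : A →+* k)
    (hn : IsNilpotent (RingHom.ker χ)) (P : Ideal A) [P.IsPrime] : RingHom.ker χ ≤ P := by
  obtain ⟨n, hn⟩ := hn
  exact Ideal.IsPrime.le_of_pow_le (n := n) (by rw [hn]; exact bot_le)

/-- A smooth surjection onto an Artinian point over an algebraically closed field has a section. -/
theorem exists_section {k : Type u} [Field k] [IsAlgClosed k] (A : Type u) [CommRing A] [Algebra k A]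
    (χ : A →ₐ[k] k) (hn : IsNilpotent (RingHom.ker χ.toRingHom))
    {X : Scheme.{u}} (f : X ⟶ Spec (CommRingCat.of A)) [Smooth f] [Surjective f]
    [LocallyOfFiniteType (f ≫ Spec.map (CommRingCat.ofHom (algebraMap k A)))] :
    ∃ l : Spec (CommRingCat.of A) ⟶ X, l ≫ f = 𝟙 _ := by
  let g := f ≫ Spec.map (CommRingCat.ofHom (algebraMap k A))
  let c₀ : Spec (CommRingCat.of k) ⟶ Spec (CommRingCat.of A) := Spec.map (CommRingCat.ofHom χ.toRingHom)
  obtain ⟨x₀, hx₀⟩ := f.surjective (c₀ (IsLocalRing.closedPoint k))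
  haveI : JacobsonSpace X := LocallyOfFiniteType.jacobsonSpace g
  haveI : Nonempty X := ⟨x₀⟩
  obtain ⟨x, -, hx⟩ := nonempty_inter_closedPoints (Z := (Set.univ : Set X)) Set.univ_nonempty
    isOpen_univ.isLocallyClosed
  obtain ⟨⟨c, hc⟩, -⟩ := (pointEquivClosedPoint g).surjective ⟨x, hx⟩
  -- the only point over the field
  obtain ⟨χ', hχ'⟩ : ∃ χ' : A →+* k, c ≫ f = Spec.map (CommRingCat.ofHom χ') :=
    ⟨(Spec.preimage (c ≫ f)).hom, (Spec.map_preimage _).symm⟩
  have hχe : χ' = χ.toRingHom := by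
    have hk : ∀ r, χ' (algebraMap k A r) = r := by
      have h : Spec.map (CommRingCat.ofHom (χ'.comp (algebraMap k A))) = Spec.map (CommRingCat.ofHom (RingHom.id k)) := by
        rw [CommRingCat.ofHom_comp, Spec.map_comp, ← hχ', Category.assoc, CommRingCat.ofHom_id, Spec.map_id]
        exact hc
      exact fun r => DFunLike.congr_fun (congrArg CommRingCat.Hom.hom (Spec.map_injective h) : χ'.comp (algebraMap k A) = RingHom.id k) r
    refine RingHom.ext fun a => ?_
    have hd : a - algebraMap k A (χ a) ∈ RingHom.ker χ.toRingHom := by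
      simp [RingHom.mem_ker]
    obtain ⟨n, hn⟩ := hn
    have h0 : (a - algebraMap k A (χ a)) ^ n = 0 := by
      have h3 := Ideal.pow_mem_pow hd n
      rw [hn] at h3
      exact h3
    have h1 := eq_zero_of_pow_eq_zero ((map_pow χ' _ n).symm.trans (by rw [h0, map_zero]))
    rw [map_sub, hk, sub_eq_zero] at h1
    exact h1
  subst hχe
  -- a chart
  obtain ⟨_, ⟨W, hW, rfl⟩, hxW, -⟩ := X.isBasis_affineOpens.exists_subset_of_mem_open
    (Set.mem_univ (c (IsLocalRing.closedPoint k))) isOpen_univ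
  let hT := isAffineOpen_top (Spec (CommRingCat.of A))
  let ψ := (Scheme.ΓSpecIso (CommRingCat.of A)).inv ≫ f.appLE ⊤ W le_top
  letI : Algebra A Γ(X, W) := ψ.hom.toAlgebra
  haveI : Algebra.FormallySmooth A Γ(X, W) := by
    have hsm : ψ.hom.Smooth := RingHom.Smooth.respectsIso.2 (f.appLE ⊤ W le_top).hom
      (Scheme.ΓSpecIso (CommRingCat.of A)).commRingCatIsoToRingEquiv.symm (f.smooth_appLE hT hW le_top)
    exact (hsm : Algebra.Smooth A Γ(X, W)).formallySmooth
  have hcW : ⊤ ≤ c ⁻¹ᵁ W := fun y _ => by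
    rw [Subsingleton.elim y (IsLocalRing.closedPoint k)]
    exact hxW
  let cW := c.appLE W ⊤ hcW ≫ (Scheme.ΓSpecIso (CommRingCat.of k)).hom
  have hfrom : Spec.map cW ≫ hW.fromSpec = c := by
    rw [Spec.map_comp, Category.assoc, IsAffineOpen.SpecMap_appLE_fromSpec c hW (isAffineOpen_top _) hcW,
      IsAffineOpen.fromSpec_top, ← Category.assoc, Scheme.isoSpec_Spec_inv, ← Spec.map_comp, Iso.inv_hom_id,
      Spec.map_id, Category.id_comp]
  have hWf : hW.fromSpec ≫ f = Spec.map ψ := by
    rw [← IsAffineOpen.SpecMap_appLE_fromSpec f hT hW le_top, IsAffineOpen.fromSpec_top, Scheme.isoSpec_Spec_inv,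
      ← Spec.map_comp]
  letI : Algebra A k := χ.toRingHom.toAlgebra
  have hcomm : ψ ≫ cW = CommRingCat.ofHom χ.toRingHom := by
    apply Spec.map_injective
    rw [Spec.map_comp, ← hWf, ← Category.assoc, hfrom, hχ']
  let γ : Γ(X, W) →ₐ[A] k := { cW.hom with commutes' := fun a => ConcreteCategory.congr_hom hcomm a }
  let π : A →ₐ[A] k := Algebra.ofId A k
  have hπs : Function.Surjective π := fun r => ⟨algebraMap k A r, χ.commutes r⟩
  obtain ⟨σ, -⟩ : ∃ σ : Γ(X, W) →ₐ[A] A, π.comp σ = γ :=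
    ⟨Algebra.FormallySmooth.liftOfSurjective γ π hπs hn, Algebra.FormallySmooth.comp_liftOfSurjective γ π hπs hn⟩
  refine ⟨Spec.map (CommRingCat.ofHom σ.toRingHom) ≫ hW.fromSpec, ?_⟩
  rw [Category.assoc, hWf, ← Spec.map_comp, ← Spec.map_id]
  congr 1
  exact CommRingCat.hom_ext (RingHom.ext fun a => σ.commutes a)

end Groth.Agent.GrpSchLib.ExtSmooth
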