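import Groth.Agent.GrpSchLib.ActRep
import Groth.Agent.GrpSchLib.KernelGrp
import Groth.Agent.GrpSchLib.HomFinite

/-! A group acting faithfully on an affine scheme is affine. -/

universe u

open CategoryTheory Limits AlgebraicGeometry MonoidalCategory CartesianMonoidalCategory MonObj GrpObj

namespace Groth.Agent.GrpSchLib.FaithfulAffine

open Kunneth LineGroups

theorem isAffine_of_faithful {k : Type u} [Field k] (G X : Over (Spec (CommRingCat.of k))) [GrpObj G]
    [LocallyOfFiniteType G.hom] [QuasiCompact G.hom] [IsAffine X.left] (a : AlgGrp.Action G X)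
    (hf : ∀ (T : Over (Spec (CommRingCat.of k))) (g : T ⟶ G),
      (∀ (T' : Over (Spec (CommRingCat.of k))) (t : T' ⟶ T) (x : T' ⟶ X), lift (t ≫ g) x ≫ a.act = x) → g = 1) :
    IsAffine G.left := by
  classical
  haveI := AntiAffine.isSeparated_grp G
  choose d M b hM hfix _hconv using fun f => ActRep.exists_stable a f
  obtain ⟨F, hF⟩ := RepFamily.exists_detect (G := G) M
  obtain ⟨N, B, hB, hBiff⟩ := RepFamily.exists_block M hM F
  let H : Over (Spec (CommRingCat.of k)) := FrB.GLn N (Spec (CommRingCat.of k))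
  haveI : IsAffine (FrB.GLZ.{u} N).left := inferInstanceAs (IsAffine (Spec _))
  haveI : IsAffineHom (FrB.GLZ.{u} N).hom := inferInstance
  haveI : IsAffineHom H.hom := inferInstanceAs (IsAffineHom (pullback.snd _ _))
  haveI : IsAffine H.left := isAffine_of_isAffineHom H.hom
  haveI : LocallyOfFiniteType (FrB.GLZ.{u} N).hom := by
    refine (HasRingHomProperty.Spec_iff (P := @LocallyOfFiniteType)).mpr ?_
    refine RingHom.finiteType_algebraMap.mpr ?_
    have h : Algebra.FiniteType (ULift.{u} ℤ) (MvPolynomial (CoordGrp.GLPoly.Idx N) (ULift.{u} ℤ)) := inferInstance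
    exact @Algebra.FiniteType.of_surjective _ _ _ _ _ _ _ _ h (CoordGrp.GLn.mk N (ULift.{u} ℤ))
      Ideal.Quotient.mk_surjective
  haveI : LocallyOfFiniteType H.hom := inferInstanceAs (LocallyOfFiniteType (pullback.snd _ _))
  haveI : QuasiCompact H.hom := inferInstance
  haveI : IsSeparated H.hom := inferInstance
  let ρ : G ⟶ H := hB.hom
  haveI : IsMonHom ρ := hB.isMonHom_hom
  have hker : ∀ (T : Over (Spec (CommRingCat.of k))) (g : T ⟶ G), g ≫ ρ = 1 → g = 1 := by
    intro T g hg
    refine hf T g fun T' t x => ext_ev (AlgHom.ext fun f => hfix f T' (t ≫ g) x ?_)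
    have h2 : g ≫ matPt B hB.isUnit = 1 := hg
    rw [comp_matPt] at h2
    have hm : B.map (ev g) = 1 := matPt_injective (hN := isUnit_one) (h2.trans matPt_one.symm)
    have h3 := congrArg (fun A : Matrix _ _ (Fn T) => A.map (ev t)) (hF T g ((hBiff T g).mp hm) f)
    simp only [Matrix.map_map, Matrix.map_one _ (map_zero (ev t)) (map_one (ev t))] at h3
    exact h3
  haveI : Mono ρ := ⟨fun p q hpq => by
    have := hker _ (p * q⁻¹) (by rw [MonObj.mul_comp, GrpObj.inv_comp, hpq, mul_inv_cancel])
    exact mul_inv_eq_one.mp this⟩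
  haveI : Mono ρ.left := (Over.forget _).map_mono ρ
  haveI : QuasiCompact (ρ.left ≫ H.hom) := by rw [Over.w ρ]; infer_instance
  haveI : QuasiCompact ρ.left := QuasiCompact.of_comp ρ.left H.hom
  haveI : LocallyOfFiniteType (ρ.left ≫ H.hom) := by rw [Over.w ρ]; infer_instance
  haveI : LocallyOfFiniteType ρ.left := locallyOfFiniteType_of_comp ρ.left H.hom
  haveI : IsFinite ρ.left := HomFinite.isFinite ρ
  exact isAffine_of_isAffineHom ρ.left

end Groth.Agent.GrpSchLib.FaithfulAffine
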