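import Groth.Agent.GrpSchLib.HomMonoLocus
import Mathlib.RingTheory.Ideal.GoingUp
import Mathlib.RingTheory.Flat.FaithfullyFlat.Algebra
import Mathlib.Algebra.AffineMonoid.UniqueSums
import Mathlib.Algebra.MonoidAlgebra.NoZeroDivisors
import Mathlib.GroupTheory.Torsion

/-!
# Principal opens of a diagonalisable group which contain the closed fibre

Over a local ring `R` let `h ≡ 1` modulo `𝔪` in `R[M]`. Then `h` does not vanish identically on any fibre: its coefficient
at the neutral character of the torsion-free quotient is `1` plus an element of `𝔪` times something integral. Hence every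
character over an `R`-algebra is, faithfully flat locally, a product of two characters at which `h` is a unit.
-/

universe u

open CategoryTheory AlgebraicGeometry

namespace Groth.Agent.GrpSchLib.FibrewiseDense

open DSPtsLib (CoordM)

variable {R : Type u} [CommRing R] {M : Type} [AddCommGroup M]

/-- The torsion-free quotient. -/
abbrev TF (M : Type) [AddCommGroup M] : Type := Multiplicative (M ⧸ AddCommGroup.torsion M)

/-- The projection to the torsion-free quotient. -/
def tfProj (M : Type) [AddCommGroup M] : Multiplicative M →* TF M :=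
  AddMonoidHom.toMultiplicative (QuotientAddGroup.mk' (AddCommGroup.torsion M))

theorem exists_pow_of_tfProj {m : Multiplicative M} (hm : tfProj M m = 1) : ∃ n, 0 < n ∧ m ^ n = 1 := by
  have h : Multiplicative.toAdd m ∈ AddCommGroup.torsion M :=
    (QuotientAddGroup.eq_zero_iff _).mp (congrArg Multiplicative.toAdd hm)
  obtain ⟨n, hn, hn'⟩ := (isOfFinAddOrder_iff_nsmul_eq_zero).mp h
  exact ⟨n, hn, congrArg Multiplicative.ofAdd hn'⟩

/-- The coefficient at the neutral element is not zero. -/
theorem coeff_ne_zero [IsLocalRing R] {h : MonoidAlgebra R (Multiplicative M)}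
    (h1 : h - 1 ∈ (IsLocalRing.maximalIdeal R).map (algebraMap R (MonoidAlgebra R (Multiplicative M))))
    {K : Type u} [Field K] [Algebra R K] (hK : RingHom.ker (algebraMap R K) ≠ ⊤)
    (w : Multiplicative M →* K) {G : Type} [CommGroup G] (π : Multiplicative M →* G)
    (hπ : ∀ m, π m = 1 → ∃ n, 0 < n ∧ m ^ n = 1) :
    (MonoidAlgebra.lift R (MonoidAlgebra K G) (Multiplicative M)
      { toFun := fun m => MonoidAlgebra.single (π m) (w m)
        map_one' := by rw [map_one, map_one, MonoidAlgebra.one_def]
        map_mul' := fun a b => by rw [MonoidAlgebra.single_mul_single, map_mul, map_mul] } h).coeff 1 ≠ 0 := by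
  classical
  set ψ := MonoidAlgebra.lift R (MonoidAlgebra K G) (Multiplicative M)
      ({ toFun := fun m => MonoidAlgebra.single (π m) (w m)
         map_one' := by rw [map_one, map_one, MonoidAlgebra.one_def]
         map_mul' := fun a b => by rw [MonoidAlgebra.single_mul_single, map_mul, map_mul] } :
        Multiplicative M →* MonoidAlgebra K G) with hψ
  let O := integralClosure R K
  have hint : ∀ x : MonoidAlgebra R (Multiplicative M), (ψ x).coeff 1 ∈ O := by
    intro x
    induction x using MonoidAlgebra.induction_linear with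
    | zero => rw [map_zero]; exact O.zero_mem
    | add x y hx hy => rw [map_add, MonoidAlgebra.coeff_add, Finsupp.add_apply]; exact O.add_mem hx hy
    | single m r =>
      rw [hψ, MonoidAlgebra.lift_single, MonoidAlgebra.coeff_smul, Finsupp.smul_apply]
      refine O.smul_mem ?_ r
      show (MonoidAlgebra.single (π m) (w m)).coeff 1 ∈ O
      rw [MonoidAlgebra.coeff_single, Finsupp.single_apply]
      split_ifs with hm
      · obtain ⟨n, hn, hn'⟩ := hπ m hm
        exact IsIntegral.of_pow hn (by rw [← map_pow, hn', map_one]; exact isIntegral_one)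
      · exact O.zero_mem
  intro h0
  let 𝔪 := IsLocalRing.maximalIdeal R
  have hd : ∀ d ∈ 𝔪.map (algebraMap R (MonoidAlgebra R (Multiplicative M))),
      ∃ y ∈ 𝔪.map (algebraMap R O), (y : K) = (ψ d).coeff 1 := by
    intro d hd
    have hd' : d ∈ 𝔪 • (⊤ : Submodule R (MonoidAlgebra R (Multiplicative M))) := by
      rw [Ideal.smul_top_eq_map]; exact hd
    refine Submodule.smul_induction_on hd' (fun r hr x _ => ?_) (fun x y hx hy => ?_)
    · refine ⟨algebraMap R O r * ⟨_, hint x⟩, Ideal.mul_mem_right _ _ (Ideal.mem_map_of_mem _ hr), ?_⟩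
      rw [map_smul, MonoidAlgebra.coeff_smul, Finsupp.smul_apply, Algebra.smul_def]
      rfl
    · obtain ⟨a, ha, ha'⟩ := hx
      obtain ⟨b, hb, hb'⟩ := hy
      refine ⟨a + b, add_mem ha hb, ?_⟩
      rw [map_add, MonoidAlgebra.coeff_add, Finsupp.add_apply, ← ha', ← hb']
      rfl
  obtain ⟨y, hy, hy'⟩ := hd _ h1
  have hm1 : (-1 : O) = y := by
    refine Subtype.ext ?_
    have e : (ψ (h - 1)).coeff 1 = -1 := by
      rw [map_sub ψ, map_one ψ]
      show (ψ h).coeff 1 - (1 : MonoidAlgebra K G).coeff 1 = -1
      rw [h0, MonoidAlgebra.coeff_one_one, zero_sub]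
    rw [hy', e]
    rfl
  have hker : RingHom.ker (algebraMap R O) ≤ 𝔪 := by
    refine IsLocalRing.le_maximalIdeal fun htop => hK (eq_top_iff.mpr fun r _ => ?_)
    have hr : r ∈ RingHom.ker (algebraMap R O) := by rw [htop]; exact Submodule.mem_top
    exact RingHom.mem_ker.mpr ((IsScalarTower.algebraMap_apply R O K r).trans (by rw [RingHom.mem_ker.mp hr, map_zero]))
  haveI : 𝔪.IsMaximal := IsLocalRing.maximalIdeal.isMaximal R
  obtain ⟨Q, hQ, hQ'⟩ := Ideal.exists_ideal_over_maximal_of_isIntegral (S := O) 𝔪 hker
  have h2 : (-1 : O) ∈ Q := by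
    rw [hm1]
    exact (Ideal.map_le_iff_le_comap.mpr hQ'.ge) hy
  exact hQ.ne_top ((Ideal.eq_top_iff_one _).mpr (neg_mem_iff.mp h2))

/-- A character is, faithfully flat locally, a product of two characters at which `h` is a unit. -/
theorem exists_product [IsLocalRing R] [AddGroup.FG M] {h : MonoidAlgebra R (Multiplicative M)}
    (h1 : h - 1 ∈ (IsLocalRing.maximalIdeal R).map (algebraMap R (MonoidAlgebra R (Multiplicative M))))
    {T : Type u} [CommRing T] [Algebra R T] (f : CoordM.{u} M →+* T) :
    ∃ (T' : Type u) (_ : CommRing T') (_ : Algebra R T') (φ : T →ₐ[R] T'),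
      φ.toRingHom.Flat ∧ Function.Surjective (PrimeSpectrum.comap φ.toRingHom) ∧
      ∃ c₁ c₂ : CoordM.{u} M →+* T',
        IsUnit (HomKernelIdeal.evalChar (R := R) c₁ h) ∧ IsUnit (HomKernelIdeal.evalChar (R := R) c₂ h) ∧
        ∀ m, (φ.toRingHom.comp f) (MonoidAlgebra.single m 1) = c₁ (MonoidAlgebra.single m 1) * c₂ (MonoidAlgebra.single m 1) := by
  classical
  let TM := MonoidAlgebra T (Multiplicative M)
  let fm : Multiplicative M →* T := (f : CoordM.{u} M →* T).comp (MonoidAlgebra.of (ULift.{u} ℤ) (Multiplicative M))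
  let g₁ : Multiplicative M →* TM := MonoidAlgebra.of T (Multiplicative M)
  let g₂ : Multiplicative M →* TM :=
    { toFun := fun m => MonoidAlgebra.single m⁻¹ (fm m)
      map_one' := by rw [inv_one, map_one, MonoidAlgebra.one_def]
      map_mul' := fun a b => by rw [MonoidAlgebra.single_mul_single, map_mul, _root_.mul_inv_rev, _root_.mul_comm b⁻¹] }
  let e₁ := MonoidAlgebra.lift R TM (Multiplicative M) g₁ h
  let e₂ := MonoidAlgebra.lift R TM (Multiplicative M) g₂ h
  let T' := Localization.Away (e₁ * e₂)
  refine ⟨T', inferInstance, inferInstance, IsScalarTower.toAlgHom R T T', ?_, ?_, ?_⟩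
  · show RingHom.Flat (algebraMap T T')
    rw [RingHom.flat_algebraMap_iff]
    haveI : Module.Flat T TM := inferInstance
    haveI : Module.Flat TM T' := IsLocalization.flat T' (Submonoid.powers (e₁ * e₂))
    exact Module.Flat.trans T TM T'
  · intro p
    let K := p.asIdeal.ResidueField
    haveI : IsMulTorsionFree (TF M) := inferInstance
    haveI : Monoid.FG (TF M) := by
      haveI : AddGroup.FG (M ⧸ AddCommGroup.torsion M) :=
        AddGroup.fg_of_surjective (f := QuotientAddGroup.mk' (AddCommGroup.torsion M)) QuotientAddGroup.mk_surjective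
      infer_instance
    haveI : IsDomain (MonoidAlgebra K (TF M)) := inferInstance
    let θ : TM →ₐ[T] MonoidAlgebra K (TF M) :=
      MonoidAlgebra.lift T _ (Multiplicative M) ((MonoidAlgebra.of K (TF M)).comp (tfProj M))
    have hker : RingHom.ker (algebraMap R K) ≠ ⊤ := RingHom.ker_ne_top _
    have hθ₁ : θ e₁ ≠ 0 := by
      intro h0
      refine coeff_ne_zero h1 hker (1 : Multiplicative M →* K) (tfProj M) (fun m => exists_pow_of_tfProj) ?_
      have : ∀ x, θ (MonoidAlgebra.lift R TM (Multiplicative M) g₁ x) =
          MonoidAlgebra.lift R (MonoidAlgebra K (TF M)) (Multiplicative M)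
            { toFun := fun m => MonoidAlgebra.single (tfProj M m) ((1 : Multiplicative M →* K) m)
              map_one' := by rw [map_one, map_one, MonoidAlgebra.one_def]
              map_mul' := fun a b => by rw [MonoidAlgebra.single_mul_single, map_mul, map_mul] } x := by
        intro x
        refine AlgHom.congr_fun (φ₁ := (θ.restrictScalars R).comp (MonoidAlgebra.lift R TM (Multiplicative M) g₁))
          (MonoidAlgebra.algHom_ext (fun m => ?_) (Subsingleton.elim _ _)) x
        simp [θ, g₁]
        erw [MonoidAlgebra.lift_of]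
        rfl
      rw [← this h]
      show (θ e₁).coeff 1 = 0
      rw [h0]
      rfl
    have hθ₂ : θ e₂ ≠ 0 := by
      intro h0
      let π : Multiplicative M →* TF M := ((tfProj M).comp invMonoidHom)
      have hπ : ∀ m, π m = 1 → ∃ n, 0 < n ∧ m ^ n = 1 := fun m hm => by
        refine exists_pow_of_tfProj ?_
        have : tfProj M m⁻¹ = 1 := hm
        rwa [map_inv, inv_eq_one] at this
      let w : Multiplicative M →* K := (algebraMap T K : T →* K).comp fm
      refine coeff_ne_zero h1 hker w π hπ ?_
      have : ∀ x, θ (MonoidAlgebra.lift R TM (Multiplicative M) g₂ x) =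
          MonoidAlgebra.lift R (MonoidAlgebra K (TF M)) (Multiplicative M)
            { toFun := fun m => MonoidAlgebra.single (π m) (w m)
              map_one' := by rw [map_one, map_one, MonoidAlgebra.one_def]
              map_mul' := fun a b => by rw [MonoidAlgebra.single_mul_single, map_mul, map_mul] } x := by
        intro x
        refine AlgHom.congr_fun (φ₁ := (θ.restrictScalars R).comp (MonoidAlgebra.lift R TM (Multiplicative M) g₂))
          (MonoidAlgebra.algHom_ext (fun m => ?_) (Subsingleton.elim _ _)) x
        simp [θ, g₂, π, w, fm]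
        erw [MonoidAlgebra.lift_single]
        rw [Algebra.smul_def, IsScalarTower.algebraMap_apply T K (MonoidAlgebra K (TF M))]
        show MonoidAlgebra.single 1 (algebraMap K K (algebraMap T K _)) * MonoidAlgebra.single (tfProj M m⁻¹) 1 = _
        rw [MonoidAlgebra.single_mul_single, _root_.one_mul, _root_.mul_one, map_inv]
        rfl
      rw [← this h]
      show (θ e₂).coeff 1 = 0
      rw [h0]
      rfl
    let q : PrimeSpectrum TM := ⟨RingHom.ker θ.toRingHom, RingHom.ker_isPrime _⟩
    have hq : q ∈ Set.range (PrimeSpectrum.comap (algebraMap TM T')) := by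
      rw [PrimeSpectrum.localization_away_comap_range T' (e₁ * e₂)]
      intro hmem
      have : θ (e₁ * e₂) = 0 := hmem
      rw [map_mul, mul_eq_zero] at this
      exact this.elim hθ₁ hθ₂
    obtain ⟨q', hq'⟩ := hq
    refine ⟨q', PrimeSpectrum.ext ?_⟩
    show Ideal.comap (algebraMap T T') q'.asIdeal = p.asIdeal
    rw [IsScalarTower.algebraMap_eq T TM T', ← Ideal.comap_comap,
      show Ideal.comap (algebraMap TM T') q'.asIdeal = q.asIdeal from congrArg PrimeSpectrum.asIdeal hq']
    show Ideal.comap (algebraMap T TM) (RingHom.ker θ.toRingHom) = p.asIdeal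
    rw [RingHom.comap_ker]
    show RingHom.ker (θ.toRingHom.comp (algebraMap T TM)) = p.asIdeal
    rw [show θ.toRingHom.comp (algebraMap T TM) = algebraMap T _ from θ.comp_algebraMap, IsScalarTower.algebraMap_eq T K (MonoidAlgebra K (TF M)),
      RingHom.ker_comp_of_injective _ (FaithfulSMul.algebraMap_injective K _)]
    exact Ideal.ker_algebraMap_residueField _
  · let ψ : TM →ₐ[R] T' := IsScalarTower.toAlgHom R TM T'
    refine ⟨HomMonoLocus.charOf (R := R) ((algebraMap TM T' : TM →* T').comp g₁),
      HomMonoLocus.charOf (R := R) ((algebraMap TM T' : TM →* T').comp g₂), ?_, ?_, fun m => ?_⟩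
    · have hu : IsUnit (algebraMap TM T' (e₁ * e₂)) := IsLocalization.Away.algebraMap_isUnit (e₁ * e₂)
      rw [map_mul, IsUnit.mul_iff] at hu
      rw [HomMonoLocus.evalChar_charOf]
      have e : MonoidAlgebra.lift R T' (Multiplicative M) ((algebraMap TM T' : TM →* T').comp g₁) h = algebraMap TM T' e₁ :=
        AlgHom.congr_fun (φ₁ := MonoidAlgebra.lift R T' (Multiplicative M) ((algebraMap TM T' : TM →* T').comp g₁)) (φ₂ := ψ.comp (MonoidAlgebra.lift R TM (Multiplicative M) g₁))
        (MonoidAlgebra.algHom_ext (fun m => by simp [ψ]) (Subsingleton.elim _ _)) h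
      rw [e]
      exact hu.1
    · have hu : IsUnit (algebraMap TM T' (e₁ * e₂)) := IsLocalization.Away.algebraMap_isUnit (e₁ * e₂)
      rw [map_mul, IsUnit.mul_iff] at hu
      rw [HomMonoLocus.evalChar_charOf]
      have e : MonoidAlgebra.lift R T' (Multiplicative M) ((algebraMap TM T' : TM →* T').comp g₂) h = algebraMap TM T' e₂ :=
        AlgHom.congr_fun (φ₁ := MonoidAlgebra.lift R T' (Multiplicative M) ((algebraMap TM T' : TM →* T').comp g₂)) (φ₂ := ψ.comp (MonoidAlgebra.lift R TM (Multiplicative M) g₂))
        (MonoidAlgebra.algHom_ext (fun m => by simp [ψ]) (Subsingleton.elim _ _)) h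
      rw [e]
      exact hu.2
    · rw [HomMonoLocus.charOf_single, HomMonoLocus.charOf_single]
      show algebraMap T T' (fm m) = algebraMap TM T' (g₁ m) * algebraMap TM T' (g₂ m)
      rw [← map_mul, IsScalarTower.algebraMap_apply T TM T']
      congr 1
      show MonoidAlgebra.single 1 (algebraMap T T (fm m)) = MonoidAlgebra.single m 1 * MonoidAlgebra.single m⁻¹ (fm m)
      rw [MonoidAlgebra.single_mul_single, mul_inv_cancel, _root_.one_mul]
      rfl

end Groth.Agent.GrpSchLib.FibrewiseDense
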