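import Groth.Agent.GrpSchLib.LineGroups
import Mathlib.AlgebraicGeometry.Morphisms.ClosedImmersion
import Mathlib.AlgebraicGeometry.Noetherian
import Mathlib.RingTheory.Filtration

/-! Morphisms to a separated scheme agreeing after restriction along jointly injective families. -/

universe u

open CategoryTheory Limits AlgebraicGeometry MonoidalCategory CartesianMonoidalCategory
open scoped TensorProduct

namespace Groth.Agent.GrpSchLib.InfNbhdEq

open Kunneth LineGroups

variable {k : Type u} [Field k]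

/-- Two morphisms from an affine product agree if they agree along a jointly injective family. -/
theorem eq_of_joint {W U Z : Over (Spec (CommRingCat.of k))} [IsAffine W.left] [IsAffine U.left] [IsSeparated Z.hom]
    {J : Type*} {T : J → Over (Spec (CommRingCat.of k))} [∀ j, IsAffine (T j).left] (i : ∀ j, T j ⟶ W)
    (hinj : ∀ w : Fn W, (∀ j, ev (i j) w = 0) → w = 0) (f g : W ⊗ U ⟶ Z)
    (h : ∀ j, (i j ▷ U) ≫ f = (i j ▷ U) ≫ g) : f = g := by
  classical
  have hQ : ∀ A : Over (Spec (CommRingCat.of k)), IsAffine A.left → QuasiCompact A.hom ∧ IsSeparated A.hom :=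
    fun A _ => ⟨inferInstance, inferInstance⟩
  obtain ⟨_, _⟩ := hQ W ‹_›
  obtain ⟨_, _⟩ := hQ U ‹_›
  haveI : IsAffine (W ⊗ U).left := inferInstanceAs (IsAffine (pullback W.hom U.hom))
  let L : (W ⊗ U).left ⟶ pullback Z.hom Z.hom := pullback.lift f.left g.left ((Over.w f).trans (Over.w g).symm)
  let e := pullback.fst L (pullback.diagonal Z.hom)
  haveI : IsClosedImmersion e := inferInstance
  have he : e ≫ f.left = e ≫ g.left := by
    have hc := pullback.condition (f := L) (g := pullback.diagonal Z.hom)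
    have h1 := congrArg (· ≫ pullback.fst Z.hom Z.hom) hc
    have h2 := congrArg (· ≫ pullback.snd Z.hom Z.hom) hc
    simp only [L, Category.assoc, pullback.lift_fst, pullback.lift_snd, pullback.diagonal_fst, pullback.diagonal_snd] at h1 h2
    exact h1.trans h2.symm
  have hinj' : Function.Injective e.appTop := by
    refine (injective_iff_map_eq_zero e.appTop.hom).mpr fun z hz => ?_
    let b := Module.Basis.ofVectorSpace k (Fn U)
    obtain ⟨s, a, rfl⟩ := exists_expand b z
    have ha : ∀ l ∈ s, a l = 0 := fun l hl => hinj _ fun j => by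
      obtain ⟨_, _⟩ := hQ (T j) inferInstance
      have hfac : ∃ c, c ≫ e = (i j ▷ U).left := by
        refine ⟨pullback.lift (i j ▷ U).left ((i j ▷ U) ≫ f).left ?_, pullback.lift_fst _ _ _⟩
        apply pullback.hom_ext
        · rw [Category.assoc, Category.assoc, pullback.diagonal_fst, Category.comp_id]
          exact (congrArg ((i j ▷ U).left ≫ ·) (pullback.lift_fst _ _ _)).trans rfl
        · rw [Category.assoc, Category.assoc, pullback.diagonal_snd, Category.comp_id]
          exact (congrArg ((i j ▷ U).left ≫ ·) (pullback.lift_snd _ _ _)).trans (congrArg CommaMorphism.left (h j)).symm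
      obtain ⟨c, hc⟩ := hfac
      have h0 : ev (i j ▷ U) (∑ l ∈ s, ev (fst W U) (a l) * ev (snd W U) (b l)) = 0 := by
        rw [ev_apply, ← hc, Scheme.Hom.comp_appTop, CommRingCat.comp_apply]
        exact (congrArg c.appTop hz).trans (map_zero c.appTop.hom)
      rw [map_sum] at h0
      refine indep b.linearIndependent s (fun l => ev (i j) (a l)) ?_ l hl
      rw [← h0]
      exact Finset.sum_congr rfl fun l _ => by rw [map_mul, ev_ev, ev_ev, ev_ev, whiskerRight_fst, whiskerRight_snd]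
    exact Finset.sum_eq_zero fun l hl => by rw [ha l hl, map_zero, zero_mul]
  haveI : IsIso e := IsClosedImmersion.isIso_of_injective_of_isAffine hinj'
  exact Over.OverMorphism.ext ((cancel_epi e).mp he)

variable {X Y Z : Over (Spec (CommRingCat.of k))}

/-- Morphisms out of a product with a scheme with constant functions agree. -/
theorem eq_snd_of_const [QuasiCompact X.hom] [IsSeparated X.hom]
    (hX : Function.Bijective (algebraMap k (Fn X))) {N V : Over (Spec (CommRingCat.of k))} [IsAffine N.left] [IsAffine V.left]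
    (x₀ : 𝟙_ (Over (Spec (CommRingCat.of k))) ⟶ X) (h : X ⊗ N ⟶ V) :
    h = snd X N ≫ lift (toUnit N ≫ x₀) (𝟙 N) ≫ h := by
  refine ext_ev (AlgHom.ext fun f => ?_)
  obtain ⟨b, hb⟩ : ∃ b : Fn N, ev h f = ev (snd X N) b := by
    haveI : QuasiCompact N.hom := inferInstance
    haveI : IsSeparated N.hom := inferInstance
    obtain ⟨z, hz⟩ := (toProd_bijective X N).2 (ev h f)
    rw [← hz]
    clear hz
    induction z using TensorProduct.induction_on with
    | zero => exact ⟨0, by rw [map_zero, map_zero]⟩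
    | tmul a b =>
      obtain ⟨c, rfl⟩ := hX.2 a
      exact ⟨c • b, by rw [toProd, Algebra.TensorProduct.lift_tmul, AlgHom.commutes, map_smul, Algebra.smul_def]⟩
    | add z z' h1 h2 =>
      obtain ⟨b, hb⟩ := h1
      obtain ⟨b', hb'⟩ := h2
      exact ⟨b + b', by rw [map_add, map_add, hb, hb']⟩
  rw [hb, ← ev_ev, ← ev_ev, hb, ev_ev (lift (toUnit N ≫ x₀) (𝟙 N)), lift_snd, ev_id]

theorem whisker_range {X N : Over (Spec (CommRingCat.of k))} (q : 𝟙_ (Over (Spec (CommRingCat.of k))) ⟶ N)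
    [Surjective q.left] : Surjective (X ◁ q).left := by
  have H : IsPullback (X ◁ q) (snd X (𝟙_ (Over (Spec (CommRingCat.of k))))) (snd X N) q :=
    IsPullback.of_isLimit' ⟨by simp⟩ (PullbackCone.IsLimit.mk _
      (fun s => lift (s.fst ≫ fst X N) s.snd)
      (fun s => by
        apply CartesianMonoidalCategory.hom_ext
        · simp
        · simpa using s.condition.symm)
      (fun s => by simp)
      (fun s m h1 h2 => by
        apply CartesianMonoidalCategory.hom_ext
        · rw [lift_fst, ← h1]; simp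
        · simpa using h2))
  exact MorphismProperty.of_isPullback (H.map (Over.forget _)).flip ‹Surjective q.left›

/-- Rigidity for sources with constant functions. -/
theorem eq_of_inf_nbhd [QuasiCompact X.hom] [IsSeparated X.hom] (hX : Function.Bijective (algebraMap k (Fn X)))
    [IsLocallyNoetherian Y.left] [IsIntegral Y.left] [IsSeparated Z.hom]
    (x₀ : 𝟙_ (Over (Spec (CommRingCat.of k))) ⟶ X) (y₀ : 𝟙_ (Over (Spec (CommRingCat.of k))) ⟶ Y) (f : X ⊗ Y ⟶ Z)
    (hf : (X ◁ y₀) ≫ f = toUnit _ ≫ lift x₀ y₀ ≫ f) :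
    f = snd X Y ≫ lift (toUnit Y ≫ x₀) (𝟙 Y) ≫ f := by
  classical
  let g := snd X Y ≫ lift (toUnit Y ≫ x₀) (𝟙 Y) ≫ f
  let pt : ↥(Spec (CommRingCat.of k)) := IsLocalRing.closedPoint k
  haveI : Subsingleton ↥(𝟙_ (Over (Spec (CommRingCat.of k)))).left := inferInstanceAs (Subsingleton (PrimeSpectrum k))
  -- an affine neighbourhood of the point
  obtain ⟨W₀, hW₀, hyW, -⟩ := exists_isAffineOpen_mem_and_subset (x := y₀.left pt) (U := ⊤) trivial
  let W : Over (Spec (CommRingCat.of k)) := Over.mk (W₀.ι ≫ Y.hom)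
  let wι : W ⟶ Y := Over.homMk W₀.ι rfl
  haveI : IsAffine W.left := hW₀
  haveI : Nonempty W.left := ⟨⟨_, hyW⟩⟩
  haveI : IsIntegral W.left := isIntegral_of_isOpenImmersion W₀.ι
  haveI : IsDomain (Fn W) := isDomain_fn W
  haveI : IsLocallyNoetherian W.left := isLocallyNoetherian_of_isOpenImmersion W₀.ι
  haveI : IsNoetherianRing (Fn W) := IsLocallyNoetherian.component_noetherian ⟨⊤, isAffineOpen_top W.left⟩
  have hr : Set.range y₀.left ⊆ Set.range W₀.ι := by
    rintro _ ⟨t, rfl⟩
    rw [Scheme.Opens.range_ι, Subsingleton.elim t pt]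
    exact hyW
  let w₀ : 𝟙_ (Over (Spec (CommRingCat.of k))) ⟶ W := Over.homMk (IsOpenImmersion.lift W₀.ι y₀.left hr)
    (show IsOpenImmersion.lift W₀.ι y₀.left hr ≫ W₀.ι ≫ Y.hom = _ by
      rw [IsOpenImmersion.lift_fac_assoc]; exact Over.w y₀)
  have hw₀ : w₀ ≫ wι = y₀ := Over.OverMorphism.ext (IsOpenImmersion.lift_fac _ _ _)
  let m : Ideal (Fn W) := RingHom.ker (evPt w₀)
  have hm : m.IsMaximal := RingHom.ker_isMaximal_of_surjective (evPt w₀) fun c => ⟨algebraMap k _ c, (evPt w₀).commutes c⟩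
  let N : ℕ → Over (Spec (CommRingCat.of k)) := fun n =>
    Over.mk (Spec.map (CommRingCat.ofHom (algebraMap k (Fn W ⧸ m ^ (n + 1)))))
  haveI : ∀ n, IsAffine (N n).left := fun n => isAffine_Spec _
  choose i hi using fun n : ℕ => exists_hom_ev (X := W) (T := N n)
    ((spEquiv (k := k) (Fn W ⧸ m ^ (n + 1))).toAlgHom.comp (Ideal.Quotient.mkₐ k (m ^ (n + 1))))
  have hinj : ∀ w : Fn W, (∀ n, ev (i n) w = 0) → w = 0 := by
    intro w hw
    have hmem : w ∈ ⨅ n : ℕ, m ^ n := by
      refine Ideal.mem_iInf.mpr fun n => ?_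
      refine Ideal.pow_le_pow_right (Nat.le_succ n) (Ideal.Quotient.eq_zero_iff_mem.mp ?_)
      have h1 := hw n
      rw [hi] at h1
      exact (spEquiv (k := k) _).injective (h1.trans (map_zero _).symm)
    rwa [Ideal.iInf_pow_eq_bot_of_isDomain m hm.ne_top] at hmem
  -- agreement on the infinitesimal neighbourhoods
  have hN : ∀ n, (X ◁ (i n ≫ wι)) ≫ f = (X ◁ (i n ≫ wι)) ≫ g := by
    intro n
    let δ : (Fn W ⧸ m ^ (n + 1)) →ₐ[k] Fn (𝟙_ (Over (Spec (CommRingCat.of k)))) :=
      Ideal.Quotient.liftₐ _ (ev w₀) fun a ha => by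
        have h1 : evPt w₀ a = 0 := Ideal.pow_le_self (Nat.succ_ne_zero n) ha
        apply (ConcreteCategory.bijective_of_isIso (Scheme.ΓSpecIso (CommRingCat.of k)).hom).1
        exact h1.trans (map_zero _).symm
    obtain ⟨q, hq⟩ := exists_hom_ev (X := N n) (δ.comp (spEquiv (k := k) (Fn W ⧸ m ^ (n + 1))).symm.toAlgHom)
    have hqi : q ≫ i n = w₀ := ext_ev (AlgHom.ext fun a => by
      rw [← ev_ev, hi n, hq]
      simp only [AlgHom.comp_apply, AlgEquiv.coe_toAlgHom, AlgEquiv.symm_apply_apply, Ideal.Quotient.mkₐ_eq_mk, δ]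
      exact Ideal.Quotient.lift_mk _ _ _)
    haveI : Subsingleton (PrimeSpectrum (Fn W ⧸ m ^ (n + 1))) := ⟨fun p p' => by
      have hp : ∀ p : PrimeSpectrum (Fn W ⧸ m ^ (n + 1)), p.asIdeal.comap (Ideal.Quotient.mk _) = m := fun p => by
        refine (hm.eq_of_le (p.2.comap (Ideal.Quotient.mk _)).ne_top ?_).symm
        refine (p.2.comap (Ideal.Quotient.mk _)).le_of_pow_le (n := n + 1) ?_
        intro a ha
        rw [Ideal.mem_comap, Ideal.Quotient.eq_zero_iff_mem.mpr ha]
        exact zero_mem _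
      exact PrimeSpectrum.ext (Ideal.comap_injective_of_surjective _ Ideal.Quotient.mk_surjective ((hp p).trans (hp p').symm))⟩
    haveI : Subsingleton (N n).left := inferInstanceAs (Subsingleton (PrimeSpectrum _))
    haveI : Surjective q.left := ⟨fun x => ⟨pt, Subsingleton.elim _ _⟩⟩
    haveI := whisker_range (X := X) q
    let f' := (X ◁ (i n ≫ wι)) ≫ f
    let z₀ := lift x₀ y₀ ≫ f
    obtain ⟨V₀, hV₀, hzV, -⟩ := exists_isAffineOpen_mem_and_subset (x := z₀.left pt) (U := ⊤) trivial
    let V : Over (Spec (CommRingCat.of k)) := Over.mk (V₀.ι ≫ Z.hom)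
    let vι : V ⟶ Z := Over.homMk V₀.ι rfl
    haveI : IsAffine V.left := hV₀
    have hrange : Set.range f'.left ⊆ Set.range V₀.ι := by
      rintro _ ⟨p, rfl⟩
      obtain ⟨p', rfl⟩ := (X ◁ q).left.surjective p
      have h1 : (X ◁ q) ≫ f' = toUnit _ ≫ z₀ := by
        simp only [f']
        rw [← Category.assoc, ← MonoidalCategory.whiskerLeft_comp, ← Category.assoc, hqi, hw₀, hf]
      rw [Scheme.Opens.range_ι, ← Scheme.Hom.comp_apply, ← Over.comp_left, h1, Over.comp_left, Scheme.Hom.comp_apply,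
        Subsingleton.elim ((toUnit (X ⊗ 𝟙_ (Over (Spec (CommRingCat.of k))))).left p') pt]
      exact hzV
    let h' : X ⊗ N n ⟶ V := Over.homMk (IsOpenImmersion.lift V₀.ι f'.left hrange)
      (show IsOpenImmersion.lift V₀.ι f'.left hrange ≫ V₀.ι ≫ Z.hom = _ by
        rw [IsOpenImmersion.lift_fac_assoc]; exact Over.w f')
    have hh' : h' ≫ vι = f' := Over.OverMorphism.ext (IsOpenImmersion.lift_fac _ _ _)
    have h2 := congrArg (· ≫ vι) (eq_snd_of_const hX x₀ h')
    simp only [Category.assoc, hh'] at h2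
    change f' = _
    rw [h2]
    simp only [f', g]
    rw [← Category.assoc (X ◁ _), whiskerLeft_snd]
    simp only [Category.assoc]
    congr 1
    rw [← Category.assoc, ← Category.assoc, ← Category.assoc]
    congr 1
    apply CartesianMonoidalCategory.hom_ext <;> simp
  -- transfer to products of affine opens
  have hW : ∀ (U : Over (Spec (CommRingCat.of k))) [IsAffine U.left] (uι : U ⟶ X),
      lift (snd W U ≫ uι) (fst W U ≫ wι) ≫ f = lift (snd W U ≫ uι) (fst W U ≫ wι) ≫ g := by
    intro U _ uι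
    refine eq_of_joint i hinj _ _ fun n => ?_
    have e1 : (i n ▷ U) ≫ lift (snd W U ≫ uι) (fst W U ≫ wι) =
        lift (snd (N n) U ≫ uι) (fst (N n) U) ≫ (X ◁ (i n ≫ wι)) := by
      apply CartesianMonoidalCategory.hom_ext <;> simp
    rw [← Category.assoc, e1, Category.assoc, hN n, ← Category.assoc, ← e1, Category.assoc]
  have hall : ∀ (U : Over (Spec (CommRingCat.of k))) [IsAffine U.left] (uι : U ⟶ X) (W' : Y.left.Opens),
      IsAffineOpen W' → lift (snd (Over.mk (W'.ι ≫ Y.hom)) U ≫ uι) (fst (Over.mk (W'.ι ≫ Y.hom)) U ≫ (Over.homMk W'.ι rfl : Over.mk (W'.ι ≫ Y.hom) ⟶ Y)) ≫ f =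
        lift (snd (Over.mk (W'.ι ≫ Y.hom)) U ≫ uι) (fst (Over.mk (W'.ι ≫ Y.hom)) U ≫ (Over.homMk W'.ι rfl : Over.mk (W'.ι ≫ Y.hom) ⟶ Y)) ≫ g := by
    intro U _ uι W' hW'
    let P : Over (Spec (CommRingCat.of k)) := Over.mk (W'.ι ≫ Y.hom)
    let pι : P ⟶ Y := Over.homMk W'.ι rfl
    haveI : IsAffine P.left := hW'
    by_cases hne : Nonempty P.left
    swap
    · haveI := not_nonempty_iff.mp hne
      haveI : IsEmpty (P ⊗ U).left := Function.isEmpty (pullback.fst P.hom U.hom)
      exact Over.OverMorphism.ext (isInitialOfIsEmpty.hom_ext _ _)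
    haveI := hne
    haveI : IsIntegral P.left := isIntegral_of_isOpenImmersion W'.ι
    obtain ⟨y, hy⟩ : ∃ y, y ∈ W₀ ⊓ W' := by
      obtain ⟨p⟩ := hne
      exact nonempty_preirreducible_inter W₀.isOpen W'.isOpen ⟨_, hyW⟩ ⟨p.1, p.2⟩
    obtain ⟨T₀, hT₀, hyT, hT⟩ := exists_isAffineOpen_mem_and_subset (x := y) (U := W₀ ⊓ W') hy
    have hTW : T₀ ≤ W₀ := fun z hz => (hT hz).1
    have hTP : T₀ ≤ W' := fun z hz => (hT hz).2
    let T : Over (Spec (CommRingCat.of k)) := Over.mk (T₀.ι ≫ Y.hom)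
    let a : T ⟶ W := Over.homMk (Y.left.homOfLE hTW) (by simp [T, W])
    let b : T ⟶ P := Over.homMk (Y.left.homOfLE hTP) (by simp [T, P])
    haveI : IsAffine T.left := hT₀
    refine eq_of_joint (J := PUnit.{1}) (T := fun _ => T) (fun _ => b) ?_ _ _ fun _ => ?_
    · intro w hw
      have hnet : Nonempty T.left := ⟨⟨y, hyT⟩⟩
      haveI : IsOpenImmersion b.left := inferInstanceAs (IsOpenImmersion (Y.left.homOfLE hTP))
      haveI : AlgebraicGeometry.IsReduced P.left := isReduced_of_isOpenImmersion W'.ι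
      have h0 : b.left.appTop w = 0 := hw PUnit.unit
      refine (basicOpen_eq_bot_iff w).mp ?_
      by_contra hb
      obtain ⟨t₀⟩ := hnet
      obtain ⟨_, hz, t, rfl⟩ := nonempty_preirreducible_inter (P.left.basicOpen w).isOpen b.left.opensRange.isOpen
        ((TopologicalSpace.Opens.ne_bot_iff_nonempty _).mp hb) ⟨_, t₀, rfl⟩
      have ht : t ∈ b.left ⁻¹ᵁ P.left.basicOpen w := hz
      rw [Scheme.preimage_basicOpen_top, h0, Scheme.basicOpen_zero] at ht
      exact ht
    · have e1 : (b ▷ U) ≫ lift (snd P U ≫ uι) (fst P U ≫ pι) = (a ▷ U) ≫ lift (snd W U ≫ uι) (fst W U ≫ wι) := by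
        have hab : b ≫ pι = a ≫ wι := Over.OverMorphism.ext (by simp [a, b, pι, wι])
        apply CartesianMonoidalCategory.hom_ext
        · simp
        · simp [hab]
      rw [← Category.assoc, e1, Category.assoc, hW U uι, ← Category.assoc, ← e1, Category.assoc]
  -- glue
  refine Over.OverMorphism.ext ?_
  refine Scheme.Cover.hom_ext
    (Scheme.Pullback.openCoverOfLeftRight (X.left.openCoverOfIsOpenCover (fun U : X.left.affineOpens => U.1) (iSup_affineOpens_eq_top X.left))
      (Y.left.openCoverOfIsOpenCover (fun U : Y.left.affineOpens => U.1) (iSup_affineOpens_eq_top Y.left)) X.hom Y.hom) _ _ ?_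
  rintro ⟨U, W'⟩
  let U' : Over (Spec (CommRingCat.of k)) := Over.mk (U.1.ι ≫ X.hom)
  haveI : IsAffine U'.left := U.2
  have h1 := congrArg (fun r => (β_ U' (Over.mk (W'.1.ι ≫ Y.hom))).hom ≫ r) (hall U' (Over.homMk U.1.ι rfl) W'.1 W'.2)
  simp only [comp_lift_assoc, braiding_hom_snd_assoc, braiding_hom_fst_assoc] at h1
  have e2 : (lift (fst U' (Over.mk (W'.1.ι ≫ Y.hom)) ≫ (Over.homMk U.1.ι rfl : U' ⟶ X))
      (snd U' (Over.mk (W'.1.ι ≫ Y.hom)) ≫ (Over.homMk W'.1.ι rfl : Over.mk (W'.1.ι ≫ Y.hom) ⟶ Y))).left =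
      pullback.map _ _ _ _ U.1.ι W'.1.ι (𝟙 _) (Category.comp_id _) (Category.comp_id _) := by
    apply pullback.hom_ext
    · rw [pullback.lift_fst]
      exact congrArg (fun r : _ ⟶ X => r.left) (lift_fst _ _)
    · rw [pullback.lift_snd]
      exact congrArg (fun r : _ ⟶ Y => r.left) (lift_snd _ _)
  have h3 := congrArg CommaMorphism.left h1
  simp only [Over.comp_left, e2] at h3
  exact h3

end Groth.Agent.GrpSchLib.InfNbhdEq
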