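import Groth.Prelude.Def_AlgGrp
import Groth.Agent.GrpSchLib.AffineHopf
import Groth.Agent.H26.AbExt.Base
import Mathlib.RingTheory.LaurentSeries
import Mathlib.RingTheory.PowerSeries.Substitution

/-! A fixed point as the limit of an orbit. -/

set_option autoImplicit false
set_option backward.isDefEq.respectTransparency false
set_option backward.isDefEq.respectTransparency.types false

universe u

open CategoryTheory Limits MonoidalCategory CartesianMonoidalCategory MonObj AlgebraicGeometry

noncomputable section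

namespace Groth.Agent.GrpSchLib.FixedLimit

open AffineHopf PowerSeries

theorem act_mul {S : Scheme.{u}} {G X T : Over S} [GrpObj G] (a : AlgGrp.Action G X) (g h : T ⟶ G) (x : T ⟶ X) :
    lift (g * h) x ≫ a.act = lift g (lift h x ≫ a.act) ≫ a.act := by
  have h' := lift (lift g h) x ≫= a.mul_act
  simp only [lift_whiskerRight_assoc, lift_lift_associator_hom_assoc, lift_whiskerLeft_assoc] at h'
  rw [Hom.mul_def]
  exact h'

variable {k : Type u} [Field k] {G X : Over (Spec (CommRingCat.of k))} [GrpObj G] [IsProper X.hom]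

/-- If translation by a universal point is induced by a substitution in the parameter of a punctured
arc in the group, then the limit of the orbit along that arc is fixed. -/
theorem exists_fixed (A : Type u) [CommRing A] [IsDomain A] [Algebra k A]
    (g₀ : sp k A ⟶ G) (hg₀ : ∀ (T : Over (Spec (CommRingCat.of k))) (g : T ⟶ G), ∃ τ : T ⟶ sp k A, τ ≫ g₀ = g)
    (φ : (PowerSeries k) →ₐ[k] (PowerSeries A)) (hφ : ∀ f, constantCoeff (φ f) = algebraMap k A (constantCoeff f))
    (w : (PowerSeries A)ˣ) (hφX : φ PowerSeries.X = PowerSeries.X * (w : PowerSeries A))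
    (fK : sp k (FractionRing (PowerSeries k)) ⟶ G)
    (hfK : ∀ (M : Type u) [CommRing M] [Algebra k M] (j : (PowerSeries A) →ₐ[k] M) (P Q : (FractionRing (PowerSeries k)) →ₐ[k] M),
      (∀ f : (PowerSeries k), P (algebraMap _ _ f) = j (PowerSeries.map (algebraMap k A) f)) →
      (∀ f : (PowerSeries k), Q (algebraMap _ _ f) = j (φ f)) →
      spMap Q ≫ fK = (spMap (j.comp (IsScalarTower.toAlgHom k A (PowerSeries A))) ≫ g₀) * (spMap P ≫ fK))
    (a : AlgGrp.Action G X) (x₀ : 𝟙_ (Over (Spec (CommRingCat.of k))) ⟶ X) :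
    ∃ x : 𝟙_ (Over (Spec (CommRingCat.of k))) ⟶ X, a.IsFixedPt x := by
  let xK : sp k (FractionRing (PowerSeries k)) ⟶ X := lift fK (toUnit _ ≫ x₀) ≫ a.act
  let sq : ValuativeCommSq X.hom :=
    { R := (PowerSeries k)
      K := (FractionRing (PowerSeries k))
      i₁ := xK.left
      i₂ := (sp k (PowerSeries k)).hom
      commSq := ⟨by
        rw [Over.w xK]
        show Spec.map (CommRingCat.ofHom (algebraMap k (FractionRing (PowerSeries k)))) = Spec.map _ ≫ Spec.map (CommRingCat.ofHom (algebraMap k (PowerSeries k)))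
        rw [← Spec.map_comp, ← CommRingCat.ofHom_comp, ← IsScalarTower.algebraMap_eq]⟩ }
  have hex : ValuativeCriterion.Existence X.hom := by
    have h : IsProper X.hom := inferInstance
    rw [IsProper.eq_valuativeCriterion] at h
    exact h.1.1.1.existence
  obtain ⟨⟨⟨l, hl₁, hl₂⟩⟩⟩ := hex sq
  let lv : sp k (PowerSeries k) ⟶ X := Over.homMk l hl₂
  let iK : (PowerSeries k) →ₐ[k] (FractionRing (PowerSeries k)) := IsScalarTower.toAlgHom k _ _
  have hlv : spMap iK ≫ lv = xK := Over.OverMorphism.ext hl₁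
  let S : Submonoid (PowerSeries A) := Submonoid.powers PowerSeries.X
  let M : Type u := Localization S
  let j : (PowerSeries A) →ₐ[k] M := IsScalarTower.toAlgHom k _ _
  have hj : Function.Injective j := IsLocalization.injective (M := S) M (by
    rintro _ ⟨n, rfl⟩
    exact mem_nonZeroDivisors_of_ne_zero (pow_ne_zero _ PowerSeries.X_ne_zero))
  let m : (PowerSeries k) →ₐ[k] (PowerSeries A) :=
    { PowerSeries.map (algebraMap k A) with
      commutes' := fun r => by
        show PowerSeries.map (algebraMap k A) (algebraMap k (PowerSeries k) r) = _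
        simp [PowerSeries.algebraMap_apply] }
  have hext : ∀ ψ : (PowerSeries k) →ₐ[k] (PowerSeries A), (∃ v : (PowerSeries A)ˣ, ψ PowerSeries.X = PowerSeries.X * (v : PowerSeries A)) →
      ∃ P : (FractionRing (PowerSeries k)) →ₐ[k] M, ∀ f : (PowerSeries k), P (algebraMap _ _ f) = j (ψ f) := by
    rintro ψ ⟨v, hv⟩
    have hu : IsUnit (j (ψ PowerSeries.X)) := by
      rw [hv, map_mul]
      exact (IsLocalization.map_units M (⟨PowerSeries.X, Submonoid.mem_powers _⟩ : S)).mul (v.isUnit.map j)
    have hy : ∀ y : nonZeroDivisors (PowerSeries k), IsUnit ((j.comp ψ) y) := by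
      rintro ⟨y, hy'⟩
      show IsUnit ((j.comp ψ) y)
      rw [← PowerSeries.X_pow_order_mul_divXPowOrder (f := y), map_mul, map_pow]
      exact (hu.pow _).mul ((PowerSeries.isUnit_divided_by_X_pow_order (nonZeroDivisors.ne_zero hy')).map _)
    exact ⟨IsLocalization.liftAlgHom (S := (FractionRing (PowerSeries k))) (f := j.comp ψ) hy, fun f => IsLocalization.lift_eq _ _⟩
  obtain ⟨P, hP⟩ := hext m ⟨1, by simp [m]⟩
  obtain ⟨Q, hQ⟩ := hext φ ⟨w, hφX⟩
  let tA : sp k (PowerSeries A) ⟶ G := spMap (IsScalarTower.toAlgHom k A (PowerSeries A)) ≫ g₀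
  have e₁ : spMap P ≫ spMap iK = spMap j ≫ spMap m := by
    rw [spMap_comp, spMap_comp]
    exact congrArg spMap (AlgHom.ext hP)
  have e₂ : spMap Q ≫ spMap iK = spMap j ≫ spMap φ := by
    rw [spMap_comp, spMap_comp]
    exact congrArg spMap (AlgHom.ext hQ)
  have key : spMap φ ≫ lv = lift tA (spMap m ≫ lv) ≫ a.act := by
    refine Over.OverMorphism.ext (H26.AbExt.ext_generic X.hom j.toRingHom hj _ _ (by rw [Over.w, Over.w]) ?_)
    refine congrArg CommaMorphism.left (?_ : spMap j ≫ (spMap φ ≫ lv) = spMap j ≫ (lift tA (spMap m ≫ lv) ≫ a.act))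
    rw [← reassoc_of% e₂, comp_lift_assoc, ← reassoc_of% e₁, hlv, ← Category.assoc (spMap j),
      spMap_comp j (IsScalarTower.toAlgHom k A (PowerSeries A))]
    simp only [xK, ← Category.assoc, comp_lift, comp_toUnit]
    rw [← act_mul, ← hfK M j P Q hP hQ]
  let c : (PowerSeries k) →ₐ[k] k := { constantCoeff (R := k) with commutes' := fun r => by simp [PowerSeries.algebraMap_apply] }
  let cA : (PowerSeries A) →ₐ[k] A := { constantCoeff (R := A) with commutes' := fun r => by simp [PowerSeries.algebraMap_apply] }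
  have h1 : spMap cA ≫ spMap φ = spMap (Algebra.ofId k A) ≫ spMap c := by
    rw [spMap_comp, spMap_comp]
    exact congrArg spMap (AlgHom.ext hφ)
  have h2 : spMap cA ≫ spMap m = spMap (Algebra.ofId k A) ≫ spMap c := by
    rw [spMap_comp, spMap_comp]
    refine congrArg spMap (AlgHom.ext fun f => ?_)
    simp [cA, c, m]
    rw [← PowerSeries.coeff_zero_eq_constantCoeff_apply, PowerSeries.coeff_map, PowerSeries.coeff_zero_eq_constantCoeff_apply]
  have h3 : spMap cA ≫ spMap (IsScalarTower.toAlgHom k A (PowerSeries A)) = 𝟙 _ := by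
    rw [spMap_comp, ← spMap_id]
    exact congrArg spMap (AlgHom.ext fun r => by simp [cA, PowerSeries.algebraMap_apply])
  let p : 𝟙_ (Over (Spec (CommRingCat.of k))) ⟶ sp k k := Over.homMk (𝟙 _) (by
    show 𝟙 _ ≫ Spec.map (CommRingCat.ofHom (algebraMap k k)) = 𝟙 _
    rw [Category.id_comp, Algebra.algebraMap_self, CommRingCat.ofHom_id, Spec.map_id])
  refine ⟨p ≫ spMap c ≫ lv, fun T g => ?_⟩
  have ez : spMap (Algebra.ofId k A) = toUnit (sp k A) ≫ p := by
    refine Over.OverMorphism.ext ?_
    show Spec.map _ = (toUnit (sp k A)).left ≫ 𝟙 _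
    rw [Category.comp_id]
    exact (Over.w (toUnit (sp k A))).symm.trans (Category.comp_id _)
  have e := spMap cA ≫= key
  rw [reassoc_of% h1, comp_lift_assoc, reassoc_of% h2, ez] at e
  simp only [tA, reassoc_of% h3, Category.assoc] at e
  obtain ⟨τ, rfl⟩ := hg₀ T g
  have e' := τ ≫= e
  rw [comp_lift_assoc] at e'
  simp only [← Category.assoc, comp_toUnit] at e'
  simpa only [Category.assoc] using e'.symm

end Groth.Agent.GrpSchLib.FixedLimit
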