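import Groth.Agent.GrpSchLib.SpreadFixed
import Groth.Agent.GrpSchLib.SubgroupEqLocus
import Groth.Prelude.Def_SGA3x

/-!
# The fixed locus of an action of a group of multiplicative type

The points at whose local rings the action is trivial form an open set, on which the action is trivial, and it contains
every point lying over a point of the base where the action is trivial on the fibre.
-/

universe u

open CategoryTheory CategoryTheory.Limits MonoidalCategory CartesianMonoidalCategory MonObj AlgebraicGeometry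

namespace Groth.Agent.GrpSchLib.FixedLocus

open DiagActionRigid (sp spm spm_left spm_comp)
open DSPtsLib (CoordM)

variable {S : Scheme.{u}} {G X : Over S} [GrpObj G] (a : AlgGrp.Action G X)

/-- The point `x` is fixed by the group, universally. -/
def FixedPt {P : Over S} (x : P ⟶ X) : Prop :=
  ∀ (Y : Over S) (q : Y ⟶ P) (g : Y ⟶ G), lift g (q ≫ x) ≫ a.act = q ≫ x

variable {a}

theorem FixedPt.comp {P P' : Over S} {x : P ⟶ X} (h : FixedPt a x) (l : P' ⟶ P) : FixedPt a (l ≫ x) :=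
  fun Y q g => by rw [← Category.assoc]; exact h Y (q ≫ l) g

theorem FixedPt.of_covers {P P' : Over S} {x : P ⟶ X} (l : P' ⟶ P) (hl : FpqcDescLib.Covers l.left)
    (h : FixedPt a (l ≫ x)) : FixedPt a x := by
  intro Y q g
  let Y' : Over S := Over.mk (pullback.fst q.left l.left ≫ Y.hom)
  let p : Y' ⟶ Y := Over.homMk (pullback.fst q.left l.left) rfl
  have hp : FpqcDescLib.Covers p.left :=
    hl.pullback q.left p.left (pullback.snd q.left l.left) (IsPullback.of_hasPullback q.left l.left)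
  haveI := hp.over_epi
  let q' : Y' ⟶ P' := Over.homMk (pullback.snd q.left l.left) (by
    show pullback.snd q.left l.left ≫ P'.hom = pullback.fst q.left l.left ≫ Y.hom
    rw [← Over.w l, ← Category.assoc, ← pullback.condition, Category.assoc, Over.w q])
  have hq : q' ≫ l = p ≫ q := Over.OverMorphism.ext pullback.condition.symm
  rw [← cancel_epi p, ← Category.assoc, comp_lift, ← Category.assoc p q x, ← hq, Category.assoc]
  exact h Y' q' (p ≫ g)

section Chars

variable {R : Type u} [CommRing R] {β : Spec (CommRingCat.of R) ⟶ S} {M : Type} [AddCommGroup M]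
  (χ : ∀ (A : Type u) [CommRing A] [Algebra R A], (CoordM.{u} M →+* A) → (sp β A ⟶ G))
  (hbij : ∀ (A : Type u) [CommRing A] [Algebra R A], Function.Bijective (χ A))
include hbij

/-- A point with values in an algebra is fixed if the characters over all larger algebras fix it. -/
theorem fixedPt_of_chars {T : Type u} [CommRing T] [Algebra R T] (x : sp β T ⟶ X)
    (h : ∀ (B : Type u) [CommRing B] [Algebra R B] (φ : T →ₐ[R] B) (f : CoordM.{u} M →+* B),
      lift (χ B f) (spm β φ ≫ x) ≫ a.act = spm β φ ≫ x) : FixedPt a x := by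
  intro Y q g
  refine Over.OverMorphism.ext (Scheme.Cover.hom_ext Y.left.affineCover _ _ fun i => ?_)
  obtain ⟨B, hB⟩ : ∃ B : CommRingCat.{u}, Y.left.affineCover.X i = Spec B := ⟨_, rfl⟩
  obtain ⟨io, hio⟩ : ∃ io : Spec B ⟶ Y.left, Y.left.affineCover.f i = eqToHom hB ≫ io :=
    ⟨eqToHom hB.symm ≫ Y.left.affineCover.f i, by simp⟩
  rw [hio, Category.assoc, Category.assoc]
  congr 1
  obtain ⟨τ, hτ⟩ : ∃ τ, Spec.map τ = io ≫ q.left := ⟨_, Spec.map_preimage _⟩
  letI : Algebra R B := (τ.hom.comp (algebraMap R T)).toAlgebra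
  let φ : T →ₐ[R] B := { τ.hom with commutes' := fun r => rfl }
  let t : sp β B ⟶ Y := Over.homMk io (by
    show io ≫ Y.hom = Spec.map (CommRingCat.ofHom (τ.hom.comp (algebraMap R T))) ≫ β
    rw [CommRingCat.ofHom_comp, Spec.map_comp, Category.assoc]
    show io ≫ Y.hom = Spec.map τ ≫ (sp β T).hom
    rw [hτ, Category.assoc, Over.w q])
  have hq : t ≫ q = spm β φ := Over.OverMorphism.ext (by
    show io ≫ q.left = Spec.map (CommRingCat.ofHom φ.toRingHom)
    rw [← hτ]
    rfl)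
  obtain ⟨f, hf⟩ := (hbij B).2 (t ≫ g)
  have h1 : t ≫ lift g (q ≫ x) ≫ a.act = t ≫ q ≫ x := by
    rw [← Category.assoc, comp_lift, ← Category.assoc t q x, hq, ← hf]
    exact h B φ f
  exact congrArg (fun m => Over.Hom.left m) h1

end Chars

variable (X)

/-- The tautological point with values in a local ring of `X`. -/
noncomputable abbrev stk (z : X.left) : Over.mk (X.left.fromSpecStalk z ≫ X.hom) ⟶ X :=
  Over.homMk (X.left.fromSpecStalk z) rfl

variable {X}

theorem fixedPt_of_forall_stalk {P : Over S} (x : P ⟶ X) (h : ∀ p : P.left, FixedPt a (stk X (x.left p))) :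
    FixedPt a x := by
  intro Y q g
  refine Over.OverMorphism.ext (SBAut.hom_ext_fromSpecStalk _ _ fun y => ?_)
  let T : Over S := Over.mk (Y.left.fromSpecStalk y ≫ Y.hom)
  let t : T ⟶ Y := Over.homMk (Y.left.fromSpecStalk y) rfl
  let l : T ⟶ Over.mk (X.left.fromSpecStalk ((q ≫ x).left y) ≫ X.hom) :=
    Over.homMk (Spec.map ((q ≫ x).left.stalkMap y)) (by
      show Spec.map _ ≫ X.left.fromSpecStalk _ ≫ X.hom = Y.left.fromSpecStalk y ≫ Y.hom
      rw [Scheme.SpecMap_stalkMap_fromSpecStalk_assoc, Over.w (q ≫ x)])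
  have hl : l ≫ stk X ((q ≫ x).left y) = t ≫ q ≫ x :=
    Over.OverMorphism.ext (Scheme.SpecMap_stalkMap_fromSpecStalk _)
  have h1 := (h (q.left y)) T l (t ≫ g)
  have h2 : t ≫ lift g (q ≫ x) ≫ a.act = t ≫ q ≫ x := by
    rw [← Category.assoc, comp_lift, ← hl]
    exact h1
  exact congrArg (fun m => Over.Hom.left m) h2

theorem covers_stalkMap {Y Z : Scheme.{u}} (f : Y ⟶ Z) [Flat f] (y : Y) :
    FpqcDescLib.Covers (Spec.map (f.stalkMap y)) := by
  letI := (f.stalkMap y).hom.toAlgebra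
  haveI : Module.Flat (Z.presheaf.stalk (f y)) (Y.presheaf.stalk y) := Flat.stalkMap f y
  haveI : IsLocalHom (algebraMap (Z.presheaf.stalk (f y)) (Y.presheaf.stalk y)) := f.toLRSHom.prop y
  have hff : Module.FaithfullyFlat (Z.presheaf.stalk (f y)) (Y.presheaf.stalk y) :=
    Module.FaithfullyFlat.of_flat_of_isLocalHom
  haveI : Flat (Spec.map (f.stalkMap y)) := by
    rw [HasRingHomProperty.Spec_iff (P := @Flat)]
    exact Flat.stalkMap f y
  haveI : Surjective (Spec.map (f.stalkMap y)) := ⟨PrimeSpectrum.comap_surjective_of_faithfullyFlat⟩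
  haveI : IsAffineHom (Spec.map (f.stalkMap y)) := isAffineHom_of_isAffine _
  exact FpqcDescLib.covers_of_isCovering (FpqcDescLib.isCovering_of_quasiCompact _)

theorem fixedPt_of_algebra {R : Type u} [CommRing R] {β : Spec (CommRingCat.of R) ⟶ S} (x : sp β R ⟶ X)
    {A : CommRingCat.{u}} [Algebra R A] {Z : Scheme.{u}} (pr : Z ⟶ X.left) (i : Spec A ⟶ Z)
    (hi : Spec.map (CommRingCat.ofHom (algebraMap R A)) ≫ x.left = i ≫ pr)
    (h : FixedPt a (spm β (Algebra.ofId R A) ≫ x)) :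
    FixedPt a (Over.homMk (i ≫ pr) (Category.assoc _ _ _) : Over.mk (i ≫ pr ≫ X.hom) ⟶ X) := by
  let l : Over.mk (i ≫ pr ≫ X.hom) ⟶ sp β A := Over.homMk (𝟙 _) (by
    show 𝟙 _ ≫ Spec.map (CommRingCat.ofHom (algebraMap R A)) ≫ β = i ≫ pr ≫ X.hom
    have hx : x.left ≫ X.hom = β := by
      rw [Over.w x]
      show Spec.map (CommRingCat.ofHom (algebraMap R R)) ≫ β = β
      rw [show Spec.map (CommRingCat.ofHom (algebraMap R R)) = 𝟙 _ from Spec.map_id _, Category.id_comp]
    rw [Category.id_comp, ← hx, ← Category.assoc, hi, Category.assoc])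
  have he : l ≫ spm β (Algebra.ofId R A) ≫ x = Over.homMk (i ≫ pr) (Category.assoc _ _ _) :=
    Over.OverMorphism.ext ((Category.id_comp _).trans hi)
  rw [← he]
  exact h.comp l

/-- The fixed locus. -/
theorem exists_locus [LocallyOfFiniteType X.hom] (hG : SGA3x.IsMultTypeFT G) :
    ∃ E : X.left.Opens, FixedPt a (Over.homMk E.ι rfl : Over.mk (E.ι ≫ X.hom) ⟶ X) ∧
      ∀ z : X.left, (∀ (Y : Over S) (_ : Y ⟶ Over.mk (S.fromSpecResidueField (X.hom z))) (g : Y ⟶ G) (x : Y ⟶ X),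
        lift g x ≫ a.act = x) → z ∈ E := by
  obtain ⟨S', f, hflat, hsurj, hqc, hloc⟩ := hG
  haveI := hflat; haveI := hsurj
  have hcf : FpqcDescLib.Covers f :=
    FpqcDescLib.covers_of_hcov f ⟨S', f, 𝟙 _, Category.id_comp _, hsurj, hflat, hqc⟩
  obtain ⟨Z, r, hr⟩ := hcf.pullback X.hom (pullback.fst X.hom f) (pullback.snd X.hom f)
    (IsPullback.of_hasPullback X.hom f)
  obtain ⟨hfl, hcov⟩ := SubgroupEqLocus.flat_hcov_of_isCovering hr
  haveI := hfl
  let pr : Z ⟶ X.left := r ≫ pullback.fst X.hom f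
  haveI : Flat pr := hfl
  let g₀ : Z ⟶ S' := r ≫ pullback.snd X.hom f
  have hg₀ : pr ≫ X.hom = g₀ ≫ f := by simp only [pr, g₀, Category.assoc, pullback.condition]
  let E : Set X.left := {z | FixedPt a (stk X z)}
  -- descent from the stalks of the covering
  have hdesc : ∀ ζ : Z, FixedPt a (Over.homMk (Z.fromSpecStalk ζ ≫ pr) (Category.assoc _ _ _) :
      Over.mk (Z.fromSpecStalk ζ ≫ pr ≫ X.hom) ⟶ X) → pr ζ ∈ E := by
    intro ζ hζ
    let l : Over.mk (Z.fromSpecStalk ζ ≫ pr ≫ X.hom) ⟶ Over.mk (X.left.fromSpecStalk (pr ζ) ≫ X.hom) :=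
      Over.homMk (Spec.map (pr.stalkMap ζ)) (by
        show Spec.map _ ≫ X.left.fromSpecStalk _ ≫ X.hom = Z.fromSpecStalk ζ ≫ pr ≫ X.hom
        rw [Scheme.SpecMap_stalkMap_fromSpecStalk_assoc])
    refine FixedPt.of_covers l (covers_stalkMap pr ζ) ?_
    rwa [show l ≫ stk X (pr ζ) = Over.homMk (Z.fromSpecStalk ζ ≫ pr) (Category.assoc _ _ _) from
      Over.OverMorphism.ext (Scheme.SpecMap_stalkMap_fromSpecStalk _)]
  -- the covering near a point
  have hopen : IsOpen (pr ⁻¹' E) := by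
    rw [isOpen_iff_forall_mem_open]
    intro ζ hζ
    obtain ⟨U, hzU, M, iM, hfg, ⟨e⟩⟩ := hloc (g₀ ζ)
    obtain ⟨W, hW, hζW, hWle⟩ := exists_isAffineOpen_mem_and_subset (show ζ ∈ g₀ ⁻¹ᵁ U from hzU)
    have hrU : Set.range (hW.fromSpec ≫ g₀) ⊆ Set.range U.ι := by
      rintro _ ⟨q, rfl⟩
      rw [Scheme.Opens.range_ι]
      exact hWle (show hW.fromSpec q ∈ W by rw [← SetLike.mem_coe, ← hW.range_fromSpec]; exact ⟨q, rfl⟩)
    let R := Γ(Z, W)
    let β : Spec (CommRingCat.of R) ⟶ S := hW.fromSpec ≫ pr ≫ X.hom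
    obtain ⟨χ, hnat, hmul, hbij⟩ := SubgroupFactor.exists_char (β := β) (U.ι ≫ f) e
      (IsOpenImmersion.lift U.ι (hW.fromSpec ≫ g₀) hrU) (by
        rw [IsOpenImmersion.lift_fac_assoc, Category.assoc, ← hg₀])
    let x : sp β R ⟶ X := Over.homMk (hW.fromSpec ≫ pr) (by
      show (hW.fromSpec ≫ pr) ≫ X.hom = Spec.map (CommRingCat.ofHom (algebraMap R R)) ≫ hW.fromSpec ≫ pr ≫ X.hom
      rw [show Spec.map (CommRingCat.ofHom (algebraMap R R)) = 𝟙 _ from Spec.map_id _, Category.assoc]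
      exact (Category.id_comp _).symm)
    let p : Ideal R := (hW.primeIdealOf ⟨ζ, hζW⟩).asIdeal
    haveI : p.IsPrime := (hW.primeIdealOf ⟨ζ, hζW⟩).isPrime
    obtain ⟨s, hs, hfix⟩ := SpreadFixed.exists_fixed_away a χ hnat x p fun T _ _ hT f' => by
      letI : Algebra R (Z.presheaf.stalk ζ) := (Z.presheaf.germ W ζ hζW).hom.toAlgebra
      haveI : IsLocalization.AtPrime (Z.presheaf.stalk ζ) p := hW.isLocalization_stalk ⟨ζ, hζW⟩
      let ρ : Z.presheaf.stalk ζ →ₐ[R] T := IsLocalization.liftAlgHom (M := p.primeCompl) (f := Algebra.ofId R T)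
        fun y => hT y.1 y.2
      let q : sp β T ⟶ Over.mk (X.left.fromSpecStalk (pr ζ) ≫ X.hom) :=
        Over.homMk (Spec.map (CommRingCat.ofHom ρ.toRingHom) ≫ Spec.map (pr.stalkMap ζ)) (by
          show (_ ≫ _) ≫ X.left.fromSpecStalk _ ≫ X.hom = Spec.map _ ≫ hW.fromSpec ≫ pr ≫ X.hom
          rw [Category.assoc, Scheme.SpecMap_stalkMap_fromSpecStalk_assoc, ← hW.fromSpecStalk_eq_fromSpecStalk hζW,
            IsAffineOpen.fromSpecStalk, Category.assoc, ← Spec.map_comp_assoc]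
          congr 2
          exact CommRingCat.hom_ext (RingHom.ext fun v => ρ.commutes v))
      have hq : q ≫ stk X (pr ζ) = spm β (Algebra.ofId R T) ≫ x := Over.OverMorphism.ext (by
        show (_ ≫ _) ≫ X.left.fromSpecStalk _ = Spec.map _ ≫ hW.fromSpec ≫ pr
        rw [Category.assoc, Scheme.SpecMap_stalkMap_fromSpecStalk, ← hW.fromSpecStalk_eq_fromSpecStalk hζW,
          IsAffineOpen.fromSpecStalk, Category.assoc, ← Spec.map_comp_assoc]
        congr 2
        exact CommRingCat.hom_ext (RingHom.ext fun v => ρ.commutes v))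
      rw [← hq]
      exact hζ (sp β T) q (χ T f')
    refine ⟨(Z.basicOpen s : Z.Opens), fun ζ' hζ' => ?_, (Z.basicOpen s).isOpen, ?_⟩
    · have hζ'W : ζ' ∈ W := Z.basicOpen_le s hζ'
      letI : Algebra R (Z.presheaf.stalk ζ') := (Z.presheaf.germ W ζ' hζ'W).hom.toAlgebra
      have hu : IsUnit (algebraMap R (Z.presheaf.stalk ζ') s) := (Z.mem_basicOpen s ζ' hζ'W).mp hζ'
      have hxx : FixedPt a (spm β (Algebra.ofId R (Z.presheaf.stalk ζ')) ≫ x) :=
        fixedPt_of_chars χ hbij _ fun B _ _ φ f' => by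
          rw [← Category.assoc, spm_comp, show φ.comp (Algebra.ofId R (Z.presheaf.stalk ζ')) = Algebra.ofId R B from
            Subsingleton.elim _ _]
          exact hfix B (by rw [← φ.commutes]; exact hu.map φ) f'
      refine hdesc ζ' ?_
      exact fixedPt_of_algebra x pr (Z.fromSpecStalk ζ') (by
        rw [← hW.fromSpecStalk_eq_fromSpecStalk hζ'W, IsAffineOpen.fromSpecStalk, Category.assoc]
        rfl) hxx
    · rw [SetLike.mem_coe, Z.mem_basicOpen s ζ hζW]
      letI : Algebra R (Z.presheaf.stalk ζ) := (Z.presheaf.germ W ζ hζW).hom.toAlgebra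
      haveI : IsLocalization.AtPrime (Z.presheaf.stalk ζ) p := hW.isLocalization_stalk ⟨ζ, hζW⟩
      exact IsLocalization.map_units (Z.presheaf.stalk ζ) (⟨s, hs⟩ : p.primeCompl)
  have hE : IsOpen E := HomUnitLocus.isOpen_of_preimage pr hcov hopen
  refine ⟨⟨E, hE⟩, fixedPt_of_forall_stalk _ fun p => p.2, fun z hz => ?_⟩
  obtain ⟨V, hV, hzV, -⟩ := exists_isAffineOpen_mem_and_subset (show z ∈ (⊤ : X.left.Opens) from trivial)
  obtain ⟨ζ, hζ⟩ : ∃ ζ, pr ζ = z := by
    obtain ⟨W, -, hW⟩ := hcov V hV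
    have hz' : z ∈ (V : Set X.left) := hzV
    rw [← hW] at hz'
    obtain ⟨w, -, hw⟩ := hz'
    exact ⟨w, hw⟩
  rw [← hζ]
  show pr ζ ∈ E
  refine hdesc ζ ?_
  obtain ⟨U, hzU, M, iM, hfg, ⟨e⟩⟩ := hloc (g₀ ζ)
  haveI := hfg
  have hrU : Set.range (Z.fromSpecStalk ζ ≫ g₀) ⊆ Set.range U.ι := by
    rintro _ ⟨q, rfl⟩
    have hr : Z.fromSpecStalk ζ q ⤳ ζ := by
      have : Z.fromSpecStalk ζ q ∈ Set.range (Z.fromSpecStalk ζ) := ⟨q, rfl⟩
      rwa [Scheme.range_fromSpecStalk] at this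
    rw [Scheme.Opens.range_ι]
    exact (hr.map g₀.base.hom.continuous).mem_open U.isOpen hzU
  let R : Type u := Z.presheaf.stalk ζ
  haveI : IsLocalRing R := inferInstanceAs (IsLocalRing (Z.presheaf.stalk ζ))
  let β : Spec (CommRingCat.of R) ⟶ S := Z.fromSpecStalk ζ ≫ pr ≫ X.hom
  obtain ⟨χ, hnat, hmul, hbij⟩ := SubgroupFactor.exists_char (β := β) (U.ι ≫ f) e
    (IsOpenImmersion.lift U.ι (Z.fromSpecStalk ζ ≫ g₀) hrU) (by
      rw [IsOpenImmersion.lift_fac_assoc, Category.assoc, ← hg₀])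
  have hid : Spec.map (CommRingCat.ofHom (algebraMap R R)) = 𝟙 _ := Spec.map_id _
  let x : sp β R ⟶ X := Over.homMk (Z.fromSpecStalk ζ ≫ pr) (by
    show (Z.fromSpecStalk ζ ≫ pr) ≫ X.hom = Spec.map (CommRingCat.ofHom (algebraMap R R)) ≫ β
    rw [hid, Category.id_comp, Category.assoc])
  haveI : (IsLocalRing.maximalIdeal R).IsMaximal := IsLocalRing.maximalIdeal.isMaximal R
  letI := Ideal.Quotient.field (IsLocalRing.maximalIdeal R)
  let K := R ⧸ IsLocalRing.maximalIdeal R
  let bK : Spec (CommRingCat.of K) ⟶ S := Spec.map (CommRingCat.ofHom (Ideal.Quotient.mk _)) ≫ β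
  have hbK : bK (IsLocalRing.closedPoint K) = X.hom z := by
    show (Spec.map _ ≫ Z.fromSpecStalk ζ ≫ pr ≫ X.hom) _ = _
    rw [Scheme.Hom.comp_apply, Scheme.Hom.comp_apply, Scheme.Hom.comp_apply, ← hζ]
    refine congrArg (fun q => X.hom (pr q)) ((congrArg (Z.fromSpecStalk ζ) (PrimeSpectrum.ext ?_)).trans
      (Scheme.fromSpecStalk_closedPoint (X := Z) (x := ζ)))
    show Ideal.comap (Ideal.Quotient.mk (IsLocalRing.maximalIdeal R)) (IsLocalRing.maximalIdeal K) =
      IsLocalRing.maximalIdeal R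
    rw [IsLocalRing.maximalIdeal_eq_bot, ← RingHom.ker_eq_comap_bot, Ideal.mk_ker]
  rw [← hbK] at hz
  have hfix : FixedPt a (spm β (Algebra.ofId R R) ≫ x) := fixedPt_of_chars χ hbij _ fun B _ _ φ f' => by
    rw [← Category.assoc, spm_comp, show φ.comp (Algebra.ofId R R) = Algebra.ofId R B from Subsingleton.elim _ _]
    refine ClosedFibreFixed.fixed_of_closedFibre a χ hnat hmul (fun T _ _ hT f'' z' => ?_) x B f'
    refine hz _ (Over.homMk (Spec.map (CommRingCat.ofHom (Ideal.Quotient.lift _ (algebraMap R T) hT)) ≫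
      Spec.map (Scheme.descResidueField (Scheme.stalkClosedPointTo bK))) ?_) _ _
    show (_ ≫ _) ≫ S.fromSpecResidueField _ = Spec.map (CommRingCat.ofHom (algebraMap R T)) ≫ β
    rw [Category.assoc, Scheme.descResidueField_stalkClosedPointTo_fromSpecResidueField]
    show _ ≫ Spec.map _ ≫ β = _
    rw [← Spec.map_comp_assoc, ← CommRingCat.ofHom_comp]
    rfl
  let l : Over.mk (Z.fromSpecStalk ζ ≫ pr ≫ X.hom) ⟶ sp β R := Over.homMk (𝟙 _) (by
    show 𝟙 _ ≫ Spec.map (CommRingCat.ofHom (algebraMap R R)) ≫ β = _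
    rw [hid, Category.id_comp, Category.id_comp]
    rfl)
  have he : l ≫ spm β (Algebra.ofId R R) ≫ x = Over.homMk (Z.fromSpecStalk ζ ≫ pr) (Category.assoc _ _ _) :=
    Over.OverMorphism.ext (by
      show 𝟙 _ ≫ Spec.map (CommRingCat.ofHom (algebraMap R R)) ≫ Z.fromSpecStalk ζ ≫ pr = _
      rw [hid, Category.id_comp, Category.id_comp]
      rfl)
  rw [← he]
  exact hfix.comp l

end Groth.Agent.GrpSchLib.FixedLocus
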