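import Groth.Agent.GrpSchLib.AdjointNbhd
import Groth.Agent.GrpSchLib.MonoSubgroup
import Mathlib.Algebra.CharP.Frobenius
import Mathlib.AlgebraicGeometry.Morphisms.ClosedImmersion
import Mathlib.AlgebraicGeometry.Morphisms.FiniteType

/-! The kernels of the powers of Frobenius, as neighbourhoods of the unit. -/

universe u

open CategoryTheory Limits AlgebraicGeometry MonoidalCategory CartesianMonoidalCategory MonObj GrpObj
open scoped TensorProduct

namespace Groth.Agent.GrpSchLib.FrobKernel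

open Kunneth LineGroups Adjoint

variable {k : Type u} [Field k]

/-- The `q`-th powers of the functions vanishing at `z` are zero. -/
def Frobby (q : ℕ) {R : Over (Spec (CommRingCat.of k))} (z : 𝟙_ (Over (Spec (CommRingCat.of k))) ⟶ R) : Prop :=
  ∀ x : Fn R, (x - algebraMap k _ (evPt z x)) ^ q = 0

theorem frobby_mono {q q' : ℕ} (h : q ≤ q') {R : Over (Spec (CommRingCat.of k))}
    {z : 𝟙_ (Over (Spec (CommRingCat.of k))) ⟶ R} (hz : Frobby q z) : Frobby q' z :=
  fun x => pow_eq_zero_of_le h (hz x)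

theorem subsingleton_of_frobby {q : ℕ} {R : Over (Spec (CommRingCat.of k))} [IsAffine R.left]
    {z : 𝟙_ (Over (Spec (CommRingCat.of k))) ⟶ R} (hz : Frobby q z) : Subsingleton R.left := by
  have hm : (RingHom.ker (evPt z)).IsMaximal :=
    RingHom.ker_isMaximal_of_surjective (evPt z) fun c => ⟨algebraMap k _ c, (evPt z).commutes c⟩
  haveI : Subsingleton (PrimeSpectrum (Fn R)) := ⟨fun P P' => by
    have h : ∀ P : PrimeSpectrum (Fn R), P.asIdeal = RingHom.ker (evPt z) := fun P => by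
      refine (hm.eq_of_le P.2.ne_top fun x hx => ?_).symm
      have h1 := hz x
      rw [RingHom.mem_ker.mp hx, map_zero, sub_zero] at h1
      exact P.2.mem_of_pow_mem q (h1 ▸ zero_mem _)
    exact PrimeSpectrum.ext ((h P).trans (h P').symm)⟩
  haveI : Subsingleton (Spec Γ(R.left, ⊤)) := inferInstanceAs (Subsingleton (PrimeSpectrum (Fn R)))
  exact ⟨fun a b => R.left.isoSpec.hom.homeomorph.injective (Subsingleton.elim _ _)⟩

variable (p : ℕ) [ExpChar k p]

theorem frobby_prod (m : ℕ) {K L : Over (Spec (CommRingCat.of k))} [IsAffine K.left] [IsAffine L.left]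
    {z : 𝟙_ (Over (Spec (CommRingCat.of k))) ⟶ K} {w : 𝟙_ (Over (Spec (CommRingCat.of k))) ⟶ L}
    (hz : Frobby (p ^ m) z) (hw : Frobby (p ^ m) w) : Frobby (p ^ m) (lift z w) := by
  let e : Fn (K ⊗ L) →ₐ[k] k := evPt (lift z w)
  haveI : Nontrivial (Fn (K ⊗ L)) := e.toRingHom.domain_nontrivial
  haveI : ExpChar (Fn (K ⊗ L)) p := expChar_of_injective_algebraMap (algebraMap k (Fn (K ⊗ L))).injective p
  intro x
  obtain ⟨t, rfl⟩ := (toProd_bijective K L).2 x
  induction t using TensorProduct.induction_on with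
  | zero => rw [map_zero, map_zero, map_zero, sub_zero, zero_pow (pow_ne_zero m (expChar_ne_zero k p))]
  | tmul a b =>
    have h1 : evPt (lift z w) (ev (fst K L) a) = evPt z a := by rw [evPt_comp, lift_fst]
    have h2 : evPt (lift z w) (ev (snd K L) b) = evPt w b := by rw [evPt_comp, lift_snd]
    have h3 : (ev (fst K L) a - algebraMap k _ (evPt z a)) ^ p ^ m = 0 := by
      rw [← AlgHom.commutes (ev (fst K L)), ← map_sub, ← map_pow, hz, map_zero]
    have h4 : (ev (snd K L) b - algebraMap k _ (evPt w b)) ^ p ^ m = 0 := by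
      rw [← AlgHom.commutes (ev (snd K L)), ← map_sub, ← map_pow, hw, map_zero]
    rw [toProd, Algebra.TensorProduct.lift_tmul, map_mul, h1, h2, map_mul,
      show ev (fst K L) a * ev (snd K L) b - algebraMap k _ (evPt z a) * algebraMap k _ (evPt w b) =
        (ev (fst K L) a - algebraMap k _ (evPt z a)) * ev (snd K L) b +
        algebraMap k _ (evPt z a) * (ev (snd K L) b - algebraMap k _ (evPt w b)) by ring,
      add_pow_expChar_pow, mul_pow, mul_pow, h3, h4]
    simp
  | add s t hs ht =>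
    rw [map_add, map_add, map_add, add_sub_add_comm, add_pow_expChar_pow, hs, ht, add_zero]

/-- The kernel of a power of Frobenius: an affine subgroup with one point containing the infinitesimal
neighbourhoods of smaller order. -/
theorem exists_kernel (m : ℕ) (G : Over (Spec (CommRingCat.of k))) [GrpObj G] [LocallyOfFiniteType G.hom]
    (D : Nbhds G η[G]) :
    ∃ (K : Over (Spec (CommRingCat.of k))) (_ : GrpObj K) (κ : K ⟶ G), IsMonHom κ ∧ Mono κ ∧ IsAffine K.left ∧
      LocallyOfFiniteType K.hom ∧ Subsingleton K.left ∧ Frobby (p ^ m) η[K] ∧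
      (∀ (R : Over (Spec (CommRingCat.of k))) [IsAffine R.left] (z : 𝟙_ (Over (Spec (CommRingCat.of k))) ⟶ R),
        Frobby (p ^ m) z → ∀ f : R ⟶ G, z ≫ f = η[G] → ∃ g : R ⟶ K, g ≫ κ = f) ∧
      ∀ n, n + 1 ≤ p ^ m → ∃ g : D.N n ⟶ K, g ≫ κ = D.j n ≫ D.uι := by
  classical
  have hq : p ^ m ≠ 0 := pow_ne_zero m (expChar_ne_zero k p)
  let J : Ideal (Fn D.U) := Ideal.span ((fun a => a ^ p ^ m) '' (RingHom.ker (evPt D.u₀) : Set (Fn D.U)))
  have hJ : J ≤ RingHom.ker (evPt D.u₀) := Ideal.span_le.mpr (by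
    rintro _ ⟨a, ha, rfl⟩
    exact Ideal.pow_mem_of_mem _ ha _ (Nat.pos_of_ne_zero hq))
  let K : Over (Spec (CommRingCat.of k)) := Over.mk (Spec.map (CommRingCat.ofHom (algebraMap k (Fn D.U ⧸ J))))
  haveI : IsAffine K.left := isAffine_Spec _
  obtain ⟨i, hi⟩ := exists_hom_ev (X := D.U) (T := K)
    ((spEquiv (k := k) (Fn D.U ⧸ J)).toAlgHom.comp (Ideal.Quotient.mkₐ k J))
  have his : Function.Surjective (ev i) := by
    rw [hi]
    exact (spEquiv (k := k) _).surjective.comp Ideal.Quotient.mk_surjective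
  haveI : IsClosedImmersion i.left := IsClosedImmersion.of_surjective_of_isAffine _ his
  let δ : (Fn D.U ⧸ J) →ₐ[k] Fn (𝟙_ (Over (Spec (CommRingCat.of k)))) :=
    Ideal.Quotient.liftₐ _ (ev D.u₀) fun a ha => by
      apply (ConcreteCategory.bijective_of_isIso (Scheme.ΓSpecIso (CommRingCat.of k)).hom).1
      exact (RingHom.mem_ker.mp (hJ ha)).trans (map_zero _).symm
  obtain ⟨z, hz⟩ := exists_hom_ev (X := K) (δ.comp (spEquiv (k := k) (Fn D.U ⧸ J)).symm.toAlgHom)
  have hzi : z ≫ i = D.u₀ := ext_ev (AlgHom.ext fun a => by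
    rw [← ev_ev, hi, hz]
    simp only [AlgHom.comp_apply, AlgEquiv.coe_toAlgHom, AlgEquiv.symm_apply_apply, Ideal.Quotient.mkₐ_eq_mk, δ]
    exact Ideal.Quotient.lift_mk _ _ _)
  have hK : Frobby (p ^ m) z := fun x => by
    obtain ⟨a, rfl⟩ := his x
    rw [evPt_comp, hzi, ← AlgHom.commutes (ev i), ← map_sub, ← map_pow, hi]
    show spEquiv (k := k) (Fn D.U ⧸ J) (Ideal.Quotient.mk J ((a - algebraMap k _ (evPt D.u₀ a)) ^ p ^ m)) = 0
    rw [Ideal.Quotient.eq_zero_iff_mem.mpr (Ideal.subset_span (Set.mem_image_of_mem _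
      (show a - algebraMap k _ (evPt D.u₀ a) ∈ RingHom.ker (evPt D.u₀) by simp [RingHom.mem_ker]))), map_zero]
  let κ : K ⟶ G := i ≫ D.uι
  haveI : Mono κ.left := by rw [Over.comp_left]; infer_instance
  haveI : Mono κ := (Over.forget _).mono_of_mono_map (inferInstanceAs (Mono κ.left))
  haveI : LocallyOfFiniteType K.hom := by rw [← Over.w κ, Over.comp_left]; infer_instance
  have hzι : z ≫ κ = η[G] := by rw [← D.u₀_fac, ← hzi, Category.assoc]
  have univ : ∀ (R : Over (Spec (CommRingCat.of k))) [IsAffine R.left] (z : 𝟙_ (Over (Spec (CommRingCat.of k))) ⟶ R),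
        Frobby (p ^ m) z → ∀ f : R ⟶ G, z ≫ f = η[G] → ∃ g : R ⟶ K, g ≫ κ = f := by
    intro R _ y hy f hf
    haveI := subsingleton_of_frobby hy
    let pt : ↥(Spec (CommRingCat.of k)) := IsLocalRing.closedPoint k
    have hr : Set.range f.left ⊆ Set.range D.uι.left := by
      rintro _ ⟨r, rfl⟩
      refine ⟨D.u₀.left pt, ?_⟩
      rw [Subsingleton.elim r (y.left pt), ← Scheme.Hom.comp_apply, ← Scheme.Hom.comp_apply, ← Over.comp_left,
        ← Over.comp_left, hf, D.u₀_fac]
    let g₀ : R ⟶ D.U := Over.homMk (IsOpenImmersion.lift D.uι.left f.left hr) (by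
      rw [← Over.w D.uι, IsOpenImmersion.lift_fac_assoc, Over.w f])
    have hg₀ : g₀ ≫ D.uι = f := Over.OverMorphism.ext (IsOpenImmersion.lift_fac _ _ _)
    haveI : Mono D.uι := (Over.forget _).mono_of_mono_map (inferInstanceAs (Mono D.uι.left))
    have hy₀ : y ≫ g₀ = D.u₀ := by rw [← cancel_mono D.uι, Category.assoc, hg₀, hf, D.u₀_fac]
    let χ : (Fn D.U ⧸ J) →ₐ[k] Fn R := Ideal.Quotient.liftₐ _ (ev g₀) fun a ha => by
      have : J ≤ RingHom.ker (ev g₀) := Ideal.span_le.mpr (by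
        rintro _ ⟨b, hb, rfl⟩
        have h1 := hy (ev g₀ b)
        rw [evPt_comp, hy₀, RingHom.mem_ker.mp hb, map_zero, sub_zero] at h1
        rw [SetLike.mem_coe, RingHom.mem_ker, map_pow]
        exact h1)
      exact this ha
    obtain ⟨g, hg⟩ := exists_hom_ev (X := K) (χ.comp (spEquiv (k := k) (Fn D.U ⧸ J)).symm.toAlgHom)
    refine ⟨g, ?_⟩
    rw [← hg₀, ← Category.assoc]
    congr 1
    refine ext_ev (AlgHom.ext fun a => ?_)
    rw [← ev_ev, hi, hg]
    simp only [AlgHom.comp_apply, AlgEquiv.coe_toAlgHom, AlgEquiv.symm_apply_apply, Ideal.Quotient.mkₐ_eq_mk, χ]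
    exact Ideal.Quotient.lift_mk _ _ _
  haveI : IsAffine (K ⊗ K).left := inferInstanceAs (IsAffine (pullback K.hom K.hom))
  obtain ⟨μ', hμ⟩ := univ (K ⊗ K) (lift z z) (frobby_prod p m hK hK) ((fst K K ≫ κ) * (snd K K ≫ κ)) (by
    rw [MonObj.comp_mul, lift_fst_assoc, lift_snd_assoc, hzι, MonObj.one_eq_one, _root_.mul_one])
  obtain ⟨κ', hι⟩ := univ K z hK κ⁻¹ (by
    rw [GrpObj.comp_inv, hzι, MonObj.one_eq_one, _root_.inv_one])
  obtain ⟨str, hs⟩ := exists_grpObj_of_mono κ z hzι μ' hμ κ' hι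
  refine ⟨K, str, κ, hs, inferInstance, inferInstance, inferInstance, subsingleton_of_frobby hK, ?_, univ, ?_⟩
  · letI := str
    haveI := hs
    have he : η[K] = z := by rw [← cancel_mono κ, IsMonHom.one_hom κ, hzι]
    rw [he]
    exact hK
  · intro n hn
    refine univ (D.N n) (D.q n) (fun x => ?_) _ (by rw [← Category.assoc, D.q_fac, D.u₀_fac])
    obtain ⟨a, rfl⟩ := D.surj n x
    rw [evPt_comp, D.q_fac, ← AlgHom.commutes (ev (D.j n)), ← map_sub, ← map_pow]
    have hmem : (a - algebraMap k _ (evPt D.u₀ a)) ^ p ^ m ∈ RingHom.ker (ev (D.j n)) := by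
      rw [D.ker n]
      exact Ideal.pow_le_pow_right hn (Ideal.pow_mem_pow (by simp [RingHom.mem_ker]) _)
    exact hmem

end Groth.Agent.GrpSchLib.FrobKernel
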