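import Groth.Agent.GrpSchLib.CoincidenceBase
import Groth.Prelude.Def_Red
import Mathlib.AlgebraicGeometry.Morphisms.Flat
import Mathlib.AlgebraicGeometry.Morphisms.ClosedImmersion
import Mathlib.RingTheory.Flat.Basic

/-! On a flat scheme over a domain the generic fibre is schematically dense. -/

open CategoryTheory AlgebraicGeometry Limits TensorProduct

namespace Groth.Agent.GrpSchLib

universe u

theorem affine_ext {A : Type u} [CommRing A] {K : Type u} [CommRing K] [Algebra A K]
    (hinj : Function.Injective (algebraMap A K))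
    {W Y : Over (Spec (CommRingCat.of A))} [IsSeparated Y.hom] (a b : W ⟶ Y)
    (h : pullback.fst W.hom (Spec.map (CommRingCat.ofHom (algebraMap A K))) ≫ a.left =
      pullback.fst W.hom (Spec.map (CommRingCat.ofHom (algebraMap A K))) ≫ b.left)
    (B : Type u) [CommRing B] [Algebra A B] [Module.Flat A B] (q : Spec (CommRingCat.of B) ⟶ W.left)
    (hq : q ≫ W.hom = Spec.map (CommRingCat.ofHom (algebraMap A B))) : q ≫ a.left = q ≫ b.left := by
  have hinc : Function.Injective (Algebra.TensorProduct.includeLeftRingHom : B →+* B ⊗[A] K) := by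
    have h1 := Module.Flat.lTensor_preserves_injective_linearMap (M := B) (Algebra.linearMap A K) hinj
    intro x y hxy
    have : (Algebra.linearMap A K).lTensor B ((TensorProduct.rid A B).symm x) =
        (Algebra.linearMap A K).lTensor B ((TensorProduct.rid A B).symm y) := by
      simpa using hxy
    exact (TensorProduct.rid A B).symm.injective (h1 this)
  let r : Spec (CommRingCat.of (B ⊗[A] K)) ⟶ Spec (CommRingCat.of B) :=
    Spec.map (CommRingCat.ofHom Algebra.TensorProduct.includeLeftRingHom)
  have hr : (r ≫ q) ≫ a.left = (r ≫ q) ≫ b.left := by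
    let l : Spec (CommRingCat.of (B ⊗[A] K)) ⟶ pullback W.hom (Spec.map (CommRingCat.ofHom (algebraMap A K))) :=
      pullback.lift (r ≫ q)
        (Spec.map (CommRingCat.ofHom (Algebra.TensorProduct.includeRight : K →ₐ[A] B ⊗[A] K).toRingHom)) (by
          simp only [r, Category.assoc]
          rw [hq, ← Spec.map_comp, ← Spec.map_comp]
          congr 1
          ext x
          exact ((Algebra.TensorProduct.includeRight : K →ₐ[A] B ⊗[A] K).commutes x).symm)
    have := congrArg (fun t => l ≫ t) h
    simp only [l, pullback.lift_fst_assoc] at this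
    exact this
  have hw : (q ≫ a.left) ≫ Y.hom = (q ≫ b.left) ≫ Y.hom := by
    rw [Category.assoc, Category.assoc, Over.w a, Over.w b]
  have hi := exists_closed_equalizer Y.hom _ _ hw
  obtain ⟨I, e, he⟩ := IsClosedImmersion.Spec_iff.mp hi
  obtain ⟨m, hm⟩ := (factors_equalizer_iff Y.hom _ _ hw r).mpr (by simpa only [Category.assoc] using hr)
  rw [he, ← Category.assoc] at hm
  obtain ⟨ψ, hψ⟩ : ∃ ψ, m ≫ e.hom = Spec.map ψ := ⟨_, (Spec.map_preimage _).symm⟩
  rw [hψ, ← Spec.map_comp] at hm
  have hm' := congrArg CommRingCat.Hom.hom (Spec.map_injective hm)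
  have hI : I = ⊥ := by
    rw [eq_bot_iff]
    intro x hx
    apply hinc
    have := RingHom.congr_fun hm' x
    simp only [CommRingCat.hom_comp, RingHom.comp_apply, CommRingCat.hom_ofHom,
      Ideal.Quotient.eq_zero_iff_mem.mpr hx, map_zero] at this
    rw [map_zero]
    exact this.symm
  have hiso : IsIso (Spec.map (CommRingCat.ofHom (Ideal.Quotient.mk I))) := by
    subst hI
    have : IsIso (CommRingCat.ofHom (Ideal.Quotient.mk (⊥ : Ideal B))) :=
      (ConcreteCategory.isIso_iff_bijective _).mpr ⟨(RingEquiv.quotientBot _).symm.injective, Ideal.Quotient.mk_surjective⟩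
    infer_instance
  have hiso' : IsIso (pullback.fst (pullback.lift (q ≫ a.left) (q ≫ b.left) hw) (pullback.diagonal Y.hom)) := by
    rw [he]; infer_instance
  have := (factors_equalizer_iff Y.hom _ _ hw (𝟙 _)).mp ⟨_, IsIso.inv_hom_id _⟩
  simpa only [Category.id_comp] using this

theorem hom_ext_of_generic {A : Type u} [CommRing A] {K : Type u} [CommRing K] [Algebra A K]
    (hinj : Function.Injective (algebraMap A K))
    {W Y : Over (Spec (CommRingCat.of A))} [Flat W.hom] [IsSeparated Y.hom] (a b : W ⟶ Y)
    (h : pullback.fst W.hom (Spec.map (CommRingCat.ofHom (algebraMap A K))) ≫ a.left =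
      pullback.fst W.hom (Spec.map (CommRingCat.ofHom (algebraMap A K))) ≫ b.left) : a = b := by
  have key : ∀ (B : CommRingCat.{u}) (q : Spec B ⟶ W.left) [IsOpenImmersion q], q ≫ a.left = q ≫ b.left := by
    intro B q _
    obtain ⟨φ, hφ⟩ : ∃ φ : CommRingCat.of A ⟶ B, q ≫ W.hom = Spec.map φ := ⟨_, (Spec.map_preimage _).symm⟩
    have hfl : Flat (Spec.map φ) := by rw [← hφ]; infer_instance
    rw [HasRingHomProperty.Spec_iff (P := @Flat)] at hfl
    letI : Algebra A B := φ.hom.toAlgebra
    haveI : Module.Flat A B := hfl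
    exact affine_ext hinj a b h B q hφ
  refine Over.OverMorphism.ext (W.left.affineCover.hom_ext _ _ fun j => ?_)
  rw [← cancel_epi (W.left.affineCover.X j).isoSpec.inv, ← Category.assoc, ← Category.assoc]
  exact key _ _

end Groth.Agent.GrpSchLib
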