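import Groth.Agent.GrpSchLib.HeightOnePoint
import Mathlib.FieldTheory.IsAlgClosed.Basic
import Mathlib.FieldTheory.Separable
import Mathlib.RingTheory.Nilpotent.Defs

/-! Non-reduced finite Hopf algebras over algebraically closed fields have `p`-closed lines of derivations. -/

open TensorProduct WithConv Polynomial

namespace Groth.Agent.GrpSchLib

universe u v

variable {k : Type u} [Field k] {A : Type v} [CommRing A] [HopfAlgebra k A]

/-- The derivations at the counit, as a submodule of the dual. -/
def derivForms (k : Type u) [Field k] (A : Type v) [CommRing A] [HopfAlgebra k A] : Submodule k (CartDual.D k A) where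
  carrier := {y | ∀ a b, y.ofConv (a * b) = Coalgebra.counit (R := k) a * y.ofConv b + Coalgebra.counit (R := k) b * y.ofConv a}
  zero_mem' := fun a b => by simp
  add_mem' := fun {y z} hy hz a b => by simp [hy a b, hz a b]; ring
  smul_mem' := fun r y hy a b => by simp [hy a b]; ring

theorem isReduced_of_derivForms_eq_bot [IsAlgClosed k] [Module.Finite k A] (h : derivForms k A = ⊥) : IsReduced A := by
  classical
  let G := WithConv (A →ₐ[k] k)
  let m := RingHom.ker (Bialgebra.counitAlgHom k A)
  have hm : ∀ a, a ∈ m ↔ Coalgebra.counit (R := k) a = 0 := fun a => Iff.rfl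
  -- no tangent vectors: the augmentation ideal is idempotent
  have hmm : IsIdempotentElem m := by
    refine le_antisymm Ideal.mul_le_right fun x hx => ?_
    by_contra hne
    have hx' : x ∉ Submodule.span k {(1 : A)} ⊔ (m * m).restrictScalars k := by
      intro hmem
      obtain ⟨b, hb, c, hc, rfl⟩ := Submodule.mem_sup.mp hmem
      obtain ⟨r, rfl⟩ := Submodule.mem_span_singleton.mp hb
      replace hc : c ∈ m * m := hc
      have hc' := (hm c).mp (Ideal.mul_le_right (I := m) (J := m) hc)
      have h0 := (hm _).mp hx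
      rw [map_add, map_smul, Bialgebra.counit_one, hc', add_zero, smul_eq_mul, _root_.mul_one] at h0
      rw [h0, zero_smul, zero_add] at hne
      exact hne hc
    obtain ⟨φ, hφx, hφ⟩ := Submodule.exists_dual_map_eq_bot_of_notMem hx' inferInstance
    have hφ' : ∀ z ∈ Submodule.span k {(1 : A)} ⊔ (m * m).restrictScalars k, φ z = 0 := fun z hz => by
      have : φ z ∈ (⊥ : Submodule k k) := hφ ▸ ⟨z, hz, rfl⟩
      simpa using this
    have hy : toConv φ ∈ derivForms k A := by
      intro a b
      let ca := Coalgebra.counit (R := k) a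
      let cb := Coalgebra.counit (R := k) b
      have hmem : (a - ca • 1) * (b - cb • 1) ∈ m * m :=
        Ideal.mul_mem_mul ((hm _).mpr (by simp [ca])) ((hm _).mpr (by simp [cb]))
      have h := hφ' _ (Submodule.mem_sup_right hmem)
      rw [show (a - ca • (1 : A)) * (b - cb • 1) = a * b - ca • b - cb • a + (ca * cb) • 1 by
        simp only [Algebra.smul_def, map_mul]; ring] at h
      simp only [map_add, map_sub, map_smul, hφ' 1 (Submodule.mem_sup_left (Submodule.mem_span_singleton_self 1)),
        smul_eq_mul, mul_zero, add_zero] at h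
      show φ (a * b) = ca * φ b + cb * φ a
      linear_combination h
    rw [h, Submodule.mem_bot] at hy
    exact hφx (by
      have := congrArg (fun z : CartDual.D k A => z.ofConv x) hy
      simpa using this)
  haveI : IsNoetherianRing A := IsNoetherianRing.of_finite k A
  obtain ⟨e, he, hspan⟩ := (Ideal.isIdempotentElem_iff_of_fg m (IsNoetherian.noetherian m)).mp hmm
  -- translations
  let tr : G → (A →ₐ[k] A) := fun g =>
    (toConv (AlgHom.id k A) * toConv ((Algebra.ofId k A).comp g.ofConv)).ofConv
  have htr : ∀ (g h : G) a, h.ofConv (tr g a) = (h * g).ofConv a := by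
    intro g h a
    refine AlgHom.congr_fun (?_ : h.ofConv.comp (tr g) = (h * g).ofConv) a
    rw [AlgHom.comp_convMul_distrib]
    refine congrArg WithConv.ofConv (congrArg₂ (· * ·) (congrArg toConv (AlgHom.comp_id _)) ?_)
    exact WithConv.ofConv_injective (AlgHom.ext fun b => h.ofConv.commutes _)
  have htrtr : ∀ g h : G, (tr g).comp (tr h) = tr (g * h) := by
    intro g h
    show (tr g).comp (toConv (AlgHom.id k A) * toConv ((Algebra.ofId k A).comp h.ofConv)).ofConv = _
    rw [AlgHom.comp_convMul_distrib]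
    simp only [tr, WithConv.ofConv_toConv, AlgHom.comp_id, WithConv.toConv_ofConv, mul_assoc]
    refine congrArg WithConv.ofConv (congrArg (toConv (AlgHom.id k A) * ·) ?_)
    apply WithConv.ofConv_injective
    show (toConv ((Algebra.ofId k A).comp g.ofConv) * toConv ((tr g).comp ((Algebra.ofId k A).comp h.ofConv))).ofConv =
      (Algebra.ofId k A).comp (g * h).ofConv
    rw [AlgHom.comp_convMul_distrib]
    refine congrArg WithConv.ofConv (congrArg (toConv ((Algebra.ofId k A).comp g.ofConv) * ·) ?_)
    exact WithConv.ofConv_injective (AlgHom.ext fun b => (tr g).commutes _)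
  have htr1 : tr 1 = AlgHom.id k A := by
    simp only [tr]
    rw [show toConv ((Algebra.ofId k A).comp (1 : G).ofConv) = (1 : WithConv (A →ₐ[k] A)) from
      WithConv.ofConv_injective (AlgHom.ext fun b => (Algebra.ofId k A).commutes _), mul_one]
  have h1G : ∀ a, (1 : G).ofConv a = Coalgebra.counit (R := k) a := fun a => rfl
  -- every maximal ideal is generated by an idempotent
  have hmax : ∀ g : G, ∃ e' : A, IsIdempotentElem e' ∧ RingHom.ker g.ofConv = Ideal.span {e'} := by
    intro g
    refine ⟨tr g⁻¹ e, he.map (tr g⁻¹), le_antisymm (fun a ha => ?_) ?_⟩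
    · have : tr g a ∈ m := by
        rw [hm, ← h1G, htr, one_mul]; exact ha
      rw [hspan] at this
      obtain ⟨c, hc⟩ := Ideal.mem_span_singleton'.mp this
      have hback := AlgHom.congr_fun (htrtr g⁻¹ g) a
      rw [inv_mul_cancel, htr1, AlgHom.comp_apply, ← hc, map_mul] at hback
      exact Ideal.mem_span_singleton'.mpr ⟨_, hback⟩
    · rw [Ideal.span_le, Set.singleton_subset_iff, SetLike.mem_coe, RingHom.mem_ker, htr, mul_inv_cancel, h1G, ← hm]
      rw [hspan]; exact Ideal.mem_span_singleton_self e
  refine ⟨fun a ha => ?_⟩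
  by_contra hne
  let J : Ideal A := (⊥ : Ideal A).colon {a}
  have hJ : J ≠ ⊤ := fun hJ => hne (by
    have h1 : (1 : A) ∈ J := hJ ▸ Submodule.mem_top
    simpa [J, Submodule.mem_colon_singleton] using h1)
  obtain ⟨M, hM, hJM⟩ := J.exists_le_maximal hJ
  let q : A →ₐ[k] A ⧸ M := Ideal.Quotient.mkₐ k M
  haveI : IsDomain (A ⧸ M) := Ideal.Quotient.isDomain M
  haveI : Algebra.IsIntegral k (A ⧸ M) := Algebra.IsIntegral.of_finite k _
  let eM := AlgEquiv.ofBijective (Algebra.ofId k (A ⧸ M)) IsAlgClosed.algebraMap_bijective_of_isIntegral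
  let g : G := toConv ((eM.symm : (A ⧸ M) →ₐ[k] k).comp q)
  have hgM : ∀ b, g.ofConv b = 0 ↔ b ∈ M := fun b => by
    show eM.symm (q b) = 0 ↔ _
    rw [map_eq_zero_iff _ eM.symm.injective]
    exact Ideal.Quotient.eq_zero_iff_mem
  obtain ⟨e', he', hker⟩ := hmax g
  have ha' : a ∈ RingHom.ker g.ofConv := by
    rw [RingHom.mem_ker]
    exact (ha.map g.ofConv).eq_zero
  rw [hker, Ideal.mem_span_singleton'] at ha'
  obtain ⟨c, hc⟩ := ha'
  have hJe : (1 - e') ∈ J := by
    rw [Submodule.mem_colon_singleton, Submodule.mem_bot, smul_eq_mul, ← hc]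
    linear_combination -c * he'.eq
  have h1 := (hgM _).mpr (hJM hJe)
  have h2 : g.ofConv e' = 0 := by
    have : e' ∈ RingHom.ker g.ofConv := hker ▸ Ideal.mem_span_singleton_self e'
    exact this
  rw [map_sub, map_one, h2, sub_zero] at h1
  exact one_ne_zero h1

/-- A nonzero derivation at the counit with `v ^ p = v` or `v ^ p = 0`. -/
theorem exists_deriv_pow_eq [IsAlgClosed k] [Module.Finite k A] (p : ℕ) [Fact p.Prime] [CharP k p]
    (hA : ¬ IsReduced A) :
    ∃ v ∈ derivForms k A, v ≠ 0 ∧ (v ^ p = v ∨ v ^ p = 0) := by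
  classical
  have hp : p.Prime := Fact.out
  obtain ⟨y, hy, hy0⟩ : ∃ y ∈ derivForms k A, y ≠ 0 := by
    by_contra hcon
    push Not at hcon
    exact hA (isReduced_of_derivForms_eq_bot ((Submodule.eq_bot_iff _).mpr hcon))
  let D := Algebra.adjoin k ({y} : Set (CartDual.D k A))
  let : CommRing D := Algebra.adjoinCommRingOfComm k (by simp)
  haveI : CharP D p := by
    haveI : Nontrivial D := by
      refine ⟨⟨y, Algebra.subset_adjoin (Set.mem_singleton y)⟩, 0, fun h => hy0 (congrArg Subtype.val h)⟩
    exact charP_of_injective_algebraMap (algebraMap k D).injective p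
  let y' : D := ⟨y, Algebra.subset_adjoin (Set.mem_singleton y)⟩
  let F : ℕ → D := fun i => y' ^ p ^ i
  have hF : ∀ i, ((F i : D) : CartDual.D k A) ∈ derivForms k A := by
    intro i
    induction i with
    | zero => simpa [F, y'] using hy
    | succ i ih =>
      have : ((F (i + 1) : D) : CartDual.D k A) = ((F i : D) : CartDual.D k A) ^ p := by
        simp [F, pow_succ, pow_mul]
      rw [this]
      exact deriv_pow_char p ih
  suffices H : ∃ v : D, (v : CartDual.D k A) ∈ derivForms k A ∧ v ≠ 0 ∧ (v ^ p = v ∨ v ^ p = 0) by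
    obtain ⟨v, hv, hv0, hvp⟩ := H
    refine ⟨v, hv, fun h => hv0 (Subtype.ext h), ?_⟩
    rcases hvp with h | h
    · exact Or.inl ((SubmonoidClass.coe_pow v p).symm.trans (congrArg Subtype.val h))
    · exact Or.inr ((SubmonoidClass.coe_pow v p).symm.trans (congrArg Subtype.val h))
  have hsub : ∀ (n : ℕ) (a : ℕ → k), ((∑ i ∈ Finset.range n, a i • F i : D) : CartDual.D k A) ∈ derivForms k A := by
    intro n a
    rw [AddSubmonoidClass.coe_finsetSum]
    exact Submodule.sum_mem _ fun i _ => by
      rw [Subalgebra.coe_smul]; exact Submodule.smul_mem _ _ (hF i)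
  have hfrob : ∀ (n : ℕ) (a : ℕ → k), (∑ i ∈ Finset.range n, a i • F i) ^ p = ∑ i ∈ Finset.range n, a i ^ p • F (i + 1) := by
    intro n a
    rw [sum_pow_char]
    refine Finset.sum_congr rfl fun i _ => ?_
    rw [_root_.smul_pow, ← pow_mul, ← pow_succ]
  -- a minimal relation among the iterated powers
  have hindep : ∀ N : ℕ, (∀ j < N, ¬ ∃ c : ℕ → k, F j = ∑ i ∈ Finset.range j, c i • F i) →
      ∀ a : ℕ → k, ∑ i ∈ Finset.range N, a i • F i = 0 → ∀ i < N, a i = 0 := by
    intro N hN a ha i hi
    by_contra hai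
    let s := (Finset.range N).filter fun i => a i ≠ 0
    have hs : s.Nonempty := ⟨i, by simp [s, hi, hai]⟩
    let i₀ := s.max' hs
    obtain ⟨hi₀n, hi₀'⟩ := Finset.mem_filter.mp (s.max'_mem hs)
    have hi₀ : a i₀ ≠ 0 := hi₀'
    refine hN i₀ (Finset.mem_range.mp hi₀n) ⟨fun j => -(a i₀)⁻¹ * a j, ?_⟩
    have h2 : ∑ j ∈ Finset.range (i₀ + 1), a j • F j = 0 := by
      rw [← ha]
      refine Finset.sum_subset (Finset.range_subset_range.mpr (Finset.mem_range.mp hi₀n)) fun j hj hj' => ?_
      have : a j = 0 := by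
        by_contra h
        exact hj' (Finset.mem_range.mpr (Nat.lt_succ_of_le (s.le_max' j (Finset.mem_filter.mpr ⟨hj, h⟩))))
      rw [this, zero_smul]
    rw [Finset.sum_range_succ, add_comm, add_eq_zero_iff_eq_neg] at h2
    have h3 := congrArg ((a i₀)⁻¹ • ·) h2
    simp only [smul_smul, inv_mul_cancel₀ hi₀, one_smul, smul_neg, Finset.smul_sum] at h3
    rw [h3, ← Finset.sum_neg_distrib]
    exact Finset.sum_congr rfl fun j _ => by simp only [neg_smul, neg_mul]
  have hex : ∃ n, ∃ c : ℕ → k, F n = ∑ i ∈ Finset.range n, c i • F i := by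
    by_contra hcon
    have hli : LinearIndependent k (fun i : Fin (Module.finrank k D + 1) => F i) := by
      rw [Fintype.linearIndependent_iff]
      intro g hg i
      have h := hindep _ (fun j _ hj => hcon ⟨j, hj⟩) (fun j => if h : j < _ then g ⟨j, h⟩ else 0)
        (by rw [← Fin.sum_univ_eq_sum_range]; simpa [Fin.is_le] using hg) i i.2
      simpa [i.2] using h
    have := hli.fintype_card_le_finrank
    simp at this
  let n := Nat.find hex
  obtain ⟨c, hc⟩ : ∃ c : ℕ → k, F n = ∑ i ∈ Finset.range n, c i • F i := Nat.find_spec hex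
  have hn0 : n ≠ 0 := by
    intro h
    have h0 : F 0 = 0 := by rw [h] at hc; simpa using hc
    exact hy0 (by simpa [F, y'] using congrArg Subtype.val h0)
  obtain ⟨m, hm⟩ : ∃ m, n = m + 1 := ⟨n - 1, by omega⟩
  have hind : ∀ a : ℕ → k, ∑ i ∈ Finset.range n, a i • F i = 0 → ∀ i < n, a i = 0 :=
    hindep n fun j hj => Nat.find_min hex hj
  by_cases hc0 : c 0 = 0
  · -- the Frobenius has a kernel
    have hroot : ∀ i, ∃ d, d ^ p = c i := fun i => IsAlgClosed.exists_pow_nat_eq _ hp.pos
    choose d hd using hroot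
    refine ⟨∑ i ∈ Finset.range n, (if i = m then 1 else -d (i + 1)) • F i, hsub _ _,
      fun h => (one_ne_zero : (1 : k) ≠ 0) (by simpa using hind _ h m (by omega)), Or.inr ?_⟩
    rw [hfrob, hm, Finset.sum_range_succ, if_pos rfl, one_pow, one_smul, ← hm, hc, hm,
      Finset.sum_range_succ' (fun i => c i • F i), hc0, zero_smul, add_zero, ← Finset.sum_add_distrib]
    refine Finset.sum_eq_zero fun i hi => ?_
    rw [if_neg (by have := Finset.mem_range.mp hi; omega), neg_pow, neg_one_pow_char k p, neg_one_mul, hd, ← add_smul, neg_add_cancel, zero_smul]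
  · -- the Frobenius has a fixed vector
    let P : ℕ → k[X] := fun i => Nat.rec (C (c 0) * X ^ p) (fun i Pi => Pi ^ p + C (c (i + 1)) * X ^ p) i
    have hP : ∀ i, (P i).natDegree = p ^ (i + 1) ∧ derivative (P i) = 0 ∧ (P i).coeff 0 = 0 := by
      intro i
      induction i with
      | zero => refine ⟨by simp [P, natDegree_C_mul_X_pow _ _ hc0], by simp [P, derivative_X_pow], by simp [P, hp.ne_zero.symm]⟩
      | succ i ih =>
        obtain ⟨h1, h2, h3⟩ := ih
        refine ⟨?_, ?_, ?_⟩
        · show natDegree (P i ^ p + C (c (i + 1)) * X ^ p) = _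
          rw [natDegree_add_eq_left_of_natDegree_lt, natDegree_pow, h1, ← pow_succ']
          refine (natDegree_C_mul_X_pow_le _ _).trans_lt ?_
          rw [natDegree_pow, h1]
          calc p = p * 1 := (mul_one p).symm
            _ < p * p ^ (i + 1) := Nat.mul_lt_mul_of_pos_left (Nat.one_lt_pow (by omega) hp.one_lt) hp.pos
        · show derivative (P i ^ p + C (c (i + 1)) * X ^ p) = 0
          simp [derivative_pow, h2]
        · show (P i ^ p + C (c (i + 1)) * X ^ p).coeff 0 = 0
          rw [coeff_zero_eq_eval_zero] at h3 ⊢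
          simp [h3, hp.ne_zero]
    obtain ⟨r, hr0, hr⟩ : ∃ r : k, r ≠ 0 ∧ (P m).eval r = r := by
      obtain ⟨hdeg, hder, hcoeff⟩ := hP m
      let Q := P m - X
      have hQd : Q.natDegree = p ^ (m + 1) := by
        rw [natDegree_sub_eq_left_of_natDegree_lt, hdeg]
        rw [natDegree_X, hdeg]; exact Nat.one_lt_pow (by omega) hp.one_lt
      have hsep : Q.Separable := by
        rw [separable_def, show derivative Q = -1 by simp [Q, hder]]
        exact isCoprime_one_right.neg_right
      have hcard : Multiset.card Q.roots = p ^ (m + 1) := by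
        rw [← hQd]; exact (IsAlgClosed.splits Q).natDegree_eq_card_roots.symm
      by_contra hcon
      push Not at hcon
      have hsub : Q.roots.toFinset ⊆ {0} := fun x hx => by
        rw [Multiset.mem_toFinset, mem_roots', IsRoot.def] at hx
        rw [Finset.mem_singleton]
        by_contra h
        exact hcon x h (by simpa [Q, sub_eq_zero] using hx.2)
      have := Finset.card_le_card hsub
      rw [Multiset.toFinset_card_of_nodup (nodup_roots hsep), hcard, Finset.card_singleton] at this
      exact absurd this (not_le.mpr (Nat.one_lt_pow (by omega) hp.one_lt))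
    refine ⟨∑ i ∈ Finset.range n, (P i).eval r • F i, hsub _ _,
      fun h => hr0 (by rw [← hr]; exact hind _ h m (by omega)), Or.inl ?_⟩
    rw [hfrob, hm, Finset.sum_range_succ, hr, ← hm, hc, hm, Finset.sum_range_succ' (fun i => c i • F i),
      smul_add, Finset.smul_sum, ← add_assoc, ← Finset.sum_add_distrib,
      Finset.sum_range_succ' (fun i => (P i).eval r • F i)]
    congr 1
    · refine Finset.sum_congr rfl fun i _ => ?_
      show _ = eval r (P i ^ p + C (c (i + 1)) * X ^ p) • F (i + 1)
      rw [smul_smul, ← add_smul, eval_add, eval_pow, eval_mul, eval_pow, eval_C, eval_X, mul_comm (r ^ p)]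
    · show _ = eval r (C (c 0) * X ^ p) • F 0
      rw [smul_smul, eval_mul, eval_pow, eval_C, eval_X, mul_comm]

end Groth.Agent.GrpSchLib
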