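import Groth.Agent.GrpSchLib.PrimeOrder
import Groth.Agent.GrpSchLib.DualPairing
import Groth.Prelude.Def_AlphaP
import Groth.Prelude.Def_ConstGrp
import Mathlib.Algebra.CharP.Algebra
import Mathlib.RingTheory.Idempotents
import Mathlib.RingTheory.Ideal.IdempotentFG
import Mathlib.RingTheory.HopfAlgebra.MonoidAlgebra
import Mathlib.Algebra.CharP.Two
import Mathlib.Data.Nat.Choose.Sum
import Mathlib.Data.Nat.Choose.Dvd
import Mathlib.FieldTheory.Finite.Basic

/-! Derivations at the counit with `v ^ p = c • v` and homomorphisms to `μ_p`, `α_p`. -/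

open TensorProduct WithConv

namespace Groth.Agent.GrpSchLib

universe u v w

variable {k : Type u} [Field k] {A : Type v} [CommRing A] [HopfAlgebra k A]

theorem pow_form_leibniz {y : CartDual.D k A}
    (hy : ∀ a b, y.ofConv (a * b) = Coalgebra.counit (R := k) a * y.ofConv b + Coalgebra.counit (R := k) b * y.ofConv a)
    (n : ℕ) (a b : A) : (y ^ n).ofConv (a * b) =
      ∑ j ∈ Finset.range (n + 1), (n.choose j : k) * ((y ^ j).ofConv a * (y ^ (n - j)).ofConv b) := by
  have hop : ∀ (j : ℕ) (x : A), (formOp y ^ j) x = formOp (y ^ j) x := by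
    intro j
    induction j with
    | zero =>
      intro x
      rw [pow_zero, pow_zero, formOp_apply, Module.End.one_apply,
        show (1 : CartDual.D k A).ofConv = Coalgebra.counit from LinearMap.ext fun z => by
          simp [LinearMap.convOne_apply], Coalgebra.lTensor_counit_comul]
      simp
    | succ j ih =>
      intro x
      rw [pow_succ, pow_succ, Module.End.mul_apply, ih, formOp_mul]
  let L : Module.End k (A ⊗[k] A) := TensorProduct.map (formOp y) LinearMap.id
  let Rt : Module.End k (A ⊗[k] A) := TensorProduct.map LinearMap.id (formOp y)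
  have hmul : ∀ t, formOp y (LinearMap.mul' k A t) = LinearMap.mul' k A ((L + Rt) t) := by
    intro t
    induction t using TensorProduct.induction_on with
    | zero => simp
    | tmul x z => simp [L, Rt, formOp_leibniz hy, mul_comm, add_comm]
    | add s t hs ht => simp only [map_add, hs, ht]
  have hpow : ∀ j t, (formOp y ^ j) (LinearMap.mul' k A t) = LinearMap.mul' k A (((L + Rt) ^ j) t) := by
    intro j
    induction j with
    | zero => intro t; rfl
    | succ j ih => intro t; rw [pow_succ, pow_succ, Module.End.mul_apply, hmul, ih]; rfl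
  have hc : Commute L Rt := by
    apply TensorProduct.ext'
    intro x z
    simp [L, Rt]
  have hLpow : ∀ j (x z : A), (L ^ j) (x ⊗ₜ z) = (formOp y ^ j) x ⊗ₜ z := by
    intro j x z
    induction j with
    | zero => rfl
    | succ j ih => rw [pow_succ', pow_succ', Module.End.mul_apply, ih]; rfl
  have hRpow : ∀ j (x z : A), (Rt ^ j) (x ⊗ₜ z) = x ⊗ₜ (formOp y ^ j) z := by
    intro j x z
    induction j with
    | zero => rfl
    | succ j ih => rw [pow_succ', pow_succ', Module.End.mul_apply, ih]; rfl
  have h := hpow n (a ⊗ₜ b)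
  rw [LinearMap.mul'_apply, hc.add_pow, LinearMap.sum_apply, map_sum] at h
  have h2 := congrArg (Coalgebra.counit (R := k)) h
  rw [hop, counit_formOp, map_sum] at h2
  rw [h2]
  refine Finset.sum_congr rfl fun j _ => ?_
  rw [Module.End.mul_apply, Module.End.mul_apply, Module.End.natCast_apply, map_nsmul, map_nsmul, hRpow, hLpow,
    map_nsmul, map_nsmul, LinearMap.mul'_apply, Bialgebra.counit_mul, hop, hop, counit_formOp, counit_formOp,
    nsmul_eq_mul]

theorem deriv_pow_char (p : ℕ) [Fact p.Prime] [CharP k p] {y : CartDual.D k A}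
    (hy : ∀ a b, y.ofConv (a * b) = Coalgebra.counit (R := k) a * y.ofConv b + Coalgebra.counit (R := k) b * y.ofConv a)
    (a b : A) : (y ^ p).ofConv (a * b) =
      Coalgebra.counit (R := k) a * (y ^ p).ofConv b + Coalgebra.counit (R := k) b * (y ^ p).ofConv a := by
  have hp : p.Prime := Fact.out
  have h0 : ∀ x, (y ^ 0).ofConv x = Coalgebra.counit (R := k) x := fun x => by simp [LinearMap.convOne_apply]
  rw [pow_form_leibniz hy, Finset.sum_range_succ, Finset.sum_eq_single 0]
  · rw [Nat.choose_zero_right, Nat.choose_self, Nat.sub_zero, Nat.sub_self, h0, h0]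
    push_cast
    ring
  · intro j hj hj0
    rw [(CharP.cast_eq_zero_iff k p _).mpr (hp.dvd_choose_self hj0 (Finset.mem_range.mp hj)), zero_mul]
  · intro h; exact absurd (Finset.mem_range.mpr hp.pos) h

theorem pow_apply_groupLike (y : CartDual.D k A) {g : A} (hg : IsGroupLikeElem k g) (n : ℕ) :
    (y ^ n).ofConv g = y.ofConv g ^ n := by
  induction n with
  | zero => simp [LinearMap.convOne_apply, hg.counit_eq_one]
  | succ n ih =>
    rw [pow_succ, LinearMap.convMul_apply, hg.comul_eq_tmul_self]
    simp [ih, pow_succ]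

theorem deriv_apply_one {y : CartDual.D k A}
    (hy : ∀ a b, y.ofConv (a * b) = Coalgebra.counit (R := k) a * y.ofConv b + Coalgebra.counit (R := k) b * y.ofConv a) :
    y.ofConv 1 = 0 := by
  have h := hy 1 1
  simp only [Bialgebra.counit_one, _root_.one_mul] at h
  linear_combination -h

theorem deriv_apply_pow {y : CartDual.D k A}
    (hy : ∀ a b, y.ofConv (a * b) = Coalgebra.counit (R := k) a * y.ofConv b + Coalgebra.counit (R := k) b * y.ofConv a)
    (a : A) (n : ℕ) : y.ofConv (a ^ (n + 1)) = (n + 1 : ℕ) * Coalgebra.counit (R := k) a ^ n * y.ofConv a := by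
  induction n with
  | zero => simp
  | succ n ih =>
    rw [pow_succ, hy, ih, Bialgebra.counit_pow]
    push_cast
    ring

/-- A derivation at the counit with `v ^ p = c • v` gives a homomorphism to a `p`-dimensional bialgebra with a
spanning family of powers of a derivation satisfying the same equation. -/
theorem exists_bialgHom_of_deriv (p : ℕ) [Fact p.Prime] [CharP k p] (T : Type w) [CommRing T] [HopfAlgebra k T]
    [Module.Finite k T] (hT : Module.finrank k T = p) (c : k) {w : CartDual.D k T} {t₀ : T}
    (hw : ∀ a b, w.ofConv (a * b) = Coalgebra.counit (R := k) a * w.ofConv b + Coalgebra.counit (R := k) b * w.ofConv a)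
    (hw0 : Coalgebra.counit (R := k) t₀ = 0) (hw1 : w.ofConv t₀ = 1) (hwp : w ^ p = c • w)
    {v : CartDual.D k A} {x₀ : A}
    (hv : ∀ a b, v.ofConv (a * b) = Coalgebra.counit (R := k) a * v.ofConv b + Coalgebra.counit (R := k) b * v.ofConv a)
    (hv0 : Coalgebra.counit (R := k) x₀ = 0) (hv1 : v.ofConv x₀ = 1) (hvp : v ^ p = c • v) :
    ∃ f : A →ₐc[k] T, Function.Surjective f := by
  classical
  have hp : p.Prime := Fact.out
  have hfac : ∀ i : Fin p, ((i : ℕ).factorial : k) ≠ 0 := fun i => by
    rw [Ne, CharP.cast_eq_zero_iff k p, hp.dvd_factorial]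
    exact not_le.mpr i.2
  haveI : Nonempty (Fin p) := ⟨⟨0, hp.pos⟩⟩
  have hfr : Module.finrank k (CartDual.D k T) = p := by
    rw [(CartDual.toDual k T).finrank_eq, Subspace.dual_finrank_eq, hT]
  let bw : Module.Basis (Fin p) k (CartDual.D k T) :=
    basisOfLinearIndependentOfCardEqFinrank (linearIndependent_pow_of_deriv hw hw1 hw0 hfac)
      (by rw [Fintype.card_fin, hfr])
  have hbw : ∀ i, bw i = w ^ (i : ℕ) := fun i => by simp [bw]
  let L : CartDual.D k T →ₗ[k] CartDual.D k A := bw.constr k fun i => v ^ (i : ℕ)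
  have hL : ∀ n, L (w ^ n) = v ^ n := by
    intro n
    induction n using Nat.strong_induction_on with
    | _ n ih =>
      rcases lt_or_ge n p with h | h
      · rw [show w ^ n = bw ⟨n, h⟩ from (hbw ⟨n, h⟩).symm]
        simp [L]
      · have := hp.two_le
        obtain ⟨m, rfl⟩ : ∃ m, n = m + p := ⟨n - p, by omega⟩
        rw [pow_add, hwp, mul_smul_comm, ← pow_succ, map_smul, ih (m + 1) (by omega), pow_succ, pow_add, hvp,
          mul_smul_comm]
  let evA : A → CartDual.D k T →ₗ[k] k := fun a =>
    (LinearMap.applyₗ a : Module.Dual k A →ₗ[k] k) ∘ₗ (CartDual.toDual k A).toLinearMap ∘ₗ L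
  have hex : ∀ a : A, ∃! x : T, ∀ φ : CartDual.D k T, evA a φ = φ x := fun a => existsUnique_eval (evA a)
  choose F hF hFu using hex
  have key : ∀ n a, (w ^ n).ofConv (F a) = (v ^ n).ofConv a := fun n a => by
    rw [← hL]; exact (hF a (w ^ n)).symm
  have ext_w : ∀ {s t : T}, (∀ n : ℕ, (w ^ n).ofConv s = (w ^ n).ofConv t) → s = t := by
    intro s t h
    refine eq_of_forall_form (R := k) (A := T) fun φ => ?_
    have hφ := bw.sum_repr φ
    rw [← hφ]
    simp only [CartDual.coe_apply, WithConv.ofConv_sum, LinearMap.sum_apply, WithConv.ofConv_smul,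
      LinearMap.smul_apply, hbw, h]
  have h1 : F 1 = 1 := by
    refine ext_w fun n => ?_
    rw [key, pow_apply_groupLike v IsGroupLikeElem.one n, pow_apply_groupLike w IsGroupLikeElem.one n,
      deriv_apply_one hv, deriv_apply_one hw]
  have hmul : ∀ a b, F (a * b) = F a * F b := by
    intro a b
    refine ext_w fun n => ?_
    rw [key, pow_form_leibniz hv, pow_form_leibniz hw]
    simp only [key]
  have hlin : IsLinearMap k F := ⟨fun a b => ext_w fun n => by simp [key], fun r a => ext_w fun n => by simp [key]⟩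
  let f : A →ₐ[k] T := AlgHom.ofLinearMap hlin.mk' h1 hmul
  have hf : ∀ a, f a = F a := fun a => rfl
  refine ⟨BialgHom.ofAlgHom f ?_ ?_, ?_⟩
  · ext a
    have := key 0 a
    simp only [pow_zero, LinearMap.convOne_apply, Algebra.algebraMap_self, RingHom.id_apply] at this
    exact this
  · refine AlgHom.ext fun a => ?_
    refine eq_of_forall_ev₂ fun φ ψ => ?_
    have e : ∀ (φ ψ : CartDual.D k T) (z : A ⊗[k] A), CartDual.ev₂ k T (φ ⊗ₜ ψ) (Algebra.TensorProduct.map f f z) =
        LinearMap.mul' k k (TensorProduct.map (φ.ofConv ∘ₗ f.toLinearMap) (ψ.ofConv ∘ₗ f.toLinearMap) z) := by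
      intro φ ψ z
      induction z using TensorProduct.induction_on with
      | zero => simp
      | tmul p q => simp [CartDual.coe_apply]
      | add s t hs ht => simp only [map_add, hs, ht]
    have hψ : ∀ φ : CartDual.D k T, φ.ofConv ∘ₗ f.toLinearMap = (L φ).ofConv := fun φ =>
      LinearMap.ext fun a => (hF a φ).symm
    show CartDual.ev₂ k T (φ ⊗ₜ ψ) (Algebra.TensorProduct.map f f (Coalgebra.comul a)) =
      CartDual.ev₂ k T (φ ⊗ₜ ψ) (Coalgebra.comul (f a))
    rw [e, ← convMul_eq_ev₂, hψ, hψ, ← LinearMap.convMul_apply]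
    have hLm : L (φ * ψ) = L φ * L ψ := by
      have : ∀ i, L (bw i * ψ) = L (bw i) * L ψ := by
        intro i
        have : ∀ j, L (bw i * bw j) = L (bw i) * L (bw j) := fun j => by
          rw [hbw, hbw, ← pow_add, hL, hL, hL, pow_add]
        exact LinearMap.congr_fun (bw.ext (f₁ := L ∘ₗ LinearMap.mulLeft k (bw i))
          (f₂ := LinearMap.mulLeft k (L (bw i)) ∘ₗ L) this) ψ
      exact LinearMap.congr_fun (bw.ext (f₁ := L ∘ₗ LinearMap.mulRight k ψ)
        (f₂ := LinearMap.mulRight k (L ψ) ∘ₗ L) this) φ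
    exact (congrArg (fun z : CartDual.D k A => z.ofConv a) hLm).symm.trans (hF a (φ * ψ))
  · have hli := linearIndependent_pow_of_deriv hv hv1 hv0 hfac
    suffices h : Function.Surjective f.toLinearMap from h
    rw [← LinearMap.dualMap_injective_iff, injective_iff_map_eq_zero]
    intro φ hφ
    have hz : L (toConv φ) = 0 := WithConv.ofConv_injective (LinearMap.ext fun a =>
      (hF a (toConv φ)).trans (LinearMap.congr_fun hφ a))
    have hLi : Function.Injective L := by
      rw [← LinearMap.ker_eq_bot]
      exact LinearMap.ker_eq_bot'.mpr fun z hz => by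
        rw [← bw.sum_repr z, map_sum] at hz
        simp only [map_smul, L, Module.Basis.constr_basis] at hz
        rw [← bw.sum_repr z, Finset.sum_eq_zero fun i _ => by rw [Fintype.linearIndependent_iff.mp hli _ hz i, zero_smul]]
    exact congrArg WithConv.ofConv (hLi (hz.trans (map_zero L).symm))

/-- A derivation at the counit of `μ_p` whose `p`th power is itself. -/
theorem exists_deriv_muP (p : ℕ) [Fact p.Prime] [CharP k p] :
    ∃ (w : CartDual.D k (MonoidAlgebra k (Multiplicative (ZMod p)))) (t : MonoidAlgebra k (Multiplicative (ZMod p))),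
      (∀ a b, w.ofConv (a * b) = Coalgebra.counit (R := k) a * w.ofConv b + Coalgebra.counit (R := k) b * w.ofConv a) ∧
        Coalgebra.counit (R := k) t = 0 ∧ w.ofConv t = 1 ∧ w ^ p = (1 : k) • w := by
  classical
  let B := MonoidAlgebra.basis (Multiplicative (ZMod p)) k
  let ι : ZMod p →+* k := ZMod.castHom dvd_rfl k
  let w₀ : MonoidAlgebra k (Multiplicative (ZMod p)) →ₗ[k] k := B.constr k fun g => ι g.toAdd
  have hB : ∀ g, B g = MonoidAlgebra.single g 1 := fun g => by simp [B]
  have hw₀ : ∀ g, w₀ (MonoidAlgebra.single g 1) = ι g.toAdd := fun g => by rw [← hB]; simp [w₀]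
  have hw : ∀ a b, (toConv w₀).ofConv (a * b) = Coalgebra.counit (R := k) a * (toConv w₀).ofConv b +
      Coalgebra.counit (R := k) b * (toConv w₀).ofConv a := by
    intro a b
    induction a using MonoidAlgebra.induction_linear with
    | zero => simp
    | add a a' ha ha' => simp only [add_mul, map_add, ha, ha']; ring
    | single g r =>
      induction b using MonoidAlgebra.induction_linear with
      | zero => simp
      | add a b ha hb => simp only [mul_add, map_add, ha, hb]; ring
      | single h s =>
        have e : ∀ (g) (r : k), (MonoidAlgebra.single g r : MonoidAlgebra k (Multiplicative (ZMod p))) =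
            r • MonoidAlgebra.single g 1 := fun g r => by simp [MonoidAlgebra.smul_single]
        rw [e g r, e h s]
        simp only [smul_mul_smul_comm, MonoidAlgebra.single_mul_single, map_smul, WithConv.ofConv_toConv, hw₀,
          MonoidAlgebra.counit_single, toAdd_mul, map_add]
        simp only [_root_.mul_one, hw₀, toAdd_mul, map_add, Bialgebra.counit_one, _root_.one_mul, smul_eq_mul]
        skip
        ring
  refine ⟨toConv w₀, MonoidAlgebra.single (Multiplicative.ofAdd 1) 1 - 1, hw, by simp, ?_, ?_⟩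
  · rw [map_sub, deriv_apply_one hw]; simp [hw₀]
  · refine WithConv.ofConv_injective (B.ext fun g => ?_)
    rw [one_smul, pow_apply_groupLike _ (by rw [hB]; exact MonoidAlgebra.isGroupLikeElem_single_one g) p, hB]
    show w₀ _ ^ p = w₀ _
    rw [hw₀, ← map_pow, ZMod.pow_card]

/-- A derivation at the counit of `α_p` whose `p`th power vanishes. -/
theorem exists_deriv_alphaP (p : ℕ) [Fact p.Prime] [CharP k p] :
    ∃ (w : CartDual.D k (AlphaP.A p k)) (t : AlphaP.A p k),
      (∀ a b, w.ofConv (a * b) = Coalgebra.counit (R := k) a * w.ofConv b + Coalgebra.counit (R := k) b * w.ofConv a) ∧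
        Coalgebra.counit (R := k) t = 0 ∧ w.ofConv t = 1 ∧ w ^ p = (0 : k) • w := by
  classical
  have hp : p.Prime := Fact.out
  let b := AlphaP.basis p k
  let one' : Fin p := ⟨1, hp.one_lt⟩
  let w : CartDual.D k (AlphaP.A p k) := toConv (b.coord one')
  have hb : ∀ i, b i = AlphaP.x p k ^ (i : ℕ) := fun i => by simp [b, AlphaP.basis_apply]
  have hx : ∀ n, w.ofConv (AlphaP.x p k ^ n) = if n = 1 then 1 else 0 := by
    intro n
    rcases lt_or_ge n p with h | h
    · rw [show AlphaP.x p k ^ n = b ⟨n, h⟩ from (hb ⟨n, h⟩).symm]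
      simp [w, one', Finsupp.single_apply, Fin.ext_iff]
    · rw [AlphaP.x_pow_of_le p k h, map_zero, if_neg (by have := hp.two_le; omega)]
  have hε : ∀ n, Coalgebra.counit (R := k) (AlphaP.x p k ^ n) = if n = 0 then 1 else 0 := by
    intro n
    rw [Bialgebra.counit_pow, AlphaP.counit_x, zero_pow_eq]
  have hw : ∀ a b', w.ofConv (a * b') = Coalgebra.counit (R := k) a * w.ofConv b' +
      Coalgebra.counit (R := k) b' * w.ofConv a := by
    intro a b'
    let c := Coalgebra.counit (R := k) (A := AlphaP.A p k)
    let f₁ := (LinearMap.mul k (AlphaP.A p k)).compr₂ w.ofConv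
    let f₂ := (LinearMap.mul k k).compl₁₂ c w.ofConv + ((LinearMap.mul k k).compl₁₂ c w.ofConv).flip
    have h : f₁ = f₂ := by
      refine b.ext fun i => b.ext fun j => ?_
      simp only [f₁, f₂, c, LinearMap.compr₂_apply, LinearMap.mul_apply', LinearMap.add_apply,
        LinearMap.compl₁₂_apply, LinearMap.flip_apply]
      rw [hb, hb, ← pow_add, hx, hx, hx, hε, hε]
      rcases (i : ℕ) with _ | _ | i <;> rcases (j : ℕ) with _ | _ | j <;> simp <;> omega
    simpa [f₁, f₂, c] using LinearMap.congr_fun₂ h a b'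
  have hp' := deriv_pow_char p hw
  refine ⟨w, AlphaP.x p k, hw, by simpa using hε 1, by simpa using hx 1, ?_⟩
  rw [zero_smul]
  refine WithConv.ofConv_injective (b.ext fun i => ?_)
  rw [hb]
  show (w ^ p).ofConv _ = 0
  rcases h : (i : ℕ) with _ | _ | n
  · rw [pow_zero, deriv_apply_one hp']
  · obtain ⟨m, hm⟩ : ∃ m, p = m + 2 := ⟨p - 2, by have := hp.two_le; omega⟩
    have key : (w ^ (m + 2)).ofConv (AlphaP.x p k) = 0 := by
      rw [pow_succ, LinearMap.convMul_apply, AlphaP.comul_x]
      simp [pow_apply_groupLike w IsGroupLikeElem.one, deriv_apply_one hw]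
    rw [pow_one]
    rwa [← hm] at key
  · rw [deriv_apply_pow hp']
    simp [AlphaP.counit_x]

end Groth.Agent.GrpSchLib
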