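import Groth.Agent.GrpSchLib.DiagActionRigid
import Groth.Agent.FpqcDescLib.Basic
import Groth.Agent.AlgSpPts.Sep
import Mathlib.AlgebraicGeometry.Morphisms.FinitePresentation
import Mathlib.AlgebraicGeometry.Noetherian
import Mathlib.RingTheory.Nakayama

/-!
# Kernels of homomorphisms out of diagonalisable groups

The kernel of `u : D(M) ⟶ G` over a ring `R` is an ideal `I` of `R[M]`; the points of `Spec R` over which `u` is the
unit are cut out by the ideal `c` spanned by the coefficients of `I`. By rigidity `c` vanishes as soon as its square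
does, so a finitely generated `c` cuts out a clopen subset.
-/

universe u

open CategoryTheory CategoryTheory.Limits MonoidalCategory CartesianMonoidalCategory MonObj AlgebraicGeometry

set_option backward.isDefEq.respectTransparency false

namespace Groth.Agent.GrpSchLib.HomKernelIdeal

open DSPtsLib (CoordM)

section Kernel

variable {S : Scheme.{u}} {H G : Over S} [GrpObj G] [IsSeparated G.hom] (u : H ⟶ G)

/-- The kernel is a closed subscheme, locally of finite presentation under the usual finiteness assumptions. -/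
theorem exists_kernel :
    ∃ (K : Scheme.{u}) (k : K ⟶ H.left), IsClosedImmersion k ∧
      ((IsLocallyNoetherian S ∧ LocallyOfFiniteType H.hom) ∨ LocallyOfFiniteType G.hom →
        LocallyOfFinitePresentation k) ∧
      ∀ (Y : Over S) (g : Y ⟶ H), g ≫ u = 1 ↔ ∃ l : Y.left ⟶ K, l ≫ k = g.left := by
  have hηid : η[G].left ≫ G.hom = 𝟙 S := Over.w η[G]
  haveI : IsClosedImmersion η[G].left := by
    haveI : IsClosedImmersion (η[G].left ≫ G.hom) := by rw [hηid]; exact inferInstanceAs (IsClosedImmersion (𝟙 S))
    exact IsClosedImmersion.of_comp η[G].left G.hom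
  haveI hk : IsClosedImmersion (pullback.fst u.left η[G].left) := inferInstance
  refine ⟨_, pullback.fst u.left η[G].left, hk, ?_, fun Y g => ?_⟩
  · rintro (⟨hS, hH⟩ | hG)
    · haveI := LocallyOfFiniteType.isLocallyNoetherian H.hom
      exact LocallyOfFinitePresentation.iff_locallyOfFiniteType.mpr inferInstance
    · haveI : LocallyOfFinitePresentation (η[G].left ≫ G.hom) := by rw [hηid]; exact inferInstanceAs (LocallyOfFinitePresentation (𝟙 S))
      haveI := Groth.Agent.AlgSpPts.locallyOfFinitePresentation_of_comp η[G].left G.hom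
      infer_instance
  · have h1 : (1 : Y ⟶ G).left = Y.hom ≫ η[G].left := by
      rw [Hom.one_def, Over.comp_left]
      congr 1
    constructor
    · intro h
      refine ⟨pullback.lift g.left Y.hom ?_, pullback.lift_fst _ _ _⟩
      rw [← Over.comp_left, h, h1]
    · rintro ⟨l, hl⟩
      refine Over.OverMorphism.ext ?_
      rw [h1, Over.comp_left, ← hl, Category.assoc, pullback.condition, ← Category.assoc]
      congr 1
      have := congrArg (fun m => m ≫ H.hom) hl
      simp only [Category.assoc, Over.w] at this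
      rw [← this, ← Over.w u, pullback.condition_assoc]
      exact congrArg (l ≫ ·) (by erw [hηid, Category.comp_id])

end Kernel

section Piece

variable {U : Scheme.{u}} {G : Over U} [GrpObj G] {M : Type} [AddCommGroup M]
  {R : Type u} [CommRing R] (β : Spec (CommRingCat.of R) ⟶ U) (u : Red.DS U M ⟶ G)

/-- The structure map of an `R`-algebra. -/
noncomputable abbrev str (T : Type u) [CommRing T] [Algebra R T] : Spec (CommRingCat.of T) ⟶ U :=
  Spec.map (CommRingCat.ofHom (algebraMap R T)) ≫ β

/-- The evaluation of the group algebra at a character. -/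
noncomputable def evalChar {T : Type u} [CommRing T] [Algebra R T] (f : CoordM.{u} M →+* T) :
    MonoidAlgebra R (Multiplicative M) →ₐ[R] T :=
  MonoidAlgebra.lift R T (Multiplicative M) ((f : CoordM.{u} M →* T).comp (MonoidAlgebra.of (ULift.{u} ℤ) (Multiplicative M)))

theorem evalChar_single {T : Type u} [CommRing T] [Algebra R T] (f : CoordM.{u} M →+* T) (m : Multiplicative M) :
    evalChar (R := R) f (MonoidAlgebra.single m 1) = f (MonoidAlgebra.single m 1) := by
  unfold evalChar
  erw [MonoidAlgebra.lift_single, one_smul]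
  rfl

theorem evalChar_univ {T : Type u} [CommRing T] [Algebra R T] (f : CoordM.{u} M →+* T) :
    (evalChar (R := R) f).toRingHom.comp (DiagActionRigid.univPt R (AddMonoidHom.id M)) = f := by
  refine DiagActionRigid.coord_ext fun m => ?_
  show evalChar f (DiagActionRigid.univPt R (AddMonoidHom.id M) (MonoidAlgebra.single m 1)) = _
  rw [DiagActionRigid.univPt_single]
  exact evalChar_single f m

/-- The kernel as an ideal of the group algebra. -/
theorem exists_ideal {K : Scheme.{u}} (k : K ⟶ (Red.DS U M).left) [IsClosedImmersion k]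
    (hk : ∀ (Y : Over U) (g : Y ⟶ Red.DS U M), g ≫ u = 1 ↔ ∃ l : Y.left ⟶ K, l ≫ k = g.left) :
    ∃ I : Ideal (MonoidAlgebra R (Multiplicative M)), (LocallyOfFinitePresentation k → I.FG) ∧
      ∀ (T : Type u) [CommRing T] [Algebra R T] (f : CoordM.{u} M →+* T),
        DSPtsLib.pt (str β T) f ≫ u = 1 ↔ I ≤ RingHom.ker (evalChar (R := R) f) := by
  let A := MonoidAlgebra R (Multiplicative M)
  let t : Spec (CommRingCat.of A) ⟶ (Red.DS U M).left :=
    (DSPtsLib.pt (str β A) (DiagActionRigid.univPt R (AddMonoidHom.id M))).left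
  obtain ⟨I, e, he⟩ := (IsClosedImmersion.Spec_iff (f := pullback.snd k t)).mp inferInstance
  refine ⟨I, fun hlfp => ?_, fun T _ _ f => ?_⟩
  · have h1 : LocallyOfFinitePresentation (e.hom ≫ Spec.map (CommRingCat.ofHom (Ideal.Quotient.mk I))) := by
      rw [← he]; infer_instance
    have h2 : LocallyOfFinitePresentation (Spec.map (CommRingCat.ofHom (Ideal.Quotient.mk I))) :=
      (MorphismProperty.cancel_left_of_respectsIso @LocallyOfFinitePresentation e.hom _).mp h1
    rw [LocallyOfFinitePresentation.SpecMap_iff] at h2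
    haveI : Algebra.FinitePresentation A (A ⧸ I) := RingHom.finitePresentation_algebraMap.mp h2
    have h3 := Algebra.FinitePresentation.ker_fG_of_surjective (Ideal.Quotient.mkₐ A I) Ideal.Quotient.mk_surjective
    change (RingHom.ker (Ideal.Quotient.mk I)).FG at h3
    rwa [Ideal.mk_ker] at h3
  · have hpt : (DSPtsLib.pt (str β T) f).left = Spec.map (CommRingCat.ofHom (evalChar (R := R) f).toRingHom) ≫ t := by
      have hj : Spec.map (CommRingCat.ofHom (evalChar (R := R) f).toRingHom) ≫ str β A = str β T := by
        show _ ≫ Spec.map _ ≫ β = Spec.map _ ≫ β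
        rw [← Spec.map_comp_assoc, ← CommRingCat.ofHom_comp]
        congr 3
        exact (evalChar (R := R) f).comp_algebraMap
      rw [show DSPtsLib.pt (str β T) f = _ ≫ _ from
        ((DSPtsLib.pt_comp (str β A) (DiagActionRigid.univPt R (AddMonoidHom.id M))
          (evalChar (R := R) f).toRingHom (str β T) hj).trans (by rw [evalChar_univ])).symm]
      rfl
    rw [hk, hpt]
    constructor
    · rintro ⟨l, hl⟩
      let l' : Spec (CommRingCat.of T) ⟶ Spec (CommRingCat.of (A ⧸ I)) := pullback.lift l _ hl ≫ e.hom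
      have h : l' ≫ Spec.map (CommRingCat.ofHom (Ideal.Quotient.mk I)) =
          Spec.map (CommRingCat.ofHom (evalChar (R := R) f).toRingHom) := by
        rw [Category.assoc, ← he, pullback.lift_snd]
      obtain ⟨ψ, hψ⟩ : ∃ ψ, Spec.map ψ = l' := ⟨_, Spec.map_preimage l'⟩
      rw [← hψ, ← Spec.map_comp] at h
      intro x hx
      have := congrArg (fun m => m.hom x) (Spec.map_injective h)
      simp only [CommRingCat.hom_comp, RingHom.comp_apply, CommRingCat.hom_ofHom] at this
      rw [Ideal.Quotient.eq_zero_iff_mem.mpr hx, map_zero] at this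
      exact this.symm
    · intro hI
      refine ⟨Spec.map (CommRingCat.ofHom (Ideal.Quotient.lift I (evalChar (R := R) f).toRingHom hI)) ≫ e.inv ≫
        pullback.fst k t, ?_⟩
      simp only [Category.assoc]
      rw [pullback.condition, he, Category.assoc, e.inv_hom_id_assoc, ← Spec.map_comp_assoc]
      congr 2

/-- The ideal spanned by the coefficients of an ideal of the group algebra. -/
def content (I : Ideal (MonoidAlgebra R (Multiplicative M))) : Ideal R :=
  Ideal.span {r | ∃ x ∈ I, ∃ m, x.coeff m = r}

theorem content_fg {I : Ideal (MonoidAlgebra R (Multiplicative M))} (hI : I.FG) : (content I).FG := by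
  classical
  obtain ⟨T, hT⟩ := hI
  let c : Ideal R := Ideal.span ↑(T.biUnion fun x => x.coeff.support.image fun m => x.coeff m)
  suffices content I = c by rw [this]; exact ⟨_, rfl⟩
  refine le_antisymm (Ideal.span_le.mpr ?_) (Ideal.span_le.mpr ?_)
  · rintro _ ⟨x, hx, m, rfl⟩
    have key : ∀ y, (∀ m, y.coeff m ∈ c) → ∀ e : MonoidAlgebra R (Multiplicative M), ∀ m, (e * y).coeff m ∈ c :=
      fun y hy e m => by
        rw [MonoidAlgebra.coeff_mul]
        simp only [Finsupp.sum, Finsupp.finset_sum_apply]
        exact Ideal.sum_mem _ fun i _ => Ideal.sum_mem _ fun j _ => by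
          split_ifs
          · exact Ideal.mul_mem_left _ _ (hy j)
          · exact zero_mem _
    rw [← hT] at hx
    refine Submodule.span_induction (p := fun y _ => ∀ m, y.coeff m ∈ c) ?_ ?_ ?_ ?_ hx m
    · intro y hy m
      by_cases hm : m ∈ y.coeff.support
      · exact Ideal.subset_span (Finset.mem_coe.mpr (Finset.mem_biUnion.mpr
          ⟨y, hy, Finset.mem_image.mpr ⟨m, hm, rfl⟩⟩))
      · rw [Finsupp.notMem_support_iff.mp hm]; exact zero_mem _
    · intro m; exact zero_mem _
    · intro p q _ _ hp hq m; exact add_mem (hp m) (hq m)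
    · intro e p _ hp m; exact key p hp e m
  · intro r hr
    obtain ⟨x, hx, hr⟩ := Finset.mem_biUnion.mp (Finset.mem_coe.mp hr)
    obtain ⟨m, -, rfl⟩ := Finset.mem_image.mp hr
    exact Ideal.subset_span ⟨x, hT ▸ Ideal.subset_span hx, m, rfl⟩

variable {I : Ideal (MonoidAlgebra R (Multiplicative M))}
  (hI : ∀ (T : Type u) [CommRing T] [Algebra R T] (f : CoordM.{u} M →+* T),
    DSPtsLib.pt (str β T) f ≫ u = 1 ↔ I ≤ RingHom.ker (evalChar (R := R) f))
include hI

theorem eq_one_of_content {T : Type u} [CommRing T] [Algebra R T] (hT : ∀ r ∈ content I, algebraMap R T r = 0)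
    (f : CoordM.{u} M →+* T) : DSPtsLib.pt (str β T) f ≫ u = 1 := by
  refine (hI T f).mpr fun x hx => ?_
  rw [RingHom.mem_ker, ← MonoidAlgebra.sum_single x, Finsupp.sum, map_sum]
  refine Finset.sum_eq_zero fun m _ => ?_
  unfold evalChar
  erw [MonoidAlgebra.lift_single]
  rw [Algebra.smul_def, hT _ (Ideal.subset_span ⟨x, hx, m, rfl⟩), zero_mul]

/-- If `u` is the unit over the group algebra of `T` then the content maps to zero in `T`. -/
theorem content_eq_zero {T : Type u} [CommRing T] [Algebra R T]
    (hT : DSPtsLib.pt (str β (MonoidAlgebra T (Multiplicative M))) (DiagActionRigid.univPt T (AddMonoidHom.id M)) ≫ u = 1) :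
    ∀ r ∈ content I, algebraMap R T r = 0 := by
  classical
  intro r hr
  refine Submodule.span_induction (p := fun r _ => algebraMap R T r = 0) ?_ ?_ ?_ ?_ hr
  · rintro _ ⟨x, hx, m, rfl⟩
    have h := (hI _ _).mp hT hx
    have hev : ∀ y : MonoidAlgebra R (Multiplicative M),
        evalChar (R := R) (DiagActionRigid.univPt T (AddMonoidHom.id M)) y =
          MonoidAlgebra.mapRingHom (Multiplicative M) (algebraMap R T) y := by
      intro y
      induction y using MonoidAlgebra.induction_on with
      | of a =>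
        rw [MonoidAlgebra.of_apply, evalChar_single, DiagActionRigid.univPt_single, MonoidAlgebra.mapRingHom_single,
          map_one]
        rfl
      | add p q hp hq => rw [map_add, map_add, hp, hq]
      | smul s p hp =>
        rw [map_smul, hp, Algebra.smul_def, Algebra.smul_def, map_mul]
        congr 1
        exact (MonoidAlgebra.mapRingHom_single _ _ _).symm
    rw [RingHom.mem_ker, hev] at h
    have := congrArg (fun z : MonoidAlgebra T (Multiplicative M) => z.coeff m) h
    simpa [MonoidAlgebra.coeff_mapRingHom] using this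
  · exact map_zero _
  · intro a b _ _ ha hb; rw [map_add, ha, hb, add_zero]
  · intro a b _ hb; rw [smul_eq_mul, map_mul, hb, mul_zero]

variable [IsMonHom u] {V : U.Opens} (hV : IsAffineOpen V) (hβ : ∀ r, β r ∈ V)
include hV hβ

/-- Rigidity: the content vanishes as soon as its square does. -/
theorem content_rigid {T : Type u} [CommRing T] [Algebra R T]
    (hT : ∀ r ∈ content I, ∀ r' ∈ content I, algebraMap R T (r * r') = 0) :
    ∀ r ∈ content I, algebraMap R T r = 0 := by
  refine content_eq_zero β u hI ?_
  let B := MonoidAlgebra T (Multiplicative M)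
  let βB : Spec (CommRingCat.of B) ⟶ U := str β B
  let a : AlgGrp.Action (Red.DS U M) G :=
    { act := (fst (Red.DS U M) G ≫ u) * snd (Red.DS U M) G
      one_act := by
        rw [MonObj.comp_mul, whiskerRight_fst_assoc, whiskerRight_snd, IsMonHom.one_hom,
          toUnit_unique (fst (𝟙_ (Over U)) G) (toUnit _), ← Hom.one_def, _root_.one_mul, leftUnitor_hom]
      mul_act := by
        have hu : μ[Red.DS U M] ≫ u =
            (fst (Red.DS U M) (Red.DS U M) ≫ u) * (snd (Red.DS U M) (Red.DS U M) ≫ u) := by
          rw [IsMonHom.mul_hom, Hom.mul_def]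
          congr 1
        simp only [MonObj.comp_mul, whiskerRight_fst_assoc, whiskerRight_snd, whiskerLeft_fst_assoc,
          whiskerLeft_snd, whiskerLeft_snd_assoc, associator_hom_fst_assoc, associator_hom_snd_fst_assoc,
          associator_hom_snd_snd, hu, _root_.mul_assoc] }
  have ha : ∀ {Y : Over U} (g : Y ⟶ Red.DS U M) (x : Y ⟶ G), lift g x ≫ a.act = (g ≫ u) * x := fun g x => by
    show lift g x ≫ ((fst (Red.DS U M) G ≫ u) * snd (Red.DS U M) G) = _
    rw [MonObj.comp_mul, lift_fst_assoc, lift_snd]
  let χ : ∀ (A : Type u) [CommRing A] [Algebra B A], (CoordM.{u} M →+* A) → (DiagActionRigid.sp βB A ⟶ Red.DS U M) :=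
    fun A _ _ c => DSPtsLib.pt (Spec.map (CommRingCat.ofHom (algebraMap B A)) ≫ βB) c
  have h := DiagActionRigid.main (β := βB) a χ
    (fun {A A'} _ _ _ _ φ c => DSPtsLib.pt_comp _ c φ.toRingHom _ (by
      rw [← Spec.map_comp_assoc, ← CommRingCat.ofHom_comp]
      congr 3
      exact φ.comp_algebraMap))
    (fun {A} _ _ c c' d hd => DSPtsLib.pt_mul _ c c' d hd) hV
    (fun r => hβ _) ((content I).map (algebraMap R B)) ⟨2, ?_⟩ ?_ 1 (DiagActionRigid.univPt T (AddMonoidHom.id M))
  · rw [ha, _root_.mul_one] at h
    have e : str β B = Spec.map (CommRingCat.ofHom (algebraMap B B)) ≫ βB := by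
      rw [show Spec.map (CommRingCat.ofHom (algebraMap B B)) = 𝟙 _ from Spec.map_id _, Category.id_comp]
    change DSPtsLib.pt (str β B) _ ≫ u = 1
    rw [e]
    exact h
  · rw [sq, ← Ideal.map_mul, Ideal.zero_eq_bot, eq_bot_iff, Ideal.map_le_iff_le_comap]
    refine Ideal.mul_le.mpr fun r hr r' hr' => ?_
    rw [Ideal.mem_comap, Ideal.mem_bot, IsScalarTower.algebraMap_apply R T B, hT r hr r' hr', map_zero]
  · intro B' _ _ hB' c z
    letI : Algebra R B' := ((algebraMap B B').comp (algebraMap R B)).toAlgebra
    have h1 := eq_one_of_content β u hI (T := B') (fun r hr => hB' _ (Ideal.mem_map_of_mem _ hr)) c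
    have e : str β B' = Spec.map (CommRingCat.ofHom (algebraMap B B')) ≫ βB := by
      show Spec.map (CommRingCat.ofHom ((algebraMap B B').comp (algebraMap R B))) ≫ β = _ ≫ Spec.map _ ≫ β
      rw [CommRingCat.ofHom_comp, Spec.map_comp, Category.assoc]
    rw [e] at h1
    rw [ha]
    erw [h1]
    exact _root_.one_mul z

/-- A finitely generated content is killed by an element outside each prime containing it. -/
theorem exists_notMem_mul_content {p : Ideal R} [p.IsPrime] (hc : (content I).FG) (hp : content I ≤ p) :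
    ∃ r ∉ p, ∀ x ∈ content I, r * x = 0 := by
  classical
  let Rp := Localization.AtPrime p
  let L := (content I).map (algebraMap R Rp)
  let m := IsLocalRing.maximalIdeal Rp
  have hLm : L ≤ m := Ideal.map_le_iff_le_comap.mpr (hp.trans (fun x hx =>
    (IsLocalization.AtPrime.to_map_mem_maximal_iff Rp p x).mpr hx))
  let T := Rp ⧸ (m * L)
  have hLz : L ≤ m • L := by
    refine Ideal.map_le_iff_le_comap.mpr fun r hr => ?_
    have h := content_rigid β u hI hV hβ (T := T) (fun a ha b hb => by
      rw [map_mul, IsScalarTower.algebraMap_apply R Rp T, IsScalarTower.algebraMap_apply R Rp T b,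
        Ideal.Quotient.algebraMap_eq, ← map_mul]
      exact Ideal.Quotient.eq_zero_iff_mem.mpr
        (Ideal.mul_mem_mul (hLm (Ideal.mem_map_of_mem _ ha)) (Ideal.mem_map_of_mem _ hb))) r hr
    rw [IsScalarTower.algebraMap_apply R Rp T, Ideal.Quotient.algebraMap_eq, Ideal.Quotient.eq_zero_iff_mem] at h
    exact h
  have hL : L = ⊥ := Submodule.eq_bot_of_le_smul_of_le_jacobson_bot m L (hc.map _) hLz
    (IsLocalRing.jacobson_eq_maximalIdeal ⊥ bot_ne_top).ge
  obtain ⟨T₀, hT₀⟩ := hc
  have hx : ∀ x ∈ content I, ∃ r : R, r ∉ p ∧ r * x = 0 := fun x hx => by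
    have h0 : algebraMap R Rp x = 0 := by
      rw [← Ideal.mem_bot, ← hL]; exact Ideal.mem_map_of_mem _ hx
    obtain ⟨r, hr⟩ := (IsLocalization.map_eq_zero_iff p.primeCompl Rp x).mp h0
    exact ⟨r, r.2, hr⟩
  choose r hr using hx
  let rT : T₀ → R := fun x => r x.1 (hT₀ ▸ Ideal.subset_span x.2)
  refine ⟨∏ x, rT x, fun h => ?_, fun x hx => ?_⟩
  · obtain ⟨x, -, hxp⟩ := Ideal.IsPrime.prod_mem_iff.mp h
    exact (hr x.1 _).1 hxp
  · rw [← hT₀] at hx
    refine Submodule.span_induction (p := fun y _ => (∏ x, rT x) * y = 0) ?_ ?_ ?_ ?_ hx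
    · intro y hy
      rw [← Finset.mul_prod_erase _ _ (Finset.mem_univ (⟨y, hy⟩ : T₀)), mul_right_comm]
      show rT ⟨y, hy⟩ * y * _ = 0
      rw [show rT ⟨y, hy⟩ * y = 0 from (hr y _).2, zero_mul]
    · exact mul_zero _
    · intro a b _ _ ha hb; rw [mul_add, ha, hb, add_zero]
    · intro a b _ hb; rw [smul_eq_mul, mul_left_comm, hb, mul_zero]

end Piece

end Groth.Agent.GrpSchLib.HomKernelIdeal
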