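import Groth.Agent.GrpSchLib.HomSplitRestrict
import Groth.Agent.GrpSchLib.SubgroupEqLocus

/-!
# Fibrewise monomorphism and fibrewise faithful flatness of homomorphisms of groups of multiplicative type

Near each point of a splitting covering the homomorphism is `D(φ)`, so both properties are locally constant.
-/

universe u

open CategoryTheory CategoryTheory.Limits MonoidalCategory CartesianMonoidalCategory MonObj AlgebraicGeometry

namespace Groth.Agent.GrpSchLib.HomSplitLocus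

open DSPtsLib (CoordM)
open DiagActionRigid (sp spm)
open SubgroupFactor (pull pull_single)
open HomSplitLocal (Ff baseMap)
open HomMonoLocus (Inj)

section Local

variable {S : Scheme.{u}} {H Q : Over S} {u : H ⟶ Q}

theorem ff_of_openCover {T : Scheme.{u}} {g : T ⟶ S} (𝒰 : T.OpenCover) (h : ∀ i, Ff u (𝒰.f i ≫ g)) : Ff u g := by
  have key : ∀ (P : MorphismProperty Scheme.{u}) [P.IsStableUnderBaseChange] [IsZariskiLocalAtTarget P],
      (∀ i, P ((Over.pullback (𝒰.f i ≫ g)).map u).left) → P ((Over.pullback g).map u).left := by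
    intro P _ _ hP
    refine IsZariskiLocalAtTarget.of_openCover (P := P) (𝒰.pullback₁ (pullback.snd Q.hom g)) fun i => ?_
    let k : pullback (pullback.snd Q.hom g) (𝒰.f i) ⟶ pullback Q.hom (𝒰.f i ≫ g) :=
      pullback.lift (pullback.fst _ _ ≫ pullback.fst Q.hom g) (pullback.snd _ _)
        (by rw [Category.assoc, pullback.condition, pullback.condition_assoc])
    have hk : k ≫ baseMap Q (𝒰.f i) g = pullback.fst (pullback.snd Q.hom g) (𝒰.f i) := by
      refine pullback.hom_ext ?_ ?_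
      · rw [Category.assoc, show baseMap Q (𝒰.f i) g ≫ pullback.fst Q.hom g = pullback.fst Q.hom (𝒰.f i ≫ g) from
          pullback.lift_fst _ _ _]
        exact pullback.lift_fst _ _ _
      · rw [Category.assoc, show baseMap Q (𝒰.f i) g ≫ pullback.snd Q.hom g = pullback.snd Q.hom (𝒰.f i ≫ g) ≫ 𝒰.f i from
          pullback.lift_snd _ _ _, ← Category.assoc, pullback.condition]
        exact congrArg (· ≫ 𝒰.f i) (pullback.lift_snd _ _ _)
    have hs := IsPullback.of_hasPullback ((Over.pullback g).map u).left (k ≫ baseMap Q (𝒰.f i) g)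
    have h2 := MorphismProperty.of_isPullback (P := P)
      (IsPullback.of_right' hs (HomSplitLocal.isPullback_comp u (𝒰.f i) g)) (hP i)
    rw [hk] at h2
    exact h2
  exact ⟨key @Flat fun i => (h i).1, key @Surjective fun i => (h i).2⟩

theorem inj_of_openCover [GrpObj H] [GrpObj Q] {T : Scheme.{u}} {g : T ⟶ S} (𝒰 : T.OpenCover)
    (h : ∀ i, Inj u (𝒰.f i ≫ g)) : Inj u g := by
  intro Y q x hx
  refine Over.OverMorphism.ext (Scheme.Cover.hom_ext (𝒰.pullback₁ q.left) _ _ fun i => ?_)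
  let Y' : Over S := Over.mk (pullback.fst q.left (𝒰.f i) ≫ Y.hom)
  let p : Y' ⟶ Y := Over.homMk (pullback.fst q.left (𝒰.f i)) rfl
  have h1 := h i Y' (Over.homMk (pullback.snd q.left (𝒰.f i)) (by
    show _ ≫ 𝒰.f i ≫ g = pullback.fst q.left (𝒰.f i) ≫ Y.hom
    rw [← Category.assoc, ← pullback.condition, Category.assoc]
    exact congrArg (_ ≫ ·) (Over.w q))) (p ≫ x) (by rw [Category.assoc, hx, MonObj.comp_one])
  rw [← MonObj.comp_one p] at h1
  exact congrArg (fun m => Over.Hom.left m) h1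

end Local

section Base

variable {S : Scheme.{u}} {H Q : Over S} [GrpObj H] [GrpObj Q] {u : H ⟶ Q} [IsMonHom u]
  {R : Type u} [CommRing R] {β : Spec (CommRingCat.of R) ⟶ S} {MH MQ : Type} [AddCommGroup MH] [AddCommGroup MQ]
  {χH : ∀ (T : Type u) [CommRing T] [Algebra R T], (CoordM.{u} MH →+* T) → (sp β T ⟶ H)}
  (hHnat : ∀ {T₁ T₂ : Type u} [CommRing T₁] [Algebra R T₁] [CommRing T₂] [Algebra R T₂] (φ : T₁ →ₐ[R] T₂)
      (c : CoordM.{u} MH →+* T₁), spm β φ ≫ χH T₁ c = χH T₂ (φ.toRingHom.comp c))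
  (hHmul : ∀ {T₁ : Type u} [CommRing T₁] [Algebra R T₁] (c c' d : CoordM.{u} MH →+* T₁),
      (∀ m, d (MonoidAlgebra.single m 1) = c (MonoidAlgebra.single m 1) * c' (MonoidAlgebra.single m 1)) →
        χH T₁ c * χH T₁ c' = χH T₁ d)
  (hHbij : ∀ (T₁ : Type u) [CommRing T₁] [Algebra R T₁], Function.Bijective (χH T₁))
  {χQ : ∀ (T : Type u) [CommRing T] [Algebra R T], (CoordM.{u} MQ →+* T) → (sp β T ⟶ Q)}
  (hQnat : ∀ {T₁ T₂ : Type u} [CommRing T₁] [Algebra R T₁] [CommRing T₂] [Algebra R T₂] (φ : T₁ →ₐ[R] T₂)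
      (c : CoordM.{u} MQ →+* T₁), spm β φ ≫ χQ T₁ c = χQ T₂ (φ.toRingHom.comp c))
  (hQmul : ∀ {T₁ : Type u} [CommRing T₁] [Algebra R T₁] (c c' d : CoordM.{u} MQ →+* T₁),
      (∀ m, d (MonoidAlgebra.single m 1) = c (MonoidAlgebra.single m 1) * c' (MonoidAlgebra.single m 1)) →
        χQ T₁ c * χQ T₁ c' = χQ T₁ d)
  (hQbij : ∀ (T₁ : Type u) [CommRing T₁] [Algebra R T₁], Function.Bijective (χQ T₁))

theorem chi_one {X : Over S} [GrpObj X] {M : Type} [AddCommGroup M]
    {χ : ∀ (T : Type u) [CommRing T] [Algebra R T], (CoordM.{u} M →+* T) → (sp β T ⟶ X)}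
    (hmul : ∀ {T₁ : Type u} [CommRing T₁] [Algebra R T₁] (c c' d : CoordM.{u} M →+* T₁),
      (∀ m, d (MonoidAlgebra.single m 1) = c (MonoidAlgebra.single m 1) * c' (MonoidAlgebra.single m 1)) →
        χ T₁ c * χ T₁ c' = χ T₁ d)
    {T : Type u} [CommRing T] [Algebra R T] (c : CoordM.{u} M →+* T) (hc : ∀ m, c (MonoidAlgebra.single m 1) = 1) :
    χ T c = 1 := by
  have h := congrArg (fun z => (χ T c)⁻¹ * z) (hmul c c c (fun m => by rw [hc, _root_.one_mul]))
  simpa only [inv_mul_cancel_left, inv_mul_cancel] using h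

theorem eq_one_of_chi {X : Over S} [GrpObj X] {M : Type} [AddCommGroup M]
    {χ : ∀ (T : Type u) [CommRing T] [Algebra R T], (CoordM.{u} M →+* T) → (sp β T ⟶ X)}
    (hmul : ∀ {T₁ : Type u} [CommRing T₁] [Algebra R T₁] (c c' d : CoordM.{u} M →+* T₁),
      (∀ m, d (MonoidAlgebra.single m 1) = c (MonoidAlgebra.single m 1) * c' (MonoidAlgebra.single m 1)) →
        χ T₁ c * χ T₁ c' = χ T₁ d)
    (hbij : ∀ (T₁ : Type u) [CommRing T₁] [Algebra R T₁], Function.Bijective (χ T₁))
    {T : Type u} [CommRing T] [Algebra R T] {c : CoordM.{u} M →+* T} (hc : χ T c = 1) (m : Multiplicative M) :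
    c (MonoidAlgebra.single m 1) = 1 := by
  have h := (hbij T).1 (hc.trans (chi_one hmul (HomMonoLocus.charOf (R := R) (1 : Multiplicative M →* T))
    (fun m => by rw [HomMonoLocus.charOf_single]; rfl)).symm)
  rw [h, HomMonoLocus.charOf_single]
  rfl

variable {φ : MQ →+ MH}
  (hφ : ∀ (T : Type u) [CommRing T] [Algebra R T] (c : CoordM.{u} MH →+* T), χH T c ≫ u = χQ T (pull φ c))

include hHnat hHbij hQnat hQbij hφ in
theorem ff_of_injective (h : Function.Injective φ) : Ff u β :=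
  ⟨(HomSplitLocal.arrow_iso χH hHnat hHbij χQ hQnat hQbij hφ @Flat).mpr (HomSplitLocal.flat_surjective_of_injective R φ h).1,
    (HomSplitLocal.arrow_iso χH hHnat hHbij χQ hQnat hQbij hφ @Surjective).mpr
      (HomSplitLocal.flat_surjective_of_injective R φ h).2⟩

include hHnat hHbij hQnat hQbij hφ in
theorem injective_of_ff [Nontrivial R] (h : Ff u β) : Function.Injective φ := by
  have hF := (HomSplitLocal.arrow_iso χH hHnat hHbij χQ hQnat hQbij hφ @Flat).mp h.1
  have hS := (HomSplitLocal.arrow_iso χH hHnat hHbij χQ hQnat hQbij hφ @Surjective).mp h.2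
  rw [HasRingHomProperty.Spec_iff (P := @Flat)] at hF
  have hinj := ((RingHom.FaithfullyFlat.iff_flat_and_comap_surjective
    (f := MonoidAlgebra.mapDomainRingHom R (AddMonoidHom.toMultiplicative φ))).mpr ⟨hF, hS.1⟩).injective
  intro a b hab
  have := hinj (a₁ := MonoidAlgebra.single (Multiplicative.ofAdd a) 1) (a₂ := MonoidAlgebra.single (Multiplicative.ofAdd b) 1)
    (by simp [hab])
  exact congrArg Multiplicative.toAdd (MonoidAlgebra.of_injective this)

include hHnat hHmul hHbij hQmul hQbij hφ in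
theorem inj_of_surjective (h : Function.Surjective φ) : Inj u β := by
  intro Y q x hx
  refine Over.OverMorphism.ext (Scheme.Cover.hom_ext Y.left.affineCover _ _ fun i => ?_)
  obtain ⟨B, hB⟩ : ∃ B : CommRingCat.{u}, Y.left.affineCover.X i = Spec B := ⟨_, rfl⟩
  obtain ⟨io, hio⟩ : ∃ io : Spec B ⟶ Y.left, Y.left.affineCover.f i = eqToHom hB ≫ io :=
    ⟨eqToHom hB.symm ≫ Y.left.affineCover.f i, by simp⟩
  rw [hio, Category.assoc, Category.assoc]
  congr 1
  obtain ⟨τ, hτ⟩ : ∃ τ, Spec.map τ = io ≫ q.left := ⟨_, Spec.map_preimage _⟩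
  letI : Algebra R B := τ.hom.toAlgebra
  let t : sp β B ⟶ Y := Over.homMk io (by
    show io ≫ Y.hom = Spec.map τ ≫ β
    rw [hτ, Category.assoc]
    exact congrArg (io ≫ ·) (Over.w q).symm)
  obtain ⟨c, hc⟩ := (hHbij B).2 (t ≫ x)
  have h1 : χQ B (pull φ c) = 1 := by rw [← hφ, hc, Category.assoc, hx, MonObj.comp_one]
  have h2 : t ≫ x = 1 := by
    rw [← hc]
    refine chi_one hHmul c fun n => ?_
    obtain ⟨m, hm⟩ := h (Multiplicative.toAdd n)
    have := eq_one_of_chi hQmul hQbij h1 (Multiplicative.ofAdd m)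
    rw [pull_single] at this
    rwa [show AddMonoidHom.toMultiplicative φ (Multiplicative.ofAdd m) = n from congrArg Multiplicative.ofAdd hm] at this
  rw [← MonObj.comp_one t] at h2
  exact congrArg (fun m => Over.Hom.left m) h2

include hHnat hHmul hHbij hQmul hφ in
theorem surjective_of_inj [Nontrivial R] (h : Inj u β) : Function.Surjective φ := by
  intro n
  let C := Multiplicative MH ⧸ (AddMonoidHom.toMultiplicative φ).range
  let T := MonoidAlgebra R C
  let w : Multiplicative MH →* T := (MonoidAlgebra.of R C).comp (QuotientGroup.mk' _)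
  let c : CoordM.{u} MH →+* T := HomMonoLocus.charOf (R := R) w
  have h1 : χH T c ≫ u = 1 := by
    rw [hφ]
    refine chi_one hQmul _ fun m => ?_
    rw [pull_single, HomMonoLocus.charOf_single]
    show MonoidAlgebra.of R C (QuotientGroup.mk _) = 1
    rw [(QuotientGroup.eq_one_iff _).mpr (MonoidHom.mem_range.mpr ⟨m, rfl⟩), map_one]
  have h2 := eq_one_of_chi hHmul hHbij (h _ (Over.homMk (Spec.map (CommRingCat.ofHom (algebraMap R T))) rfl) _ h1)
    (Multiplicative.ofAdd n)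
  rw [HomMonoLocus.charOf_single] at h2
  have h3 := MonoidAlgebra.of_injective (R := R) (h2.trans (map_one (MonoidAlgebra.of R C)).symm)
  obtain ⟨m, hm⟩ := (QuotientGroup.eq_one_iff _).mp h3
  exact ⟨Multiplicative.toAdd m, congrArg Multiplicative.toAdd hm⟩

end Base

section Piece

variable {S : Scheme.{u}} {H Q : Over S} [GrpObj H] [GrpObj Q] {u : H ⟶ Q} [IsMonHom u]
  {R : Type u} [CommRing R] {β : Spec (CommRingCat.of R) ⟶ S} {MH MQ : Type} [AddCommGroup MH] [AddCommGroup MQ]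
  {χH : ∀ (T : Type u) [CommRing T] [Algebra R T], (CoordM.{u} MH →+* T) → (sp β T ⟶ H)}
  (hHnat : ∀ {T₁ T₂ : Type u} [CommRing T₁] [Algebra R T₁] [CommRing T₂] [Algebra R T₂] (φ : T₁ →ₐ[R] T₂)
      (c : CoordM.{u} MH →+* T₁), spm β φ ≫ χH T₁ c = χH T₂ (φ.toRingHom.comp c))
  (hHmul : ∀ {T₁ : Type u} [CommRing T₁] [Algebra R T₁] (c c' d : CoordM.{u} MH →+* T₁),
      (∀ m, d (MonoidAlgebra.single m 1) = c (MonoidAlgebra.single m 1) * c' (MonoidAlgebra.single m 1)) →
        χH T₁ c * χH T₁ c' = χH T₁ d)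
  (hHbij : ∀ (T₁ : Type u) [CommRing T₁] [Algebra R T₁], Function.Bijective (χH T₁))
  {χQ : ∀ (T : Type u) [CommRing T] [Algebra R T], (CoordM.{u} MQ →+* T) → (sp β T ⟶ Q)}
  (hQnat : ∀ {T₁ T₂ : Type u} [CommRing T₁] [Algebra R T₁] [CommRing T₂] [Algebra R T₂] (φ : T₁ →ₐ[R] T₂)
      (c : CoordM.{u} MQ →+* T₁), spm β φ ≫ χQ T₁ c = χQ T₂ (φ.toRingHom.comp c))
  (hQmul : ∀ {T₁ : Type u} [CommRing T₁] [Algebra R T₁] (c c' d : CoordM.{u} MQ →+* T₁),
      (∀ m, d (MonoidAlgebra.single m 1) = c (MonoidAlgebra.single m 1) * c' (MonoidAlgebra.single m 1)) →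
        χQ T₁ c * χQ T₁ c' = χQ T₁ d)
  (hQbij : ∀ (T₁ : Type u) [CommRing T₁] [Algebra R T₁], Function.Bijective (χQ T₁))
  {d : R} {φ : MQ →+ MH}
  (hφ : ∀ (T : Type u) [CommRing T] [Algebra R T], IsUnit (algebraMap R T d) → ∀ c : CoordM.{u} MH →+* T,
    χH T c ≫ u = χQ T (pull φ c))

include hHnat hHmul hHbij hQnat hQmul hQbij hφ in
theorem tests (R' : Type u) [CommRing R'] [Algebra R R'] (hd' : IsUnit (algebraMap R R' d)) :
    (Function.Injective φ → Ff u (Spec.map (CommRingCat.ofHom (algebraMap R R')) ≫ β)) ∧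
    (Nontrivial R' → Ff u (Spec.map (CommRingCat.ofHom (algebraMap R R')) ≫ β) → Function.Injective φ) ∧
    (Function.Surjective φ → Inj u (Spec.map (CommRingCat.ofHom (algebraMap R R')) ≫ β)) ∧
    (Nontrivial R' → Inj u (Spec.map (CommRingCat.ofHom (algebraMap R R')) ≫ β) → Function.Surjective φ) := by
  have hφ' : ∀ (T : Type u) [CommRing T] [Algebra R' T] (c : CoordM.{u} MH →+* T),
      restrict χH R' T c ≫ u = restrict χQ R' T (pull φ c) := by
    intro T _ _ c
    letI : Algebra R T := ((algebraMap R' T).comp (algebraMap R R')).toAlgebra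
    haveI : IsScalarTower R R' T := IsScalarTower.of_algebraMap_eq' rfl
    have hu : IsUnit (algebraMap R T d) := by
      rw [IsScalarTower.algebraMap_apply R R' T]
      exact hd'.map _
    rw [restrict_eq χH R' T c, restrict_eq χQ R' T (pull φ c), Category.assoc, hφ T hu c]
  exact ⟨fun h => ff_of_injective (fun f c => restrict_nat χH R' hHnat f c) (restrict_bij χH R' hHbij)
      (fun f c => restrict_nat χQ R' hQnat f c) (restrict_bij χQ R' hQbij) hφ' h,
    fun hn h => injective_of_ff (fun f c => restrict_nat χH R' hHnat f c) (restrict_bij χH R' hHbij)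
      (fun f c => restrict_nat χQ R' hQnat f c) (restrict_bij χQ R' hQbij) hφ' h,
    fun h => inj_of_surjective (fun f c => restrict_nat χH R' hHnat f c) (fun c c' d hd => restrict_mul χH R' hHmul c c' d hd)
      (restrict_bij χH R' hHbij) (fun c c' d hd => restrict_mul χQ R' hQmul c c' d hd) (restrict_bij χQ R' hQbij) hφ' h,
    fun hn h => surjective_of_inj (fun f c => restrict_nat χH R' hHnat f c) (fun c c' d hd => restrict_mul χH R' hHmul c c' d hd)
      (restrict_bij χH R' hHbij) (fun c c' d hd => restrict_mul χQ R' hQmul c c' d hd) hφ' h⟩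

theorem fibre_point (q : Spec (CommRingCat.of (Localization.Away d))) :
    (Spec.map (CommRingCat.ofHom (algebraMap R (PrimeSpectrum.asIdeal q).ResidueField)) ≫ β)
        (IsLocalRing.closedPoint (PrimeSpectrum.asIdeal q).ResidueField) =
      β (Spec.map (CommRingCat.ofHom (algebraMap R (Localization.Away d))) q) := by
  rw [Scheme.Hom.comp_apply]
  refine congrArg (fun x => β x) (PrimeSpectrum.ext ?_)
  show Ideal.comap (algebraMap R (PrimeSpectrum.asIdeal q).ResidueField)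
      (IsLocalRing.maximalIdeal (PrimeSpectrum.asIdeal q).ResidueField) =
    Ideal.comap (algebraMap R (Localization.Away d)) (PrimeSpectrum.asIdeal q)
  rw [IsLocalRing.maximalIdeal_eq_bot, ← RingHom.ker_eq_comap_bot,
    IsScalarTower.algebraMap_eq R (Localization.Away d) (PrimeSpectrum.asIdeal q).ResidueField, ← RingHom.comap_ker,
    Ideal.ker_algebraMap_residueField]

include hHnat hHmul hHbij hQnat hQmul hQbij hφ in
theorem dichotomy :
    (Ff u (Spec.map (CommRingCat.ofHom (algebraMap R (Localization.Away d))) ≫ β) ∨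
      ∀ q : Spec (CommRingCat.of (Localization.Away d)),
        ¬ Ff u (S.fromSpecResidueField (β (Spec.map (CommRingCat.ofHom (algebraMap R (Localization.Away d))) q)))) ∧
    (Inj u (Spec.map (CommRingCat.ofHom (algebraMap R (Localization.Away d))) ≫ β) ∨
      ∀ q : Spec (CommRingCat.of (Localization.Away d)),
        ¬ Inj u (S.fromSpecResidueField (β (Spec.map (CommRingCat.ofHom (algebraMap R (Localization.Away d))) q)))) := by
  have hu : ∀ q : Spec (CommRingCat.of (Localization.Away d)),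
      IsUnit (algebraMap R (PrimeSpectrum.asIdeal q).ResidueField d) := fun q => by
    rw [IsScalarTower.algebraMap_apply R (Localization.Away d) (PrimeSpectrum.asIdeal q).ResidueField]
    exact (IsLocalization.Away.algebraMap_isUnit d).map _
  refine ⟨?_, ?_⟩
  · by_cases h : Function.Injective φ
    · exact Or.inl ((tests hHnat hHmul hHbij hQnat hQmul hQbij hφ _ (IsLocalization.Away.algebraMap_isUnit d)).1 h)
    · refine Or.inr fun q hq => h ?_
      refine (tests hHnat hHmul hHbij hQnat hQmul hQbij hφ _ (hu q)).2.1 inferInstance ?_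
      rw [← fibre_point q] at hq
      rw [← Scheme.descResidueField_stalkClosedPointTo_fromSpecResidueField _ S
        (Spec.map (CommRingCat.ofHom (algebraMap R (PrimeSpectrum.asIdeal q).ResidueField)) ≫ β)]
      exact hq.comp _
  · by_cases h : Function.Surjective φ
    · exact Or.inl ((tests hHnat hHmul hHbij hQnat hQmul hQbij hφ _ (IsLocalization.Away.algebraMap_isUnit d)).2.2.1 h)
    · refine Or.inr fun q hq => h ?_
      refine (tests hHnat hHmul hHbij hQnat hQmul hQbij hφ _ (hu q)).2.2.2 inferInstance ?_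
      rw [← fibre_point q] at hq
      rw [← Scheme.descResidueField_stalkClosedPointTo_fromSpecResidueField _ S
        (Spec.map (CommRingCat.ofHom (algebraMap R (PrimeSpectrum.asIdeal q).ResidueField)) ≫ β)]
      exact hq.comp _

end Piece

section Global

variable {S : Scheme.{u}} {H Q : Over S} [GrpObj H] [GrpObj Q] {u : H ⟶ Q} [IsMonHom u]

theorem exists_nbhd
    (hH : TwC.Locally S TwC.Topology.fpqc (fun S' g => ∃ (M : Type) (_ : AddCommGroup M),
      Nonempty (Grp.mk (Red.bc g H) ≅ Grp.mk (Red.DS S' M))))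
    (hQ : SGA3x.IsMultTypeFT Q) :
    ∃ (P : Scheme.{u}) (f : P ⟶ S), Flat f ∧ Surjective f ∧ (∀ E : Set S, IsOpen (f ⁻¹' E) → IsOpen E) ∧
      FpqcDescLib.Covers f ∧ ∀ z : P, ∃ (R : CommRingCat.{u}) (j : Spec R ⟶ P), IsOpenImmersion j ∧ z ∈ Set.range j ∧
        (Ff u (j ≫ f) ∨ ∀ p, ¬ Ff u (S.fromSpecResidueField (f (j p)))) ∧
        (Inj u (j ≫ f) ∨ ∀ p, ¬ Inj u (S.fromSpecResidueField (f (j p)))) := by
  obtain ⟨SH, fH, hHflat, hHsurj, hHqc, hHloc⟩ := hH
  obtain ⟨SQ, fQ, hQflat, hQsurj, hQqc, hQloc⟩ := hQ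
  haveI := hHflat; haveI := hHsurj; haveI := hQflat; haveI := hQsurj
  have hcH : FpqcDescLib.Covers fH :=
    FpqcDescLib.covers_of_hcov fH ⟨SH, fH, 𝟙 _, Category.id_comp _, hHsurj, hHflat, hHqc⟩
  have hcQ : FpqcDescLib.Covers fQ :=
    FpqcDescLib.covers_of_hcov fQ ⟨SQ, fQ, 𝟙 _, Category.id_comp _, hQsurj, hQflat, hQqc⟩
  let f : pullback fH fQ ⟶ S := pullback.fst fH fQ ≫ fH
  have hcP : FpqcDescLib.Covers (pullback.fst fH fQ) :=
    hcQ.pullback fH _ (pullback.snd fH fQ) (IsPullback.of_hasPullback fH fQ)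
  have hcf : FpqcDescLib.Covers f := hcP.comp hcH
  refine ⟨_, f, inferInstance, inferInstance, fun E hE => ?_, hcf, fun z => ?_⟩
  · refine HomUnitLocus.isOpen_of_preimage fH hHqc ?_
    obtain ⟨Z, r, hr⟩ := hcP
    obtain ⟨hfl, hcov⟩ := SubgroupEqLocus.flat_hcov_of_isCovering hr
    refine HomUnitLocus.isOpen_of_preimage (r ≫ pullback.fst fH fQ) hcov ?_
    have he : (r ≫ pullback.fst fH fQ) ⁻¹' (fH ⁻¹' E) = r ⁻¹' (f ⁻¹' E) := Set.ext fun w => by
      show fH ((r ≫ pullback.fst fH fQ) w) ∈ E ↔ f (r w) ∈ E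
      simp only [f, Scheme.Hom.comp_apply]
    rw [he]
    exact hE.preimage r.continuous
  obtain ⟨UH, hzH, MH, iMH, ⟨eH⟩⟩ := hHloc (pullback.fst fH fQ z)
  obtain ⟨UQ, hzQ, MQ, iMQ, hfg, ⟨eQ⟩⟩ := hQloc (pullback.snd fH fQ z)
  obtain ⟨W, hW, hzW, hWle⟩ := exists_isAffineOpen_mem_and_subset
    (show z ∈ pullback.fst fH fQ ⁻¹ᵁ UH ⊓ pullback.snd fH fQ ⁻¹ᵁ UQ from ⟨hzH, hzQ⟩)
  have hmem : ∀ r, hW.fromSpec r ∈ W := fun r => by rw [← SetLike.mem_coe, ← hW.range_fromSpec]; exact ⟨r, rfl⟩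
  have hrH : Set.range (hW.fromSpec ≫ pullback.fst fH fQ) ⊆ Set.range UH.ι := by
    rintro _ ⟨r, rfl⟩
    rw [Scheme.Opens.range_ι]
    exact (hWle (hmem r)).1
  have hrQ : Set.range (hW.fromSpec ≫ pullback.snd fH fQ) ⊆ Set.range UQ.ι := by
    rintro _ ⟨r, rfl⟩
    rw [Scheme.Opens.range_ι]
    exact (hWle (hmem r)).2
  obtain ⟨χH, hHnat, hHmul, hHbij⟩ := SubgroupFactor.exists_char (β := hW.fromSpec ≫ f) (UH.ι ≫ fH) eH
    (IsOpenImmersion.lift UH.ι _ hrH) (by rw [IsOpenImmersion.lift_fac_assoc, Category.assoc])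
  obtain ⟨χQ, hQnat, hQmul, hQbij⟩ := SubgroupFactor.exists_char (β := hW.fromSpec ≫ f) (UQ.ι ≫ fQ) eQ
    (IsOpenImmersion.lift UQ.ι _ hrQ) (by
      rw [IsOpenImmersion.lift_fac_assoc, Category.assoc]
      exact congrArg (hW.fromSpec ≫ ·) pullback.condition.symm)
  rw [← SetLike.mem_coe, ← hW.range_fromSpec] at hzW
  obtain ⟨p, hp⟩ := hzW
  haveI : p.asIdeal.IsPrime := p.isPrime
  obtain ⟨d, hd, φ, hφ⟩ := HomSplitLocal.exists_phi_near u χH hHnat hHmul χQ hQnat hQmul hQbij p.asIdeal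
  let R := Γ(pullback fH fQ, W)
  let j : Spec (CommRingCat.of (Localization.Away d)) ⟶ pullback fH fQ :=
    Spec.map (CommRingCat.ofHom (algebraMap R (Localization.Away d))) ≫ hW.fromSpec
  have hpd : p ∈ Set.range (PrimeSpectrum.comap (algebraMap R (Localization.Away d))) := by
    rw [PrimeSpectrum.localization_away_comap_range (Localization.Away d) d]
    exact hd
  obtain ⟨p', hp'⟩ := hpd
  refine ⟨_, j, inferInstance, ⟨p', ?_⟩, ?_, ?_⟩
  · rw [Scheme.Hom.comp_apply, ← hp, ← hp']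
    rfl
  all_goals
    obtain ⟨hff, hinj⟩ := dichotomy (β := hW.fromSpec ≫ f) hHnat hHmul hHbij hQnat hQmul hQbij hφ
  · simp only [j, Category.assoc, Scheme.Hom.comp_apply] at hff ⊢
    exact hff
  · simp only [j, Category.assoc, Scheme.Hom.comp_apply] at hinj ⊢
    exact hinj

theorem residue_of_field (X : ∀ {T : Scheme.{u}}, (T ⟶ S) → Prop)
    (hdesc : ∀ {T T' : Scheme.{u}} {g : T ⟶ S} (l : T' ⟶ T), Flat l → Surjective l → FpqcDescLib.Covers l →
      X (l ≫ g) → X g)
    {K : Type u} [Field K] (b : Spec (CommRingCat.of K) ⟶ S) (h : X b) :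
    X (S.fromSpecResidueField (b (IsLocalRing.closedPoint K))) := by
  rw [← Scheme.descResidueField_stalkClosedPointTo_fromSpecResidueField K S b] at h
  have key : ∀ {k : Type u} [Field k] (φ : CommRingCat.of k ⟶ CommRingCat.of K),
      Flat (Spec.map φ) ∧ Surjective (Spec.map φ) := by
    intro k _ φ
    refine ⟨?_, ⟨fun x => ⟨(⟨⊥, Ideal.isPrime_bot⟩ : PrimeSpectrum K), Subsingleton.elim (α := PrimeSpectrum k) _ x⟩⟩⟩
    rw [HasRingHomProperty.Spec_iff (P := @Flat)]
    letI := φ.hom.toAlgebra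
    show RingHom.Flat (algebraMap k K)
    rw [RingHom.flat_algebraMap_iff]
    infer_instance
  obtain ⟨h1, h2⟩ := key (Scheme.descResidueField (Scheme.stalkClosedPointTo b))
  exact hdesc _ h1 h2 (HomUnitLocus.covers_field _) h

/-- The common argument: a property of bases which is local, descends and is locally constant cuts out a clopen subset. -/
theorem clopen_locus (X : ∀ {T : Scheme.{u}}, (T ⟶ S) → Prop)
    (hcomp : ∀ {T T' : Scheme.{u}} {g : T ⟶ S} (l : T' ⟶ T), X g → X (l ≫ g))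
    (hdesc : ∀ {T T' : Scheme.{u}} {g : T ⟶ S} (l : T' ⟶ T), Flat l → Surjective l → FpqcDescLib.Covers l →
      X (l ≫ g) → X g)
    (hloc : ∀ {T : Scheme.{u}} {g : T ⟶ S} (𝒰 : Scheme.OpenCover.{u} T), (∀ i, X (𝒰.f i ≫ g)) → X g)
    {P : Scheme.{u}} (f : P ⟶ S) [Flat f] [Surjective f] (hopen : ∀ E : Set S, IsOpen (f ⁻¹' E) → IsOpen E)
    (hcov : FpqcDescLib.Covers f)
    (hpiece : ∀ z : P, ∃ (R : CommRingCat.{u}) (j : Spec R ⟶ P), IsOpenImmersion j ∧ z ∈ Set.range j ∧
      (X (j ≫ f) ∨ ∀ p, ¬ X (S.fromSpecResidueField (f (j p))))) :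
    ∃ U : S.Opens, IsClosed (U : Set S) ∧ (∀ s : S, s ∈ U ↔ X (S.fromSpecResidueField s)) ∧ X U.ι := by
  let E : Set S := {s | X (S.fromSpecResidueField s)}
  choose R j hj hzj hgb using hpiece
  have hgood : ∀ z, X (j z ≫ f) → ∀ p, f (j z p) ∈ E := by
    intro z hz p
    show X _
    let b := (Spec (R z)).fromSpecResidueField p ≫ j z ≫ f
    let K := (Spec (R z)).residueField p
    have hb : b (IsLocalRing.closedPoint K) = f (j z p) := by
      show ((Spec (R z)).fromSpecResidueField p ≫ j z ≫ f) (IsLocalRing.closedPoint K) = _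
      rw [Scheme.Hom.comp_apply, Scheme.Hom.comp_apply, Scheme.fromSpecResidueField_apply]
    rw [← hb]
    exact residue_of_field X hdesc b (hcomp _ hz)
  have hunion : ∀ Y : Set P, (∀ y ∈ Y, Set.range (j y) ⊆ Y) → IsOpen Y := fun Y hY => by
    rw [isOpen_iff_forall_mem_open]
    exact fun y hy => ⟨_, hY y hy, (j y).isOpenEmbedding.isOpen_range, hzj y⟩
  have hE : IsOpen E := hopen E (hunion _ fun y hy => by
    rintro _ ⟨p, rfl⟩
    rcases hgb y with h | h
    · exact hgood y h p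
    · obtain ⟨q, hq⟩ := hzj y
      exact absurd (show X (S.fromSpecResidueField (f (j y q))) by rw [hq]; exact hy) (h q))
  have hE' : IsOpen Eᶜ := hopen Eᶜ (hunion _ fun y hy => by
    rintro _ ⟨p, rfl⟩
    rcases hgb y with h | h
    · obtain ⟨q, hq⟩ := hzj y
      exact absurd (show f y ∈ E by rw [← hq]; exact hgood y h q) hy
    · exact h p)
  refine ⟨⟨E, hE⟩, ⟨hE'⟩, fun s => Iff.rfl, ?_⟩
  let U0 : S.Opens := ⟨E, hE⟩
  refine hdesc (pullback.fst U0.ι f) inferInstance inferInstance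
    (hcov.pullback U0.ι _ (pullback.snd U0.ι f) (IsPullback.of_hasPullback _ _)) ?_
  let T := pullback U0.ι f
  let pr : T ⟶ P := pullback.snd U0.ι f
  let 𝒰 : T.OpenCover := Scheme.openCoverOfIsOpenCover T (fun t => pr ⁻¹ᵁ (j (pr t)).opensRange)
    (TopologicalSpace.Opens.ext (Set.eq_univ_of_forall fun t => by
      simp only [TopologicalSpace.Opens.coe_iSup, Set.mem_iUnion]
      exact ⟨t, hzj (pr t)⟩))
  refine hloc 𝒰 fun t => ?_
  let O : T.Opens := pr ⁻¹ᵁ (j (pr t)).opensRange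
  have hrange : Set.range (O.ι ≫ pr) ⊆ Set.range (j (pr t)) := by
    rintro _ ⟨w, rfl⟩; exact w.2
  have hX : X (j (pr t) ≫ f) := by
    refine (hgb (pr t)).resolve_right fun h => ?_
    obtain ⟨q, hq⟩ := hzj (pr t)
    refine h q ?_
    have hEt : f (pr t) ∈ E := by
      rw [← Scheme.Hom.comp_apply, ← pullback.condition, Scheme.Hom.comp_apply]
      exact Subtype.coe_prop _
    rw [hq]; exact hEt
  have he : 𝒰.f t ≫ pullback.fst U0.ι f ≫ U0.ι = IsOpenImmersion.lift (j (pr t)) _ hrange ≫ j (pr t) ≫ f := by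
    rw [IsOpenImmersion.lift_fac_assoc, pullback.condition, Category.assoc]
    rfl
  rw [he]
  exact hcomp _ hX

theorem mono_locus
    (hH : TwC.Locally S TwC.Topology.fpqc (fun S' g => ∃ (M : Type) (_ : AddCommGroup M),
      Nonempty (Grp.mk (Red.bc g H) ≅ Grp.mk (Red.DS S' M))))
    (hQ : SGA3x.IsMultTypeFT Q) :
    ∃ U : S.Opens, IsClosed (U : Set S) ∧ (∀ s : S, s ∈ U ↔ Inj u (S.fromSpecResidueField s)) ∧ Inj u U.ι := by
  obtain ⟨P, f, hf, hs, hopen, hcov, hp⟩ := exists_nbhd (u := u) hH hQ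
  exact clopen_locus (fun g => Inj u g) (fun l h => h.comp l) (fun l _ _ hl h => Inj.of_covers l hl h)
    (fun 𝒰 h => inj_of_openCover 𝒰 h) f hopen hcov
    fun z => by obtain ⟨R, j, hj, hz, -, h⟩ := hp z; exact ⟨R, j, hj, hz, h⟩

theorem ff_locus
    (hH : TwC.Locally S TwC.Topology.fpqc (fun S' g => ∃ (M : Type) (_ : AddCommGroup M),
      Nonempty (Grp.mk (Red.bc g H) ≅ Grp.mk (Red.DS S' M))))
    (hQ : SGA3x.IsMultTypeFT Q) :
    ∃ U : S.Opens, IsClosed (U : Set S) ∧ (∀ s : S, s ∈ U ↔ Ff u (S.fromSpecResidueField s)) ∧ Ff u U.ι := by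
  obtain ⟨P, f, hf, hs, hopen, hcov, hp⟩ := exists_nbhd (u := u) hH hQ
  exact clopen_locus (fun g => Ff u g) (fun l h => h.comp l)
    (fun l _ _ _ h => by exact Ff.of_flat_surjective l h)
    (fun 𝒰 h => ff_of_openCover 𝒰 h) f hopen hcov
    fun z => by obtain ⟨R, j, hj, hz, h, -⟩ := hp z; exact ⟨R, j, hj, hz, h⟩

end Global

end Groth.Agent.GrpSchLib.HomSplitLocus
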