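import Groth.Agent.GrpSchLib.HomSplitLocal

/-!
# Systems of characters over an algebra over the base

A system of characters of a split group over `Spec R` restricts to each `R`-algebra.
-/

universe u

open CategoryTheory CategoryTheory.Limits MonoidalCategory CartesianMonoidalCategory MonObj AlgebraicGeometry

namespace Groth.Agent.GrpSchLib.HomSplitLocus

open DSPtsLib (CoordM)
open DiagActionRigid (sp spm)
open SubgroupFactor (pull pull_single)
open HomSplitLocal (Ff baseMap)
open HomMonoLocus (Inj)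

section Restrict

variable {S : Scheme.{u}} {R : Type u} [CommRing R]

theorem restrictTr_w (β : Spec (CommRingCat.of R) ⟶ S) (R' : Type u) [CommRing R'] [Algebra R R'] (T : Type u)
    [CommRing T] [Algebra R' T] [Algebra R T] [IsScalarTower R R' T] :
    (sp (Spec.map (CommRingCat.ofHom (algebraMap R R')) ≫ β) T).hom = (sp β T).hom := by
  show Spec.map _ ≫ Spec.map _ ≫ β = Spec.map (CommRingCat.ofHom (algebraMap R T)) ≫ β
  rw [← Spec.map_comp_assoc, ← CommRingCat.ofHom_comp, ← IsScalarTower.algebraMap_eq]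

noncomputable def restrictTr (β : Spec (CommRingCat.of R) ⟶ S) (R' : Type u) [CommRing R'] [Algebra R R'] (T : Type u)
    [CommRing T] [Algebra R' T] [Algebra R T] [IsScalarTower R R' T] :
    sp (Spec.map (CommRingCat.ofHom (algebraMap R R')) ≫ β) T ⟶ sp β T :=
  Over.homMk (𝟙 _) ((Category.id_comp _).trans (restrictTr_w β R' T).symm)

theorem restrictTr_isIso (β : Spec (CommRingCat.of R) ⟶ S) (R' : Type u) [CommRing R'] [Algebra R R'] (T : Type u)
    [CommRing T] [Algebra R' T] [Algebra R T] [IsScalarTower R R' T] : IsIso (restrictTr β R' T) :=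
  ⟨Over.homMk (𝟙 (Spec (CommRingCat.of T))) ((Category.id_comp _).trans (restrictTr_w β R' T)),
    Over.OverMorphism.ext (Category.id_comp (𝟙 (Spec (CommRingCat.of T)))),
    Over.OverMorphism.ext (Category.id_comp (𝟙 (Spec (CommRingCat.of T))))⟩

variable {β : Spec (CommRingCat.of R) ⟶ S} {X : Over S} {M : Type} [AddCommGroup M]
  (χ : ∀ (T : Type u) [CommRing T] [Algebra R T], (CoordM.{u} M →+* T) → (sp β T ⟶ X))
  (R' : Type u) [CommRing R'] [Algebra R R']

/-- A system of characters moved to an algebra over the base. -/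
noncomputable def restrict (T : Type u) [CommRing T] [Algebra R' T] (c : CoordM.{u} M →+* T) :
    sp (Spec.map (CommRingCat.ofHom (algebraMap R R')) ≫ β) T ⟶ X :=
  letI : Algebra R T := ((algebraMap R' T).comp (algebraMap R R')).toAlgebra
  haveI : IsScalarTower R R' T := IsScalarTower.of_algebraMap_eq' rfl
  restrictTr β R' T ≫ χ T c

theorem restrict_eq (T : Type u) [CommRing T] [Algebra R' T] [inst : Algebra R T] [IsScalarTower R R' T]
    (c : CoordM.{u} M →+* T) : restrict χ R' T c = restrictTr β R' T ≫ χ T c := by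
  have he : inst = ((algebraMap R' T).comp (algebraMap R R')).toAlgebra :=
    Algebra.algebra_ext _ _ fun r => IsScalarTower.algebraMap_apply R R' T r
  subst he
  rfl

theorem restrict_nat (hnat : ∀ {T₁ T₂ : Type u} [CommRing T₁] [Algebra R T₁] [CommRing T₂] [Algebra R T₂] (φ : T₁ →ₐ[R] T₂)
      (c : CoordM.{u} M →+* T₁), spm β φ ≫ χ T₁ c = χ T₂ (φ.toRingHom.comp c))
    {T₁ T₂ : Type u} [CommRing T₁] [Algebra R' T₁] [CommRing T₂] [Algebra R' T₂] (f : T₁ →ₐ[R'] T₂)
    (c : CoordM.{u} M →+* T₁) : spm _ f ≫ restrict χ R' T₁ c = restrict χ R' T₂ (f.toRingHom.comp c) := by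
  letI : Algebra R T₁ := ((algebraMap R' T₁).comp (algebraMap R R')).toAlgebra
  haveI : IsScalarTower R R' T₁ := IsScalarTower.of_algebraMap_eq' rfl
  letI : Algebra R T₂ := ((algebraMap R' T₂).comp (algebraMap R R')).toAlgebra
  haveI : IsScalarTower R R' T₂ := IsScalarTower.of_algebraMap_eq' rfl
  have h : spm (Spec.map (CommRingCat.ofHom (algebraMap R R')) ≫ β) f ≫ restrictTr β R' T₁ =
      restrictTr β R' T₂ ≫ spm β (f.restrictScalars R) :=
    (by
    refine Over.OverMorphism.ext ?_
    simp only [Over.comp_left]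
    show Spec.map (CommRingCat.ofHom f.toRingHom) ≫ 𝟙 _ = 𝟙 _ ≫ Spec.map (CommRingCat.ofHom (f.restrictScalars R).toRingHom)
    rw [show (f.restrictScalars R).toRingHom = f.toRingHom from RingHom.ext fun _ => rfl]
    exact (Category.comp_id _).trans (Category.id_comp _).symm)
  rw [restrict_eq χ R' T₁ c, restrict_eq χ R' T₂ (f.toRingHom.comp c), ← Category.assoc, h, Category.assoc, hnat]
  rfl

theorem restrict_mul [GrpObj X]
    (hmul : ∀ {T₁ : Type u} [CommRing T₁] [Algebra R T₁] (c c' d : CoordM.{u} M →+* T₁),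
      (∀ m, d (MonoidAlgebra.single m 1) = c (MonoidAlgebra.single m 1) * c' (MonoidAlgebra.single m 1)) →
        χ T₁ c * χ T₁ c' = χ T₁ d)
    {T₁ : Type u} [CommRing T₁] [Algebra R' T₁] (c c' d : CoordM.{u} M →+* T₁)
    (hd : ∀ m, d (MonoidAlgebra.single m 1) = c (MonoidAlgebra.single m 1) * c' (MonoidAlgebra.single m 1)) :
    restrict χ R' T₁ c * restrict χ R' T₁ c' = restrict χ R' T₁ d := by
  letI : Algebra R T₁ := ((algebraMap R' T₁).comp (algebraMap R R')).toAlgebra
  haveI : IsScalarTower R R' T₁ := IsScalarTower.of_algebraMap_eq' rfl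
  rw [restrict_eq χ R' T₁ c, restrict_eq χ R' T₁ c', restrict_eq χ R' T₁ d, ← MonObj.comp_mul, hmul c c' d hd]

theorem restrict_bij (hbij : ∀ (T₁ : Type u) [CommRing T₁] [Algebra R T₁], Function.Bijective (χ T₁))
    (T₁ : Type u) [CommRing T₁] [Algebra R' T₁] : Function.Bijective (restrict χ R' T₁) := by
  letI : Algebra R T₁ := ((algebraMap R' T₁).comp (algebraMap R R')).toAlgebra
  haveI : IsScalarTower R R' T₁ := IsScalarTower.of_algebraMap_eq' rfl
  haveI : IsIso (restrictTr β R' T₁) := restrictTr_isIso β R' T₁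
  refine ⟨fun c c' h => (hbij T₁).1 ((cancel_epi (restrictTr β R' T₁)).mp ?_), fun g => ?_⟩
  · rwa [← restrict_eq χ R' T₁ c, ← restrict_eq χ R' T₁ c']
  · obtain ⟨c, hc⟩ := (hbij T₁).2 (inv (restrictTr β R' T₁) ≫ g)
    exact ⟨c, by rw [restrict_eq χ R' T₁ c, hc, IsIso.hom_inv_id_assoc]⟩

end Restrict

end Groth.Agent.GrpSchLib.HomSplitLocus
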