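import Mathlib.RingTheory.HopfAlgebra.Convolution
import Mathlib.RingTheory.Ideal.Cotangent
import Mathlib.RingTheory.Kaehler.Basic
import Mathlib.LinearAlgebra.TensorProduct.Tower
import Mathlib.RingTheory.Bialgebra.TensorProduct

/-! Derivations of a Hopf algebra and the cotangent space at the counit. -/

open TensorProduct WithConv

namespace Groth.Agent.GrpSchLib

universe u v w

variable {R : Type u} [CommRing R] {A : Type v} [CommRing A]

section Bialg

variable [Bialgebra R A] {M : Type w} [AddCommGroup M] [Module R M] [Module A M] [IsScalarTower R A M]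

/-- `a ↦ Σ u(a₁) • h(a₂)`. -/
noncomputable def convAct (u : A →ₗ[R] A) (h : A →ₗ[R] M) : A →ₗ[R] M :=
  ((LinearMap.id (R := R) (M := M)).liftBaseChange A).restrictScalars R ∘ₗ TensorProduct.map u h ∘ₗ Coalgebra.comul

theorem convAct_convAct (u v : A →ₗ[R] A) (h : A →ₗ[R] M) :
    convAct u (convAct v h) = convAct (toConv u * toConv v).ofConv h := by
  let sm := ((LinearMap.id (R := R) (M := M)).liftBaseChange A).restrictScalars R
  have key : ∀ t : (A ⊗[R] A) ⊗[R] A,
      sm (TensorProduct.map u (sm ∘ₗ TensorProduct.map v h) (TensorProduct.assoc R A A A t)) =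
        sm (TensorProduct.map (LinearMap.mul' R A ∘ₗ TensorProduct.map u v) h t) := by
    intro t
    induction t using TensorProduct.induction_on with
    | zero => simp
    | tmul s c =>
      induction s using TensorProduct.induction_on with
      | zero => simp
      | tmul a b => simp [sm, mul_smul]
      | add s s' hs hs' => simp only [TensorProduct.add_tmul, map_add, hs, hs']
    | add t t' ht ht' => simp only [map_add, ht, ht']
  apply LinearMap.ext
  intro a
  have hl : ∀ t : A ⊗[R] A, TensorProduct.map u (sm ∘ₗ TensorProduct.map v h ∘ₗ Coalgebra.comul) t =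
      TensorProduct.map u (sm ∘ₗ TensorProduct.map v h) ((Coalgebra.comul (R := R) (A := A)).lTensor A t) := by
    intro t
    induction t using TensorProduct.induction_on with
    | zero => simp
    | tmul a b => simp
    | add t t' ht ht' => simp only [map_add, ht, ht']
  have hr : ∀ t : A ⊗[R] A, TensorProduct.map (LinearMap.mul' R A ∘ₗ TensorProduct.map u v) h
      ((Coalgebra.comul (R := R) (A := A)).rTensor A t) =
      TensorProduct.map (toConv u * toConv v).ofConv h t := by
    intro t
    induction t using TensorProduct.induction_on with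
    | zero => simp
    | tmul a b => simp [LinearMap.convMul_def]
    | add t t' ht ht' => simp only [map_add, ht, ht']
  show sm (TensorProduct.map u (sm ∘ₗ TensorProduct.map v h ∘ₗ Coalgebra.comul) (Coalgebra.comul a)) =
    sm (TensorProduct.map (toConv u * toConv v).ofConv h (Coalgebra.comul a))
  rw [hl, ← Coalgebra.coassoc_apply, key, hr]

theorem convAct_one (h : A →ₗ[R] M) : convAct (1 : WithConv (A →ₗ[R] A)).ofConv h = h := by
  apply LinearMap.ext
  intro a
  have key : ∀ t : A ⊗[R] A,
      ((LinearMap.id (R := R) (M := M)).liftBaseChange A) (TensorProduct.map (1 : WithConv (A →ₗ[R] A)).ofConv h t) =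
        h (TensorProduct.lid R A ((Coalgebra.counit (R := R) (A := A)).rTensor A t)) := by
    intro t
    induction t using TensorProduct.induction_on with
    | zero => simp
    | tmul b c => simp [LinearMap.convOne_def]
    | add t t' ht ht' => simp only [map_add, ht, ht']
  show ((LinearMap.id (R := R) (M := M)).liftBaseChange A) (TensorProduct.map _ h (Coalgebra.comul a)) = h a
  rw [key, Coalgebra.rTensor_counit_comul]
  simp

/-- `h` is a derivation with respect to the action through `v`. -/
def IsDerivAlong (v : A →ₗ[R] A) (h : A →ₗ[R] M) : Prop :=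
  ∀ a b, h (a * b) = v a • h b + v b • h a

theorem isDerivAlong_convAct (u : A →ₐ[R] A) (v : A →ₗ[R] A) {h : A →ₗ[R] M} (hh : IsDerivAlong v h) :
    IsDerivAlong (toConv u.toLinearMap * toConv v).ofConv (convAct u.toLinearMap h) := by
  intro a b
  let sm := ((LinearMap.id (R := R) (M := M)).liftBaseChange A).restrictScalars R
  let m := LinearMap.mul' R A ∘ₗ TensorProduct.map u.toLinearMap v
  have key : ∀ s t : A ⊗[R] A, sm (TensorProduct.map u.toLinearMap h (s * t)) =
      m s • sm (TensorProduct.map u.toLinearMap h t) + m t • sm (TensorProduct.map u.toLinearMap h s) := by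
    intro s
    induction s using TensorProduct.induction_on with
    | zero => intro t; simp
    | tmul a₁ a₂ =>
      intro t
      induction t using TensorProduct.induction_on with
      | zero => simp
      | tmul b₁ b₂ =>
        simp only [m, sm, LinearMap.comp_apply, LinearMap.restrictScalars_apply, Algebra.TensorProduct.tmul_mul_tmul,
          TensorProduct.map_tmul, LinearMap.liftBaseChange_tmul, LinearMap.id_apply, LinearMap.mul'_apply,
          AlgHom.toLinearMap_apply, map_mul, hh a₂ b₂, smul_add, smul_smul]
        congr 1 <;> (congr 1; ring)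
      | add t t' ht ht' =>
        simp only [mul_add, map_add, ht, ht', smul_add, add_smul]; abel
    | add s s' hs hs' =>
      intro t
      simp only [add_mul, map_add, hs, hs', smul_add, add_smul]; abel
  show sm (TensorProduct.map u.toLinearMap h (Coalgebra.comul (a * b))) = _
  rw [Bialgebra.comul_mul, key]
  rfl

end Bialg

section Hopf

variable [HopfAlgebra R A] {M : Type w} [AddCommGroup M] [Module R M] [Module A M] [IsScalarTower R A M]

theorem convAct_id_antipode (h : A →ₗ[R] M) :
    convAct LinearMap.id (convAct (HopfAlgebra.antipode R) h) = h := by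
  rw [convAct_convAct, LinearMap.id_mul_antipode, convAct_one]

theorem convAct_antipode_id (h : A →ₗ[R] M) :
    convAct (HopfAlgebra.antipode R) (convAct LinearMap.id h) = h := by
  rw [convAct_convAct, LinearMap.antipode_mul_id, convAct_one]

theorem convAct_id_leibniz {h : A →ₗ[R] M} (hh : IsDerivAlong (1 : WithConv (A →ₗ[R] A)).ofConv h) (a b : A) :
    convAct LinearMap.id h (a * b) = a • convAct LinearMap.id h b + b • convAct LinearMap.id h a := by
  have := isDerivAlong_convAct (AlgHom.id R A) _ hh a b
  rw [AlgHom.toLinearMap_id, toConv_ofConv, mul_one] at this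
  exact this

theorem convAct_antipode_deriv {h : A →ₗ[R] M} (hh : IsDerivAlong LinearMap.id h) (a b : A) :
    convAct (HopfAlgebra.antipode R) h (a * b) =
      Coalgebra.counit (R := R) a • convAct (HopfAlgebra.antipode R) h b +
        Coalgebra.counit (R := R) b • convAct (HopfAlgebra.antipode R) h a := by
  have := isDerivAlong_convAct (HopfAlgebra.antipodeAlgHom R A) _ hh a b
  rw [HopfAlgebra.toLinearMap_antipodeAlgHom, LinearMap.antipode_mul_id] at this
  simpa [LinearMap.convOne_def, algebraMap_smul] using this

variable (π : A →ₗ[R] (RingHom.ker (Bialgebra.counitAlgHom R A)).Cotangent)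
  (hπI : ∀ x : RingHom.ker (Bialgebra.counitAlgHom R A),
    π (x : A) = (RingHom.ker (Bialgebra.counitAlgHom R A)).toCotangent x)
  (hπ1 : π 1 = 0)

include hπI hπ1

theorem pi_mul (a b : A) : π (a * b) = Coalgebra.counit (R := R) a • π b + Coalgebra.counit (R := R) b • π a := by
  let ε := Bialgebra.counitAlgHom R A
  have hmem : ∀ y, y - ε y • (1 : A) ∈ RingHom.ker ε := fun y => by simp [RingHom.mem_ker]
  have h2 : π ((a - ε a • 1) * (b - ε b • 1)) = 0 := by
    rw [hπI ⟨_, (RingHom.ker ε).mul_mem_left _ (hmem b)⟩, Ideal.toCotangent_eq_zero, pow_two]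
    exact Ideal.mul_mem_mul (hmem a) (hmem b)
  have e : (a - ε a • 1) * (b - ε b • 1) = a * b - ε a • b - ε b • a + (ε a * ε b) • 1 := by
    simp only [Algebra.smul_def, map_mul]
    ring
  rw [e] at h2
  simp only [map_add, map_sub, map_smul, hπ1, smul_zero, add_zero] at h2
  rw [sub_sub, sub_eq_zero] at h2
  exact h2

theorem pi_surjective : Function.Surjective π := fun c => by
  obtain ⟨x, rfl⟩ := (RingHom.ker (Bialgebra.counitAlgHom R A)).toCotangent_surjective c
  exact ⟨x, hπI x⟩

omit hπI hπ1 in
theorem lTensor_comul_eq_convAct (a : A) :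
    (π.lTensor A ∘ₗ Coalgebra.comul) a =
      convAct LinearMap.id ((TensorProduct.mk R A (RingHom.ker (Bialgebra.counitAlgHom R A)).Cotangent 1) ∘ₗ π) a := by
  simp only [convAct, LinearMap.comp_apply]
  generalize Coalgebra.comul (R := R) a = t
  induction t using TensorProduct.induction_on with
  | zero => simp
  | tmul x y => simp [TensorProduct.smul_tmul']
  | add t t' ht ht' => simp only [map_add, ht, ht']

theorem lTensor_comul_leibniz (a b : A) :
    (π.lTensor A ∘ₗ Coalgebra.comul) (a * b) =
      a • (π.lTensor A ∘ₗ Coalgebra.comul) b + b • (π.lTensor A ∘ₗ Coalgebra.comul) a := by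
  rw [lTensor_comul_eq_convAct π, lTensor_comul_eq_convAct π, lTensor_comul_eq_convAct π]
  refine convAct_id_leibniz (fun x y => ?_) a b
  simp [LinearMap.convOne_def, pi_mul π hπI hπ1, TensorProduct.tmul_add, algebraMap_smul]

theorem existsUnique_lift (D : Derivation R A M) :
    ∃! l : (RingHom.ker (Bialgebra.counitAlgHom R A)).Cotangent →ₗ[R] M,
      l ∘ₗ π = convAct (HopfAlgebra.antipode R) D.toLinearMap := by
  let ε := Bialgebra.counitAlgHom R A
  let g := convAct (HopfAlgebra.antipode R) D.toLinearMap
  have hg : ∀ a b, g (a * b) = Coalgebra.counit (R := R) a • g b + Coalgebra.counit (R := R) b • g a :=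
    convAct_antipode_deriv (fun a b => D.leibniz a b)
  have hg1 : g 1 = 0 := by
    have := hg 1 1
    rw [_root_.one_mul, Bialgebra.counit_one, one_smul] at this
    exact left_eq_add.mp this
  let gI : RingHom.ker ε →ₗ[R] M := g ∘ₗ ((RingHom.ker ε).restrictScalars R).subtype
  have hker : (LinearMap.ker ((RingHom.ker ε).toCotangent.restrictScalars R)) ≤ LinearMap.ker gI := by
    intro x hx
    show g (x : A) = 0
    have hx2 : (x : A) ∈ (RingHom.ker ε) ^ 2 := ((RingHom.ker ε).toCotangent_eq_zero x).mp hx
    rw [pow_two] at hx2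
    refine Submodule.mul_induction_on hx2 (fun p hp q hq => ?_) (fun p q hp hq => by rw [map_add, hp, hq, add_zero])
    rw [hg, show Coalgebra.counit (R := R) p = 0 from hp, show Coalgebra.counit (R := R) q = 0 from hq]
    simp
  let l : (RingHom.ker ε).Cotangent →ₗ[R] M :=
    (Submodule.liftQ _ gI hker) ∘ₗ (LinearMap.quotKerEquivOfSurjective
      ((RingHom.ker ε).toCotangent.restrictScalars R) (RingHom.ker ε).toCotangent_surjective).symm.toLinearMap
  have hl : ∀ x : RingHom.ker ε, l ((RingHom.ker ε).toCotangent x) = g (x : A) := fun x => by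
    show Submodule.liftQ _ gI hker ((LinearMap.quotKerEquivOfSurjective _ _).symm
      (((RingHom.ker ε).toCotangent.restrictScalars R) x)) = _
    erw [LinearMap.quotKerEquivOfSurjective_symm_apply]
    rfl
  refine ⟨l, LinearMap.ext fun a => ?_, fun l' hl' => LinearMap.ext fun c => ?_⟩
  · have hmem : a - ε a • (1 : A) ∈ RingHom.ker ε := by simp [RingHom.mem_ker]
    have h1 : π a = π (a - ε a • 1) := by simp [map_sub, hπ1]
    have h2 : g a = g (a - ε a • 1) := by simp [map_sub, hg1]
    show l (π a) = g a
    rw [h1, h2, hπI ⟨_, hmem⟩, hl]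
  · obtain ⟨x, rfl⟩ := (RingHom.ker ε).toCotangent_surjective c
    rw [hl, ← hπI]
    exact LinearMap.congr_fun hl' x

theorem existsUnique_universal (D : Derivation R A M) :
    ∃! f : A ⊗[R] (RingHom.ker (Bialgebra.counitAlgHom R A)).Cotangent →ₗ[A] M,
      ∀ a, f ((π.lTensor A ∘ₗ Coalgebra.comul) a) = D a := by
  let ι := TensorProduct.mk R A (RingHom.ker (Bialgebra.counitAlgHom R A)).Cotangent 1
  have key : ∀ f : A ⊗[R] (RingHom.ker (Bialgebra.counitAlgHom R A)).Cotangent →ₗ[A] M,
      f.restrictScalars R ∘ₗ (π.lTensor A ∘ₗ Coalgebra.comul) =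
        convAct LinearMap.id ((f.restrictScalars R ∘ₗ ι) ∘ₗ π) := by
    intro f
    apply LinearMap.ext
    intro a
    simp only [convAct, LinearMap.comp_apply]
    generalize Coalgebra.comul (R := R) a = t
    induction t using TensorProduct.induction_on with
    | zero => simp
    | tmul x y => simp [ι, ← map_smul, TensorProduct.smul_tmul']
    | add t t' ht ht' => simp only [map_add, ht, ht']
  obtain ⟨l, hl, hlu⟩ := existsUnique_lift π hπI hπ1 D
  refine ⟨l.liftBaseChange A, fun a => ?_, fun f hf => ?_⟩
  · refine (LinearMap.congr_fun (key (l.liftBaseChange A)) a).trans ?_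
    rw [show ((l.liftBaseChange A).restrictScalars R ∘ₗ ι) = l from LinearMap.ext fun c => by simp [ι],
      hl, convAct_id_antipode]
    rfl
  · have h1 : f.restrictScalars R ∘ₗ ι = l := hlu _ (by
      show (f.restrictScalars R ∘ₗ ι) ∘ₗ π = _
      rw [← convAct_antipode_id ((f.restrictScalars R ∘ₗ ι) ∘ₗ π), ← key]
      congr 1
      exact LinearMap.ext hf)
    rw [← h1]
    ext c
    simp [ι]

end Hopf

end Groth.Agent.GrpSchLib
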