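import Groth.Agent.GrpdLib.LocFree
import Groth.Agent.GrpdLib.Affine
import Mathlib.RingTheory.HopfAlgebra.Convolution
import Mathlib.RingTheory.Bialgebra.Hom
import Mathlib.RingTheory.RingHom.FaithfullyFlat
import Mathlib.RingTheory.Finiteness.Descent
import Mathlib.RingTheory.QuasiFinite.Basic

/-! The quotient of a finite Hopf algebra by a finite projective quotient Hopf algebra. -/

set_option autoImplicit false
set_option backward.isDefEq.respectTransparency false
set_option backward.isDefEq.respectTransparency.types false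

universe u v

open CategoryTheory CategoryTheory.Limits TensorProduct WithConv

noncomputable section

namespace Groth.Agent.GrpSchLib.HopfQuot

open Groth.Agent.GrpdLib

variable {R : Type u} [CommRing R]

section Translate

variable {M : Type v} [CommRing M] [Algebra R M] {H : Type v} [CommRing H] [HopfAlgebra R H]

/-- `b ⊗ h ↦ b f(h₁) ⊗ h₂`. -/
def translate (f : H →ₐ[R] M) : M ⊗[R] H →ₐ[M] M ⊗[R] H :=
  Algebra.TensorProduct.lift (Algebra.ofId M (M ⊗[R] H))
    (toConv ((Algebra.TensorProduct.includeLeft : M →ₐ[R] M ⊗[R] H).comp f) *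
      toConv (Algebra.TensorProduct.includeRight : H →ₐ[R] M ⊗[R] H)).ofConv
    fun _ _ => Commute.all _ _

theorem translate_tmul (f : H →ₐ[R] M) (b : M) (h : H) :
    translate f (b ⊗ₜ[R] h) = (b ⊗ₜ[R] (1 : H)) *
      Algebra.TensorProduct.map f (AlgHom.id R H) (Coalgebra.comul (R := R) h) := by
  refine (Algebra.TensorProduct.lift_tmul _ _ _ _ _).trans (congrArg ((b ⊗ₜ[R] (1 : H)) * ·) ?_)
  rw [AlgHom.convMul_def]
  show Algebra.TensorProduct.lmul' R (Algebra.TensorProduct.map _ _ (Coalgebra.comul (R := R) h)) = _
  induction (Coalgebra.comul h : H ⊗[R] H) using TensorProduct.induction_on with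
  | zero => simp
  | tmul p q => simp
  | add p q hp hq => simp only [map_add, hp, hq]

theorem translate_bijective [Module.Finite R H] (f : H →ₐ[R] M) : Function.Bijective (translate f) := by
  let T := M ⊗[R] H
  let il : H →ₐ[R] T := (Algebra.TensorProduct.includeLeft : M →ₐ[R] T).comp f
  let ir : H →ₐ[R] T := Algebra.TensorProduct.includeRight
  let d : H →ₐ[R] T := (toConv il * toConv ir).ofConv
  have hΦl : ((translate f).restrictScalars R).comp il = il := by
    ext a
    show Algebra.TensorProduct.lift (Algebra.ofId M T) d (fun _ _ => Commute.all _ _) (f a ⊗ₜ[R] (1 : H)) = _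
    rw [Algebra.TensorProduct.lift_tmul, map_one, _root_.mul_one]
    rfl
  have hΦr : ((translate f).restrictScalars R).comp ir = d := by
    ext a
    show Algebra.TensorProduct.lift (Algebra.ofId M T) d (fun _ _ => Commute.all _ _) ((1 : M) ⊗ₜ[R] a) = _
    rw [Algebra.TensorProduct.lift_tmul, map_one, _root_.one_mul]
  have hS : toConv (il.comp (HopfAlgebra.antipodeAlgHom R H)) * toConv il = 1 := by
    have h : toConv (HopfAlgebra.antipodeAlgHom R H) * toConv (AlgHom.id R H) = 1 := by
      apply WithConv.ofConv_injective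
      apply AlgHom.toLinearMap_injective
      apply WithConv.toConv_injective
      rw [AlgHom.toLinearMap_convMul, AlgHom.toLinearMap_convOne]
      simp [LinearMap.antipode_mul_id]
    apply WithConv.ofConv_injective
    have h2 := AlgHom.comp_convMul_distrib il (toConv (HopfAlgebra.antipodeAlgHom R H)) (toConv (AlgHom.id R H))
    simp only [AlgHom.comp_id] at h2
    rw [← h2, h]
    ext a
    exact il.commutes _
  have hsurj : Function.Surjective (translate f) := by
    let g := ((toConv (il.comp (HopfAlgebra.antipodeAlgHom R H)) * toConv ir).ofConv : H →ₐ[R] T)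
    have hg : ((translate f).restrictScalars R).comp g = ir := by
      refine congrArg ofConv ((?_ : toConv (((translate f).restrictScalars R).comp g) = toConv ir))
      rw [AlgHom.comp_convMul_distrib]
      simp only [WithConv.toConv_ofConv, ← AlgHom.comp_assoc, hΦl, hΦr]
      rw [show toConv d = toConv il * toConv ir from rfl]
      exact ((_root_.mul_assoc (toConv (il.comp (HopfAlgebra.antipodeAlgHom R H))) (toConv il) (toConv ir)).symm.trans
        (congrArg (· * toConv ir) hS)).trans (_root_.one_mul (toConv ir))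
    intro z
    induction z using TensorProduct.induction_on with
    | zero => exact ⟨0, map_zero _⟩
    | tmul s b =>
      refine ⟨s • g b, ?_⟩
      rw [map_smul, show translate f (g b) = ir b from AlgHom.congr_fun hg b]
      show s • ((1 : M) ⊗ₜ[R] b) = _
      rw [TensorProduct.smul_tmul', smul_eq_mul, _root_.mul_one]
    | add x y hx hy =>
      obtain ⟨x', rfl⟩ := hx
      obtain ⟨y', rfl⟩ := hy
      exact ⟨x' + y', map_add _ _ _⟩
  exact ⟨OrzechProperty.injective_of_surjective_endomorphism (translate f).toLinearMap hsurj, hsurj⟩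

end Translate

/-- The base change square of `includeLeft`. -/
theorem isPushout_tmap (H : Type v) [CommRing H] [Algebra R H] {A N : Type v} [CommRing A] [CommRing N]
    [Algebra R A] [Algebra R N] (f : A →ₐ[R] N) :
    IsPushout (CommRingCat.ofHom f.toRingHom)
      (CommRingCat.ofHom (Algebra.TensorProduct.includeLeft : A →ₐ[R] A ⊗[R] H).toRingHom)
      (CommRingCat.ofHom (Algebra.TensorProduct.includeLeft : N →ₐ[R] N ⊗[R] H).toRingHom)
      (CommRingCat.ofHom (Algebra.TensorProduct.map f (AlgHom.id R H)).toRingHom) := by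
  letI : Algebra A N := f.toRingHom.toAlgebra
  haveI : IsScalarTower R A N := IsScalarTower.of_algebraMap_eq fun r => (f.commutes r).symm
  refine (CommRingCat.isPushout_tensorProduct A N (A ⊗[R] H)).of_iso (Iso.refl _) (Iso.refl _) (Iso.refl _)
    (Algebra.TensorProduct.cancelBaseChange R A N N H).toRingEquiv.toCommRingCatIso ?_ ?_ ?_ ?_
  · simp only [Iso.refl_hom, Category.comp_id, Category.id_comp]
    rfl
  · simp only [Iso.refl_hom, Category.comp_id, Category.id_comp]
    rfl
  · refine CommRingCat.hom_ext (RingHom.ext fun n => ?_)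
    show Algebra.TensorProduct.cancelBaseChange R A N N H (n ⊗ₜ[A] ((1 : A) ⊗ₜ[R] (1 : H))) = n ⊗ₜ[R] (1 : H)
    rw [Algebra.TensorProduct.cancelBaseChange_tmul, one_smul]
  · refine CommRingCat.hom_ext (RingHom.ext fun z => ?_)
    show Algebra.TensorProduct.cancelBaseChange R A N N H ((1 : N) ⊗ₜ[A] z) = Algebra.TensorProduct.map f (AlgHom.id R H) z
    induction z using TensorProduct.induction_on with
    | zero => simp
    | tmul a h =>
      rw [Algebra.TensorProduct.cancelBaseChange_tmul, Algebra.TensorProduct.map_tmul, Algebra.smul_def, _root_.mul_one]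
      rfl
    | add x y hx hy => simp only [TensorProduct.tmul_add, map_add, hx, hy]

section Quot

variable {A H : Type v} [CommRing A] [CommRing H] [HopfAlgebra R A] [HopfAlgebra R H] (π : A →ₐc[R] H)

/-- The action map. -/
def tMap : A →ₐ[R] A ⊗[R] H :=
  (Algebra.TensorProduct.map (AlgHom.id R A) (π : A →ₐ[R] H)).comp (Bialgebra.comulAlgHom R A)

/-- The invariant functions. -/
def inv : Subalgebra R A :=
  AlgHom.equalizer (tMap π) (Algebra.TensorProduct.includeLeft : A →ₐ[R] A ⊗[R] H)

theorem mem_inv (a : A) : a ∈ inv π ↔ a ⊗ₜ[R] (1 : H) = tMap π a :=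
  ⟨fun h => Eq.symm h, fun h => h.symm⟩

/-- Projection of the arrows on the point. -/
def eMap : A ⊗[R] H →ₐ[R] A :=
  (Algebra.TensorProduct.rid R R A).toAlgHom.comp
    (Algebra.TensorProduct.map (AlgHom.id R A) (Bialgebra.counitAlgHom R H))

theorem eMap_tmul (a : A) (h : H) : eMap (R := R) (a ⊗ₜ[R] h) = Coalgebra.counit (R := R) h • a := by
  show Algebra.TensorProduct.rid R R A (Algebra.TensorProduct.map (AlgHom.id R A) (Bialgebra.counitAlgHom R H) (a ⊗ₜ[R] h)) = _
  rw [Algebra.TensorProduct.map_tmul, Algebra.TensorProduct.rid_tmul]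
  rfl

theorem eMap_tMap (a : A) : eMap (R := R) (tMap π a) = a := by
  have key : ∀ z : A ⊗[R] A, eMap (R := R) (Algebra.TensorProduct.map (AlgHom.id R A) (π : A →ₐ[R] H) z) =
      TensorProduct.rid R A ((Coalgebra.counit (R := R)).lTensor A z) := fun z => by
    induction z using TensorProduct.induction_on with
    | zero => simp
    | tmul x y =>
      rw [Algebra.TensorProduct.map_tmul, eMap_tmul, LinearMap.lTensor_tmul, TensorProduct.rid_tmul]
      show Coalgebra.counit (R := R) (π y) • x = _
      rw [CoalgHomClass.counit_comp_apply]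
    | add x y hx hy => simp only [map_add, hx, hy]
  show eMap (R := R) (Algebra.TensorProduct.map (AlgHom.id R A) (π : A →ₐ[R] H) (Coalgebra.comul (R := R) a)) = a
  rw [key, Coalgebra.lTensor_counit_comul]
  simp

/-- The second projection of composable arrows to the composite. -/
def mMap : A ⊗[R] H →ₐ[R] (A ⊗[R] H) ⊗[R] H :=
  ((translate (Algebra.TensorProduct.includeRight : H →ₐ[R] A ⊗[R] H)).restrictScalars R).comp
    (Algebra.TensorProduct.map (Algebra.TensorProduct.includeLeft : A →ₐ[R] A ⊗[R] H) (AlgHom.id R H))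

theorem mMap_apply (z : A ⊗[R] H) :
    mMap z = (TensorProduct.assoc R A H H).symm ((Coalgebra.comul (R := R) (A := H)).lTensor A z) := by
  induction z using TensorProduct.induction_on with
  | zero => simp
  | add x y hx hy => simp only [map_add, hx, hy]
  | tmul a h =>
    show translate (Algebra.TensorProduct.includeRight : H →ₐ[R] A ⊗[R] H) ((a ⊗ₜ[R] (1 : H)) ⊗ₜ[R] h) = _
    rw [translate_tmul, LinearMap.lTensor_tmul]
    induction (Coalgebra.comul h : H ⊗[R] H) using TensorProduct.induction_on with
    | zero => simp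
    | tmul p q =>
      rw [Algebra.TensorProduct.map_tmul, TensorProduct.assoc_symm_tmul, Algebra.TensorProduct.includeRight_apply]
      simp
    | add p q hp hq => simp only [map_add, mul_add, TensorProduct.tmul_add, hp, hq]

theorem mMap_tMap (a : A) :
    mMap (tMap π a) = Algebra.TensorProduct.map (tMap π) (AlgHom.id R H) (tMap π a) := by
  have h1 : ∀ z : A ⊗[R] A, (Coalgebra.comul (R := R) (A := H)).lTensor A
      (Algebra.TensorProduct.map (AlgHom.id R A) (π : A →ₐ[R] H) z) =
      (TensorProduct.map (π : A →ₗ[R] H) (π : A →ₗ[R] H)).lTensor A ((Coalgebra.comul (R := R) (A := A)).lTensor A z) :=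
    fun z => by
      induction z using TensorProduct.induction_on with
      | zero => simp
      | tmul x y =>
        rw [Algebra.TensorProduct.map_tmul, LinearMap.lTensor_tmul, LinearMap.lTensor_tmul, LinearMap.lTensor_tmul]
        exact congrArg (x ⊗ₜ[R] ·) (CoalgHomClass.map_comp_comul_apply π y).symm
      | add x y hx hy => simp only [map_add, hx, hy]
  have h2 : ∀ z : A ⊗[R] A, Algebra.TensorProduct.map (tMap π) (AlgHom.id R H)
      (Algebra.TensorProduct.map (AlgHom.id R A) (π : A →ₐ[R] H) z) =
      Algebra.TensorProduct.map (Algebra.TensorProduct.map (AlgHom.id R A) (π : A →ₐ[R] H)) (π : A →ₐ[R] H)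
        ((Coalgebra.comul (R := R) (A := A)).rTensor A z) := fun z => by
      induction z using TensorProduct.induction_on with
      | zero => simp
      | tmul x y =>
        simp only [Algebra.TensorProduct.map_tmul, LinearMap.rTensor_tmul]
        rfl
      | add x y hx hy => simp only [map_add, hx, hy]
  have h3 : ∀ w : (A ⊗[R] A) ⊗[R] A,
      Algebra.TensorProduct.map (Algebra.TensorProduct.map (AlgHom.id R A) (π : A →ₐ[R] H)) (π : A →ₐ[R] H) w =
        (TensorProduct.assoc R A H H).symm ((TensorProduct.map (π : A →ₗ[R] H) (π : A →ₗ[R] H)).lTensor A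
          (TensorProduct.assoc R A A A w)) := fun w => by
      induction w using TensorProduct.induction_on with
      | zero => simp
      | tmul x y =>
        induction x using TensorProduct.induction_on with
        | zero => simp
        | tmul p q => simp
        | add p q hp hq => simp only [map_add, TensorProduct.add_tmul, hp, hq]
      | add x y hx hy => simp only [map_add, hx, hy]
  rw [mMap_apply]
  show (TensorProduct.assoc R A H H).symm ((Coalgebra.comul (R := R) (A := H)).lTensor A
      (Algebra.TensorProduct.map (AlgHom.id R A) (π : A →ₐ[R] H) (Coalgebra.comul (R := R) a))) =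
    Algebra.TensorProduct.map (tMap π) (AlgHom.id R H)
      (Algebra.TensorProduct.map (AlgHom.id R A) (π : A →ₐ[R] H) (Coalgebra.comul (R := R) a))
  rw [h1, h2, h3, Coalgebra.coassoc_apply]

variable [Module.Finite R H] [Module.Projective R H]

/-- The groupoid of the translation action. -/
abbrev data : AffData.{v} where
  A := A
  B := A ⊗[R] H
  C := (A ⊗[R] H) ⊗[R] H
  s := (Algebra.TensorProduct.includeLeft : A →ₐ[R] A ⊗[R] H).toRingHom
  t := (tMap π).toRingHom
  e := (eMap (R := R)).toRingHom
  p₁ := (Algebra.TensorProduct.map (tMap π) (AlgHom.id R H)).toRingHom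
  p₂ := (Algebra.TensorProduct.includeLeft : A ⊗[R] H →ₐ[R] (A ⊗[R] H) ⊗[R] H).toRingHom
  m := (mMap (R := R)).toRingHom
  e_s := RingHom.ext fun a => by
    show eMap (R := R) (a ⊗ₜ[R] (1 : H)) = a
    rw [eMap_tmul, Bialgebra.counit_one, one_smul]
  e_t := RingHom.ext fun a => eMap_tMap π a
  m_t := RingHom.ext fun a => mMap_tMap π a
  sq₁ := isPushout_tmap H (tMap π)
  sq₂ := by
    let Ψ := AlgEquiv.ofBijective (translate (Algebra.TensorProduct.includeRight : H →ₐ[R] A ⊗[R] H))
      (translate_bijective _)
    refine (isPushout_tmap H (Algebra.TensorProduct.includeLeft : A →ₐ[R] A ⊗[R] H)).of_iso (Iso.refl _) (Iso.refl _)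
      (Iso.refl _) Ψ.toRingEquiv.toCommRingCatIso ?_ ?_ ?_ ?_
    · simp only [Iso.refl_hom, Category.comp_id, Category.id_comp]
    · simp only [Iso.refl_hom, Category.comp_id, Category.id_comp]
    · refine CommRingCat.hom_ext (RingHom.ext fun b => ?_)
      show Ψ (algebraMap (A ⊗[R] H) ((A ⊗[R] H) ⊗[R] H) b) = algebraMap (A ⊗[R] H) ((A ⊗[R] H) ⊗[R] H) b
      exact Ψ.commutes b
    · rfl

theorem exists_frame : ∃ n, Nonempty (Frame (data π).s n) :=
  GrpdLib.exists_frame (A := A) (B := A ⊗[R] H)

theorem isIntegral_inv : Algebra.IsIntegral (inv π) A := by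
  obtain ⟨n, ⟨F⟩⟩ := exists_frame π
  exact ⟨fun a => AffData.isIntegralElem F (inv π).toSubring (fun x hx => (mem_inv π x).2 hx) a⟩

theorem exists_prime (p q : Ideal A) [p.IsPrime] [q.IsPrime]
    (h : p.comap (inv π).toSubring.subtype = q.comap (inv π).toSubring.subtype) :
    ∃ r : Ideal (A ⊗[R] H), r.IsPrime ∧ r.comap (tMap π).toRingHom = p ∧
      r.comap (Algebra.TensorProduct.includeLeft : A →ₐ[R] A ⊗[R] H).toRingHom = q := by
  classical
  have hint := isIntegral_inv π
  obtain ⟨n, ⟨F⟩⟩ := exists_frame π
  let s : A →+* A ⊗[R] H := (Algebra.TensorProduct.includeLeft : A →ₐ[R] A ⊗[R] H).toRingHom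
  let t : A →+* A ⊗[R] H := (tMap π).toRingHom
  let O := {r : Ideal (A ⊗[R] H) | r.IsPrime ∧ r.comap s = q}
  have hO : O.Finite := by
    refine (Algebra.QuasiFinite.finite_primesOver (R := A) (S := A ⊗[R] H) q).subset fun r hr => ?_
    exact ⟨hr.1, ⟨hr.2.symm⟩⟩
  by_contra hne
  push Not at hne
  have hnle : ∀ r ∈ O, ¬ p ≤ r.comap t := by
    intro r hr hle
    have := hr.1
    refine hne r hr.1 ?_ hr.2
    have hc : (r.comap t).comap (inv π).toSubring.subtype = p.comap (inv π).toSubring.subtype := by
      rw [h, ← hr.2, Ideal.comap_comap, Ideal.comap_comap]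
      congr 1
      ext a
      exact a.2
    by_contra hlt
    exact (Ideal.IsIntegral.comap_lt_comap (R := inv π) (lt_of_le_of_ne hle (Ne.symm hlt))).ne hc.symm
  obtain ⟨a, hap, ha⟩ : ∃ a ∈ p, ∀ r ∈ O, t a ∉ r := by
    by_contra hall
    push Not at hall
    have hsub : (p : Set A) ⊆ ⋃ r ∈ (hO.toFinset : Set _), ((Ideal.comap t r : Ideal _) : Set _) := by
      intro a ha
      obtain ⟨r, hr, har⟩ := hall a ha
      exact Set.mem_biUnion (hO.mem_toFinset.2 hr) har
    rcases hO.toFinset.eq_empty_or_nonempty with he | ⟨r₀, hr₀⟩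
    · rw [he] at hsub
      exact absurd (hsub p.zero_mem) (by simp)
    obtain ⟨r, hr, hle⟩ := (Ideal.subset_union_prime r₀ r₀ (fun r hr _ _ => by
      have := (hO.mem_toFinset.1 hr).1
      exact Ideal.comap_isPrime _ r)).1 hsub
    exact hnle r (hO.mem_toFinset.1 hr) hle
  have hc : F.norm (t a) ∈ (inv π).toSubring := (mem_inv π _).2 (AffData.t_norm_eq (D := data π) F a).symm
  have h1 : F.norm (t a) ∈ p := by
    have h2 : (data π).t a ∈ p.comap (data π).e := by
      show (data π).e ((data π).t a) ∈ p
      rwa [(data π).e_t_apply]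
    have h3 := AffData.norm_mem F _ a h2
    rwa [Ideal.comap_comap, (data π).e_s, Ideal.comap_id] at h3
  have h4 : (⟨_, hc⟩ : (inv π).toSubring) ∈ q.comap (inv π).toSubring.subtype := h ▸ (show _ ∈ p.comap _ from h1)
  exact AffData.norm_notMem (D := data π) F q a (fun r hr hrq => ha r ⟨hr, hrq⟩) h4

variable (hπ : Function.Surjective π)

include hπ in
theorem span_range_tMap :
    Submodule.span A (Set.range (tMap π)) = (⊤ : Submodule A (A ⊗[R] H)) := by
  let il : A →ₐ[R] A ⊗[R] H :=
    (Algebra.TensorProduct.includeLeft : A →ₐ[R] A ⊗[R] H).comp (HopfAlgebra.antipodeAlgHom R A)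
  have hconv : (toConv il * toConv (tMap π)).ofConv =
      (Algebra.TensorProduct.includeRight : H →ₐ[R] A ⊗[R] H).comp (π : A →ₐ[R] H) := by
    have h : toConv (HopfAlgebra.antipodeAlgHom R A) * toConv (AlgHom.id R A) = 1 := by
      apply WithConv.ofConv_injective
      apply AlgHom.toLinearMap_injective
      apply WithConv.toConv_injective
      rw [AlgHom.toLinearMap_convMul, AlgHom.toLinearMap_convOne]
      simp [LinearMap.antipode_mul_id]
    let l : A →ₐ[R] A ⊗[R] H := Algebra.TensorProduct.includeLeft
    let r : A →ₐ[R] A ⊗[R] H := (Algebra.TensorProduct.includeRight : H →ₐ[R] A ⊗[R] H).comp (π : A →ₐ[R] H)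
    have ht : toConv (tMap π) = toConv l * toConv r := by
      rw [AlgHom.convMul_def]
      congr 1
      ext a
      show Algebra.TensorProduct.map (AlgHom.id R A) (π : A →ₐ[R] H) (Coalgebra.comul (R := R) a) =
        Algebra.TensorProduct.lmul' R (Algebra.TensorProduct.map l r (Coalgebra.comul (R := R) a))
      induction (Coalgebra.comul a : A ⊗[R] A) using TensorProduct.induction_on with
      | zero => simp
      | tmul x y => simp [l, r]
      | add x y hx hy => simp only [map_add, hx, hy]
    have hS : toConv il * toConv l = 1 := by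
      apply WithConv.ofConv_injective
      have h2 := AlgHom.comp_convMul_distrib l (toConv (HopfAlgebra.antipodeAlgHom R A)) (toConv (AlgHom.id R A))
      simp only [AlgHom.comp_id] at h2
      rw [show toConv il = toConv (l.comp (HopfAlgebra.antipodeAlgHom R A)) from rfl, ← h2, h]
      ext a
      exact l.commutes _
    rw [ht]
    exact congrArg ofConv (((_root_.mul_assoc (toConv il) (toConv l) (toConv r)).symm.trans
      (congrArg (· * toConv r) hS)).trans (_root_.one_mul (toConv r)))
  refine eq_top_iff.2 fun z _ => ?_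
  induction z using TensorProduct.induction_on with
  | zero => exact zero_mem _
  | add x y hx hy => exact add_mem (hx trivial) (hy trivial)
  | tmul x h =>
    obtain ⟨a, rfl⟩ := hπ h
    rw [show x ⊗ₜ[R] π a = x • ((1 : A) ⊗ₜ[R] π a) by rw [TensorProduct.smul_tmul', smul_eq_mul, _root_.mul_one]]
    refine Submodule.smul_mem _ _ ?_
    have := AlgHom.congr_fun hconv a
    rw [show (1 : A) ⊗ₜ[R] π a =
      ((Algebra.TensorProduct.includeRight : H →ₐ[R] A ⊗[R] H).comp (π : A →ₐ[R] H)) a from rfl, ← this,
      AlgHom.convMul_def]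
    show Algebra.TensorProduct.lmul' R (Algebra.TensorProduct.map il (tMap π) (Coalgebra.comul (R := R) a)) ∈ _
    induction (Coalgebra.comul a : A ⊗[R] A) using TensorProduct.induction_on with
    | zero => simp
    | tmul p q =>
      rw [Algebra.TensorProduct.map_tmul, Algebra.TensorProduct.lmul'_apply_tmul]
      show algebraMap A (A ⊗[R] H) (HopfAlgebra.antipodeAlgHom R A p) * tMap π q ∈ _
      rw [← Algebra.smul_def]
      exact Submodule.smul_mem _ _ (Submodule.subset_span ⟨q, rfl⟩)
    | add p q hp hq => simp only [map_add]; exact add_mem hp hq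

theorem algebra_s : (data π).s.toAlgebra = (Algebra.TensorProduct.leftAlgebra : Algebra A (A ⊗[R] H)) :=
  Algebra.algebra_ext _ _ fun _ => rfl

include hπ in
theorem isRel : (data π).IsRel (inv π).toSubring where
  fin := by
    rw [algebra_s π]
    exact inferInstanceAs (Module.Finite A (A ⊗[R] H))
  proj := by
    rw [algebra_s π]
    exact inferInstanceAs (Module.Projective A (A ⊗[R] H))
  gen := by
    rw [algebra_s π]
    exact span_range_tMap π hπ
  int a := (isIntegral_inv π).isIntegral a
  orbit p q _ _ h := exists_prime π p q h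

/-- The action map, linearly over the invariants. -/
def tMapInv : A →ₐ[inv π] A ⊗[R] H :=
  { tMap π with commutes' := fun b => ((mem_inv π b.1).1 b.2).symm }

/-- `A ⊗ A` over the invariants is `A ⊗ H`. -/
def galois : A ⊗[inv π] A →ₐ[inv π] A ⊗[R] H :=
  Algebra.TensorProduct.lift (tMapInv π) (IsScalarTower.toAlgHom (inv π) A (A ⊗[R] H)) fun _ _ => Commute.all _ _

theorem galois_tmul (x y : A) : galois π (x ⊗ₜ[inv π] y) = tMap π x * (y ⊗ₜ[R] (1 : H)) :=
  Algebra.TensorProduct.lift_tmul _ _ _ _ _

theorem galois_eq_tensorHom (z : A ⊗[inv π] A) :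
    galois π z = AffData.tensorHom (data π) (inv π).toSubring (mem_inv π) z := by
  induction z using TensorProduct.induction_on with
  | zero => exact (map_zero _).trans (map_zero _).symm
  | tmul x y => exact (galois_tmul π x y).trans rfl
  | add x y hx hy => exact (map_add _ x y).trans ((congrArg₂ (· + ·) hx hy).trans (map_add _ x y).symm)

include hπ in
theorem galois_bijective : Function.Bijective (galois π) := by
  rw [show (galois π : A ⊗[inv π] A → A ⊗[R] H) = AffData.tensorHom (data π) (inv π).toSubring (mem_inv π) from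
    funext (galois_eq_tensorHom π)]
  exact ⟨(isRel π hπ).injective_tensorHom (mem_inv π), (isRel π hπ).surjective_tensorHom (mem_inv π)⟩

include hπ in
theorem faithfullyFlat : Module.FaithfullyFlat (inv π) A := by
  haveI : Module.Flat (inv π) A := (isRel π hπ).flat (mem_inv π)
  haveI := isIntegral_inv π
  haveI : FaithfulSMul (inv π) A := (faithfulSMul_iff_algebraMap_injective _ _).2 Subtype.val_injective
  exact Module.FaithfullyFlat.of_comap_surjective (Algebra.IsIntegral.comap_surjective (R := inv π) (S := A))

/-- `A ⊗ A` over the invariants is `A ⊗ H`, linearly over the left factor. -/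
def galoisEquiv : A ⊗[inv π] A ≃ₐ[A] A ⊗[R] H :=
  AlgEquiv.ofBijective
    ({ ((galois π).toRingHom.comp (Algebra.TensorProduct.comm (inv π) A A).toRingEquiv.toRingHom) with
        commutes' := fun a => by
          show galois π (Algebra.TensorProduct.comm (inv π) A A (a ⊗ₜ[inv π] (1 : A))) = a ⊗ₜ[R] (1 : H)
          rw [Algebra.TensorProduct.comm_tmul, galois_tmul, map_one, _root_.one_mul] } : A ⊗[inv π] A →ₐ[A] A ⊗[R] H)
    ((galois_bijective π hπ).comp (Algebra.TensorProduct.comm (inv π) A A).bijective)

theorem galoisEquiv_tmul (x y : A) : galoisEquiv π hπ (x ⊗ₜ[inv π] y) = tMap π y * (x ⊗ₜ[R] (1 : H)) := by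
  show galois π (Algebra.TensorProduct.comm (inv π) A A (x ⊗ₜ[inv π] y)) = _
  rw [Algebra.TensorProduct.comm_tmul, galois_tmul]

include hπ in
theorem finite : Module.Finite (inv π) A := by
  haveI := faithfullyFlat π hπ
  haveI : Module.Finite A (A ⊗[inv π] A) := Module.Finite.equiv (galoisEquiv π hπ).symm.toLinearEquiv
  exact Module.Finite.of_finite_tensorProduct_of_faithfullyFlat A

include hπ in
theorem projective : Module.Projective (inv π) A := by
  haveI := faithfullyFlat π hπ
  haveI := finite π hπ
  haveI : Module.Finite A (A ⊗[inv π] A) := Module.Finite.equiv (galoisEquiv π hπ).symm.toLinearEquiv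
  haveI : Module.FinitePresentation A (A ⊗[R] H) := Module.finitePresentation_of_projective A _
  haveI : Module.FinitePresentation A (A ⊗[inv π] A) :=
    Module.FinitePresentation.of_equiv (galoisEquiv π hπ).symm.toLinearEquiv
  haveI : Algebra.FinitePresentation A (A ⊗[inv π] A) := Algebra.FinitePresentation.of_finitePresentation _ _
  haveI : Algebra.FinitePresentation (inv π) A :=
    Algebra.FinitePresentation.of_finitePresentation_tensorProduct_of_faithfullyFlat A
  haveI : Module.FinitePresentation (inv π) A := Module.FinitePresentation.of_finite_of_finitePresentation _ _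
  exact Module.Flat.projective_of_finitePresentation

end Quot

end Groth.Agent.GrpSchLib.HopfQuot
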