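import Groth.Agent.SolvGrp.TorusPts
import Groth.Agent.SolvGrp.Unip
import Groth.Agent.SolvGrp.Cartan
import Groth.Agent.DomHom.MonoAffine
import Groth.Agent.GrpSchLib.SplitTorusPoints
import Groth.Agent.TorusQI.MaxSubtorus
import Groth.Agent.GrpSchLib.LaurentPic

/-! Over an algebraically closed field, a connected group isogenous to the punctured line is the punctured line. -/

set_option autoImplicit false
set_option backward.isDefEq.respectTransparency false
set_option backward.isDefEq.respectTransparency.types false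
set_option linter.style.haveILetI false
set_option maxHeartbeats 1000000

universe u

open CategoryTheory Limits MonoidalCategory CartesianMonoidalCategory MonObj GrpObj AlgebraicGeometry

namespace Groth.Agent.GrpSchLib.IsogGm

open Kunneth AffineHopf SplitTorusPoints SolvGrp AGFLib AGFLib.Gen AGFLib.BorelFixed LineGroups WeilCmp.Unip

variable {k : Type u} [Field k]

theorem mon_nsmul {M : Type} [AddCommGroup M] (m : M) (n : ℕ) : mon k (n • m) = mon k m ^ n := by
  induction n with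
  | zero => rw [zero_nsmul, pow_zero, mon_zero]
  | succ n ih => rw [succ_nsmul, pow_succ, mon_add, ih]

theorem comp_pow {X Y G : Over (Spec (CommRingCat.of k))} [GrpObj G] (g : X ⟶ Y) (a : Y ⟶ G) (n : ℕ) :
    g ≫ (a ^ n) = (g ≫ a) ^ n := by
  induction n with
  | zero => rw [pow_zero, pow_zero, MonObj.comp_one]
  | succ n ih => rw [pow_succ, pow_succ, MonObj.comp_mul, ih]

theorem ev_pow_mon {M : Type} [AddCommGroup M] {Z : Over (Spec (CommRingCat.of k))} (x : Z ⟶ D k M) (m : M) (n : ℕ) :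
    ev (x ^ n) (mon k m) = ev x (mon k m) ^ n := by
  induction n with
  | zero => rw [pow_zero, pow_zero, ev_one_mon]
  | succ n ih => rw [pow_succ, pow_succ, ev_mul_mon, ih]

/-- The point of a split torus given by a cocharacter and a unit. -/
theorem exists_cochar {r : ℕ} (v : Fin r → ℤ) (c : kˣ) :
    ∃ t : 𝟙_ (Over (Spec (CommRingCat.of k))) ⟶ D k (Fin r → ℤ),
      ∀ m, ev t (mon k m) = algebraMap k _ ((c ^ (∑ i, m i * v i) : kˣ) : k) := by
  let χ : Multiplicative (Fin r → ℤ) →* Fn (𝟙_ (Over (Spec (CommRingCat.of k)))) :=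
    { toFun := fun m => algebraMap k _ ((c ^ (∑ i, Multiplicative.toAdd m i * v i) : kˣ) : k)
      map_one' := by simp
      map_mul' := fun m n => by
        simp only [toAdd_mul, Pi.add_apply, add_mul, Finset.sum_add_distrib, zpow_add, Units.val_mul, map_mul] }
  obtain ⟨t, ht⟩ := exists_hom (Z := 𝟙_ (Over (Spec (CommRingCat.of k)))) χ
  exact ⟨t, fun m => ht m⟩

/-- The homomorphism of diagonalisable groups of a map of character groups. -/
theorem exists_map {M N : Type} [AddCommGroup M] [AddCommGroup N] (φ : N →+ M) :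
    ∃ a : D k M ⟶ D k N, IsMonHom a ∧ ∀ n, ev a (mon k n) = mon k (φ n) := by
  obtain ⟨a, ha⟩ := exists_hom (Z := D k M) (M := N)
    { toFun := fun n => mon k (φ (Multiplicative.toAdd n))
      map_one' := by rw [toAdd_one, map_zero, mon_zero]
      map_mul' := fun m n => by rw [toAdd_mul, map_add, mon_add] }
  exact ⟨a, isMonHom_of a fun n => by rw [ha n]; exact ev_mu_mon (φ n), ha⟩

theorem exists_mapIso {M N : Type} [AddCommGroup M] [AddCommGroup N] (e : N ≃+ M) :
    ∃ a : D k M ≅ D k N, IsMonHom a.hom ∧ ∀ n, ev a.hom (mon k n) = mon k (e n) := by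
  obtain ⟨a, ha, ha'⟩ := exists_map (k := k) e.toAddMonoidHom
  obtain ⟨b, -, hb'⟩ := exists_map (k := k) e.symm.toAddMonoidHom
  refine ⟨⟨a, b, ext_mon fun m => ?_, ext_mon fun n => ?_⟩, ha, ha'⟩
  · rw [← ev_ev, hb', ha', ev_id]; simp
  · rw [← ev_ev, ha', hb', ev_id]; simp

theorem nonempty_pts_ext {M : Type} [AddCommGroup M] (x : 𝟙_ (Over (Spec (CommRingCat.of k))) ⟶ D k M) (m : M) :
    ev x (mon k m) = algebraMap k _ (evPt x (mon k m)) := by
  rw [← one_fn_const]
  rw [toUnit_unique (toUnit (𝟙_ (Over (Spec (CommRingCat.of k))))) (𝟙 _), Category.id_comp]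

theorem evPt_of_ev {Y : Over (Spec (CommRingCat.of k))} (x : 𝟙_ (Over (Spec (CommRingCat.of k))) ⟶ Y) (f : Fn Y) (c : k)
    (h : ev x f = algebraMap k _ c) : evPt x f = c := by
  have h1 := congrArg (evPt (𝟙 (𝟙_ (Over (Spec (CommRingCat.of k)))))) h
  rwa [evPt_comp, Category.id_comp, AlgHom.commutes, Algebra.algebraMap_self_apply] at h1

variable [IsAlgClosed k]

local notation "PT" => 𝟙_ (Over (Spec (CommRingCat.of k)))

theorem exists_zpow_eq {v : ℤ} (hv : v ≠ 0) (x : kˣ) : ∃ c : kˣ, c ^ v = x := by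
  obtain ⟨z, hz⟩ := IsAlgClosed.exists_pow_nat_eq (x : k) (Int.natAbs_pos.mpr hv)
  have hz0 : z ≠ 0 := by
    rintro rfl
    rw [zero_pow (Int.natAbs_pos.mpr hv).ne'] at hz
    exact x.ne_zero hz.symm
  rcases Int.natAbs_eq v with h | h
  · refine ⟨Units.mk0 z hz0, Units.ext ?_⟩
    rw [h, zpow_natCast, Units.val_pow_eq_pow_val]
    exact hz
  · refine ⟨(Units.mk0 z hz0)⁻¹, Units.ext ?_⟩
    rw [h, zpow_neg, zpow_natCast, inv_pow, _root_.inv_inv, Units.val_pow_eq_pow_val]
    exact hz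

theorem exists_unit_ne_one : ∃ c : kˣ, c ≠ 1 := by
  classical
  obtain ⟨x, hx⟩ := Infinite.exists_notMem_finset ({0, 1} : Finset k)
  simp only [Finset.mem_insert, Finset.mem_singleton, not_or] at hx
  exact ⟨Units.mk0 x hx.1, fun h => hx.2 (congrArg Units.val h)⟩

theorem torus_D (r : ℕ) : Red.IsTorus (D k (Fin r → ℤ)) :=
  isTorus_of_iso (isSplitTorusWith_D (k := k) (M := Fin r → ℤ)).some (TorusQI.isTorus_DS r)

theorem eq_one_of_isUnipPt (y : PT ⟶ D k ℤ) (hy : IsUnipPt y) : y = 1 := by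
  obtain ⟨a, ha, -⟩ := exists_mapIso (k := k) (AddEquiv.funUnique (Fin 1) ℤ)
  haveI := ha
  obtain ⟨haff, hsm, -, hss⟩ := torus_props (torus_D (k := k) 1)
  haveI := haff
  haveI := hsm
  haveI : IsReduced (D k ℤ).left :=
    inferInstanceAs (IsReduced (Spec (CommRingCat.of (MonoidAlgebra k (Multiplicative ℤ)))))
  haveI : LocallyOfFiniteType (D k ℤ).hom :=
    (HasRingHomProperty.Spec_iff (P := @LocallyOfFiniteType)).2 (RingHom.finiteType_algebraMap.2 inferInstance)
  haveI : IsReduced (D k (Fin 1 → ℤ)).left :=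
    inferInstanceAs (IsReduced (Spec (CommRingCat.of (MonoidAlgebra k (Multiplicative (Fin 1 → ℤ))))))
  have h1 : y ≫ a.hom = 1 := eq_one_of_isSsPt_isUnipPt (hss _) ((map_isSsPt_isUnipPt a.hom y).2 hy)
  exact (cancel_mono a.hom).mp (h1.trans (MonObj.one_comp a.hom).symm)

/-- The characters of a split torus are the monomials. -/
theorem exists_char_eq {r : ℕ} (G₀ : D k (Fin r → ℤ) ⟶ D k ℤ) [IsMonHom G₀] :
    ∃ m : Fin r → ℤ, ev G₀ (mon k (1 : ℤ)) = mon k m := by
  classical
  obtain ⟨hdom, -⟩ := LaurentPic.ufd_lattice k r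
  haveI : IsReduced (D k (Fin r → ℤ)).left :=
    inferInstanceAs (IsReduced (Spec (CommRingCat.of (MonoidAlgebra k (Multiplicative (Fin r → ℤ))))))
  haveI : LocallyOfFiniteType (D k (Fin r → ℤ)).hom :=
    (HasRingHomProperty.Spec_iff (P := @LocallyOfFiniteType)).2 (RingHom.finiteType_algebraMap.2 inferInstance)
  let χ : (Fin r → ℤ) → ((PT ⟶ D k (Fin r → ℤ)) →* k) := fun m =>
    { toFun := fun t => evPt t (mon k m)
      map_one' := evPt_of_ev _ _ _ (by rw [ev_one_mon, map_one])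
      map_mul' := fun x y => evPt_of_ev _ _ _ (by rw [ev_mul_mon, nonempty_pts_ext, nonempty_pts_ext, map_mul]) }
  have hχ : Function.Injective χ := fun m n e => by
    funext i
    obtain ⟨c, hc⟩ : ∃ c : kˣ, c ^ (m i - n i) ≠ 1 ∨ m i - n i = 0 := by
      by_cases h : m i - n i = 0
      · exact ⟨1, Or.inr h⟩
      obtain ⟨x, hx⟩ := exists_unit_ne_one (k := k)
      obtain ⟨c, rfl⟩ := exists_zpow_eq h x
      exact ⟨c, Or.inl hx⟩
    rcases hc with hc | hc
    swap
    · exact sub_eq_zero.mp hc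
    obtain ⟨t, ht⟩ := exists_cochar (k := k) (Pi.single i 1) c
    have h1 : evPt t (mon k m) = evPt t (mon k n) := DFunLike.congr_fun e t
    rw [evPt_of_ev _ _ _ (ht m), evPt_of_ev _ _ _ (ht n)] at h1
    refine absurd ?_ hc
    have h2 := Units.ext h1
    simp only [Pi.single_apply, mul_ite, _root_.mul_one, mul_zero, Finset.sum_ite_eq', Finset.mem_univ, if_true] at h2
    rw [zpow_sub, h2, mul_inv_cancel]
  obtain ⟨b, hb⟩ := (fnSp k (MonoidAlgebra k (Multiplicative (Fin r → ℤ)))).surjective (ev G₀ (mon k (1 : ℤ)))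
  let ξ : (PT ⟶ D k (Fin r → ℤ)) →* k :=
    { toFun := fun t => evPt t (ev G₀ (mon k (1 : ℤ)))
      map_one' := evPt_of_ev _ _ _ (by rw [ev_ev, MonObj.one_comp, ev_one_mon, map_one])
      map_mul' := fun x y => evPt_of_ev _ _ _ (by
        rw [ev_ev, MonObj.mul_comp, ev_mul_mon, nonempty_pts_ext, nonempty_pts_ext, map_mul]
        rfl) }
  have hsum : ∀ t : PT ⟶ D k (Fin r → ℤ), ξ t = b.coeff.sum fun m a => a * evPt t (mon k (Multiplicative.toAdd m)) := by
    intro t
    show evPt t (ev G₀ (mon k (1 : ℤ))) = _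
    rw [← hb]
    clear hb
    induction b using MonoidAlgebra.induction_linear with
    | zero => simp
    | add x y hx hy =>
      rw [map_add, map_add, hx, hy, MonoidAlgebra.coeff_add, Finsupp.sum_add_index' (by simp) (by simp [add_mul])]
    | single m s =>
      rw [MonoidAlgebra.coeff_single, Finsupp.sum_single_index (by simp),
        show MonoidAlgebra.single m s = s • MonoidAlgebra.single m (1 : k) by simp, map_smul, map_smul, smul_eq_mul]
      rfl
  by_contra hno
  push Not at hno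
  have hξ : ∀ m, χ m ≠ ξ := fun m e => hno m (sub_eq_zero.mp (eq_zero_of_forall_evPt _ fun t => by
    rw [map_sub, sub_eq_zero]; exact (DFunLike.congr_fun e t).symm))
  let φ : Option (Fin r → ℤ) → ((PT ⟶ D k (Fin r → ℤ)) →* k) := fun o => o.elim ξ χ
  have hφ : Function.Injective φ := by
    rintro (_ | m) (_ | n) e
    · rfl
    · exact (hξ n e.symm).elim
    · exact (hξ m e).elim
    · exact congrArg some (hχ e)
  have hli := (linearIndependent_monoidHom (PT ⟶ D k (Fin r → ℤ)) k).comp φ hφ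
  have h0 : (fun t => ξ t) ∈ Submodule.span k
      ((fun o => ((φ o : (PT ⟶ D k (Fin r → ℤ)) →* k) : (PT ⟶ D k (Fin r → ℤ)) → k)) '' Set.range some) := by
    have e : (fun t => ξ t) = b.coeff.sum fun m a => a • ((χ (Multiplicative.toAdd m)) : (PT ⟶ D k (Fin r → ℤ)) → k) := by
      funext t
      rw [hsum, Finsupp.sum, Finsupp.sum, Finset.sum_apply]
      rfl
    rw [e]
    exact Submodule.sum_mem _ fun m _ => Submodule.smul_mem _ _
      (Submodule.subset_span ⟨some (Multiplicative.toAdd m), ⟨_, rfl⟩, rfl⟩)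
  exact hli.notMem_span_image (x := (none : Option (Fin r → ℤ))) (s := Set.range some) (by simp) h0

theorem exists_eq_pow_pts {r : ℕ} (m : Fin r → ℤ) (hm : m ≠ 0) (G₀ : D k (Fin r → ℤ) ⟶ D k ℤ)
    (hG₀ : ev G₀ (mon k (1 : ℤ)) = mon k m) (y : PT ⟶ D k ℤ) : ∃ t : PT ⟶ D k (Fin r → ℤ), t ≫ G₀ = y := by
  classical
  obtain ⟨i, hi⟩ := Function.ne_iff.mp hm
  have hu : IsUnit (evPt y (mon k (1 : ℤ))) := (isUnit_mon (k := k) (1 : ℤ)).map (evPt y)
  obtain ⟨c, hc⟩ := exists_zpow_eq hi hu.unit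
  obtain ⟨t, ht⟩ := exists_cochar (k := k) (Pi.single i 1) c
  refine ⟨t, ext_mon_int ?_⟩
  rw [← ev_ev, hG₀, ht, nonempty_pts_ext y]
  congr 1
  simp [Pi.single_apply, hc]

variable {H : Over (Spec (CommRingCat.of k))} [GrpObj H] [Smooth H.hom] [ConnectedSpace H.left]
  (F : H ⟶ D k ℤ) [IsMonHom F] [IsFinite F.left] [Surjective F.left]

omit [ConnectedSpace H.left] [IsMonHom F] [Surjective F.left] in
theorem finite_kerPts : {g : PT ⟶ H | g ≫ F = 1}.Finite := by
  haveI : LocallyOfFiniteType H.hom := inferInstance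
  refine Set.Finite.of_finite_image (f := cp) ?_ fun a _ b _ e => cp_injective e
  refine (F.left.finite_preimage_singleton (cp (1 : PT ⟶ D k ℤ))).subset ?_
  rintro _ ⟨g, hg, rfl⟩
  show F.left (cp g) = cp (1 : PT ⟶ D k ℤ)
  rw [← show g ≫ F = 1 from hg]
  rfl

omit [ConnectedSpace H.left] [IsMonHom F] in
theorem exists_pt_over (y : PT ⟶ D k ℤ) : ∃ h : PT ⟶ H, h ≫ F = y := by
  haveI : LocallyOfFiniteType H.hom := inferInstance
  haveI : LocallyOfFiniteType (D k ℤ).hom :=
    (HasRingHomProperty.Spec_iff (P := @LocallyOfFiniteType)).2 (RingHom.finiteType_algebraMap.2 inferInstance)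
  haveI : JacobsonSpace H.left := LocallyOfFiniteType.jacobsonSpace H.hom
  obtain ⟨x, hx⟩ := F.left.surjective (cp y)
  have hy : IsClosed ({cp y} : Set (D k ℤ).left) := isClosed_cp y
  obtain ⟨z, hzy, hzc⟩ := nonempty_inter_closedPoints (Z := F.left ⁻¹' {cp y}) ⟨x, hx⟩
    (hy.preimage F.left.continuous).isLocallyClosed
  obtain ⟨h, rfl⟩ := exists_cp hzc
  exact ⟨h, cp_injective hzy⟩

/-- The group is the punctured line and the isogeny a power map. -/
theorem exists_iso_pow : ∃ (χ : H ⟶ D k ℤ) (_ : IsMonHom χ) (n : ℕ), IsIso χ ∧ n ≠ 0 ∧ χ ^ n = F := by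
  classical
  haveI : IsAffine H.left := isAffine_of_isAffineHom F.left
  haveI : LocallyOfFiniteType H.hom := inferInstance
  haveI : QuasiCompact H.hom := (quasiCompact_iff_compactSpace H.hom).mpr inferInstance
  haveI : IsReduced H.left := isReduced_of_smooth_field H.hom
  haveI : IsSeparated (D k ℤ).hom := inferInstance
  haveI : LocallyOfFiniteType (D k ℤ).hom :=
    (HasRingHomProperty.Spec_iff (P := @LocallyOfFiniteType)).2 (RingHom.finiteType_algebraMap.2 inferInstance)
  haveI : IsReduced (D k ℤ).left :=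
    inferInstanceAs (IsReduced (Spec (CommRingCat.of (MonoidAlgebra k (Multiplicative ℤ)))))
  -- a nontrivial torus
  obtain ⟨T, hTg, j, hjm, hjmono, hT, hne⟩ : ∃ (T : Over (Spec (CommRingCat.of k))) (_ : GrpObj T) (j : T ⟶ H)
      (_ : IsMonHom j) (_ : Mono j), Red.IsTorus T ∧ ¬ Red.IsTrivialGrp T := by
    by_contra hno
    have hns : Red.HasNoSubtorus k H := fun T _ j _ _ hT => by
      by_contra hT'
      exact hno ⟨T, inferInstance, j, inferInstance, inferInstance, hT, hT'⟩
    have hall : ∀ y : PT ⟶ D k ℤ, y = 1 := fun y => by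
      obtain ⟨h, rfl⟩ := exists_pt_over F y
      exact eq_one_of_isUnipPt _ ((map_isSsPt_isUnipPt F h).2 (isUnipPt_of_hasNoSubtorus hns h))
    obtain ⟨c, hc⟩ := exists_unit_ne_one (k := k)
    obtain ⟨y, hy⟩ := exists_hom_int (k := k) (Z := PT) (c.isUnit.map (algebraMap k (Fn PT)))
    rw [hall y, ev_one_mon, ← map_one (algebraMap k (Fn PT))] at hy
    have h1 := congrArg (evPt (𝟙 PT)) hy
    rw [AlgHom.commutes, AlgHom.commutes, Algebra.algebraMap_self_apply, Algebra.algebraMap_self_apply] at h1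
    exact hc (Units.ext h1.symm)
  letI := hTg
  haveI := hjm
  haveI := hjmono
  obtain ⟨hTaff, hTsm, hTconn, -⟩ := torus_props hT
  haveI := hTaff
  haveI := hTsm
  haveI := hTconn
  haveI : IsReduced T.left := isReduced_of_smooth_field T.hom
  haveI : QuasiCompact T.hom := (quasiCompact_iff_compactSpace T.hom).mpr inferInstance
  obtain ⟨r, ⟨eT⟩⟩ := exists_iso_sp hT
  let a : D k (Fin r → ℤ) ≅ T := (Grp.forget _).mapIso eT.symm
  haveI : IsMonHom a.hom := eT.inv.hom.isMonHom_hom
  haveI : IsMonHom a.inv := eT.hom.hom.isMonHom_hom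
  let G₀ := a.hom ≫ j ≫ F
  haveI : IsMonHom G₀ := inferInstanceAs (IsMonHom (a.hom ≫ j ≫ F))
  obtain ⟨m, hm⟩ := exists_char_eq G₀
  haveI : Mono (a.hom ≫ j) := mono_comp a.hom j
  have hfin : {t : PT ⟶ D k (Fin r → ℤ) | t ≫ G₀ = 1}.Finite := by
    refine Set.Finite.of_finite_image (f := fun t => t ≫ a.hom ≫ j) ((finite_kerPts F).subset ?_) fun x _ y _ e =>
      (cancel_mono (a.hom ≫ j)).mp e
    rintro _ ⟨t, ht, rfl⟩
    show (t ≫ a.hom ≫ j) ≫ F = 1
    simpa [G₀] using ht
  have key : ∀ v : Fin r → ℤ, v ≠ 0 → ∑ i, m i * v i ≠ 0 := fun v hv h0 => by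
    obtain ⟨i, hi⟩ := Function.ne_iff.mp hv
    choose t ht using exists_cochar (k := k) v
    have hker : ∀ c, t c ≫ G₀ = 1 := fun c => ext_mon_int (by
      rw [← ev_ev, hm, ht, h0, zpow_zero, Units.val_one, map_one, ev_one_mon])
    have hfk : ({0} ∪ (fun t => evPt t (mon k (Pi.single i 1 : Fin r → ℤ))) ''
        {t : PT ⟶ D k (Fin r → ℤ) | t ≫ G₀ = 1} : Set k).Finite := (Set.finite_singleton _).union (hfin.image _)
    have huniv : Set.univ ⊆ ({0} ∪ (fun t => evPt t (mon k (Pi.single i 1 : Fin r → ℤ))) ''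
        {t : PT ⟶ D k (Fin r → ℤ) | t ≫ G₀ = 1} : Set k) := fun x _ => by
      rcases eq_or_ne x 0 with hx | hx
      · exact Or.inl hx
      obtain ⟨c, hc⟩ := exists_zpow_eq hi (Units.mk0 x hx)
      refine Or.inr ⟨t c, hker c, ?_⟩
      show evPt (t c) _ = x
      rw [evPt_of_ev _ _ _ (ht c _)]
      simp [Pi.single_apply, hc]
    exact Set.infinite_univ (hfk.subset huniv)
  have hr0 : r ≠ 0 := by
    rintro rfl
    refine hne (isTrivialGrp_of_pts fun x => ?_)
    have h1 : x ≫ a.inv = 1 := ext_mon fun n => by rw [Subsingleton.elim n 0, ev_zero, ev_one_mon]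
    exact (cancel_mono a.inv).mp (h1.trans (MonObj.one_comp a.inv).symm)
  have hne0 : ∀ i, m i ≠ 0 := fun i h => key (Pi.single i 1)
    (fun e => one_ne_zero (α := ℤ) (by simpa using congrFun e i))
    (by simp [Pi.single_apply, h])
  obtain rfl : r = 1 := by
    by_contra hr1
    let i : Fin r := ⟨0, by omega⟩
    let l : Fin r := ⟨1, by omega⟩
    have hil : i ≠ l := by simp [i, l, Fin.ext_iff]
    refine key (Pi.single i (m l) - Pi.single l (m i)) (fun e => hne0 l ?_) ?_
    · simpa [Pi.single_apply, hil, hil.symm] using congrFun e i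
    · simp [Pi.single_apply, mul_sub, Finset.sum_sub_distrib, _root_.mul_comm]
  have hm0 : m ≠ 0 := fun e => hne0 0 (by simp [e])
  -- the torus is everything
  let J := a.hom ≫ j
  haveI : IsMonHom J := inferInstanceAs (IsMonHom (a.hom ≫ j))
  haveI : QuasiCompact (J.left ≫ H.hom) := by rw [Over.w J]; infer_instance
  haveI : QuasiCompact J.left := QuasiCompact.of_comp J.left H.hom
  haveI : QuasiCompact (D k (Fin 1 → ℤ)).hom := inferInstance
  haveI : LocallyOfFiniteType (D k (Fin 1 → ℤ)).hom :=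
    (HasRingHomProperty.Spec_iff (P := @LocallyOfFiniteType)).2 (RingHom.finiteType_algebraMap.2 inferInstance)
  haveI : Mono J := ‹Mono (a.hom ≫ j)›
  haveI : IsClosedImmersion J.left := DomHom.isClosedImmersion_of_mono J
  have htop : rangePts J = ⊤ := eq_top_of_finite (rangePts J) (ptsClosed_range J) _ (finite_kerPts F) fun h => by
    obtain ⟨t, ht⟩ := exists_eq_pow_pts m hm0 G₀ hm (h ≫ F)
    refine ⟨h * (t ≫ J)⁻¹, ?_, t, ?_⟩
    · show (h * (t ≫ J)⁻¹) ≫ F = 1
      rw [MonObj.mul_comp, GrpObj.inv_comp, show (t ≫ J) ≫ F = h ≫ F by rw [← ht]; simp [J, G₀], mul_inv_cancel]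
    · show t ≫ J = _
      rw [_root_.mul_inv_rev, _root_.inv_inv, _root_.mul_assoc, inv_mul_cancel, _root_.mul_one]
  haveI : Surjective J.left := by
    refine ⟨Set.range_eq_univ.mp (eq_univ_of_forall_cp (HomClosedRange.isClosed_range J) fun h => ?_)⟩
    obtain ⟨t, rfl⟩ : h ∈ rangePts J := htop ▸ Subgroup.mem_top h
    exact ⟨cp t, rfl⟩
  haveI : IsIso J.left := isIso_of_isClosedImmersion_of_surjective J.left
  haveI : IsIso ((Over.forget (Spec (CommRingCat.of k))).map J) := ‹IsIso J.left›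
  haveI : IsIso J := isIso_of_reflects_iso _ (Over.forget (Spec (CommRingCat.of k)))
  obtain ⟨b, hb, hb'⟩ : ∃ b : D k (Fin 1 → ℤ) ≅ D k ℤ, IsMonHom b.hom ∧
      (m 0).natAbs ≠ 0 ∧ mon k ((m 0).natAbs • (fun _ => (m 0).sign : Fin 1 → ℤ)) = mon k m ∧
      ev b.hom (mon k (1 : ℤ)) = mon k (fun _ => (m 0).sign : Fin 1 → ℤ) := by
    have hs : (m 0).sign * (m 0).sign = 1 := by
      rcases lt_trichotomy (m 0) 0 with h | h | h
      · rw [Int.sign_eq_neg_one_of_neg h]; rfl
      · exact absurd h (hne0 0)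
      · rw [Int.sign_eq_one_of_pos h]; rfl
    let e : ℤ ≃+ (Fin 1 → ℤ) :=
      { toFun := fun n _ => (m 0).sign * n
        invFun := fun v => (m 0).sign * v 0
        left_inv := fun n => by simp only [← _root_.mul_assoc, hs, _root_.one_mul]
        right_inv := fun v => funext fun i => by
          simp only [← _root_.mul_assoc, hs, _root_.one_mul, Subsingleton.elim i 0]
        map_add' := fun x y => funext fun i => _root_.mul_add _ x y }
    obtain ⟨b, hb, hb'⟩ := exists_mapIso (k := k) e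
    refine ⟨b, hb, Int.natAbs_ne_zero.mpr (hne0 0), congrArg (mon k) (funext fun i => ?_), ?_⟩
    · rw [Subsingleton.elim i 0]
      show (m 0).natAbs • (m 0).sign = m 0
      rw [nsmul_eq_mul, _root_.mul_comm]
      exact Int.sign_mul_natAbs (m 0)
    · rw [hb']
      exact congrArg (mon k) (funext fun i => _root_.mul_one _)
  haveI := hb
  haveI : IsMonHom (asIso J).hom := ‹IsMonHom J›
  haveI : IsMonHom (inv J) := inferInstanceAs (IsMonHom (asIso J).inv)
  refine ⟨inv J ≫ b.hom, inferInstance, (m 0).natAbs, inferInstance, hb'.1, ?_⟩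
  rw [← cancel_epi J, comp_pow, IsIso.hom_inv_id_assoc]
  refine ext_mon_int ?_
  rw [ev_pow_mon, hb'.2.2, show J ≫ F = G₀ by simp [J, G₀], hm, ← hb'.2.1, mon_nsmul]

end Groth.Agent.GrpSchLib.IsogGm
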