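import Groth.Agent.CechTorsorX.GaGmH90
import Groth.Agent.CechTorsorX.SchBoundary

/-! Torsors over a field under successive extensions of groups with Hilbert 90 have rational points. -/

set_option autoImplicit false
set_option backward.isDefEq.respectTransparency false
set_option backward.isDefEq.respectTransparency.types false
set_option linter.style.haveILetI false
set_option maxHeartbeats 1000000

universe u

open CategoryTheory CategoryTheory.Limits MonoidalCategory CartesianMonoidalCategory MonObj GrpObj AlgebraicGeometry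
open scoped TensorProduct

namespace Groth.Agent.GrpSchLib.TorsorDevissage

open Groth.Agent.CechTorsorX Groth.Agent.CechTorsorX.ZariskiTriv Groth.Agent.SchTorsor Groth.Agent.GmH1Lib.Hilbert90

variable {K : Type u} [Field K]

/-- A scheme over a field has a point in a field extension, giving local triviality. -/
theorem isLocallyTrivial_of_nonempty (X : Over (Spec (CommRingCat.of K))) [Nonempty X.left] :
    NonAbH1.IsLocallyTrivialFor Scheme.fpqcPrecoverage X := by
  let x : X.left := Classical.arbitrary _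
  let p : Spec (X.left.residueField x) ⟶ Spec (CommRingCat.of K) := X.left.fromSpecResidueField x ≫ X.hom
  obtain ⟨φ, hφ⟩ := Spec.map_surjective p
  letI : Algebra K (X.left.residueField x) := φ.hom.toAlgebra
  haveI : Flat p := by
    rw [← hφ]
    exact (HasRingHomProperty.Spec_iff (P := @Flat)).2
      (RingHom.flat_algebraMap_iff (R := K) (S := X.left.residueField x) |>.2 inferInstance)
  haveI : Surjective p := ⟨fun y => ⟨IsLocalRing.closedPoint (X.left.residueField x),
    @Subsingleton.elim (PrimeSpectrum K) _ _ _⟩⟩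
  haveI : QuasiCompact p := inferInstance
  refine ⟨Presieve.singleton p, p.singleton_mem_fpqcPrecoverage, ?_⟩
  rintro S' f ⟨⟩
  exact ⟨X.left.fromSpecResidueField x, rfl⟩

variable {G Q P : Over (Spec (CommRingCat.of K))} [GrpObj G] [GrpObj Q]

/-- Pushing a torsor to a group with Hilbert 90 gives the trivial torsor. -/
theorem exists_equivariant [IsCommMonObj Q] (hQ : LocalH90 Q) (v : G ⟶ Q) [IsMonHom v]
    (a : AlgGrp.Action G P) (ha : NonAbH1.IsTorsorFor Scheme.fpqcPrecoverage a) :
    NonAbH1.IsPushforwardAlongSch v a (NonAbH1.trivialAction Q) := by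
  obtain ⟨Z, p, hp1, hp2, hp3, hZ⟩ := exists_single ha.2 (𝟙 (Spec (CommRingCat.of K)))
  haveI := hp1; haveI := hp2; haveI := hp3
  obtain ⟨s₀, hs₀⟩ := hZ
  obtain ⟨A, _, _, q, hA, hq⟩ := exists_ff_algebra p
  haveI := hA
  let j : Spec (CommRingCat.of K) ⟶ Spec (CommRingCat.of K) := 𝟙 _
  let s : sp j A ⟶ P := Over.homMk (q ≫ s₀) (by
    show (q ≫ s₀) ≫ P.hom = Spec.map _ ≫ 𝟙 _
    rw [Category.assoc, hs₀, ← hq, Category.assoc])
  obtain ⟨g, hg⟩ := exists_div ha.1
    (sh (Algebra.TensorProduct.includeLeft : A →ₐ[K] A ⊗[K] A) ≫ s)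
    (sh (Algebra.TensorProduct.includeRight : A →ₐ[K] A ⊗[K] A) ≫ s)
  have hrel : ∀ {B : Type u} [CommRing B] [Algebra K B] (h : A ⊗[K] A →ₐ[K] B),
      lift (sh (j := j) h ≫ g) (sh (h.comp Algebra.TensorProduct.includeRight) ≫ s) ≫ a.act =
        sh (h.comp Algebra.TensorProduct.includeLeft) ≫ s := fun {B} _ _ h => by
    have := congrArg (sh (j := j) h ≫ ·) hg
    simp only [comp_lift_assoc] at this
    rw [← Category.assoc (sh h), sh_comp, ← Category.assoc (sh h) (sh _) s, sh_comp] at this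
    exact this
  have hc : sh (p02 K A) ≫ g ≫ v = (sh (p01 K A) ≫ g ≫ v) * (sh (p12 K A) ≫ g ≫ v) := by
    simp only [← Category.assoc]
    rw [← MonObj.mul_comp]
    congr 1
    refine act_free ha.1 (y := sh ((p12 K A).comp Algebra.TensorProduct.includeRight) ≫ s) ?_
    rw [act_assoc, hrel (p12 K A)]
    have e1 : (p02 K A).comp Algebra.TensorProduct.includeRight =
        (p12 K A).comp Algebra.TensorProduct.includeRight := by ext x; simp
    have e2 : (p01 K A).comp Algebra.TensorProduct.includeRight =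
        (p12 K A).comp Algebra.TensorProduct.includeLeft := by ext x; simp
    have e3 : (p02 K A).comp Algebra.TensorProduct.includeLeft =
        (p01 K A).comp Algebra.TensorProduct.includeLeft := by ext x; simp
    rw [← e1, hrel (p02 K A), ← e2, hrel (p01 K A), e3]
  obtain ⟨f, hf, b, hb⟩ := hQ K A j (g ≫ v) hc ⟨⊥, Ideal.isPrime_bot⟩
  have hf0 : f ≠ 0 := fun h => hf (h ▸ Ideal.zero_mem _)
  let C := CC K A f
  let iL : C →ₐ[K] C ⊗[K] C := cL K A f
  let iR : C →ₐ[K] C ⊗[K] C := cR K A f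
  let t : sp j C ⟶ P := sh (cι K A f) ≫ s
  haveI : IsDomain (Localization.Away f) :=
    IsLocalization.isDomain_localization (powers_le_nonZeroDivisors_of_noZeroDivisors hf0)
  haveI : Nontrivial (Localization.Away f) := inferInstance
  haveI : Module.FaithfullyFlat K C := by
    haveI : Module.FaithfullyFlat K (Localization.Away f) := inferInstance
    exact Module.FaithfullyFlat.trans K (Localization.Away f) C
  have hCtriv : NonAbH1.IsLocallyTrivialFor Scheme.fpqcPrecoverage (sp j C) := by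
    let π := (sp j C).hom
    haveI : Surjective π := ⟨fun y => ⟨Classical.arbitrary (PrimeSpectrum C), @Subsingleton.elim (PrimeSpectrum K) _ _ _⟩⟩
    haveI : Flat π := by
      show Flat (Spec.map _ ≫ 𝟙 _)
      rw [Category.comp_id]
      exact (HasRingHomProperty.Spec_iff (P := @Flat)).2 (RingHom.flat_algebraMap_iff.2 inferInstance)
    haveI : QuasiCompact π := by
      show QuasiCompact (Spec.map _ ≫ 𝟙 _)
      infer_instance
    refine ⟨Presieve.singleton π, π.singleton_mem_fpqcPrecoverage, ?_⟩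
    rintro S' f' ⟨⟩
    exact ⟨𝟙 _, Category.id_comp _⟩
  let T₀ := P ⊗ sp j C
  obtain ⟨d, hd⟩ := exists_div ha.1 (fst P (sp j C)) (snd P (sp j C) ≫ t)
  let F : T₀ ⟶ Q := (d ≫ v) * (snd P (sp j C) ≫ b)
  have hF : ∀ {T : Over (Spec (CommRingCat.of K))} (x : T ⟶ P) (c : T ⟶ sp j C) (h : T ⟶ G),
      lift h (c ≫ t) ≫ a.act = x → lift x c ≫ F = (h ≫ v) * (c ≫ b) := fun {T} x c h hh => by
    have e : lift x c ≫ d = h := by
      refine act_free ha.1 (y := c ≫ t) (Eq.trans ?_ hh.symm)
      have := congrArg (lift x c ≫ ·) hd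
      simp only [comp_lift_assoc, lift_fst, lift_snd_assoc] at this
      exact this
    rw [MonObj.comp_mul, lift_snd_assoc, ← Category.assoc, e]
  have hls : ∀ (Y : Over (Spec (CommRingCat.of K))),
      GrpSchLib.TopDescent.HasLocSec Scheme.fpqcTopology (fst Y (sp j C)) := fun Y =>
    hasLocSec_of_points _ hCtriv fun T y w => ⟨lift y w, lift_fst _ _⟩
  obtain ⟨ψ, hψ, -⟩ := (hls P).existsUnique_desc F (fun T x y hxy => by
    have hex' : ∀ z : T ⟶ P ⊗ sp j C, z = lift (z ≫ fst _ _) (z ≫ snd _ _) := fun z => by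
      rw [← comp_lift, lift_fst_snd, Category.comp_id]
    let c := x ≫ snd _ _
    let c' := y ≫ snd _ _
    have hcw : c.left ≫ Spec.map (CommRingCat.ofHom (algebraMap K C)) =
        c'.left ≫ Spec.map (CommRingCat.ofHom (algebraMap K C)) := by
      have := (Over.w c).trans (Over.w c').symm
      simpa [j] using this
    let z := pullback.lift c.left c'.left hcw ≫ (pullbackSpecIso K C C).hom
    have h1 : z ≫ Spec.map (CommRingCat.ofHom (R := C) (S := C ⊗[K] C) iL.toRingHom) = c.left := by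
      refine (congrArg (z ≫ ·) (pullbackSpecIso_inv_fst K C C).symm).trans ?_
      simp [z, C]
    have h2 : z ≫ Spec.map (CommRingCat.ofHom (R := C) (S := C ⊗[K] C) iR.toRingHom) = c'.left := by
      refine (congrArg (z ≫ ·) (pullbackSpecIso_inv_snd K C C).symm).trans ?_
      simp [z, C]
    let zz : T ⟶ sp j (C ⊗[K] C) := Over.homMk z (by
      show z ≫ Spec.map _ ≫ 𝟙 _ = T.hom
      refine Eq.trans ?_ (Over.w c)
      rw [← h1]
      refine Eq.trans ?_ (Category.assoc _ _ _).symm
      refine congrArg (z ≫ ·) ?_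
      exact (Over.w (sh (j := j) (B := C) (C := C ⊗[K] C) iL)).symm)
    have e1 : zz ≫ sh (B := C) (C := C ⊗[K] C) iL = c := Over.OverMorphism.ext h1
    have e2 : zz ≫ sh (B := C) (C := C ⊗[K] C) iR = c' := Over.OverMorphism.ext h2
    let w := zz ≫ sh (Algebra.TensorProduct.map (cι K A f) (cι K A f)) ≫ g
    have hw : lift w (c' ≫ t) ≫ a.act = c ≫ t := by
      have hm := congrArg (zz ≫ ·) (hrel (B := C ⊗[K] C) (Algebra.TensorProduct.map (cι K A f) (cι K A f)))
      rw [show (Algebra.TensorProduct.map (cι K A f) (cι K A f)).comp Algebra.TensorProduct.includeRight =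
          iR.comp (cι K A f) by ext r; rfl,
        show (Algebra.TensorProduct.map (cι K A f) (cι K A f)).comp Algebra.TensorProduct.includeLeft =
          iL.comp (cι K A f) by ext r; rfl, ← sh_comp, ← sh_comp] at hm
      simp only [comp_lift_assoc, Category.assoc] at hm
      rw [← e1, ← e2]
      simp only [Category.assoc, t]
      exact hm
    have hbw : c ≫ b = (w ≫ v) * (c' ≫ b) := by
      rw [← e1, ← e2, Category.assoc, hb, MonObj.comp_mul]
      simp only [w, Category.assoc]
      rfl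
    obtain ⟨h, hh⟩ := exists_div ha.1 (x ≫ fst _ _) (c ≫ t)
    rw [hex' x, hex' y, ← hxy, hF _ _ h hh, hF (x ≫ fst _ _) c' (h * w) (by rw [act_assoc, hw, hh]),
      MonObj.mul_comp, _root_.mul_assoc, ← hbw])
  refine ⟨ψ, (hls (G ⊗ P)).hom_ext ?_⟩
  rw [SchBoundary.act_trivial, MonObj.comp_mul]
  let π₁ := fst (G ⊗ P) (sp j C)
  let π₂ := snd (G ⊗ P) (sp j C)
  have hr : π₁ ≫ snd G P ≫ ψ = lift (π₁ ≫ snd G P) π₂ ≫ F := by
    rw [← hψ, lift_fst_assoc, Category.assoc]
  have hl : π₁ ≫ a.act ≫ ψ = lift (π₁ ≫ a.act) π₂ ≫ F := by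
    rw [← hψ, lift_fst_assoc, Category.assoc]
  obtain ⟨h, hh⟩ := exists_div ha.1 (π₁ ≫ snd G P) (π₂ ≫ t)
  rw [hr, hl, hF _ _ ((π₁ ≫ fst G P) * h), hF _ _ h hh, MonObj.mul_comp, _root_.mul_assoc, Category.assoc]
  rw [act_assoc, hh, ← comp_lift, lift_fst_snd, Category.comp_id]

/-- The kernel of a flat surjective homomorphism gives an fpqc exact sequence. -/
theorem isExactSeq {N B Q' : Over (Spec (CommRingCat.of K))} [GrpObj N] [GrpObj B] [GrpObj Q']
    [LocallyOfFiniteType B.hom] [LocallyOfFiniteType Q'.hom]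
    (i : N ⟶ B) [IsMonHom i] (v : B ⟶ Q') [IsMonHom v] [Surjective v.left] [Flat v.left]
    (hk : AlgGrp.IsKernel i v) : NonAbH1.IsExactSeq Scheme.fpqcPrecoverage i v := by
  have h1 : i ≫ v = 1 := hk.w.trans Hom.one_def.symm
  refine ⟨inferInstance, inferInstance, h1, ?_, ?_⟩
  · have hm : ∀ {T : Over (Spec (CommRingCat.of K))} (l : T ⟶ B ⊗ N),
        l ≫ (B ◁ i) ≫ μ[B] = (l ≫ fst B N) * ((l ≫ snd B N) ≫ i) := fun l => by
      rw [← SchBoundary.lift_mul (u := i), ← comp_lift, lift_fst_snd, Category.comp_id]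
    have hw : fst B N ≫ v = ((B ◁ i) ≫ μ[B]) ≫ v := by
      have := congrArg (fun q => q ≫ v) (hm (𝟙 (B ⊗ N)))
      simp only [Category.id_comp, MonObj.mul_comp, Category.assoc, h1, MonObj.comp_one, _root_.mul_one] at this
      rw [Category.assoc, this]
    have hex : ∀ {T : Over (Spec (CommRingCat.of K))} (x y : T ⟶ B), x ≫ v = y ≫ v →
        ∃ n : T ⟶ N, x * (n ≫ i) = y := fun x y e => by
      have e' : (x⁻¹ * y) ≫ v = toUnit _ ≫ η[Q'] := by
        rw [MonObj.mul_comp, GrpObj.inv_comp, e, inv_mul_cancel, Hom.one_def]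
      exact ⟨hk.lift (x⁻¹ * y) (toUnit _) e', by rw [hk.lift_fst]; group⟩
    refine IsPullback.mk ⟨hw⟩ ⟨PullbackCone.IsLimit.mk _
      (fun s => lift s.fst (hex s.fst s.snd s.condition).choose) (fun s => lift_fst _ _)
      (fun s => ?_) fun s m m1 m2 => ?_⟩
    · rw [hm, lift_fst, lift_snd]
      exact (hex s.fst s.snd s.condition).choose_spec
    · refine CartesianMonoidalCategory.hom_ext _ _ (by rw [m1, lift_fst]) ?_
      rw [lift_snd]
      refine hk.hom_ext ?_ (toUnit_unique _ _)
      have e2 := (hm m).symm.trans m2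
      rw [m1, ← (hex s.fst s.snd s.condition).choose_spec] at e2
      exact mul_left_cancel e2
  · haveI : LocallyOfFiniteType (v.left ≫ Q'.hom) := by rw [Over.w v]; infer_instance
    haveI : LocallyOfFiniteType v.left := locallyOfFiniteType_of_comp v.left Q'.hom
    haveI : IsLocallyNoetherian Q'.left := LocallyOfFiniteType.isLocallyNoetherian Q'.hom
    haveI : LocallyOfFinitePresentation v.left := inferInstance
    refine ⟨Presieve.singleton v.left,
      Scheme.fppfPrecoverage_le_fpqcPrecoverage _ (Scheme.Hom.singleton_mem_fppfPrecoverage _), ?_⟩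
    rintro S' f ⟨⟩
    exact ⟨𝟙 _, Category.id_comp _⟩

/-- The points of the additive group commute. -/
theorem isCommMonObj_Ga (S : Scheme.{u}) : IsCommMonObj (Red.Ga S) := ⟨GaPts.gaFn_injective (by
  rw [show (β_ (Red.Ga S) (Red.Ga S)).hom = lift (snd _ _) (fst _ _) from
    CartesianMonoidalCategory.hom_ext _ _ (by simp) (by simp)]
  beta_reduce
  rw [← Hom.mul_def, GaPts.gaFn_mul,
    show μ[Red.Ga S] = fst _ _ * snd _ _ by rw [Hom.mul_def, lift_fst_snd, Category.id_comp], GaPts.gaFn_mul,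
    add_comm])⟩

/-- The points of the multiplicative group commute. -/
theorem isCommMonObj_Gm (S : Scheme.{u}) : IsCommMonObj (Red.Gm S) := ⟨GmPts.gmFn_injective (by
  rw [show (β_ (Red.Gm S) (Red.Gm S)).hom = lift (snd _ _) (fst _ _) from
    CartesianMonoidalCategory.hom_ext _ _ (by simp) (by simp)]
  beta_reduce
  rw [← Hom.mul_def, GmPts.gmFn_mul,
    show μ[Red.Gm S] = fst _ _ * snd _ _ by rw [Hom.mul_def, lift_fst_snd, Category.id_comp], GmPts.gmFn_mul,
    mul_comm])⟩

/-- The one step of the devissage. -/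
theorem exists_kernel_torsor {N B Q' : Over (Spec (CommRingCat.of K))} [GrpObj N] [GrpObj B] [GrpObj Q']
    [IsCommMonObj B] [IsCommMonObj Q'] [LocallyOfFiniteType B.hom] [LocallyOfFiniteType Q'.hom]
    (hQ : LocalH90 Q') (i : N ⟶ B) [IsMonHom i] (v : B ⟶ Q') [IsMonHom v] [Surjective v.left] [Flat v.left]
    (hk : AlgGrp.IsKernel i v) (P : NonAbH1.TorsorSch B Scheme.fpqcPrecoverage) :
    ∃ Q : NonAbH1.TorsorSch N Scheme.fpqcPrecoverage, Nonempty (Q.X ⟶ P.X) := by
  obtain ⟨Q, φ, -⟩ := (SchBoundary.exists_kernel_torsor_iff (isExactSeq i v hk) P).mp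
    (exists_equivariant hQ v P.act P.isTorsor)
  exact ⟨Q, ⟨φ⟩⟩

/-- A torsor under the trivial group has a rational point. -/
theorem nonempty_of_trivial (hG : Red.IsTrivialGrp G) (P : NonAbH1.TorsorSch G Scheme.fpqcPrecoverage) :
    Nonempty (𝟙_ (Over (Spec (CommRingCat.of K))) ⟶ P.X) := by
  haveI : IsIso (toUnit G).left := by
    rw [show (toUnit G).left = G.hom from (Category.comp_id _).symm.trans (Over.w (toUnit G))]
    exact hG
  haveI : IsIso ((Over.forget (Spec (CommRingCat.of K))).map (toUnit G)) := ‹IsIso (toUnit G).left›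
  haveI : IsIso (toUnit G) := isIso_of_reflects_iso _ (Over.forget (Spec (CommRingCat.of K)))
  have h1 : 𝟙 G = 1 := (cancel_mono (toUnit G)).mp (toUnit_unique _ _)
  obtain ⟨χ, -, -⟩ := existsUnique_desc P.isTorsor (𝟙 P.X) (by
    rw [Category.comp_id, Category.comp_id]
    calc P.act.act = lift (fst G P.X ≫ 𝟙 G) (snd G P.X) ≫ P.act.act := by simp
      _ = snd G P.X := by rw [h1, MonObj.comp_one, one_act_pt])
  exact ⟨χ⟩

end Groth.Agent.GrpSchLib.TorsorDevissage
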