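import Groth.Agent.GrpSchLib.IsogGm
import Groth.Agent.TorusQI.TorsionChar
import Groth.Agent.TorusQI.GreatestSplit
import Groth.Agent.GrpSchLib.TorsorDevissage
import Groth.Agent.GrpSchLib.AntiAffineHom
import Groth.Agent.GrpSchLib.HomSplitLocal
import Mathlib.RingTheory.Flat.Basic

/-! Over any field, a connected group isogenous to the punctured line is the punctured line. -/

set_option autoImplicit false

set_option backward.isDefEq.respectTransparency.types false
set_option linter.style.haveILetI false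
set_option maxHeartbeats 1000000

universe u

open CategoryTheory CategoryTheory.Limits MonoidalCategory CartesianMonoidalCategory MonObj GrpObj AlgebraicGeometry
open Groth.Agent.DSPtsLib Groth.Agent.HomRepLib Groth.Agent.SchTorsor Groth.Agent.TorusQI

namespace Groth.Agent.GrpSchLib.IsogGmDescent

variable {k : Type u} [Field k] {H : Over (Spec (CommRingCat.of k))} [GrpObj H] [Smooth H.hom] [ConnectedSpace H.left]
  (f : H ⟶ Red.Gm (Spec (CommRingCat.of k))) [IsMonHom f] [IsFinite f.left] [Surjective f.left]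

theorem theta_map {S U : Scheme.{u}} (g : U ⟶ S) {X Z : Over S} (φ : X ⟶ Z) {Y : Over U} (x : Y ⟶ Red.bc g X) :
    theta g (x ≫ (Over.pullback g).map φ) = theta g x ≫ φ :=
  (Over.mapPullbackAdj g).homEquiv_naturality_right_symm x φ

theorem toBc_fst_comp {S U : Scheme.{u}} (g : U ⟶ S) {G G' : Over S} [GrpObj G] [GrpObj G'] (φ : G ⟶ G') {Y : Over U} :
    toBc g (fst G ((Over.map g).obj Y) ≫ φ) = fst (Red.bc g G) Y ≫ (Over.pullback g).map φ := by
  rw [← Category.id_comp (toBc g _), ← lift_fst_snd]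
  refine (theta_bijective g).injective ?_
  rw [theta_toBc, lift_fst_assoc, theta_map]

theorem mul_div_comm {S : Scheme.{u}} {X G : Over S} [GrpObj G] [IsCommMonObj G] (a b c d : X ⟶ G) :
    a * b * (c * d)⁻¹ = a * c⁻¹ * (b * d⁻¹) := by
  rw [_root_.mul_inv_rev, _root_.mul_assoc, _root_.mul_assoc, ← _root_.mul_assoc b d⁻¹ c⁻¹, _root_.mul_comm (b * d⁻¹) c⁻¹]

theorem mul_inv_pow {S : Scheme.{u}} {X G : Over S} [GrpObj G] [IsCommMonObj G] (a b : X ⟶ G) {n : ℕ}
    (h : a ^ n = b ^ n) : (a * b⁻¹) ^ n = 1 := by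
  rw [_root_.mul_pow, inv_pow, h, mul_inv_cancel]

theorem toBc_pow {S U : Scheme.{u}} (g : U ⟶ S) {G G' : Over S} [GrpObj G] [GrpObj G'] {Y : Over U}
    (φ : G ⊗ (Over.map g).obj Y ⟶ G') (m : ℕ) : toBc g (φ ^ m) = toBc g φ ^ m := by
  induction m with
  | zero =>
    rw [pow_zero, pow_zero]
    exact eq_one_of_mul_self (G := Red.bc g G ⊗ Y ⟶ Red.bc g G')
      ((toBc_mul g (1 : G ⊗ (Over.map g).obj Y ⟶ G') 1).symm.trans (congrArg (toBc g) one_mul_one_pt))
  | succ m ih => rw [pow_succ, pow_succ, toBc_mul, ih]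

theorem toBc_pow_eq {S U : Scheme.{u}} (g : U ⟶ S) {G G' : Over S} [GrpObj G] [GrpObj G'] {Y : Over U}
    (φ : G ⊗ (Over.map g).obj Y ⟶ G') (χ : Red.bc g G ⟶ Red.bc g G') (f : G ⟶ G') (n : ℕ)
    (hφ : toBc g φ = fst _ _ ≫ χ) (h : χ ^ n = (Over.pullback g).map f) :
    φ ^ n = fst G ((Over.map g).obj Y) ≫ f := by
  refine (toBc_bijective g).injective ?_
  rw [toBc_pow, hφ, toBc_fst_comp, ← comp_npow, h]

/-- Two families of characters of a torus with the same power agree. -/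
theorem family_eq_of_pow {S : Scheme.{u}} {R Z : Over S} [GrpObj R] [IsCommMonObj (Red.Gm S)] (hR : Red.IsTorus R)
    (a b : R ⊗ Z ⟶ Red.Gm S) (ha : AutFam.IsHomFamily R (Red.Gm S) a) (hb : AutFam.IsHomFamily R (Red.Gm S) b)
    {n : ℕ} (hn : n ≠ 0) (h : a ^ n = b ^ n) : a = b := by
  refine mul_inv_eq_one.mp (TorusQI.family_eq_one hR (a * b⁻¹) (fun X g₁ g₂ t => ?_) hn ?_)
  · rw [MonObj.comp_mul, MonObj.comp_mul, MonObj.comp_mul, GrpObj.comp_inv, GrpObj.comp_inv, GrpObj.comp_inv, ha, hb]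
    exact mul_div_comm _ _ _ _
  · exact mul_inv_pow a b h

theorem mul_hom_descended {S : Scheme.{u}} {A B : Over S} [GrpObj A] [GrpObj B] (ψ : A ⟶ B)
    (hm : μ[A] ≫ ψ = (fst A A ≫ ψ) * (snd A A ≫ ψ)) : IsMonHom ψ := by
  refine { one_hom := ?_, mul_hom := ?_ }
  · have h1 : (1 : 𝟙_ _ ⟶ A) ≫ ψ = ((1 : 𝟙_ _ ⟶ A) ≫ ψ) * ((1 : 𝟙_ _ ⟶ A) ≫ ψ) := by
      have h := congrArg (lift (1 : 𝟙_ (Over S) ⟶ A) 1 ≫ ·) hm
      simp only [MonObj.comp_mul, lift_fst_assoc, lift_snd_assoc] at h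
      rwa [← Category.assoc, ← Hom.mul_def, _root_.one_mul] at h
    rw [MonObj.one_eq_one, MonObj.one_eq_one]
    exact mul_eq_left.mp h1.symm
  · rw [hm, Hom.mul_def, CartesianMonoidalCategory.lift_fst_comp_snd_comp]

/-- The character over the algebraic closure. -/
theorem exists_iso_closure :
    ∃ (χ : Red.bc (Spec.map (CommRingCat.ofHom (algebraMap k (AlgebraicClosure k)))) H ⟶
        Red.bc (Spec.map (CommRingCat.ofHom (algebraMap k (AlgebraicClosure k)))) (Red.Gm (Spec (CommRingCat.of k))))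
      (_ : IsMonHom χ) (n : ℕ), IsIso χ ∧ n ≠ 0 ∧
        χ ^ n = (Over.pullback (Spec.map (CommRingCat.ofHom (algebraMap k (AlgebraicClosure k))))).map f := by
  let L := AlgebraicClosure k
  let σ := Spec.map (CommRingCat.ofHom (algebraMap k L))
  obtain ⟨e⟩ := MultTypeBC.bc_DS σ ℤ
  obtain ⟨j, hj⟩ := SplitTorusPoints.exists_iso_Gm L
  let c : Red.bc σ (Red.Gm (Spec (CommRingCat.of k))) ≅ SplitTorusPoints.D L ℤ := (Grp.forget _).mapIso e ≪≫ j.symm
  haveI := hj
  haveI : IsMonHom e.hom.hom.hom := e.hom.hom.isMonHom_hom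
  haveI : IsMonHom c.hom := inferInstanceAs (IsMonHom (e.hom.hom.hom ≫ j.inv))
  haveI : IsIso c.hom.left := ((Over.forget _).mapIso c).isIso_hom
  have hsq := HomSplitLocal.isPullback_map f σ
  haveI : IsFinite ((Over.pullback σ).map f).left := MorphismProperty.of_isPullback (P := @IsFinite) hsq inferInstance
  haveI : Surjective ((Over.pullback σ).map f).left :=
    MorphismProperty.of_isPullback (P := @Surjective) hsq inferInstance
  let F := (Over.pullback σ).map f ≫ c.hom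
  haveI : IsMonHom F := inferInstanceAs (IsMonHom ((Over.pullback σ).map f ≫ c.hom))
  haveI : IsFinite F.left := inferInstanceAs (IsFinite (((Over.pullback σ).map f).left ≫ c.hom.left))
  haveI : Surjective F.left := inferInstanceAs (Surjective (((Over.pullback σ).map f).left ≫ c.hom.left))
  haveI : Smooth (Red.bc σ H).hom := inferInstanceAs (Smooth (pullback.snd H.hom σ))
  haveI : ConnectedSpace (Red.bc σ H).left := AntiAffine.connectedSpace_bc H (algebraMap k L)
  obtain ⟨χ, hχ, n, hiso, hn, hpow⟩ := IsogGm.exists_iso_pow F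
  haveI := hχ
  haveI := hiso
  refine ⟨χ ≫ c.inv, inferInstance, n, inferInstance, hn, ?_⟩
  refine (npow_comp χ c.inv n).symm.trans ((congrArg (· ≫ c.inv) hpow).trans ?_)
  simp [F]
  rfl

theorem isTorus_of_closure {χ : Red.bc (Spec.map (CommRingCat.ofHom (algebraMap k (AlgebraicClosure k)))) H ⟶
        Red.bc (Spec.map (CommRingCat.ofHom (algebraMap k (AlgebraicClosure k)))) (Red.Gm (Spec (CommRingCat.of k)))}
    [IsMonHom χ] [IsIso χ] : Red.IsTorus H := by
  let L := AlgebraicClosure k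
  let σ := Spec.map (CommRingCat.ofHom (algebraMap k L))
  haveI : Surjective σ := ⟨fun y => ⟨IsLocalRing.closedPoint L, @Subsingleton.elim (PrimeSpectrum k) _ _ _⟩⟩
  haveI : Flat σ := (HasRingHomProperty.Spec_iff (P := @Flat)).2 (RingHom.flat_algebraMap_iff.2 inferInstance)
  refine ⟨_, σ, inferInstance, inferInstance, fun V hV => ⟨σ ⁻¹ᵁ V, ?_, ?_⟩, fun s => ⟨⊤, trivial, 1, ?_⟩⟩
  · exact (hV.preimage σ).isCompact
  · exact Set.image_preimage_eq _ σ.surjective
  · let U : (Spec (CommRingCat.of L)).Opens := ⊤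
    obtain ⟨e₁⟩ := MultTypeBC.bc_bc U.ι σ H
    obtain ⟨e₂⟩ := MultTypeBC.bc_iso U.ι (Grp.mkIso (asIso χ) (by simp) (by simp))
    obtain ⟨e₃⟩ := MultTypeBC.bc_bc U.ι σ (Red.Gm (Spec (CommRingCat.of k)))
    obtain ⟨e₄⟩ := MultTypeBC.bc_DS (U.ι ≫ σ) ℤ
    obtain ⟨e₅⟩ := TorusQI.split_Gm (S := (U : Scheme.{u}))
    exact ⟨e₁.symm ≪≫ e₂ ≪≫ e₃ ≪≫ e₄ ≪≫ e₅⟩

-- The group is the punctured line.
include f in
theorem exists_iso : ∃ ψ : H ⟶ Red.Gm (Spec (CommRingCat.of k)), IsMonHom ψ ∧ IsIso ψ := by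
  classical
  obtain ⟨χ, hχ, n, hiso, hn, hpow⟩ := exists_iso_closure f
  haveI := hχ
  haveI := hiso
  haveI := TorsorDevissage.isCommMonObj_Gm (Spec (CommRingCat.of k))
  have hT : Red.IsTorus H := isTorus_of_closure (χ := χ)
  let σ := Spec.map (CommRingCat.ofHom (algebraMap k (AlgebraicClosure k)))
  let Y₀ : Over (Spec (CommRingCat.of (AlgebraicClosure k))) := 𝟙_ _
  let Y : Over (Spec (CommRingCat.of k)) := (Over.map σ).obj Y₀
  let Gm := Red.Gm (Spec (CommRingCat.of k))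
  obtain ⟨φ₀, hφ₀⟩ := (toBc_bijective σ (Y := Y₀) (G := H) (G' := Gm)).surjective (fst (Red.bc σ H) Y₀ ≫ χ)
  have hfam : AutFam.IsHomFamily H Gm φ₀ := (isHomFamily_toBc σ φ₀).1 (by
    rw [hφ₀]
    intro X g₁ g₂ t
    simp only [lift_fst_assoc]
    exact MonObj.mul_comp g₁ g₂ χ)
  have hp : φ₀ ^ n = fst H Y ≫ f := toBc_pow_eq σ φ₀ χ f n hφ₀ hpow
  have hagree : (H ◁ fst Y Y) ≫ φ₀ = (H ◁ snd Y Y) ≫ φ₀ := by
    refine family_eq_of_pow hT _ _ (isHomFamily_comp hfam (fst Y Y)) (isHomFamily_comp hfam (snd Y Y)) hn ?_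
    refine (comp_npow _ φ₀ n).symm.trans (Eq.trans ?_ (comp_npow _ φ₀ n))
    rw [hp, whiskerLeft_fst_assoc, whiskerLeft_fst_assoc]
  haveI : Nonempty Y.left := inferInstanceAs (Nonempty (Spec (CommRingCat.of (AlgebraicClosure k))))
  have hY := TorsorDevissage.isLocallyTrivial_of_nonempty Y
  have hls : ∀ Z : Over (Spec (CommRingCat.of k)), TopDescent.HasLocSec Scheme.fpqcTopology (fst Z Y) := fun Z =>
    hasLocSec_of_points _ hY fun T z s => ⟨lift z s, lift_fst _ _⟩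
  obtain ⟨ψ, hψ, -⟩ := (hls H).existsUnique_desc φ₀ (fun T x y hxy => by
    have hx : x = lift (x ≫ fst H Y) (lift (x ≫ snd H Y) (y ≫ snd H Y)) ≫ (H ◁ fst Y Y) := by
      rw [lift_whiskerLeft, lift_fst]; simp
    have hy : y = lift (x ≫ fst H Y) (lift (x ≫ snd H Y) (y ≫ snd H Y)) ≫ (H ◁ snd Y Y) := by
      rw [lift_whiskerLeft, lift_snd, hxy]; simp
    calc x ≫ φ₀ = _ := by rw [hx, Category.assoc, hagree]
      _ = y ≫ φ₀ := by rw [← Category.assoc, ← hy])
  have hmon : IsMonHom ψ := by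
    have hm : μ[H] ≫ ψ = (fst H H ≫ ψ) * (snd H H ≫ ψ) := by
      refine (hls (H ⊗ H)).hom_ext ?_
      have h := hfam ((H ⊗ H) ⊗ Y) (fst _ _ ≫ fst H H) (fst _ _ ≫ snd H H) (snd _ _)
      rw [← hψ] at h
      rw [lift_fst_assoc, lift_fst_assoc, lift_fst_assoc] at h
      refine Eq.trans ?_ (h.trans ?_)
      · rw [← MonObj.comp_mul, show fst H H * snd H H = μ[H] by rw [Hom.mul_def, lift_fst_snd, Category.id_comp],
          Category.assoc]
      · refine (congrArg₂ (· * ·) (Category.assoc _ _ _) (Category.assoc _ _ _)).trans (MonObj.comp_mul _ _ _).symm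
    exact mul_hom_descended ψ hm
  haveI := hmon
  have hbc : (Over.pullback σ).map ψ = χ := by
    have h := congrArg (toBc σ) hψ
    rw [hφ₀, toBc_fst_comp] at h
    have h' := congrArg (lift (𝟙 (Red.bc σ H)) (toUnit (Red.bc σ H)) ≫ ·) h
    rw [lift_fst_assoc, lift_fst_assoc, Category.id_comp, Category.id_comp] at h'
    exact h' 
  refine ⟨ψ, hmon, ?_⟩
  have hsq := HomSplitLocal.isPullback_map ψ σ
  haveI : IsIso ((Over.pullback σ).map ψ).left := by
    rw [hbc]; exact inferInstanceAs (IsIso ((Over.forget _).map χ))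
  haveI : Surjective σ := ⟨fun y => ⟨IsLocalRing.closedPoint (AlgebraicClosure k), @Subsingleton.elim (PrimeSpectrum k) _ _ _⟩⟩
  haveI : Flat σ := (HasRingHomProperty.Spec_iff (P := @Flat)).2 (RingHom.flat_algebraMap_iff.2 inferInstance)
  have hQ : (@Surjective ⊓ @Flat ⊓ @QuasiCompact : MorphismProperty Scheme.{u}) (pullback.fst (Red.Gm (Spec (CommRingCat.of k))).hom σ) :=
    ⟨⟨inferInstance, inferInstance⟩, inferInstance⟩
  haveI : IsIso ψ.left :=
    MorphismProperty.of_isPullback_of_descendsAlong (P := MorphismProperty.isomorphisms Scheme.{u}) hsq.flip hQ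
      ‹IsIso ((Over.pullback σ).map ψ).left›
  haveI : IsIso ((Over.forget (Spec (CommRingCat.of k))).map ψ) := ‹IsIso ψ.left›
  exact isIso_of_reflects_iso ψ (Over.forget (Spec (CommRingCat.of k)))

end Groth.Agent.GrpSchLib.IsogGmDescent
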