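import Groth.Agent.ComodLib.CharFinite
import Groth.Agent.VarDim.Basic
import Mathlib.RingTheory.HopfAlgebra.Convolution
import Mathlib.RingTheory.Bialgebra.Convolution
import Mathlib.FieldTheory.IsAlgClosed.Basic

/-! The Lang map of an affine algebraic group is finite; hence surjective when the group is integral. -/

open TensorProduct WithConv
open scoped nonZeroDivisors

universe u

namespace Groth.Agent.GrpSchLib.Lang

variable {k : Type u} [Field k] {A : Type u} [CommRing A] [HopfAlgebra k A] [Algebra.FiniteType k A]

/-- The Lang map attached to an endomorphism. -/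
noncomputable def langMap (f : A →ₐ[k] A) : A →ₐ[k] A :=
  (toConv (AlgHom.id k A) * (toConv f)⁻¹).ofConv

/-- If `f` is a `q`-power map with `q ≥ 2`, the Lang map is finite. -/
theorem finite_langMap (f : A →ₐ[k] A) {q : ℕ} (hq : 2 ≤ q) (hf : ∀ a, f a = a ^ q) :
    Module.Finite (langMap f).range A := by
  classical
  obtain ⟨n, M, hM, hgen⟩ := Groth.Agent.ComodLib.exists_generating_matrix (k := k) (A := A)
  set L := langMap f
  let R := L.range
  let g := fun p : Fin n × Fin n => M p.1 p.2
  -- the relations
  have hrel : ∀ i j, ∃ r : Fin n → R, M i j ^ q = ∑ l, (r l : A) * M l j := by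
    intro i j
    refine ⟨fun l => ⟨L (HopfAlgebra.antipodeAlgHom k A (M i l)), _, rfl⟩, ?_⟩
    rw [← hf]
    have h : toConv f = (toConv L)⁻¹ * toConv (AlgHom.id k A) := by
      simp only [L, langMap, toConv_ofConv, mul_inv_rev, inv_inv, inv_mul_cancel_right]
    have h2 := congrArg (fun φ : WithConv (A →ₐ[k] A) => φ.ofConv (M i j)) h
    simp only [AlgHom.convMul_apply, hM.comul, map_sum] at h2
    refine h2.trans (Finset.sum_congr rfl fun l _ => ?_)
    simp
    rfl
  let mon : (Fin n × Fin n → ℕ) → A := fun e => ∏ p, g p ^ e p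
  let B : Set A := mon '' {e | ∀ p, e p < q}
  let N : Submodule R A := Submodule.span R B
  have hBfin : B.Finite := by
    refine Set.Finite.image _ ((Set.finite_range fun e : Fin n × Fin n → Fin q => fun p => (e p : ℕ)).subset ?_)
    intro e he
    exact ⟨fun p => ⟨e p, he p⟩, rfl⟩
  have hmon : ∀ d, ∀ e, (∑ p, e p) = d → mon e ∈ N := by
    intro d
    induction d using Nat.strong_induction_on with
    | _ d ih =>
      intro e he
      by_cases h : ∀ p, e p < q
      · exact Submodule.subset_span ⟨e, h, rfl⟩
      push Not at h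
      obtain ⟨⟨i, j⟩, hp⟩ := h
      obtain ⟨r, hr⟩ := hrel i j
      let e' : Fin n × Fin n → ℕ := Function.update e (i, j) (e (i, j) - q)
      have hee : mon e = M i j ^ q * mon e' := by
        simp only [mon]
        rw [← Finset.mul_prod_erase Finset.univ (fun p => g p ^ e p) (Finset.mem_univ (i, j)),
          ← Finset.mul_prod_erase Finset.univ (fun p => g p ^ e' p) (Finset.mem_univ (i, j)), ← mul_assoc]
        congr 1
        · show M i j ^ e (i, j) = M i j ^ q * M i j ^ e' (i, j)
          rw [← pow_add]; congr 1
          simp [e']; omega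
        · exact Finset.prod_congr rfl fun p hp => by simp [e', (Finset.mem_erase.mp hp).1]
      rw [hee, hr, Finset.sum_mul]
      refine Submodule.sum_mem _ fun l _ => ?_
      let e'' : Fin n × Fin n → ℕ := Function.update e' (l, j) (e' (l, j) + 1)
      have hml : M l j * mon e' = mon e'' := by
        simp only [mon]
        rw [← Finset.mul_prod_erase Finset.univ (fun p => g p ^ e' p) (Finset.mem_univ (l, j)),
          ← Finset.mul_prod_erase Finset.univ (fun p => g p ^ e'' p) (Finset.mem_univ (l, j)), ← mul_assoc]
        congr 1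
        · show M l j * M l j ^ e' (l, j) = M l j ^ e'' (l, j)
          simp [e'', pow_succ']
        · exact Finset.prod_congr rfl fun p hp => by simp [e'', (Finset.mem_erase.mp hp).1]
      have hlt : (∑ p, e'' p) < d := by
        rw [← he, ← Finset.add_sum_erase Finset.univ e (Finset.mem_univ (i, j)),
          Finset.sum_update_of_mem (Finset.mem_univ _)]
        have h1 : (∑ p ∈ Finset.univ \ {(l, j)}, e' p) + e' (l, j) = ∑ p, e' p := by
          rw [add_comm, ← Finset.add_sum_erase Finset.univ e' (Finset.mem_univ (l, j)), Finset.erase_eq]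
        have h2 : ∑ p, e' p = (e (i, j) - q) + ∑ p ∈ Finset.univ.erase (i, j), e p := by
          rw [Finset.sum_update_of_mem (Finset.mem_univ _), Finset.erase_eq]
        omega
      rw [mul_assoc, hml]
      exact N.smul_mem (r l) (ih _ hlt e'' rfl)
  have hN : N = ⊤ := by
    refine eq_top_iff.mpr fun a hat => ?_
    clear hat
    have ha : a ∈ Submodule.span k (Submonoid.closure (Set.range g) : Set A) := by
      rw [← Algebra.adjoin_eq_span, hgen]; trivial
    induction ha using Submodule.span_induction with
    | mem x hx =>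
      obtain ⟨e, rfl⟩ : ∃ e, mon e = x := by
        induction hx using Submonoid.closure_induction with
        | mem y hy =>
          obtain ⟨p, rfl⟩ := hy
          refine ⟨Pi.single p 1, ?_⟩
          simp only [mon]
          rw [Finset.prod_eq_single p] <;> simp +contextual [Pi.single_apply]
        | one => exact ⟨0, by simp [mon]⟩
        | mul y z _ _ hy hz =>
          obtain ⟨e₁, rfl⟩ := hy
          obtain ⟨e₂, rfl⟩ := hz
          exact ⟨e₁ + e₂, by simp [mon, pow_add, Finset.prod_mul_distrib]⟩
      exact hmon _ e rfl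
    | zero => exact zero_mem _
    | add x y _ _ hx hy => exact add_mem hx hy
    | smul c x _ hx =>
      have : c • x = (algebraMap k R c) • x := (IsScalarTower.algebraMap_smul R c x).symm
      rw [this]
      exact N.smul_mem _ hx
  exact ⟨hN ▸ Submodule.fg_span hBfin⟩

/-- The Lang map of an integral group is injective on functions. -/
theorem injective_langMap [IsDomain A] (f : A →ₐ[k] A) {q : ℕ} (hq : 2 ≤ q) (hf : ∀ a, f a = a ^ q) :
    Function.Injective (langMap f) := by
  haveI := finite_langMap f hq hf
  rw [injective_iff_map_eq_zero]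
  intro r hr
  by_contra hr0
  have h1 := ringKrullDim_succ_le_of_surjective (langMap f).rangeRestrict.toRingHom
    (langMap f).rangeRestrict_surjective (mem_nonZeroDivisors_of_ne_zero hr0) (Subtype.ext hr)
  rw [← Groth.Agent.VarDim.ringKrullDim_eq_of_isIntegral (R := (langMap f).range) (S := A)] at h1
  obtain ⟨d, hd, -⟩ := Groth.Agent.VarDim.exists_dim_eq_trdeg k A
  rw [hd] at h1
  norm_cast at h1
  omega

/-- Every point in an algebraically closed field is the Lang image of a point. -/
theorem exists_comp_langMap_eq [IsDomain A] (f : A →ₐ[k] A) {q : ℕ} (hq : 2 ≤ q) (hf : ∀ a, f a = a ^ q)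
    {K : Type u} [Field K] [IsAlgClosed K] [Algebra k K] (u : A →ₐ[k] K) :
    ∃ v : A →ₐ[k] K, v.comp (langMap f) = u := by
  haveI := finite_langMap f hq hf
  let e := AlgEquiv.ofInjective (langMap f) (injective_langMap f hq hf)
  let R := (langMap f).range
  let u' : R →ₐ[k] K := u.comp (e.symm : R →ₐ[k] A)
  let P : Ideal R := RingHom.ker u'.toRingHom
  haveI : P.IsPrime := RingHom.ker_isPrime _
  haveI : Algebra.IsIntegral R A := Algebra.IsIntegral.of_finite R A
  haveI : FaithfulSMul R A := (faithfulSMul_iff_algebraMap_injective _ _).mpr Subtype.val_injective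
  obtain ⟨Q, -, hQ, hQP⟩ := Ideal.exists_ideal_over_prime_of_isIntegral P (⊥ : Ideal A) (by
    intro x hx
    have : x = 0 := Subtype.val_injective (show (x : A) = 0 from hx)
    rw [this]; exact zero_mem _)
  haveI : Q.IsPrime := hQ
  haveI : Q.LiesOver P := ⟨hQP.symm⟩
  letI : Algebra (R ⧸ P) K := (RingHom.kerLift u'.toRingHom).toAlgebra
  haveI : FaithfulSMul (R ⧸ P) K := (faithfulSMul_iff_algebraMap_injective _ _).mpr (RingHom.kerLift_injective _)
  haveI : Algebra.IsIntegral (R ⧸ P) (A ⧸ Q) := inferInstance
  let φ : A ⧸ Q →ₐ[R ⧸ P] K := IsAlgClosed.lift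
  have hφ : ∀ x : R, φ (Ideal.Quotient.mk Q (x : A)) = u' x := fun x => φ.commutes (Ideal.Quotient.mk P x)
  refine ⟨{ (φ.toRingHom.comp (Ideal.Quotient.mk Q)) with commutes' := fun c => ?_ }, AlgHom.ext fun a => ?_⟩
  · exact (hφ (algebraMap k R c)).trans (u'.commutes c)
  · refine (hφ (e a)).trans ?_
    show u (e.symm (e a)) = u a
    rw [AlgEquiv.symm_apply_apply]

end Groth.Agent.GrpSchLib.Lang
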