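import Mathlib.Algebra.Polynomial.Laurent
import Mathlib.Algebra.Polynomial.Degree.Lemmas
import Mathlib.Algebra.Polynomial.AlgebraMap
import Mathlib.Algebra.Polynomial.RingDivision
import Mathlib.RingTheory.Polynomial.Tower
import Mathlib.RingTheory.TensorProduct.MonoidAlgebra
import Mathlib.RingTheory.PolynomialAlgebra
import Mathlib.Tactic.LinearCombination

/-! Units of Laurent polynomials in two variables, and one-dimensional polynomial group laws. -/

open TensorProduct

universe u

namespace Groth.Agent.GrpSchLib.LineAlg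

open scoped Polynomial LaurentPolynomial

theorem laurent_unit {R : Type u} [CommRing R] [IsDomain R] {f : R[T;T⁻¹]} (hf : IsUnit f) :
    ∃ (r : R) (n : ℤ), IsUnit r ∧ f = LaurentPolynomial.C r * LaurentPolynomial.T n := by
  obtain ⟨g, hg⟩ := hf.exists_right_inv
  obtain ⟨a, p, hp⟩ := f.exists_T_pow
  obtain ⟨b, q, hq⟩ := g.exists_T_pow
  have hpq : p * q = Polynomial.X ^ (a + b) := by
    apply Polynomial.toLaurent_injective
    rw [map_mul, hp, hq, Polynomial.toLaurent_X_pow, mul_mul_mul_comm, hg, one_mul, ← LaurentPolynomial.T_add, Nat.cast_add]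
  obtain ⟨i, -, hi⟩ := (dvd_prime_pow Polynomial.prime_X _).mp (Dvd.intro q hpq)
  obtain ⟨v, hv⟩ := hi.symm
  obtain ⟨r, hr, hrv⟩ := Polynomial.isUnit_iff.mp v.isUnit
  refine ⟨r, (i : ℤ) - a, hr, ?_⟩
  have h2 : Polynomial.toLaurent p = LaurentPolynomial.C r * LaurentPolynomial.T i := by
    rw [← hv, ← hrv, map_mul, Polynomial.toLaurent_C, Polynomial.toLaurent_X_pow, mul_comm]
  rw [sub_eq_add_neg, LaurentPolynomial.T_add, ← mul_assoc, ← h2, hp, mul_assoc, ← LaurentPolynomial.T_add,
    add_neg_cancel, LaurentPolynomial.T_zero, mul_one]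

theorem tensor_unit {k : Type u} [Field k] {z : k[T;T⁻¹] ⊗[k] k[T;T⁻¹]} (hz : IsUnit z) :
    ∃ (c : k) (a b : ℤ), c ≠ 0 ∧ z = c • (LaurentPolynomial.T a ⊗ₜ[k] LaurentPolynomial.T b) := by
  let e := AddMonoidAlgebra.scalarTensorEquiv k (k[T;T⁻¹]) (M := ℤ)
  obtain ⟨r, b, hr, hb⟩ := laurent_unit (hz.map e)
  obtain ⟨c, a, hc, rfl⟩ := laurent_unit hr
  refine ⟨c, a, b, hc.ne_zero, e.injective ?_⟩
  rw [hb, ← LaurentPolynomial.single_eq_C_mul_T, ← AlgEquiv.symm_apply_eq]
  refine (AddMonoidAlgebra.scalarTensorEquiv_symm_single _ _).trans ?_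
  rw [show LaurentPolynomial.C c * LaurentPolynomial.T a = c • LaurentPolynomial.T a by
    rw [Algebra.smul_def]; rfl]
  rfl

variable {k : Type u} [Field k]

/-- The operation given by a polynomial in two variables. -/
noncomputable def op (M : k[X][X]) {C : Type u} [CommRing C] [Algebra k C] (a b : C) : C :=
  M.eval₂ (Polynomial.aeval b : k[X] →ₐ[k] C).toRingHom a

/-- Unit and associativity laws of an operation. -/
structure IsMonoidLaw (F : ∀ (C : Type u) [CommRing C] [Algebra k C], C → C → C) : Prop where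
  zero_right : ∀ (C : Type u) [CommRing C] [Algebra k C] (a : C), F C a 0 = a
  zero_left : ∀ (C : Type u) [CommRing C] [Algebra k C] (a : C), F C 0 a = a
  assoc : ∀ (C : Type u) [CommRing C] [Algebra k C] (a b c : C), F C (F C a b) c = F C a (F C b c)

theorem map_op (M : k[X][X]) {C D : Type u} [CommRing C] [Algebra k C] [CommRing D] [Algebra k D] (φ : C →ₐ[k] D) (a b : C) :
    φ (op M a b) = op M (φ a) (φ b) := by
  show φ.toRingHom _ = _
  rw [op, Polynomial.hom_eval₂]
  congr 1
  refine RingHom.ext fun p => ?_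
  exact (Polynomial.aeval_algHom_apply φ b p).symm

theorem op_C_X (M : k[X][X]) {R : Type u} [CommRing R] [Algebra k R] (b : R) :
    op M (Polynomial.X : R[X]) (Polynomial.C b) = M.map (Polynomial.aeval b : k[X] →ₐ[k] R).toRingHom := by
  rw [op, Polynomial.map]
  congr 1
  refine RingHom.ext fun p => ?_
  exact Polynomial.aeval_algebraMap_apply R[X] b p

set_option maxHeartbeats 1000000 in
theorem natDegree_le_one (M : k[X][X]) (h : IsMonoidLaw (k := k) fun C _ _ a b => op M a b) : M.natDegree ≤ 1 := by
  let R := k[X][X]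
  let y : R := Polynomial.C Polynomial.X
  let z : R := Polynomial.X
  have hlead : M.leadingCoeff ≠ 0 := by
    intro h0
    have h1 := h.zero_right k[X] (Polynomial.X)
    rw [Polynomial.leadingCoeff_eq_zero] at h0
    simp [op, h0] at h1
    exact Polynomial.X_ne_zero h1.symm
  let ξ : R →ₐ[k] k[X] := (Polynomial.aeval (0 : k[X]) : k[X][X] →ₐ[k[X]] k[X]).restrictScalars k
  have hξy : ξ y = Polynomial.X := Polynomial.aeval_C _ _
  have hξz : ξ z = 0 := Polynomial.aeval_X _
  have hdeg : ∀ b : R, Function.Injective (Polynomial.aeval b : k[X] →ₐ[k] R) →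
      (op M (Polynomial.X : R[X]) (Polynomial.C b)).natDegree = M.natDegree := fun b hb => by
    rw [op_C_X]
    exact Polynomial.natDegree_map_eq_of_injective hb M
  have hyinj : ∀ b : R, ξ b = Polynomial.X → Function.Injective (Polynomial.aeval b : k[X] →ₐ[k] R) := fun b hb p q hpq => by
    have := congrArg ξ hpq
    rwa [← Polynomial.aeval_algHom_apply, ← Polynomial.aeval_algHom_apply, hb, Polynomial.aeval_X_left_apply,
      Polynomial.aeval_X_left_apply] at this
  have hzinj : Function.Injective (Polynomial.aeval z : k[X] →ₐ[k] R) := fun p q hpq => by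
    let ξ' : R →ₐ[k] k[X] := (Polynomial.aeval (Polynomial.X : k[X]) : k[X][X] →ₐ[k[X]] k[X]).restrictScalars k
    have := congrArg ξ' hpq
    rwa [← Polynomial.aeval_algHom_apply, ← Polynomial.aeval_algHom_apply, show ξ' z = Polynomial.X from Polynomial.aeval_X _,
      Polynomial.aeval_X_left_apply, Polynomial.aeval_X_left_apply] at this
  have hF : ξ (op M y z) = Polynomial.X := by rw [map_op, hξy, hξz]; exact h.zero_right _ _
  have h1 := congrArg Polynomial.natDegree (h.assoc R[X] Polynomial.X (Polynomial.C y) (Polynomial.C z))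
  have hC : Polynomial.C (op M y z) = op M (Polynomial.C y : R[X]) (Polynomial.C z) := by
    let φC : R →ₐ[k] R[X] := { (Polynomial.C : R →+* R[X]) with commutes' := fun c => rfl }
    exact map_op M (C := R) (D := R[X]) φC y z
  rw [← hC] at h1
  rw [hdeg _ (hyinj _ hF)] at h1
  have h2 : op M (op M (Polynomial.X : R[X]) (Polynomial.C y)) (Polynomial.C z) =
      (op M (Polynomial.X : R[X]) (Polynomial.C z)).comp (op M (Polynomial.X : R[X]) (Polynomial.C y)) := by
    have := map_op M (C := R[X]) (D := R[X]) ((Polynomial.aeval (op M (Polynomial.X : R[X]) (Polynomial.C y)) : R[X] →ₐ[R] R[X]).restrictScalars k)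
      Polynomial.X (Polynomial.C z)
    simp only [AlgHom.restrictScalars_apply, Polynomial.aeval_X, Polynomial.aeval_C] at this
    exact this.symm
  rw [h2, Polynomial.natDegree_comp, hdeg z hzinj, hdeg y (hyinj y hξy)] at h1
  nlinarith

theorem eq_add (M M' : k[X][X]) (h : IsMonoidLaw (k := k) fun C _ _ a b => op M a b)
    (hswap : ∀ (C : Type u) [CommRing C] [Algebra k C] (a b : C), op M' a b = op M b a)
    (hinv : ∃ i : k[X], op M i Polynomial.X = 0) (C : Type u) [CommRing C] [Algebra k C] (a b : C) :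
    op M a b = a + b := by
  have h' : IsMonoidLaw (k := k) fun C _ _ a b => op M' a b :=
    ⟨fun C _ _ a => by rw [hswap]; exact h.zero_left C a, fun C _ _ a => by rw [hswap]; exact h.zero_right C a,
      fun C _ _ a b c => by rw [hswap, hswap, hswap, hswap]; exact (h.assoc C c b a).symm⟩
  have hM := natDegree_le_one M h
  have hM' := natDegree_le_one M' h'
  obtain ⟨A, B, hAB⟩ : ∃ A B, M = Polynomial.C A * Polynomial.X + Polynomial.C B :=
    ⟨_, _, Polynomial.eq_X_add_C_of_natDegree_le_one hM⟩
  have hop : ∀ (C : Type u) [CommRing C] [Algebra k C] (a b : C),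
      op M a b = Polynomial.aeval b A * a + Polynomial.aeval b B := fun C _ _ a b => by
    rw [op, hAB]; simp
  have hB : B = Polynomial.X := by
    have := h.zero_left k[X] Polynomial.X
    simpa [hop, Polynomial.aeval_X_left_apply] using this
  have hA0 : A.coeff 0 = 1 := by
    have := h.zero_right k[X] Polynomial.X
    simp only [hop, hB, Polynomial.aeval_X, add_zero] at this
    rw [Polynomial.aeval_def, Polynomial.eval₂_at_zero] at this
    have h1 := congrArg (fun p : k[X] => p.coeff 1) this
    simpa [Polynomial.algebraMap_eq] using h1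
  have hA1 : A.natDegree ≤ 1 := by
    have e1 : op M' (Polynomial.X : k[X]) 1 = A + Polynomial.X := by
      rw [hswap, hop, hB]; simp [Polynomial.aeval_X_left_apply]
    have e2 : op M' (Polynomial.X : k[X]) 1 = M'.map (Polynomial.aeval (1 : k) : k[X] →ₐ[k] k).toRingHom := by
      rw [← op_C_X, map_one]
    have e3 : (A + Polynomial.X).natDegree ≤ 1 := by
      rw [← e1, e2]; exact Polynomial.natDegree_map_le.trans hM'
    calc A.natDegree = ((A + Polynomial.X) - Polynomial.X).natDegree := by rw [add_sub_cancel_right]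
      _ ≤ 1 := (Polynomial.natDegree_sub_le _ _).trans (max_le e3 Polynomial.natDegree_X_le)
  have hA : A = Polynomial.C (A.coeff 1) * Polynomial.X + 1 := by
    conv_lhs => rw [Polynomial.eq_X_add_C_of_natDegree_le_one hA1, hA0, map_one]
  have hc : A.coeff 1 = 0 := by
    by_contra hne
    obtain ⟨i, hi⟩ := hinv
    rw [hop, hB, Polynomial.aeval_X, Polynomial.aeval_X_left_apply, hA] at hi
    have h2 := congrArg (Polynomial.eval (-(A.coeff 1)⁻¹)) hi
    simp [hne] at h2
  rw [hop, hB, Polynomial.aeval_X, hA, hc]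
  simp

end Groth.Agent.GrpSchLib.LineAlg
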