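import Groth.Agent.GrpSchLib.GLnDiag
import Groth.Agent.GrpSchLib.BCPoints
import Groth.Agent.GrpSchLib.AffineHopfClosed
import Groth.Prelude.Def_CoactBr
import Groth.Prelude.Def_AGF

/-! Rationality of diagonalisable finite subgroups of the general linear group. -/

open CategoryTheory CategoryTheory.Limits MonoidalCategory CartesianMonoidalCategory MonObj GrpObj AlgebraicGeometry
open TensorProduct WithConv

universe u

namespace Groth.Agent.GrpSchLib.MuGLn

open AffineHopf GLnDiag CoordGrp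

variable {k K : Type u} [Field k] [Field K] [Algebra k K] {m : ℕ} {G : Type} [CommGroup G]

/-- Extension of scalars on group algebras. -/
noncomputable def ιK (k K : Type u) [Field k] [Field K] [Algebra k K] (G : Type) [CommGroup G] :
    MonoidAlgebra k G →ₐ[k] MonoidAlgebra K G :=
  MonoidAlgebra.lift k (MonoidAlgebra K G) G (MonoidAlgebra.of K G)

theorem ιK_single (g : G) : ιK k K G (MonoidAlgebra.single g 1) = MonoidAlgebra.single g 1 := by
  simp [ιK]

theorem mat_map_conj {C : Type*} [CommRing C] [Algebra k C] (φ : MonoidAlgebra k G →ₐ[k] C) {f : GLn m k →ₐ[k] MonoidAlgebra k G}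
    {P : Matrix (Fin m) (Fin m) k} {c : Fin m → G}
    (hM : mat f = P.map (algebraMap k _) * diagG c * P⁻¹.map (algebraMap k _)) :
    mat (φ.comp f) = P.map (algebraMap k C) * Matrix.diagonal (fun i => φ (MonoidAlgebra.single (c i) 1)) *
      P⁻¹.map (algebraMap k C) := by
  rw [mat_comp, hM]
  show φ.mapMatrix _ = _
  rw [map_mul, map_mul]
  have hal : ∀ N : Matrix (Fin m) (Fin m) k,
      φ.mapMatrix (N.map (algebraMap k (MonoidAlgebra k G))) = N.map (algebraMap k C) := fun N =>
    Matrix.ext fun i j => φ.commutes (N i j)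
  rw [hal, hal]
  congr 2
  show (Matrix.diagonal _).map φ = _
  rw [Matrix.diagonal_map (map_zero φ)]

theorem exists_diag_of_bialgHom (π : GLn m k →ₐc[k] MonoidAlgebra k G) (hπ : Function.Surjective π) :
    ∃ (P : Matrix (Fin m) (Fin m) k) (c : Fin m → G), IsUnit P ∧ Subgroup.closure (Set.range c) = ⊤ ∧
      mat (π : GLn m k →ₐ[k] MonoidAlgebra k G) = P.map (algebraMap k _) * diagG c * P⁻¹.map (algebraMap k _) := by
  obtain ⟨P, c, hP, hM⟩ := exists_diagonalization (mat (π : GLn m k →ₐ[k] MonoidAlgebra k G))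
    (fun i j => by
      show Coalgebra.comul (R := k) (π (GLn.X i j)) = _
      rw [← CoalgHomClass.map_comp_comul_apply, GLn.comul_X, map_sum]
      rfl)
    (fun i j => by
      show Coalgebra.counit (R := k) (π (GLn.X i j)) = _
      rw [CoalgHomClass.counit_comp_apply, GLn.counit_X])
  refine ⟨P, c, hP, closure_range_eq_top (fun x => ?_) hM, hM⟩
  obtain ⟨y, rfl⟩ := hπ x
  exact Algebra.subset_adjoin ⟨y, rfl⟩

/-- Two embeddings which are conjugate over an extension are conjugate over the base. -/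
theorem exists_conj_of_conj [Finite G] (πi πj : GLn m k →ₐc[k] MonoidAlgebra k G)
    (hi : Function.Surjective πi) (hj : Function.Surjective πj) (γ : GLn m k →ₐ[k] K)
    (h : MonoidAlgebra k G →ₐ[k] MonoidAlgebra K G)
    (heq : (mat γ).map (algebraMap K (MonoidAlgebra K G)) * mat ((ιK k K G).comp (πi : GLn m k →ₐ[k] MonoidAlgebra k G)) =
      mat (h.comp (πj : GLn m k →ₐ[k] MonoidAlgebra k G)) * (mat γ).map (algebraMap K (MonoidAlgebra K G))) :
    ∃ (θ : G ≃* G) (γ₀ : GLn m k →ₐ[k] k),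
      (mat γ₀).map (algebraMap k (MonoidAlgebra k G)) * mat (πi : GLn m k →ₐ[k] MonoidAlgebra k G) =
        mat (((MonoidAlgebra.domCongrBialgEquiv k k θ : MonoidAlgebra k G →ₐc[k] MonoidAlgebra k G) :
          MonoidAlgebra k G →ₐ[k] MonoidAlgebra k G).comp (πj : GLn m k →ₐ[k] MonoidAlgebra k G)) *
          (mat γ₀).map (algebraMap k (MonoidAlgebra k G)) := by
  classical
  obtain ⟨P, c, hP, hc, hMi⟩ := exists_diag_of_bialgHom πi hi
  obtain ⟨P', c', hP', hc', hMj⟩ := exists_diag_of_bialgHom πj hj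
  let Pk := P.map (algebraMap k K)
  let Pk' := P'⁻¹.map (algebraMap k K)
  let Q := Pk' * mat γ * Pk
  have hQ : IsUnit Q := by
    have h1 : IsUnit (mat γ) := (Matrix.isUnit_iff_isUnit_det _).mpr (IsUnit.of_mul_eq_one _ (det_mat γ))
    have h2 : IsUnit Pk := hP.map (algebraMap k K).mapMatrix
    have h3 : IsUnit Pk' := (Matrix.isUnit_nonsing_inv_iff.mpr hP').map (algebraMap k K).mapMatrix
    exact (h3.mul h1).mul h2
  let a : Matrix (Fin m) (Fin m) K → Matrix (Fin m) (Fin m) (MonoidAlgebra K G) := fun N => N.map (algebraMap K _)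
  let b : Matrix (Fin m) (Fin m) k → Matrix (Fin m) (Fin m) (MonoidAlgebra K G) := fun N => N.map (algebraMap k _)
  have hab : ∀ N : Matrix (Fin m) (Fin m) k, a (N.map (algebraMap k K)) = b N := fun N => by
    refine Matrix.ext fun i j => ?_
    exact (IsScalarTower.algebraMap_apply k K (MonoidAlgebra K G) (N i j)).symm
  have hamul : ∀ N N', a (N * N') = a N * a N' := fun N N' => Matrix.map_mul
  have hbinv : b P⁻¹ * b P = 1 ∧ b P'⁻¹ * b P' = 1 := by
    refine ⟨?_, ?_⟩ <;>
    · rw [← Matrix.map_mul, Matrix.nonsing_inv_mul _ ((Matrix.isUnit_iff_isUnit_det _).mp (by assumption)),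
        Matrix.map_one _ (map_zero _) (map_one _)]
  let H : MonoidAlgebra K G →ₐ[K] MonoidAlgebra K G :=
    MonoidAlgebra.lift K (MonoidAlgebra K G) G ((h : MonoidAlgebra k G →* MonoidAlgebra K G).comp (MonoidAlgebra.of k G))
  have hH : ∀ x, H (MonoidAlgebra.single x 1) = h (MonoidAlgebra.single x 1) := fun x => by simp [H]
  have key : a Q * diagG c = (Matrix.diagonal fun i => H (MonoidAlgebra.single (c' i) 1)) * a Q := by
    rw [mat_map_conj _ hMi, mat_map_conj _ hMj] at heq
    have e1 : diagG (F := K) c = Matrix.diagonal fun i => ιK k K G (MonoidAlgebra.single (c i) 1) := by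
      simp only [diagG, ιK_single]
    rw [e1, show a Q = b P'⁻¹ * a (mat γ) * b P by simp only [Q, Pk, Pk', hamul, hab]]
    simp only [hH]
    have h2 := congrArg (fun Z => b P'⁻¹ * Z * b P) heq
    simp only [a, b, _root_.mul_assoc] at h2 hbinv ⊢
    rw [hbinv.1, _root_.mul_one] at h2
    rw [h2, ← _root_.mul_assoc (P'⁻¹.map _) (P'.map _), hbinv.2, _root_.one_mul]
  obtain ⟨θ, s, -, hcs⟩ := exists_perm_of_intertwine Q hQ c c' hc hc' (H : MonoidAlgebra K G →* MonoidAlgebra K G) key
  obtain ⟨γ₀, hγ₀⟩ := exists_pt (k := k) (P' * (s⁻¹.permMatrix k) * P⁻¹) (by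
    refine (hP'.mul ?_).mul (Matrix.isUnit_nonsing_inv_iff.mpr hP)
    refine IsUnit.of_mul_eq_one (s.permMatrix k) ?_
    rw [← Matrix.permMatrix_mul, mul_inv_cancel, Matrix.permMatrix_one])
  refine ⟨θ, γ₀, ?_⟩
  rw [mat_map_conj _ hMj, hMi, hγ₀, Matrix.map_mul, Matrix.map_mul]
  have hdiag : (Matrix.diagonal fun i => ((MonoidAlgebra.domCongrBialgEquiv k k θ :
      MonoidAlgebra k G →ₐc[k] MonoidAlgebra k G) : MonoidAlgebra k G →ₐ[k] MonoidAlgebra k G)
        (MonoidAlgebra.single (c' i) 1)) = diagG (F := k) (fun i => θ (c' i)) := by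
    refine congrArg Matrix.diagonal (funext fun i => ?_)
    show MonoidAlgebra.domCongrBialgEquiv k k θ (MonoidAlgebra.single (c' i) 1) = _
    exact MonoidAlgebra.mapDomain_single ..
  rw [hdiag, show c = fun j => θ (c' (s j)) from funext hcs, ← perm_conj_diagG s (fun i => θ (c' i))]
  let A : Matrix (Fin m) (Fin m) k → Matrix (Fin m) (Fin m) (MonoidAlgebra k G) := fun N => N.map (algebraMap k _)
  have hA1 : A P⁻¹ * A P = 1 := by
    simp only [A]
    rw [← Matrix.map_mul, Matrix.nonsing_inv_mul _ ((Matrix.isUnit_iff_isUnit_det _).mp hP),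
      Matrix.map_one _ (map_zero _) (map_one _)]
  have hA2 : A P'⁻¹ * A P' = 1 := by
    simp only [A]
    rw [← Matrix.map_mul, Matrix.nonsing_inv_mul _ ((Matrix.isUnit_iff_isUnit_det _).mp hP'),
      Matrix.map_one _ (map_zero _) (map_one _)]
  have hS : A (s⁻¹.permMatrix k) * A (s.permMatrix k) = 1 := by
    simp only [A]
    rw [← Matrix.map_mul, ← Matrix.permMatrix_mul, mul_inv_cancel, Matrix.permMatrix_one,
      Matrix.map_one _ (map_zero _) (map_one _)]
  simp only [A] at hA1 hA2 hS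
  simp only [_root_.mul_assoc]
  rw [← _root_.mul_assoc (P⁻¹.map _) (P.map _), hA1, _root_.one_mul, ← _root_.mul_assoc ((s⁻¹.permMatrix k).map _) ((s.permMatrix k).map _),
    hS, _root_.one_mul, ← _root_.mul_assoc (P'⁻¹.map _) (P'.map _), hA2, _root_.one_mul]

end Groth.Agent.GrpSchLib.MuGLn
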