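import Groth.Agent.GrpSchLib.SepPoints
import Groth.Agent.GrpSchLib.Coincidence
import Groth.Agent.GrpSchLib.FieldTop

/-! Conditions on points descend to all test schemes. -/

open CategoryTheory AlgebraicGeometry MonoidalCategory CartesianMonoidalCategory Limits

namespace Groth.Agent.GrpSchLib

universe u

/-- The closed subscheme of those `x` with `f (W × x) ⊆ E`. -/
theorem exists_closed_universal {k : Type u} [Field k]
    {W X Y E : Over (Spec (CommRingCat.of k))} (f : W ⊗ X ⟶ Y) (i : E ⟶ Y)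
    [IsClosedImmersion i.left] :
    ∃ (Z : Over (Spec (CommRingCat.of k))) (c : Z ⟶ X), IsClosedImmersion c.left ∧
      ∀ {P : Over (Spec (CommRingCat.of k))} (x : P ⟶ X),
        (∃ z : P ⟶ Z, z ≫ c = x) ↔ ∃ l : W ⊗ P ⟶ E, l ≫ i = (W ◁ x) ≫ f := by
  let e := pullback.fst f.left i.left
  have he : IsClosedImmersion e := inferInstanceAs (IsClosedImmersion (pullback.fst f.left i.left))
  have hfac : ∀ {T : Over (Spec (CommRingCat.of k))} (y : T ⟶ W ⊗ X),
      (∃ l : T.left ⟶ pullback f.left i.left, l ≫ e = y.left) ↔ ∃ l : T ⟶ E, l ≫ i = y ≫ f := by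
    intro T y
    constructor
    · rintro ⟨l, hl⟩
      refine ⟨Over.homMk (l ≫ pullback.snd f.left i.left) ?_, Over.OverMorphism.ext ?_⟩
      · rw [Category.assoc, ← Over.w i, ← pullback.condition_assoc, ← Category.assoc, hl, Over.w f, Over.w y]
      · show (l ≫ pullback.snd f.left i.left) ≫ i.left = y.left ≫ f.left
        rw [Category.assoc, ← pullback.condition, ← Category.assoc, hl]
    · rintro ⟨l, hl⟩
      exact ⟨pullback.lift y.left l.left (congrArg CommaMorphism.left hl).symm, pullback.lift_fst _ _ _⟩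
  obtain ⟨Z, z, hz, hzf⟩ := exists_weilRestriction (hasIdeals_field (W := W) (X := X) e)
  refine ⟨Over.mk (z ≫ X.hom), Over.homMk z rfl, hz, fun {P} x => ?_⟩
  rw [← hfac, ← good_iff_whiskerLeft e x, ← hzf]
  refine ⟨fun ⟨w, hw⟩ => ⟨w.left, congrArg CommaMorphism.left hw⟩, fun ⟨w, hw⟩ =>
    ⟨Over.homMk w (by show w ≫ z ≫ X.hom = _; rw [← Category.assoc, hw, Over.w x]), Over.OverMorphism.ext hw⟩⟩

/-- If `f : W ⊗ X ⟶ Y` maps `W × x` into the closed `E ⊆ Y` for all `P`-points `x` of `X`, and those are dense,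
then `f` lands in `E`. -/
theorem DensePts.exists_fac_whiskerLeft {k : Type u} [Field k]
    {P W X Y E : Over (Spec (CommRingCat.of k))} (hd : DensePts P X) (f : W ⊗ X ⟶ Y) (i : E ⟶ Y)
    [IsClosedImmersion i.left]
    (h : ∀ x : P ⟶ X, ∃ l : W ⊗ P ⟶ E, l ≫ i = (W ◁ x) ≫ f) :
    ∃ f' : W ⊗ X ⟶ E, f' ≫ i = f := by
  obtain ⟨Z, c, hc, hZ⟩ := exists_closed_universal f i
  have := hd Z c hc fun x => (hZ x).mpr (h x)
  obtain ⟨l, hl⟩ := (hZ (𝟙 X)).mp ⟨inv c, IsIso.inv_hom_id c⟩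
  rw [MonoidalCategory.whiskerLeft_id, Category.id_comp] at hl
  exact ⟨l, hl⟩

end Groth.Agent.GrpSchLib
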