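import Groth.Agent.TraceEtale.Basic
import Groth.Agent.GrpSchLib.AffineHopf
import Groth.Agent.GrpSchLib.UnramifiedFibre
import Mathlib.RingTheory.HopfAlgebra.Convolution
import Mathlib.AlgebraicGeometry.Morphisms.FlatRank
import Mathlib.AlgebraicGeometry.Morphisms.QuasiFinite
import Groth.Agent.AssLib.FlatField

/-! A finite group scheme of order invertible in the base field is étale. -/

set_option autoImplicit false
set_option linter.style.haveILetI false

universe u

open CategoryTheory CategoryTheory.Limits AlgebraicGeometry MonoidalCategory CartesianMonoidalCategory MonObj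
open TensorProduct WithConv

namespace Groth.Agent.GrpSchLib.OrderEtale

/-- The trace is a left integral on a finite-dimensional commutative Hopf algebra. -/
theorem comul_trace {k A : Type u} [Field k] [CommRing A] [HopfAlgebra k A] [Module.Finite k A] :
    (∀ a : A, Algebra.trace A (A ⊗[k] A) (Bialgebra.comulAlgHom k A a) = algebraMap k A (Algebra.trace k A a)) ∧
    (∀ a c : A, Algebra.trace A (A ⊗[k] A) (a ⊗ₜ[k] c) = Algebra.trace k A c • a) ∧
    ∀ x : A, (∀ a, Algebra.trace k A (x * a) = 0) →
      ∀ w, Algebra.trace A (A ⊗[k] A) (Bialgebra.comulAlgHom k A x * w) = 0 := by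
  classical
  let il : A →ₐ[k] A ⊗[k] A := Algebra.TensorProduct.includeLeft
  let ir : A →ₐ[k] A ⊗[k] A := Algebra.TensorProduct.includeRight
  let Δ : A →ₐ[k] A ⊗[k] A := Bialgebra.comulAlgHom k A
  have hΔ : toConv il * toConv ir = toConv Δ := by
    rw [AlgHom.convMul_def]
    congr 1
    ext a
    obtain ⟨r, hr⟩ : ∃ r : A ⊗[k] A, r = Δ a := ⟨_, rfl⟩
    simp only [AlgHom.comp_apply, Bialgebra.comulAlgHom_apply]
    show Algebra.TensorProduct.lmul' k (Algebra.TensorProduct.map il ir (Coalgebra.comul a)) = Coalgebra.comul a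
    induction (Coalgebra.comul a : A ⊗[k] A) using TensorProduct.induction_on with
    | zero => simp
    | tmul x y => simp [il, ir]
    | add x y hx hy => simp [hx, hy]
  let Φ : A ⊗[k] A →ₐ[A] A ⊗[k] A :=
    Algebra.TensorProduct.lift (Algebra.ofId A (A ⊗[k] A)) Δ fun _ _ => Commute.all _ _
  have hΦl : (Φ.restrictScalars k).comp il = il := by ext a; simp [Φ, il]
  have hΦr : (Φ.restrictScalars k).comp ir = Δ := by ext a; simp [Φ, ir]
  have hS : toConv (il.comp (HopfAlgebra.antipodeAlgHom k A)) * toConv il = 1 := by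
    exact inv_mul_cancel (toConv il)
  have hsurj : Function.Surjective Φ := by
    let g := ((toConv (il.comp (HopfAlgebra.antipodeAlgHom k A)) * toConv ir).ofConv : A →ₐ[k] A ⊗[k] A)
    have hg : (Φ.restrictScalars k).comp g = ir := by
      refine congrArg ofConv ((?_ : toConv ((Φ.restrictScalars k).comp g) = toConv ir))
      rw [AlgHom.comp_convMul_distrib, ← AlgHom.comp_assoc, hΦl, hΦr, ← hΔ, ← _root_.mul_assoc, hS, _root_.one_mul]
    intro z
    induction z using TensorProduct.induction_on with
    | zero => exact ⟨0, map_zero _⟩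
    | tmul a b =>
      refine ⟨a • g b, ?_⟩
      rw [map_smul, show Φ (g b) = ir b from AlgHom.congr_fun hg b]
      simp [ir, TensorProduct.smul_tmul']
    | add x y hx hy =>
      obtain ⟨x', rfl⟩ := hx
      obtain ⟨y', rfl⟩ := hy
      exact ⟨x' + y', map_add _ _ _⟩
  have hbij : Function.Bijective Φ :=
    ⟨(LinearMap.injective_iff_surjective (f := (Φ.restrictScalars k).toLinearMap)).2 hsurj, hsurj⟩
  let τ := Algebra.trace k A
  let E : A ⊗[k] A →ₗ[A] A := Algebra.trace A (A ⊗[k] A)
  have hE : ∀ a c, E (a ⊗ₜ c) = τ c • a := by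
    intro a c
    have h1 : E (1 ⊗ₜ[k] c) = algebraMap k A (τ c) := by
      show LinearMap.trace A _ (Algebra.lmul A (A ⊗[k] A) (1 ⊗ₜ[k] c)) = _
      rw [show τ c = LinearMap.trace k A (Algebra.lmul k A c) from rfl, ← LinearMap.trace_baseChange]
      congr 1
      ext x
      simp
    rw [show (a ⊗ₜ[k] c : A ⊗[k] A) = a • (1 ⊗ₜ[k] c) by simp [TensorProduct.smul_tmul'], map_smul, h1,
      smul_eq_mul, mul_comm, Algebra.smul_def]
  have hinv : ∀ a, E (Δ a) = algebraMap k A (τ a) := by
    intro a
    have h2 : Algebra.trace A (A ⊗[k] A) (AlgEquiv.ofBijective Φ hbij (1 ⊗ₜ a)) =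
        Algebra.trace A (A ⊗[k] A) (1 ⊗ₜ a) := Algebra.trace_eq_of_algEquiv _ _
    have h3 : AlgEquiv.ofBijective Φ hbij (1 ⊗ₜ a) = Δ a := AlgHom.congr_fun hΦr a
    rw [h3] at h2
    exact h2.trans ((hE 1 a).trans (Algebra.algebraMap_eq_smul_one _).symm)
  have hN : ∀ x, (∀ a, τ (x * a) = 0) → ∀ w, E (Δ x * w) = 0 := by
    intro x hx w
    obtain ⟨z, rfl⟩ := hsurj w
    induction z using TensorProduct.induction_on with
    | zero => simp
    | tmul c a =>
      have h : Δ x * Φ (c ⊗ₜ a) = c • Δ (x * a) := by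
        rw [map_mul Δ, show (c ⊗ₜ[k] a : A ⊗[k] A) = c • (1 ⊗ₜ[k] a) by simp [TensorProduct.smul_tmul'],
          map_smul, mul_smul_comm]
        exact congrArg (fun t => c • (Δ x * t)) (AlgHom.congr_fun hΦr a)
      rw [h, map_smul, hinv, hx, map_zero, smul_zero]
    | add z z' hz hz' => rw [map_add, mul_add, map_add, hz, hz', add_zero]
  exact ⟨hinv, hE, hN⟩

/-- The trace form of a finite-dimensional Hopf algebra whose dimension is non-zero in the field is
non-degenerate. -/
theorem traceForm_injective {k A : Type u} [Field k] [CommRing A] [HopfAlgebra k A] [Module.Finite k A]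
    (hn : (Module.finrank k A : k) ≠ 0) : Function.Injective (Algebra.traceForm k A) := by
  classical
  let τ := Algebra.trace k A
  let Δ : A →ₐ[k] A ⊗[k] A := Bialgebra.comulAlgHom k A
  obtain ⟨hinv, hE, hN⟩ := comul_trace (k := k) (A := A)
  let b := Module.finBasis k A
  have hdec : ∀ x, (∀ a, τ (x * a) = 0) → ∃ y : Fin (Module.finrank k A) → A,
      Δ x = ∑ i, b i ⊗ₜ y i ∧ ∀ i a, τ (y i * a) = 0 := by
    intro x hx
    let y := TensorProduct.equivFinsuppOfBasisLeft b (Δ x)
    have hy : Δ x = ∑ i, b i ⊗ₜ y i := by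
      conv_lhs => rw [← (TensorProduct.equivFinsuppOfBasisLeft b).symm_apply_apply (Δ x)]
      rw [TensorProduct.equivFinsuppOfBasisLeft_symm_apply, Finsupp.sum_fintype _ _ (by simp)]
    refine ⟨y, hy, fun i a => ?_⟩
    have h := hN x hx (1 ⊗ₜ a)
    rw [hy, Finset.sum_mul, map_sum] at h
    simp only [Algebra.TensorProduct.tmul_mul_tmul, _root_.mul_one, hE] at h
    exact Fintype.linearIndependent_iff.1 b.linearIndependent _ h i
  have hτ1 : τ 1 ≠ 0 := by
    rw [show τ 1 = algebraMap k k 1 * (Module.finrank k A : k) by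
      rw [← map_one (algebraMap k A), Algebra.trace_algebraMap]; simp [mul_comm]]
    simpa using hn
  have hε : ∀ x, (∀ a, τ (x * a) = 0) → Bialgebra.counitAlgHom k A x = 0 := by
    intro x hx
    obtain ⟨y, hy, hy'⟩ := hdec x hx
    have h : ∑ i, HopfAlgebra.antipode k (b i) * y i = algebraMap k A (Bialgebra.counitAlgHom k A x) := by
      rw [Bialgebra.counitAlgHom_apply, ← HopfAlgebra.mul_antipode_rTensor_comul_apply (R := k) x,
        ← Bialgebra.comulAlgHom_apply, show Bialgebra.comulAlgHom k A x = _ from hy]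
      simp
    have h' := congrArg τ h
    rw [map_sum, Algebra.algebraMap_eq_smul_one, map_smul, smul_eq_mul,
      Finset.sum_eq_zero (fun i _ => by rw [mul_comm]; exact hy' i _)] at h'
    exact (mul_eq_zero.1 h'.symm).resolve_right hτ1
  refine (injective_iff_map_eq_zero _).2 fun x hx => ?_
  have hx' : ∀ a, τ (x * a) = 0 := fun a => LinearMap.congr_fun hx a
  obtain ⟨y, hy, hy'⟩ := hdec x hx'
  have h := Coalgebra.lTensor_counit_comul (R := k) x
  rw [← Bialgebra.comulAlgHom_apply, show Bialgebra.comulAlgHom k A x = _ from hy, map_sum] at h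
  have h2 := congrArg (TensorProduct.rid k A) h
  simp only [map_sum, LinearMap.lTensor_tmul, TensorProduct.rid_tmul, one_smul] at h2
  rw [← h2]
  refine Finset.sum_eq_zero fun i _ => ?_
  rw [← Bialgebra.counitAlgHom_apply, hε _ (hy' i), zero_smul]

theorem etale_hopf {k A : Type u} [Field k] [CommRing A] [HopfAlgebra k A] [Module.Finite k A]
    (hn : (Module.finrank k A : k) ≠ 0) : Algebra.Etale k A := by
  have hi := traceForm_injective hn
  exact (TraceEtale.etale_iff_bijective_traceForm k A).2
    ⟨hi, (LinearMap.injective_iff_surjective_of_finrank_eq_finrank Subspace.dual_finrank_eq.symm).1 hi⟩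

theorem formallyUnramified_hopf {k A : Type u} [Field k] [CommRing A] [HopfAlgebra k A] [Module.Finite k A]
    (hn : (Module.finrank k A : k) ≠ 0) : Algebra.FormallyUnramified k A := by
  have := etale_hopf hn
  infer_instance

/-- A finite group scheme over a field whose order is non-zero in the field is unramified. -/
theorem formallyUnramified_of_order {K : CommRingCat.{u}} (hK : IsField K) (G : Over (Spec K)) [GrpObj G]
    [IsFinite G.hom] (hn : ∀ x, (G.hom.finrank x : K) ≠ 0) : FormallyUnramified G.hom := by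
  letI := hK.toField
  haveI : IsAffine G.left := isAffine_of_isAffineHom G.hom
  obtain ⟨A, _, _, ⟨e⟩⟩ := GrpSchLib.AffineHopf.exists_hopf (R := (K : Type u)) G
  let e' : GrpSchLib.AffineHopf.sp (K : Type u) A ≅ G := (Grp.forget _).mapIso e
  let φ : Spec (CommRingCat.of A) ⟶ G.left := e'.hom.left
  haveI : IsIso φ := inferInstanceAs (IsIso ((Over.forget _).map e'.hom))
  have hw : φ ≫ G.hom = Spec.map (CommRingCat.ofHom (algebraMap K A)) := Over.w e'.hom
  haveI : IsFinite (φ ≫ G.hom) := inferInstance
  haveI : Module.Finite K A := RingHom.finite_algebraMap.1 ((IsFinite.SpecMap_iff _).1 (hw ▸ ‹IsFinite (φ ≫ G.hom)›))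
  haveI : Flat G.hom := AssLib.flat_over_field (k := (K : Type u)) G.hom
  let p : PrimeSpectrum K := ⟨⊥, Ideal.isPrime_bot⟩
  have hr : G.hom.finrank p = Module.finrank K A := by
    rw [← Scheme.Hom.finrank_comp_left_of_isIso φ G.hom, hw]
    exact (Scheme.Hom.finrank_SpecMap_algebraMap K A p).trans (by rw [Module.rankAtStalk_eq_finrank_of_free]; rfl)
  have hu := formallyUnramified_hopf (hr ▸ hn p)
  rw [← MorphismProperty.cancel_left_of_respectsIso @FormallyUnramified φ G.hom, hw]
  exact (HasRingHomProperty.Spec_iff (P := @FormallyUnramified)).2 (RingHom.formallyUnramified_algebraMap.2 hu)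

theorem etale_of_order {S : Scheme.{u}} (G : Over S) [GrpObj G]
    [LocallyQuasiFinite G.hom] [QuasiCompact G.hom] [Flat G.hom] [LocallyOfFinitePresentation G.hom]
    (h : ∀ (s : S) (x : ↥(Spec (S.residueField s))),
      ((pullback.snd G.hom (S.fromSpecResidueField s)).finrank x : S.residueField s) ≠ 0) :
    Etale G.hom := by
  haveI : FormallyUnramified G.hom := by
    refine formallyUnramified_of_fibres _ fun s => ?_
    haveI : IsFinite ((Over.pullback (S.fromSpecResidueField s)).obj G).hom :=
      inferInstanceAs (IsFinite (G.hom.fiberToSpecResidueField s))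
    exact formallyUnramified_of_order (Semifield.toIsField (S.residueField s))
      ((Over.pullback (S.fromSpecResidueField s)).obj G) (h s)
  exact Etale.of_formallyUnramified_of_flat G.hom

end Groth.Agent.GrpSchLib.OrderEtale
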