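import Mathlib.LinearAlgebra.TensorProduct.Basis
import Mathlib.LinearAlgebra.Basis.VectorSpace
import Mathlib.LinearAlgebra.TensorProduct.RightExactness

/-! Tensors killed by a family of functionals on one factor (over a field). -/

open TensorProduct

namespace Groth.Agent.GrpSchLib

theorem exists_sum_tmul_of_forall_lTensor {k : Type*} [Field k] {V A : Type*} [AddCommGroup V] [Module k V]
    [AddCommGroup A] [Module k A] {ι : Type*} (σ : ι → A →ₗ[k] k) (z : V ⊗[k] A)
    (h : ∀ i, (σ i).lTensor V z = 0) :
    ∃ (s : Finset (Module.Basis.ofVectorSpaceIndex k V)) (c : Module.Basis.ofVectorSpaceIndex k V → A),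
      z = ∑ j ∈ s, Module.Basis.ofVectorSpace k V j ⊗ₜ c j ∧ ∀ j i, σ i (c j) = 0 := by
  classical
  let b := Module.Basis.ofVectorSpace k V
  let c := TensorProduct.equivFinsuppOfBasisLeft b z
  refine ⟨c.support, c, ?_, fun j i => ?_⟩
  · have := (TensorProduct.equivFinsuppOfBasisLeft b).symm_apply_apply z
    rw [TensorProduct.equivFinsuppOfBasisLeft_symm_apply] at this
    exact this.symm
  · have e : ∀ w : V ⊗[k] A, σ i (TensorProduct.lid k A ((b.coord j).rTensor A w)) =
        b.coord j (TensorProduct.rid k V ((σ i).lTensor V w)) := by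
      intro w
      induction w using TensorProduct.induction_on with
      | zero => simp
      | tmul v a => simp [mul_comm]
      | add p q hp hq => simp only [map_add, hp, hq]
    show σ i (TensorProduct.equivFinsuppOfBasisLeft b z j) = 0
    rw [TensorProduct.equivFinsuppOfBasisLeft_apply, e, h i, map_zero, map_zero]

end Groth.Agent.GrpSchLib
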