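import Groth.Agent.GrpSchLib.HeightOneExists
import Groth.Agent.GrpSchLib.EigenFibre

/-! Group schemes of prime order and simple finite group schemes over algebraically closed fields. -/

open TensorProduct WithConv

namespace Groth.Agent.GrpSchLib

universe u v

/-- Functions of two variables separate tensors of functions. -/
theorem constGrp_pair_injective (R : Type u) [CommRing R] (G : Type v) [Group G] [Fintype G] [DecidableEq G] :
    Function.Injective (ConstGrp.pair R G) := by
  intro s t h
  have key : ∀ z : ConstGrp.F R G ⊗[R] ConstGrp.F R G,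
      z = ∑ a, ∑ b, ConstGrp.pair R G z (a, b) • (ConstGrp.e R a ⊗ₜ[R] ConstGrp.e R b) := by
    intro z
    induction z using TensorProduct.induction_on with
    | zero => simp
    | tmul x y =>
      conv_lhs => rw [ConstGrp.eq_sum_smul_e x, ConstGrp.eq_sum_smul_e y]
      simp only [TensorProduct.sum_tmul, TensorProduct.tmul_sum, TensorProduct.smul_tmul_smul, ConstGrp.pair_tmul]
      rw [Finset.sum_comm]
    | add x y hx hy =>
      conv_lhs => rw [hx, hy]
      simp only [map_add, ← Finset.sum_add_distrib, ← add_smul]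
      rfl
  rw [key s, key t, h]

/-- A map to the functions on a finite group given by a homomorphism into the points. -/
noncomputable def toConstGrp (k : Type u) [Field k] (A : Type v) [CommRing A] [HopfAlgebra k A] {H : Type*}
    [Group H] [Fintype H] [DecidableEq H] (φ : H →* WithConv (A →ₐ[k] k)) : A →ₐc[k] ConstGrp.F k H :=
  BialgHom.ofAlgHom
    ({ toFun := fun a h => (φ h).ofConv a
       map_one' := funext fun h => map_one _
       map_mul' := fun a b => funext fun h => map_mul _ _ _
       map_zero' := funext fun h => map_zero _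
       map_add' := fun a b => funext fun h => map_add _ _ _
       commutes' := fun r => funext fun h => AlgHom.commutes _ _ } : A →ₐ[k] ConstGrp.F k H)
    (AlgHom.ext fun a => by
      show (φ 1).ofConv a = Coalgebra.counit (R := k) a
      rw [map_one]
      rfl)
    (AlgHom.ext fun a => constGrp_pair_injective k H (funext fun x => by
      obtain ⟨g, h⟩ := x
      refine Eq.trans ?_ (ConstGrp.pair_comul k H _ g h).symm
      show _ = (φ (g * h)).ofConv a
      rw [map_mul]
      refine Eq.trans ?_ (AlgHom.convMul_apply _ _ a).symm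
      simp only [AlgHom.comp_apply, Bialgebra.comulAlgHom_apply]
      generalize Coalgebra.comul (R := k) a = z
      induction z using TensorProduct.induction_on with
      | zero => simp only [map_zero]; rfl
      | tmul p q => simp [ConstGrp.pair_tmul]
      | add s t hs ht =>
        simp only [map_add]
        exact congrArg₂ (· + ·) hs ht))

theorem nonempty_bialgEquiv_constGrp_of_bijective (k : Type u) [Field k] (A : Type v) [CommRing A] [HopfAlgebra k A]
    {H : Type*} [Group H] [Fintype H] [DecidableEq H] (φ : H →* WithConv (A →ₐ[k] k)) (hφ : Function.Bijective φ)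
    (hev : Function.Bijective fun (a : A) (g : WithConv (A →ₐ[k] k)) => g.ofConv a) :
    Nonempty (A ≃ₐc[k] ConstGrp.F k H) := by
  refine ⟨BialgEquiv.ofBijective (R := k) (A := A) (B := ConstGrp.F k H) (toConstGrp k A φ)
    ⟨fun a b h => hev.1 (funext fun g => ?_), fun f => ?_⟩⟩
  · obtain ⟨x, rfl⟩ := hφ.2 g
    exact congrFun h x
  · obtain ⟨a, ha⟩ := hev.2 fun g => f ((Equiv.ofBijective φ hφ).symm g)
    exact ⟨a, funext fun h => (congrFun ha (φ h)).trans (congrArg f ((Equiv.ofBijective φ hφ).symm_apply_apply h))⟩

theorem exists_surjective_mu_or_alpha {k : Type u} [Field k] [IsAlgClosed k] {A : Type v} [CommRing A] [HopfAlgebra k A]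
    [Module.Finite k A] (p : ℕ) [Fact p.Prime] [CharP k p] (hA : ¬ IsReduced A) :
    (∃ f : A →ₐc[k] MonoidAlgebra k (Multiplicative (ZMod p)), Function.Surjective f) ∨
      (∃ f : A →ₐc[k] AlphaP.A p k, Function.Surjective f) := by
  obtain ⟨v, hv, hv0, hvp⟩ := exists_deriv_pow_eq (k := k) (A := A) p hA
  obtain ⟨x₀, hx₀⟩ : ∃ x, v.ofConv x ≠ 0 := by
    by_contra h
    push Not at h
    exact hv0 (WithConv.ofConv_injective (LinearMap.ext h))
  let x₁ := (v.ofConv x₀)⁻¹ • (x₀ - Coalgebra.counit (R := k) x₀ • (1 : A))
  have hx₁ : v.ofConv x₁ = 1 := by simp [x₁, deriv_apply_one hv, inv_mul_cancel₀ hx₀]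
  have hx₁0 : Coalgebra.counit (R := k) x₁ = 0 := by simp [x₁]
  rcases hvp with h | h
  · obtain ⟨w, t, hw, ht0, ht1, hwp⟩ := exists_deriv_muP (k := k) p
    refine Or.inl (exists_bialgHom_of_deriv p _ ?_ 1 hw ht0 ht1 hwp hv hx₁0 hx₁ (by rw [h, one_smul]))
    rw [Module.finrank_eq_card_basis (MonoidAlgebra.basis (Multiplicative (ZMod p)) k)]
    simp
  · obtain ⟨w, t, hw, ht0, ht1, hwp⟩ := exists_deriv_alphaP (k := k) p
    exact Or.inr (exists_bialgHom_of_deriv p _ (AlphaP.finrank_eq p k) 0 hw ht0 ht1 hwp hv hx₁0 hx₁
      (by rw [h, zero_smul]))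

theorem nonempty_bialgEquiv_of_surjective {k : Type u} [Field k] {A : Type v} [CommRing A] [HopfAlgebra k A]
    [Module.Finite k A] {T : Type*} [CommRing T] [Bialgebra k T] [Module.Finite k T] (f : A →ₐc[k] T)
    (hf : Function.Surjective f) (h : Module.finrank k A = Module.finrank k T) : Nonempty (A ≃ₐc[k] T) :=
  ⟨BialgEquiv.ofBijective (R := k) (A := A) (B := T) f
    ⟨(LinearMap.injective_iff_surjective_of_finrank_eq_finrank h (f := (f : A →ₗ[k] T))).mpr hf, hf⟩⟩

theorem derivForms_eq_bot_of_isReduced {k : Type u} [Field k] {A : Type v} [CommRing A] [HopfAlgebra k A]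
    [Module.Finite k A] [IsReduced A] : derivForms k A = ⊥ := by
  classical
  haveI : IsArtinianRing A := IsArtinianRing.of_finite k A
  refine (Submodule.eq_bot_iff _).mpr fun y hy => WithConv.ofConv_injective (LinearMap.ext fun x => ?_)
  suffices H : ∀ a, Coalgebra.counit (R := k) a = 0 → y.ofConv a = 0 by
    have := H (x - Coalgebra.counit (R := k) x • (1 : A)) (by simp)
    simpa [deriv_apply_one hy] using this
  intro a ha
  obtain ⟨b, hb⟩ : ∃ b, a * a * b = a := by
    let e := IsArtinianRing.equivPi A
    have h : ∀ M : MaximalSpectrum A, ∃ z : A ⧸ M.asIdeal, e a M * e a M * z = e a M := by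
      intro M
      rcases eq_or_ne (e a M) 0 with h0 | h0
      · exact ⟨0, by rw [h0, mul_zero]⟩
      · obtain ⟨z, hz⟩ := ((Ideal.Quotient.maximal_ideal_iff_isField_quotient M.asIdeal).mp M.isMaximal).mul_inv_cancel h0
        exact ⟨z, by rw [_root_.mul_assoc, hz, _root_.mul_one]⟩
    choose z hz using h
    refine ⟨e.symm z, e.injective (funext fun M => ?_)⟩
    rw [map_mul, map_mul, AlgEquiv.apply_symm_apply]
    exact hz M
  rw [← hb, hy, hy, Bialgebra.counit_mul, ha]
  ring

theorem card_points_eq_finrank_of_isReduced {k : Type u} [Field k] [IsAlgClosed k] {A : Type v} [CommRing A] [HopfAlgebra k A]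
    [Module.Finite k A] [IsReduced A] {p : ℕ} (hp : p.Prime) (hA : Module.finrank k A = p) :
    Nat.card (WithConv (A →ₐ[k] k)) = p := by
  refine (deriv_or_card_points_of_finrank_prime hp hA).resolve_left ?_
  rintro ⟨y, x, hy, -, hx, -⟩
  have h : y ∈ (⊥ : Submodule k (CartDual.D k A)) := derivForms_eq_bot_of_isReduced (k := k) (A := A) ▸ hy
  rw [(Submodule.mem_bot k).mp h] at hx
  simp at hx

theorem points_eval_bijective {k : Type u} [Field k] {A : Type v} [CommRing A] [HopfAlgebra k A] {p : ℕ} [Fact p.Prime]
    [Module.Finite k A] (hp : Nat.card (WithConv (A →ₐ[k] k)) = p)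
    (hA : Module.finrank k A = p) :
    Function.Bijective (fun (a : A) (g : WithConv (A →ₐ[k] k)) => g.ofConv a) := by
  classical
  let G := WithConv (A →ₐ[k] k)
  haveI : Finite G := Nat.finite_of_card_ne_zero (by rw [hp]; exact (Fact.out : p.Prime).ne_zero)
  haveI : Fintype G := Fintype.ofFinite G
  have hcard : Fintype.card G = p := by rw [← Nat.card_eq_fintype_card, hp]
  let ev : A →ₗ[k] G → k := LinearMap.pi fun g => g.ofConv.toLinearMap
  have hli : LinearIndependent k (fun g : G => g.ofConv.toLinearMap) := by
    have h := (linearIndependent_monoidHom A k).comp (fun g : G => (g.ofConv : A →* k))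
      (fun g h e => WithConv.ofConv_injective (AlgHom.ext fun a => DFunLike.congr_fun e a))
    rw [Fintype.linearIndependent_iff] at h ⊢
    intro c hc
    refine h c (funext fun a => ?_)
    have := LinearMap.congr_fun hc a
    simpa using this
  have htop := hli.span_eq_top_of_card_eq_finrank (by rw [hcard]; exact (Subspace.dual_finrank_eq.trans hA).symm)
  have hinj : Function.Injective ev := by
    rw [injective_iff_map_eq_zero]
    intro a ha
    rw [← Module.forall_dual_apply_eq_zero_iff k]
    intro φ
    have hφ : φ ∈ Submodule.span k (Set.range fun g : G => g.ofConv.toLinearMap) := htop ▸ Submodule.mem_top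
    induction hφ using Submodule.span_induction with
    | mem x hx =>
      obtain ⟨g, rfl⟩ := hx
      exact congrFun ha g
    | zero => rfl
    | add x y _ _ hx hy => rw [LinearMap.add_apply, hx, hy, add_zero]
    | smul c x _ hx => rw [LinearMap.smul_apply, hx, smul_zero]
  exact ⟨hinj, (LinearMap.injective_iff_surjective_of_finrank_eq_finrank
    (by rw [hA, Module.finrank_fintype_fun_eq_card, hcard])).mp hinj⟩

end Groth.Agent.GrpSchLib
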