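import Groth.Agent.GrpSchLib.HopfDifferential
import Groth.Prelude.Def_CartDual
import Mathlib.RingTheory.Artinian.Module
import Mathlib.RingTheory.Artinian.Ring
import Mathlib.LinearAlgebra.Trace
import Mathlib.LinearAlgebra.Dual.Lemmas
import Mathlib.FieldTheory.IsAlgClosed.Basic
import Mathlib.GroupTheory.SpecificGroups.Cyclic
import Mathlib.RingTheory.Nilpotent.Lemmas
import Mathlib.Data.Nat.Prime.Factorial

/-!
Group schemes of prime order over an algebraically closed field: the dual algebra is generated by one element.
-/

open TensorProduct WithConv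

namespace Groth.Agent.GrpSchLib

universe u v

variable {k : Type u} [Field k] {A : Type v} [CommRing A] [HopfAlgebra k A]

/-- The left invariant operator attached to a form. -/
noncomputable def formOp (φ : CartDual.D k A) : A →ₗ[k] A :=
  convAct LinearMap.id (Algebra.linearMap k A ∘ₗ φ.ofConv)

theorem formOp_apply (φ : CartDual.D k A) (a : A) :
    formOp φ a = TensorProduct.rid k A (φ.ofConv.lTensor A (Coalgebra.comul a)) := by
  simp only [formOp, convAct, LinearMap.comp_apply]
  generalize Coalgebra.comul (R := k) a = t
  induction t using TensorProduct.induction_on with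
  | zero => simp
  | tmul x y => simp [Algebra.smul_def, mul_comm]
  | add s t hs ht => simp only [map_add, hs, ht]

theorem counit_formOp (φ : CartDual.D k A) (a : A) :
    Coalgebra.counit (R := k) (formOp φ a) = φ.ofConv a := by
  rw [formOp_apply]
  have : ∀ t : A ⊗[k] A, Coalgebra.counit (R := k) (TensorProduct.rid k A (φ.ofConv.lTensor A t)) =
      φ.ofConv (TensorProduct.lid k A ((Coalgebra.counit (R := k) (A := A)).rTensor A t)) := by
    intro t
    induction t using TensorProduct.induction_on with
    | zero => simp
    | tmul x y => simp [mul_comm]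
    | add s t hs ht => simp only [map_add, hs, ht]
  rw [this, Coalgebra.rTensor_counit_comul]
  simp

theorem formOp_mul (φ ψ : CartDual.D k A) (a : A) : formOp (φ * ψ) a = formOp φ (formOp ψ a) := by
  rw [formOp_apply, formOp_apply φ, formOp_apply ψ]
  have h1 : ∀ t : A ⊗[k] A, TensorProduct.rid k A ((φ * ψ).ofConv.lTensor A t) =
      TensorProduct.rid k A ((LinearMap.mul' k k ∘ₗ TensorProduct.map φ.ofConv ψ.ofConv).lTensor A
        ((Coalgebra.comul (R := k) (A := A)).lTensor A t)) := by
    intro t
    induction t using TensorProduct.induction_on with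
    | zero => simp
    | tmul x y => simp [LinearMap.convMul_apply]
    | add s t hs ht => simp only [map_add, hs, ht]
  have h2 : ∀ t : A ⊗[k] A, TensorProduct.rid k A (φ.ofConv.lTensor A
        (Coalgebra.comul (TensorProduct.rid k A (ψ.ofConv.lTensor A t)))) =
      TensorProduct.rid k A ((LinearMap.mul' k k ∘ₗ TensorProduct.map φ.ofConv ψ.ofConv).lTensor A
        (TensorProduct.assoc k A A A ((Coalgebra.comul (R := k) (A := A)).rTensor A t))) := by
    intro t
    induction t using TensorProduct.induction_on with
    | zero => simp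
    | tmul x y =>
      simp only [LinearMap.lTensor_tmul, TensorProduct.rid_tmul, map_smul, LinearMap.rTensor_tmul]
      generalize Coalgebra.comul (R := k) x = s
      induction s using TensorProduct.induction_on with
      | zero => simp
      | tmul b c => simp [smul_smul, mul_comm]
      | add s s' hs hs' => simp only [TensorProduct.add_tmul, map_add, smul_add, hs, hs']
    | add s t hs ht => simp only [map_add, hs, ht]
  rw [h1, h2, Coalgebra.coassoc_apply]

theorem formOp_leibniz {y : CartDual.D k A}
    (hy : ∀ a b, y.ofConv (a * b) = Coalgebra.counit (R := k) a * y.ofConv b + Coalgebra.counit (R := k) b * y.ofConv a)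
    (a b : A) : formOp y (a * b) = a * formOp y b + b * formOp y a := by
  refine convAct_id_leibniz (fun x z => ?_) a b
  simp [LinearMap.convOne_def, hy, map_add, map_mul]

/-- A commutative Hopf algebra with a nonzero derivation at the counit, whose dimension is `n`, forces `n = 0` in
the field, provided that all elements of the augmentation ideal are nilpotent. -/
theorem natCast_finrank_eq_zero_of_deriv [Module.Finite k A]
    (hloc : ∀ a : A, Coalgebra.counit (R := k) a = 0 → IsNilpotent a) {y : CartDual.D k A}
    (hy : ∀ a b, y.ofConv (a * b) = Coalgebra.counit (R := k) a * y.ofConv b + Coalgebra.counit (R := k) b * y.ofConv a)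
    {x : A} (hx : y.ofConv x = 1) : (Module.finrank k A : k) = 0 := by
  have htr : ∀ a : A, LinearMap.trace k A (LinearMap.mulLeft k a) =
      (Module.finrank k A : k) * Coalgebra.counit (R := k) a := by
    intro a
    let c := Coalgebra.counit (R := k) a
    have e : LinearMap.mulLeft k a = LinearMap.mulLeft k (a - c • 1) + c • LinearMap.id := by
      ext b; simp [sub_mul]
    have hn : IsNilpotent (LinearMap.mulLeft k (a - c • (1 : A))) :=
      LinearMap.isNilpotent_mulLeft_iff k _ |>.mpr (hloc _ (by simp [c]))
    rw [e, map_add, map_smul, (LinearMap.isNilpotent_trace_of_isNilpotent hn).eq_zero, LinearMap.trace_id, zero_add,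
      smul_eq_mul, mul_comm]
  have hcomm : LinearMap.mulLeft k (formOp y x) =
      formOp y * LinearMap.mulLeft k x - LinearMap.mulLeft k x * formOp y := by
    ext b
    simp [Module.End.mul_apply, formOp_leibniz hy, mul_comm]
  have h0 := htr (formOp y x)
  rw [hcomm, map_sub, LinearMap.trace_mul_comm, sub_self, counit_formOp, hx, mul_one] at h0
  exact h0.symm

/-- Powers of a derivation at the counit kill high powers of the augmentation ideal. -/
theorem pow_form_eq_zero_of_mem {y : CartDual.D k A}
    (hy : ∀ a b, y.ofConv (a * b) = Coalgebra.counit (R := k) a * y.ofConv b + Coalgebra.counit (R := k) b * y.ofConv a)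
    (i N : ℕ) (a : A) (ha : a ∈ RingHom.ker (Bialgebra.counitAlgHom k A) ^ N) (hN : i < N) :
    (y ^ i).ofConv a = 0 := by
  let ε := Bialgebra.counitAlgHom k A
  let m := RingHom.ker ε
  have hd : ∀ (j : ℕ) (a : A), a ∈ m ^ (j + 1) → formOp y a ∈ m ^ j := by
    intro j
    induction j with
    | zero => intro a _; simp
    | succ j ih =>
      intro a ha
      rw [pow_succ] at ha
      refine Submodule.mul_induction_on ha (fun b hb c hc => ?_) (fun b c hb hc => ?_)
      · rw [formOp_leibniz hy]
        refine add_mem (Ideal.mul_mem_right _ _ hb) ?_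
        rw [pow_succ, mul_comm (m ^ j)]
        exact Ideal.mul_mem_mul hc (ih b hb)
      · rw [map_add]; exact add_mem hb hc
  induction i generalizing N a with
  | zero =>
    rw [pow_zero, LinearMap.convOne_apply]
    have : a ∈ m := Ideal.pow_le_self (by omega) ha
    have h2 : Coalgebra.counit (R := k) a = 0 := this
    simp [h2]
  | succ i ih =>
    rw [pow_succ, ← counit_formOp, formOp_mul, counit_formOp]
    obtain ⟨N', rfl⟩ : ∃ N', N = N' + 1 := ⟨N - 1, by omega⟩
    exact ih N' _ (hd N' a ha) (by omega)

theorem pow_form_apply_pow {y : CartDual.D k A}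
    (hy : ∀ a b, y.ofConv (a * b) = Coalgebra.counit (R := k) a * y.ofConv b + Coalgebra.counit (R := k) b * y.ofConv a)
    {x : A} (hx : y.ofConv x = 1) (hx0 : Coalgebra.counit (R := k) x = 0) :
    ∀ i : ℕ, (y ^ i).ofConv (x ^ i) = (i.factorial : k) := by
  let ε := Bialgebra.counitAlgHom k A
  let m := RingHom.ker ε
  intro i
  induction i with
  | zero => simp [LinearMap.convOne_apply]
  | succ i ih =>
    have hpow : ∀ N, formOp y (x ^ (N + 1)) = ((N + 1 : ℕ) : A) * (x ^ N * formOp y x) := by
      intro N
      induction N with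
      | zero => simp
      | succ N ihN =>
        rw [pow_succ x (N + 1), formOp_leibniz hy, ihN]
        push_cast
        ring
    rw [pow_succ, ← counit_formOp, formOp_mul, counit_formOp, hpow]
    have hxm : x ^ i * (formOp y x - 1) ∈ m ^ (i + 1) := by
      rw [pow_succ]
      refine Ideal.mul_mem_mul (Ideal.pow_mem_pow hx0 i) ?_
      show ε (formOp y x - 1) = 0
      rw [map_sub, map_one]
      show Coalgebra.counit (R := k) (formOp y x) - 1 = 0
      rw [counit_formOp, hx, sub_self]
    have e : ((i + 1 : ℕ) : A) * (x ^ i * formOp y x) =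
        ((i + 1 : ℕ) : k) • (x ^ i * (formOp y x - 1)) + ((i + 1 : ℕ) : k) • x ^ i := by
      rw [Algebra.smul_def, Algebra.smul_def, map_natCast]
      ring
    rw [e, map_add, map_smul, map_smul, pow_form_eq_zero_of_mem hy i (i + 1) _ hxm (by omega), ih]
    simp [Nat.factorial_succ]

/-- The powers of a derivation at the counit are linearly independent below the characteristic. -/
theorem linearIndependent_pow_of_deriv {y : CartDual.D k A}
    (hy : ∀ a b, y.ofConv (a * b) = Coalgebra.counit (R := k) a * y.ofConv b + Coalgebra.counit (R := k) b * y.ofConv a)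
    {x : A} (hx : y.ofConv x = 1) (hx0 : Coalgebra.counit (R := k) x = 0) {n : ℕ}
    (hn : ∀ i : Fin n, ((i : ℕ).factorial : k) ≠ 0) :
    LinearIndependent k (fun i : Fin n => y ^ (i : ℕ)) := by
  have hdiag := pow_form_apply_pow hy hx hx0
  have hlow := fun i N (a : A) => pow_form_eq_zero_of_mem hy i N a
  rw [Fintype.linearIndependent_iff]
  intro c hc
  suffices H : ∀ d, ∀ i : Fin n, n - 1 - (i : ℕ) ≤ d → c i = 0 from fun i => H _ i le_rfl
  intro d
  induction d using Nat.strong_induction_on with
  | _ d ih =>
    intro i hi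
    have h := congrArg (fun φ : CartDual.D k A => φ.ofConv (x ^ (i : ℕ))) hc
    simp only [WithConv.ofConv_sum, LinearMap.sum_apply, WithConv.ofConv_smul, LinearMap.smul_apply,
      WithConv.ofConv_zero, LinearMap.zero_apply] at h
    rw [Finset.sum_eq_single i] at h
    · rw [hdiag, smul_eq_mul] at h
      exact (mul_eq_zero.mp h).resolve_right (hn i)
    · intro j _ hj
      rcases lt_or_gt_of_ne (Fin.val_ne_of_ne hj) with hlt | hgt
      · rw [hlow j i _ (Ideal.pow_mem_pow hx0 _) hlt, smul_zero]
      · rw [ih (n - 1 - (j : ℕ)) (by have := j.2; omega) j le_rfl, zero_smul]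
    · simp

/-- A group scheme of prime order `p` over an algebraically closed field is either infinitesimal in characteristic
`p`, or has `p` points. -/
theorem deriv_or_card_points_of_finrank_prime [IsAlgClosed k] [Module.Finite k A] {p : ℕ} (hp : p.Prime)
    (hA : Module.finrank k A = p) :
    (∃ (y : CartDual.D k A) (x : A),
        (∀ a b, y.ofConv (a * b) =
          Coalgebra.counit (R := k) a * y.ofConv b + Coalgebra.counit (R := k) b * y.ofConv a) ∧
          Coalgebra.counit (R := k) x = 0 ∧ y.ofConv x = 1 ∧ (p : k) = 0) ∨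
      Nat.card (WithConv (A →ₐ[k] k)) = p := by
  classical
  haveI : Nontrivial A := Module.nontrivial_of_finrank_pos (R := k) (by rw [hA]; exact hp.pos)
  haveI : IsArtinianRing A := IsArtinianRing.of_finite k A
  let G := WithConv (A →ₐ[k] k)
  -- points and maximal ideals
  let toMax : G → MaximalSpectrum A := fun g => ⟨RingHom.ker g.ofConv,
    RingHom.ker_isMaximal_of_surjective g.ofConv fun c => ⟨algebraMap k A c, g.ofConv.commutes c⟩⟩
  have htoMax : Function.Bijective toMax := by
    constructor
    · intro g h hgh
      apply WithConv.ofConv_injective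
      ext a
      have hk : RingHom.ker g.ofConv = RingHom.ker h.ofConv := congrArg MaximalSpectrum.asIdeal hgh
      have : a - algebraMap k A (g.ofConv a) ∈ RingHom.ker g.ofConv := by simp [RingHom.mem_ker]
      rw [hk, RingHom.mem_ker, map_sub, AlgHom.commutes, sub_eq_zero] at this
      exact this.symm
    · intro M
      haveI := M.isMaximal
      let q : A →ₐ[k] A ⧸ M.asIdeal := Ideal.Quotient.mkₐ k M.asIdeal
      haveI : Algebra.IsIntegral k (A ⧸ M.asIdeal) := Algebra.IsIntegral.of_finite k _
      have hb := IsAlgClosed.algebraMap_bijective_of_isIntegral (k := k) (K := A ⧸ M.asIdeal)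
      let e := AlgEquiv.ofBijective (Algebra.ofId k (A ⧸ M.asIdeal)) hb
      refine ⟨WithConv.toConv ((e.symm : (A ⧸ M.asIdeal) →ₐ[k] k).comp q), MaximalSpectrum.ext ?_⟩
      ext a
      show e.symm (q a) = 0 ↔ a ∈ M.asIdeal
      rw [map_eq_zero_iff _ e.symm.injective]
      exact Ideal.Quotient.eq_zero_iff_mem
  haveI : Fintype (MaximalSpectrum A) := Fintype.ofFinite _
  haveI : Fintype G := Fintype.ofEquiv _ (Equiv.ofBijective toMax htoMax).symm
  obtain ⟨N, hN⟩ : IsNilpotent (nilradical A) := by
    obtain ⟨n, hn⟩ := IsArtinianRing.isNilpotent_nilradical (R := A)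
    exact ⟨n, hn⟩
  -- translations permute the maximal ideals transitively
  let tr : G → (A →ₐ[k] A) := fun g =>
    (toConv (AlgHom.id k A) * toConv ((Algebra.ofId k A).comp g.ofConv)).ofConv
  have htr : ∀ g h : G, toConv (h.ofConv.comp (tr g)) = h * g := by
    intro g h
    apply WithConv.ofConv_injective
    show h.ofConv.comp (tr g) = (h * g).ofConv
    rw [AlgHom.comp_convMul_distrib]
    refine congrArg WithConv.ofConv (congrArg₂ (· * ·) (congrArg toConv (AlgHom.comp_id _)) ?_)
    apply WithConv.ofConv_injective
    ext a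
    exact h.ofConv.commutes _
  have htrtr : ∀ g h : G, (tr g).comp (tr h) = tr (g * h) := by
    intro g h
    show (tr g).comp (toConv (AlgHom.id k A) * toConv ((Algebra.ofId k A).comp h.ofConv)).ofConv = _
    rw [AlgHom.comp_convMul_distrib]
    simp only [tr, WithConv.ofConv_toConv, AlgHom.comp_id, WithConv.toConv_ofConv, mul_assoc]
    refine congrArg WithConv.ofConv (congrArg (toConv (AlgHom.id k A) * ·) ?_)
    apply WithConv.ofConv_injective
    show (toConv ((Algebra.ofId k A).comp g.ofConv) * toConv ((tr g).comp ((Algebra.ofId k A).comp h.ofConv))).ofConv =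
      (Algebra.ofId k A).comp (g * h).ofConv
    rw [AlgHom.comp_convMul_distrib]
    refine congrArg WithConv.ofConv (congrArg (toConv ((Algebra.ofId k A).comp g.ofConv) * ·) ?_)
    apply WithConv.ofConv_injective
    ext a
    exact (tr g).commutes _
  have htr1 : tr 1 = AlgHom.id k A := by
    simp only [tr]
    rw [show toConv ((Algebra.ofId k A).comp (1 : G).ofConv) = (1 : WithConv (A →ₐ[k] A)) from by
      apply WithConv.ofConv_injective
      ext a
      exact (Algebra.ofId k A).commutes _, mul_one]
  let te : G → (A ≃ₐ[k] A) := fun g => AlgEquiv.ofAlgHom (tr g) (tr g⁻¹)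
    (by rw [htrtr, mul_inv_cancel, htr1]) (by rw [htrtr, inv_mul_cancel, htr1])
  let d : MaximalSpectrum A → ℕ := fun M => Module.finrank k (A ⧸ M.asIdeal ^ N)
  have hd : ∀ M : MaximalSpectrum A, d M = d (toMax 1) := by
    intro M
    obtain ⟨g, rfl⟩ := htoMax.2 M
    refine (Ideal.quotientEquivAlg _ _ (te g) ?_).toLinearEquiv.finrank_eq
    rw [Ideal.map_pow]
    congr 1
    show RingHom.ker (1 : G).ofConv = Ideal.map _ (RingHom.ker g.ofConv)
    ext a
    rw [Ideal.mem_map_iff_of_surjective ((te g : A ≃ₐ[k] A) : A →+* A) (te g).surjective]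
    have key : ∀ b, (1 : G).ofConv (te g b) = g.ofConv b := fun b => by
      have := congrArg (fun f : G => f.ofConv b) (htr g 1)
      simp only [one_mul] at this
      exact this
    constructor
    · intro ha
      refine ⟨(te g).symm a, ?_, (te g).apply_symm_apply a⟩
      rw [RingHom.mem_ker, ← key, AlgEquiv.apply_symm_apply]
      exact ha
    · rintro ⟨b, hb, rfl⟩
      exact (key b).trans hb
  have hsum : p = Fintype.card G * d (toMax 1) := by
    rw [← hA]
    have e := (IsArtinianRing.quotNilradicalPowEquivPi (R := A) N).restrictScalars k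
    have e0 : (A ⧸ nilradical A ^ N) ≃ₐ[k] A :=
      (Ideal.quotientEquivAlgOfEq k (by rw [hN]; rfl)).trans (AlgEquiv.quotientBot k A)
    rw [← e0.toLinearEquiv.finrank_eq, e.toLinearEquiv.finrank_eq, Module.finrank_pi_fintype]
    simp only [d] at hd
    simp only [hd, Finset.sum_const, Finset.card_univ, smul_eq_mul, d]
    rw [Fintype.card_congr (Equiv.ofBijective toMax htoMax)]
  rcases (Nat.dvd_prime hp).mp ⟨_, hsum⟩ with h1 | hG
  · -- one point: local
    haveI : Subsingleton G := Fintype.card_le_one_iff_subsingleton.mp h1.le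
    have hloc : ∀ a : A, Coalgebra.counit (R := k) a = 0 → IsNilpotent a := by
      intro a ha
      rw [← mem_nilradical, nilradical_eq_sInf, Ideal.mem_sInf]
      intro J hJ
      haveI : J.IsPrime := hJ
      obtain ⟨g, hg⟩ := htoMax.2 ⟨J, IsArtinianRing.isMaximal_of_isPrime J⟩
      rw [← show RingHom.ker g.ofConv = J from congrArg MaximalSpectrum.asIdeal hg, Subsingleton.elim g 1]
      show Algebra.ofId k k (Bialgebra.counitAlgHom k A a) = 0
      rw [show Bialgebra.counitAlgHom k A a = 0 from ha, map_zero]
    let m := RingHom.ker (Bialgebra.counitAlgHom k A)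
    obtain ⟨y₀, x, hy₁, hy₂, hx0, hx⟩ : ∃ (y₀ : Module.Dual k A) (x : A),
        y₀ 1 = 0 ∧ (∀ z ∈ m * m, y₀ z = 0) ∧ x ∈ m ∧ y₀ x = 1 := by
      have hlt : ∃ x ∈ m, x ∉ Submodule.span k {(1 : A)} ⊔ (m * m).restrictScalars k := by
        by_contra hcon
        push Not at hcon
        have hle : m ≤ m * m := by
          intro a ha
          obtain ⟨b, hb, c, hc, rfl⟩ := Submodule.mem_sup.mp (hcon a ha)
          obtain ⟨r, rfl⟩ := Submodule.mem_span_singleton.mp hb
          replace hc : c ∈ m * m := hc
          have hc' : Bialgebra.counitAlgHom k A c = 0 := Ideal.mul_le_right (I := m) (J := m) hc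
          have : Bialgebra.counitAlgHom k A (r • 1 + c) = 0 := ha
          simp only [map_add, map_smul, map_one, hc', add_zero, smul_eq_mul, _root_.mul_one] at this
          rw [this, zero_smul, zero_add]
          exact hc
        have hmm : ∀ n : ℕ, m ≤ m ^ (n + 1) := by
          intro n
          induction n with
          | zero => simp
          | succ n ih =>
            rw [pow_succ]
            exact hle.trans (Ideal.mul_mono ih le_rfl)
        have hmN : m ^ (N + 1) = ⊥ := by
          have hm : m ≤ nilradical A := fun a ha => hloc a ha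
          refine le_bot_iff.mp ((Ideal.pow_right_mono hm (N + 1)).trans ?_)
          rw [pow_succ, hN]
          simp
        have hm0 : ∀ a ∈ m, a = 0 := fun a ha => (Submodule.mem_bot A).mp (hmN ▸ hmm N ha)
        have hsurj : Function.Surjective (Algebra.linearMap k A) := fun a => ⟨Bialgebra.counitAlgHom k A a, by
          have := hm0 (a - algebraMap k A (Bialgebra.counitAlgHom k A a)) (by simp [m, RingHom.mem_ker])
          rw [sub_eq_zero] at this
          exact this.symm⟩
        have := LinearMap.finrank_le_finrank_of_injective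
          (f := (Algebra.linearMap k A).dualMap) (LinearMap.dualMap_injective_of_surjective hsurj)
        rw [Subspace.dual_finrank_eq, Subspace.dual_finrank_eq, hA, Module.finrank_self] at this
        exact absurd this (not_le.mpr hp.one_lt)
      obtain ⟨x, hxm, hx⟩ := hlt
      obtain ⟨φ, hφx, hφ⟩ := Submodule.exists_dual_map_eq_bot_of_notMem hx inferInstance
      have hφ' : ∀ z ∈ Submodule.span k {(1 : A)} ⊔ (m * m).restrictScalars k, φ z = 0 := fun z hz => by
        have : φ z ∈ (⊥ : Submodule k k) := hφ ▸ ⟨z, hz, rfl⟩
        simpa using this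
      refine ⟨(φ x)⁻¹ • φ, x, ?_, fun z hz => ?_, hxm, ?_⟩
      · simp [hφ' 1 (Submodule.mem_sup_left (Submodule.mem_span_singleton_self 1))]
      · simp [hφ' z (Submodule.mem_sup_right hz)]
      · simp [inv_mul_cancel₀ hφx]
    let y : CartDual.D k A := toConv y₀
    have hy : ∀ a b, y.ofConv (a * b) =
        Coalgebra.counit (R := k) a * y.ofConv b + Coalgebra.counit (R := k) b * y.ofConv a := by
      intro a b
      let ca := Bialgebra.counitAlgHom k A a
      let cb := Bialgebra.counitAlgHom k A b
      have hmem : (a - ca • 1) * (b - cb • 1) ∈ m * m :=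
        Ideal.mul_mem_mul (by simp [m, ca, RingHom.mem_ker]) (by simp [m, cb, RingHom.mem_ker])
      have h := hy₂ _ hmem
      rw [show (a - ca • (1 : A)) * (b - cb • 1) = a * b - ca • b - cb • a + (ca * cb) • 1 by
        simp only [Algebra.smul_def, map_mul]; ring] at h
      simp only [map_add, map_sub, map_smul, hy₁, smul_eq_mul, mul_zero, add_zero] at h
      show y₀ (a * b) = ca * y₀ b + cb * y₀ a
      linear_combination h
    exact Or.inl ⟨y, x, hy, hx0, hx, hA ▸ natCast_finrank_eq_zero_of_deriv hloc hy hx⟩
  · exact Or.inr (by rw [Nat.card_eq_fintype_card, hG])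

/-- The dual algebra of a group scheme of prime order over an algebraically closed field is monogenic. -/
theorem exists_adjoin_eq_top_of_finrank_prime [IsAlgClosed k] [Module.Finite k A] {p : ℕ} (hp : p.Prime)
    (hA : Module.finrank k A = p) : ∃ y : CartDual.D k A, Algebra.adjoin k ({y} : Set (CartDual.D k A)) = ⊤ := by
  classical
  let G := WithConv (A →ₐ[k] k)
  rcases deriv_or_card_points_of_finrank_prime hp hA with ⟨y, x, hy, hx0, hx, hchar⟩ | hG
  · -- infinitesimal
    haveI : CharP k p := (CharP.charP_iff_prime_eq_zero hp).mpr hchar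
    have hfac : ∀ i : Fin p, ((i : ℕ).factorial : k) ≠ 0 := fun i => by
      rw [Ne, CharP.cast_eq_zero_iff k p, hp.dvd_factorial]
      exact not_le.mpr i.2
    refine ⟨y, ?_⟩
    have hli := linearIndependent_pow_of_deriv hy hx hx0 hfac
    have hfr : Module.finrank k (CartDual.D k A) = p := by
      rw [(CartDual.toDual k A).finrank_eq, Subspace.dual_finrank_eq, hA]
    haveI : Nonempty (Fin p) := ⟨⟨0, hp.pos⟩⟩
    have htop := hli.span_eq_top_of_card_eq_finrank (by rw [Fintype.card_fin, hfr])
    rw [eq_top_iff]
    intro z _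
    have : z ∈ Submodule.span k (Set.range fun i : Fin p => y ^ (i : ℕ)) := htop ▸ Submodule.mem_top
    refine Submodule.span_le (p := (Algebra.adjoin k {y}).toSubmodule) |>.mpr ?_ this
    rintro _ ⟨i, rfl⟩
    exact SetLike.mem_coe.mpr (Subalgebra.pow_mem _ (Algebra.subset_adjoin (Set.mem_singleton y)) _)
  · -- p points: constant
    haveI : Finite G := Nat.finite_of_card_ne_zero (by rw [hG]; exact hp.ne_zero)
    haveI : Fintype G := Fintype.ofFinite G
    haveI : Fact p.Prime := ⟨hp⟩
    haveI : IsCyclic G := isCyclic_of_prime_card (p := p) hG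
    obtain ⟨g₀, hg₀⟩ := IsCyclic.exists_generator (α := G)
    let φ : G →* CartDual.D k A :=
      { toFun := fun g => toConv g.ofConv.toLinearMap
        map_one' := AlgHom.toLinearMap_convOne
        map_mul' := fun g h => AlgHom.toLinearMap_convMul g h }
    have hli : LinearIndependent k (fun g : G => φ g) := by
      have h := (linearIndependent_monoidHom A k).comp (fun g : G => (g.ofConv : A →* k))
        (fun g h e => WithConv.ofConv_injective (AlgHom.ext fun a => DFunLike.congr_fun e a))
      rw [Fintype.linearIndependent_iff] at h ⊢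
      intro c hc
      refine h c (funext fun a => ?_)
      have := congrArg (fun z : CartDual.D k A => z.ofConv a) hc
      simpa [φ] using this
    have hfr : Module.finrank k (CartDual.D k A) = p := by
      rw [(CartDual.toDual k A).finrank_eq, Subspace.dual_finrank_eq, hA]
    have htop := hli.span_eq_top_of_card_eq_finrank (by rw [← Nat.card_eq_fintype_card, hG, hfr])
    refine ⟨φ g₀, ?_⟩
    rw [eq_top_iff]
    intro z _
    have : z ∈ Submodule.span k (Set.range fun g : G => φ g) := htop ▸ Submodule.mem_top
    refine Submodule.span_le (p := (Algebra.adjoin k {φ g₀}).toSubmodule) |>.mpr ?_ this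
    rintro _ ⟨g, rfl⟩
    obtain ⟨n, rfl⟩ := (mem_powers_iff_mem_zpowers.mpr (hg₀ g) : g ∈ Submonoid.powers g₀)
    show φ (g₀ ^ n) ∈ _
    rw [map_pow]
    exact SetLike.mem_coe.mpr (Subalgebra.pow_mem _ (Algebra.subset_adjoin (Set.mem_singleton (φ g₀))) _)

end Groth.Agent.GrpSchLib
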