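import Groth.Agent.AlgSpDec.ActQuotient
import Groth.Agent.GrpSchLib.GenQuot
import Groth.Agent.S5236
import Groth.Prelude.Def_RedSub

/-! The quotient of an algebraic group by a finite radicial normal subgroup, over any field. -/

set_option autoImplicit false
set_option backward.isDefEq.respectTransparency false
set_option backward.isDefEq.respectTransparency.types false
set_option linter.style.haveILetI false

universe u

open CategoryTheory Limits AlgebraicGeometry MonoidalCategory CartesianMonoidalCategory MonObj GrpObj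

namespace Groth.Agent.GrpSchLib.RadicialQuot

open GenQuot

variable {k : Type u} [Field k] {G N : Over (Spec (CommRingCat.of k))} [GrpObj G] [GrpObj N]

/-- Right translation by the inverse, as a left action. -/
noncomputable def action (h : N ⟶ G) [IsMonHom h] : AlgGrp.Action N G where
  act := snd N G * (fst N G ≫ h)⁻¹
  one_act := by
    simp [MonObj.comp_mul, GrpObj.comp_inv]
    simp [← Hom.one_def, MonObj.one_eq_one, MonObj.comp_one]
    exact (CartesianMonoidalCategory.leftUnitor_hom G).symm
  mul_act := by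
    rw [MonObj.comp_mul, GrpObj.comp_inv, whiskerRight_snd, whiskerRight_fst_assoc, MonObj.comp_mul,
      GrpObj.comp_inv, MonObj.comp_mul, GrpObj.comp_inv, whiskerLeft_snd, whiskerLeft_fst_assoc]
    have e1 : μ[N] = fst N N * snd N N := MonObj.mul_eq_mul N
    rw [e1, MonObj.mul_comp, MonObj.comp_mul, MonObj.comp_mul, GrpObj.comp_inv]
    simp [_root_.mul_inv_rev, _root_.mul_assoc, Category.assoc, MonObj.comp_mul, GrpObj.comp_inv]

theorem lift_action (h : N ⟶ G) [IsMonHom h] {T : Over (Spec (CommRingCat.of k))} (n : T ⟶ N) (g : T ⟶ G) :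
    lift n g ≫ (action h).act = g * (n ≫ h)⁻¹ := by
  simp [action, MonObj.comp_mul, GrpObj.comp_inv]

/-- The quotient by a finite radicial normal subgroup. -/
theorem exists_quot [LocallyOfFiniteType G.hom] [QuasiCompact G.hom] (h : N ⟶ G) [IsMonHom h] [Mono h]
    [IsFinite N.hom] [UniversallyInjective N.hom] (hN : AlgGrp.IsNormalHom h) :
    ∃ (Q : Over (Spec (CommRingCat.of k))) (_ : GrpObj Q) (q : G ⟶ Q), IsMonHom q ∧ Surjective q.left ∧
      Flat q.left ∧ LocallyOfFinitePresentation q.left ∧ LocallyOfFiniteType Q.hom ∧ QuasiCompact Q.hom ∧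
      IsSeparated Q.hom ∧ AlgGrp.IsKernel h q ∧ RedSub.IsQuotient h q := by
  let a := action h
  have hfree : ∀ (T : Over (Spec (CommRingCat.of k))) (n : T ⟶ N) (g : T ⟶ G), lift n g ≫ a.act = g →
      n = toUnit T ≫ η[N] := fun T n g e => by
    rw [lift_action, mul_eq_left, inv_eq_one] at e
    rw [← cancel_mono h, e, Category.assoc, IsMonHom.one_hom]
    exact Hom.one_def
  haveI : LocallyOfFinitePresentation N.hom := LocallyOfFinitePresentation.iff_locallyOfFiniteType.2 inferInstance
  have hfl : Mor2.IsFinLocFree N.hom := ⟨inferInstance, inferInstance, inferInstance⟩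
  have hs : Mor2.IsFinLocFree (AlgSpDec.ActGroupoid.gpd a).s :=
    ⟨MorphismProperty.pullback_snd (P := @IsFinite) _ _ hfl.1,
      MorphismProperty.pullback_snd (P := @Flat) _ _ hfl.2.1,
      MorphismProperty.pullback_snd (P := @LocallyOfFinitePresentation) _ _ hfl.2.2⟩
  obtain ⟨Q, m, hm, hsurj, hpb, -⟩ := AlgSpDec.FinLocFreeQuot.exists_quotient (AlgSpDec.ActGroupoid.gpd a) hs
    (AlgSpDec.ActQuotient.isEqvRel a hfree)
    (fun Z _ ⟨z, hz⟩ => ⟨z, hz, AlgSpDec.ActQuotient.exists_affine_class a hfl (Or.inr (Or.inr inferInstance)) z⟩)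
  let q : G ⟶ Q := m
  haveI : Surjective q.left := hsurj
  haveI : Flat q.left := hm.2.1
  haveI : LocallyOfFinitePresentation q.left := hm.2.2
  have sqL : IsPullback a.act.left (snd N G).left q.left q.left := hpb
  have sqA : IsPullback a.act (snd N G) q q :=
    IsPullback.of_map (Over.forget _) (Over.OverMorphism.ext sqL.w) sqL
  let θ : G ⊗ N ≅ N ⊗ G :=
    { hom := lift (snd G N)⁻¹ (fst G N)
      inv := lift (snd N G) (fst N G)⁻¹
      hom_inv_id := by
        apply CartesianMonoidalCategory.hom_ext <;> simp [GrpObj.comp_inv]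
      inv_hom_id := by
        apply CartesianMonoidalCategory.hom_ext <;> simp [GrpObj.comp_inv] }
  have sq : IsPullback (act h) (fst G N) q q := by
    refine sqA.of_iso θ.symm (Iso.refl _) (Iso.refl _) (Iso.refl _) ?_ ?_ (by simp) (by simp)
    · rw [Iso.refl_hom, Category.comp_id, comp_act, Iso.symm_hom]
      show _ = (lift (snd N G) (fst N G)⁻¹ ≫ fst G N) * (lift (snd N G) (fst N G)⁻¹ ≫ snd G N ≫ h)
      rw [lift_fst, lift_snd_assoc, GrpObj.inv_comp]
      rfl
    · rw [Iso.refl_hom, Category.comp_id, Iso.symm_hom]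
      exact (lift_fst _ _).symm
  have hq' : RedSub.IsQuotient h q := ⟨‹_›, ‹_›, ‹_›, sq.flip⟩
  obtain ⟨grp, hqm, -⟩ := S5236.result h hN q hq'
  haveI : LocallyOfFinitePresentation G.hom := LocallyOfFinitePresentation.iff_locallyOfFiniteType.2 ‹_›
  haveI : LocallyOfFinitePresentation (q.left ≫ Q.hom) := by rw [Over.w q]; infer_instance
  haveI : LocallyOfFinitePresentation Q.hom :=
    Groth.Agent.SrcDescent.locallyOfFinitePresentation_of_fppf_comp q.left Q.hom
  haveI : CompactSpace ↥G.left := QuasiCompact.compactSpace_of_compactSpace G.hom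
  haveI : CompactSpace ↥Q.left := q.left.surjective.compactSpace q.left.continuous
  have hqc : QuasiCompact Q.hom := HasAffineProperty.iff_of_isAffine.2 ‹_›
  refine ⟨Q, grp, q, hqm, ‹_›, ‹_›, ‹_›, inferInstance, hqc, AntiAffine.isSeparated_grp Q, ?_, hq'⟩
  have hleft : IsPullback (lift (toUnit N ≫ η[G]) (𝟙 N)) (toUnit N) (fst G N) η[G] :=
    ⟨⟨lift_fst _ _⟩, ⟨PullbackCone.IsLimit.mk _ (fun c => c.fst ≫ snd G N)
      (fun c => by
        apply CartesianMonoidalCategory.hom_ext
        · rw [Category.assoc, lift_fst, c.condition, ← Category.assoc, comp_toUnit,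
            toUnit_unique c.snd (toUnit _)]
        · rw [Category.assoc, lift_snd, Category.comp_id])
      (fun c => toUnit_unique _ _)
      (fun c m h₁ _ => by rw [← h₁, Category.assoc, lift_snd, Category.comp_id])⟩⟩
  have e := hleft.paste_horiz sq
  rw [comp_act, lift_fst, lift_snd_assoc, Category.id_comp, ← Hom.one_def, _root_.one_mul,
    IsMonHom.one_hom] at e
  exact e

end Groth.Agent.GrpSchLib.RadicialQuot
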