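import Groth.Agent.GrpSchLib.GaPts

/-! The rank-one commutation rule, pointwise: computations in a group with two additive subgroups. -/

set_option autoImplicit false

universe u

open CategoryTheory AlgebraicGeometry MonoidalCategory CartesianMonoidalCategory
open scoped MonObj

namespace Groth.Agent.GrpSchLib.RankOne

/-- Pointwise data of a rank-one system satisfying the commutation rule. -/
structure Sys (R G T : Type*) [CommRing R] [Group G] [Group T] where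
  p : R → G
  m : R → G
  I : T →* G
  a : T →* Rˣ
  av : Rˣ →* T
  p_add : ∀ x y, p (x + y) = p x * p y
  m_add : ∀ x y, m (x + y) = m x * m y
  conj_p : ∀ t x, I t * p x * (I t)⁻¹ = p (a t * x)
  conj_m : ∀ t y, I t * m y * (I t)⁻¹ = m (((a t)⁻¹ : Rˣ) * y)
  a_av : ∀ v, a (av v) = v ^ 2
  rule : ∀ (x y : R) (u : Rˣ), (u : R) = 1 + x * y →
    p x * m y = m (((u⁻¹ : Rˣ) : R) * y) * I (av u) * p (((u⁻¹ : Rˣ) : R) * x)

namespace Sys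

variable {R G T : Type*} [CommRing R] [Group G] [Group T] (Φ : Sys R G T)

@[simp] theorem p_zero : Φ.p 0 = 1 := by simpa using Φ.p_add 0 0

@[simp] theorem m_zero : Φ.m 0 = 1 := by simpa using Φ.m_add 0 0

theorem p_neg (x : R) : Φ.p (-x) = (Φ.p x)⁻¹ := by
  rw [eq_inv_iff_mul_eq_one, ← Φ.p_add, neg_add_cancel, p_zero]

theorem m_neg (x : R) : Φ.m (-x) = (Φ.m x)⁻¹ := by
  rw [eq_inv_iff_mul_eq_one, ← Φ.m_add, neg_add_cancel, m_zero]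

theorem I_mul_p (t : T) (x : R) : Φ.I t * Φ.p x = Φ.p (Φ.a t * x) * Φ.I t := by
  rw [← Φ.conj_p, inv_mul_cancel_right]

theorem I_mul_m (t : T) (y : R) : Φ.I t * Φ.m y = Φ.m (((Φ.a t)⁻¹ : Rˣ) * y) * Φ.I t := by
  rw [← Φ.conj_m, inv_mul_cancel_right]

theorem p_mul_I (t : T) (x : R) : Φ.p x * Φ.I t = Φ.I t * Φ.p (((Φ.a t)⁻¹ : Rˣ) * x) := by
  rw [I_mul_p, Units.mul_inv_cancel_left]

/-- The rule for the opposite root. -/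
theorem rule_rev (x y : R) (u : Rˣ) (hu : (u : R) = 1 + x * y) :
    Φ.m y * Φ.p x = Φ.p (((u⁻¹ : Rˣ) : R) * x) * (Φ.I (Φ.av u))⁻¹ * Φ.m (((u⁻¹ : Rˣ) : R) * y) := by
  have h := congrArg (·⁻¹) (Φ.rule (-x) (-y) u (by rw [hu]; ring))
  simp only [mul_inv_rev, mul_neg, p_neg, m_neg, inv_inv] at h
  rw [h, mul_assoc]

theorem bigCell_mul (x y x' y' : R) (t t' : T) (u : Rˣ) (hu : (u : R) = 1 + x * y') :
    (Φ.m y * Φ.I t * Φ.p x) * (Φ.m y' * Φ.I t' * Φ.p x') =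
      Φ.m (y + ((Φ.a t)⁻¹ : Rˣ) * (((u⁻¹ : Rˣ) : R) * y')) * Φ.I (t * Φ.av u * t') *
        Φ.p (((Φ.a t')⁻¹ : Rˣ) * (((u⁻¹ : Rˣ) : R) * x) + x') := by
  rw [Φ.m_add, Φ.p_add, map_mul, map_mul]
  calc (Φ.m y * Φ.I t * Φ.p x) * (Φ.m y' * Φ.I t' * Φ.p x')
      = Φ.m y * Φ.I t * (Φ.p x * Φ.m y') * Φ.I t' * Φ.p x' := by group
    _ = Φ.m y * (Φ.I t * Φ.m (((u⁻¹ : Rˣ) : R) * y')) * Φ.I (Φ.av u) *
          (Φ.p (((u⁻¹ : Rˣ) : R) * x) * Φ.I t') * Φ.p x' := by rw [Φ.rule x y' u hu]; group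
    _ = _ := by rw [I_mul_m, p_mul_I]; group

theorem I_av_eq (z : Rˣ) :
    Φ.I (Φ.av z) = Φ.m (((z⁻¹ : Rˣ) : R) - 1) * Φ.p 1 * Φ.m ((z : R) - 1) * Φ.p (-((z⁻¹ : Rˣ) : R)) := by
  rw [mul_assoc (Φ.m _), Φ.rule 1 ((z : R) - 1) z (by ring), mul_one, p_neg, ← mul_assoc, ← mul_assoc,
    mul_inv_cancel_right, ← Φ.m_add, mul_sub, mul_one, Units.inv_mul, sub_add_sub_cancel, sub_self, m_zero, one_mul]

/-- The Weyl element of an invertible `x`. -/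
def w (x : Rˣ) : G := Φ.p x * Φ.m (-((x⁻¹ : Rˣ) : R)) * Φ.p x

theorem w_neg (x : Rˣ) : Φ.w (-x) = (Φ.w x)⁻¹ := by
  simp only [w, inv_neg, Units.val_neg, neg_neg, p_neg, m_neg, mul_inv_rev, mul_assoc, inv_inv]

theorem w_mul (z x : Rˣ) : Φ.w (z * x) = Φ.I (Φ.av z) * Φ.w x := by
  have hu : (z : R) = 1 + ((z : R) * x - x) * ((x⁻¹ : Rˣ) : R) := by
    rw [sub_mul, Units.mul_inv_cancel_right, Units.mul_inv]; ring
  refine eq_mul_of_mul_inv_eq ?_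
  rw [← w_neg]
  have h1 : Φ.p ((z : R) * x) * Φ.p (-(x : R)) = Φ.p ((z : R) * x - x) := by
    rw [← Φ.p_add, sub_eq_add_neg]
  calc Φ.w (z * x) * Φ.w (-x)
      = Φ.p ((z : R) * x) * Φ.m (-((((z * x)⁻¹ : Rˣ)) : R)) * (Φ.p ((z : R) * x) * Φ.p (-(x : R))) *
          Φ.m ((x⁻¹ : Rˣ) : R) * Φ.p (-(x : R)) := by
        simp only [w, Units.val_mul, Units.val_neg, inv_neg, neg_neg, mul_assoc]
    _ = Φ.p ((z : R) * x) * (Φ.m (-((((z * x)⁻¹ : Rˣ)) : R)) *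
          Φ.m (((z⁻¹ : Rˣ) : R) * ((x⁻¹ : Rˣ) : R))) * Φ.I (Φ.av z) *
          (Φ.p (((z⁻¹ : Rˣ) : R) * ((z : R) * x - x)) * Φ.p (-(x : R))) := by
        rw [h1, mul_assoc (Φ.p ((z : R) * x) * _), Φ.rule _ _ z hu]; group
    _ = _ := by
        rw [← Φ.m_add, ← Φ.p_add, mul_inv_rev, Units.val_mul, mul_comm ((x⁻¹ : Rˣ) : R), neg_add_cancel, m_zero,
          _root_.mul_one, p_mul_I, _root_.mul_assoc, ← Φ.p_add, Φ.a_av]
        rw [show (((z ^ 2)⁻¹ : Rˣ) : R) * ((z : R) * x) + (((z⁻¹ : Rˣ) : R) * ((z : R) * x - x) + -(x : R)) = 0 by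
          rw [← inv_pow, Units.val_pow_eq_pow_val]
          linear_combination (((z⁻¹ : Rˣ) : R) * x + x) * (Units.inv_mul z)]
        simp

theorem w_conj (x : Rˣ) (t : T) : Φ.w x * Φ.I t * (Φ.w x)⁻¹ = (Φ.I (Φ.av (Φ.a t)))⁻¹ * Φ.I t := by
  have h : Φ.I t * Φ.w x * (Φ.I t)⁻¹ = Φ.I (Φ.av (Φ.a t)) * Φ.w x := by
    rw [← w_mul]
    calc Φ.I t * Φ.w x * (Φ.I t)⁻¹ = (Φ.I t * Φ.p x * (Φ.I t)⁻¹) * (Φ.I t * Φ.m (-((x⁻¹ : Rˣ) : R)) * (Φ.I t)⁻¹) *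
          (Φ.I t * Φ.p x * (Φ.I t)⁻¹) := by simp only [w]; group
      _ = _ := by rw [Φ.conj_p, Φ.conj_m]; simp [w, mul_comm]
  calc Φ.w x * Φ.I t * (Φ.w x)⁻¹
      = (Φ.I (Φ.av (Φ.a t)))⁻¹ * (Φ.I (Φ.av (Φ.a t)) * Φ.w x) * Φ.I t * (Φ.w x)⁻¹ := by group
    _ = (Φ.I (Φ.av (Φ.a t)))⁻¹ * Φ.I t := by rw [← h]; group

theorem w_mul_right (z x : Rˣ) : Φ.w (z * x) = Φ.w x * (Φ.I (Φ.av z))⁻¹ := by
  have h := Φ.w_conj x (Φ.av z)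
  rw [Φ.a_av, map_pow, map_pow, pow_two, mul_inv_rev, inv_mul_cancel_right] at h
  rw [w_mul, eq_mul_inv_iff_mul_eq, mul_assoc, mul_inv_eq_iff_eq_mul.mp h, mul_inv_cancel_left]

theorem w_mul_w (x y : Rˣ) : Φ.w x * Φ.w y = Φ.I (Φ.av (-(x * y⁻¹))) := by
  have h : Φ.w y = Φ.w (-x) * (Φ.I (Φ.av (-(y * x⁻¹))))⁻¹ := by
    rw [← w_mul_right, neg_mul, mul_neg, neg_neg, inv_mul_cancel_right]
  rw [h, w_neg, mul_inv_cancel_left, ← map_inv, ← map_inv, inv_neg, mul_inv_rev, inv_inv]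

theorem w_sq (x : Rˣ) : Φ.w x ^ 2 = Φ.I (Φ.av (-1)) := by
  rw [pow_two, w_mul_w, mul_inv_cancel]

end Sys

variable {S : Scheme.{u}} {G T : Over S} [GrpObj G] [GrpObj T]

open GaPts in
/-- The points of a rank-one system. -/
noncomputable def sys (i : T ⟶ G) [IsMonHom i] (α : T ⟶ Red.Gm S) [IsMonHom α]
    (pp pm : Red.Ga S ⟶ G) [IsMonHom pp] [IsMonHom pm]
    (hpp : ∀ (X : Over S) (t : X ⟶ T) (x : X ⟶ Red.Ga S), ∃ x' : X ⟶ Red.Ga S,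
      x' ≫ pp = (t ≫ i) * (x ≫ pp) * (t ≫ i)⁻¹ ∧ Red.gaFn x' = Red.gmFn (t ≫ α) * Red.gaFn x)
    (hpm : ∀ (X : Over S) (t : X ⟶ T) (y : X ⟶ Red.Ga S), ∃ y' : X ⟶ Red.Ga S,
      y' ≫ pm = (t ≫ i) * (y ≫ pm) * (t ≫ i)⁻¹ ∧ Red.gaFn y' * Red.gmFn (t ≫ α) = Red.gaFn y)
    (av : Red.Gm S ⟶ T) [IsMonHom av] (h2 : av ≫ α = (𝟙 (Red.Gm S)) ^ 2)
    (hF : ∀ (X : Over S) (x y : X ⟶ Red.Ga S), IsUnit (1 + Red.gaFn x * Red.gaFn y) →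
      ∃ (x' y' : X ⟶ Red.Ga S) (z : X ⟶ Red.Gm S), Red.gmFn z = 1 + Red.gaFn x * Red.gaFn y ∧
        Red.gaFn x' * Red.gmFn z = Red.gaFn x ∧ Red.gaFn y' * Red.gmFn z = Red.gaFn y ∧
        (x ≫ pp) * (y ≫ pm) = (y' ≫ pm) * (z ≫ av ≫ i) * (x' ≫ pp))
    (X : Over S) : Sys Γ(X.left, ⊤) (X ⟶ G) (X ⟶ T) where
  p v := ptOfFn v ≫ pp
  m v := ptOfFn v ≫ pm
  I := { toFun := fun t => t ≫ i, map_one' := MonObj.one_comp i, map_mul' := fun t t' => MonObj.mul_comp t t' i }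
  a := MonoidHom.mk' (fun t => GmPts.unitOfPt (t ≫ α)) fun t t' => by rw [MonObj.mul_comp t t' α, GmPts.unitOfPt_mul]
  av := MonoidHom.mk' (fun v => GmPts.ptOfUnit v ≫ av) fun v w => by rw [GmPts.ptOfUnit_mul, MonObj.mul_comp]
  p_add x y := by
    rw [← MonObj.mul_comp _ _ pp]
    exact congrArg (· ≫ pp) (gaFn_injective (by simp only [gaFn_mul, gaFn_ptOfFn]))
  m_add x y := by
    rw [← MonObj.mul_comp _ _ pm]
    exact congrArg (· ≫ pm) (gaFn_injective (by simp only [gaFn_mul, gaFn_ptOfFn]))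
  conj_p t x := by
    obtain ⟨x', h1, h3⟩ := hpp X t (ptOfFn x)
    rw [gaFn_ptOfFn] at h3
    refine h1.symm.trans (congrArg (· ≫ pp) (gaFn_injective ?_))
    simp only [gaFn_ptOfFn, h3]
    rfl
  conj_m t y := by
    obtain ⟨y', h1, h3⟩ := hpm X t (ptOfFn y)
    rw [gaFn_ptOfFn] at h3
    refine h1.symm.trans (congrArg (· ≫ pm) (gaFn_injective ?_))
    simp only [gaFn_ptOfFn]
    rw [← h3]
    show _ = _ * (_ * (GmPts.unitOfPt (t ≫ α) : Γ(X.left, ⊤)))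
    rw [mul_comm (Red.gaFn y')]
    exact (Units.inv_mul_cancel_left _ _).symm
  a_av v := by
    show GmPts.unitOfPt ((GmPts.ptOfUnit v ≫ av) ≫ α) = v ^ 2
    rw [Category.assoc, h2, MonObj.comp_pow, Category.comp_id, pow_two, GmPts.unitOfPt_mul,
      GmPts.unitOfPt_ptOfUnit, pow_two]
  rule x y u hu := by
    obtain ⟨x', y', z, hz, hx, hy, h⟩ := hF X (ptOfFn x) (ptOfFn y) (by simp [gaFn_ptOfFn, ← hu])
    rw [gaFn_ptOfFn] at hx hy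
    rw [gaFn_ptOfFn, gaFn_ptOfFn, ← hu] at hz
    obtain rfl : z = GmPts.ptOfUnit u := GmPts.gmFn_injective (hz.trans (GmPts.gmFn_ptOfUnit u).symm)
    rw [GmPts.gmFn_ptOfUnit] at hx hy
    obtain rfl : x' = ptOfFn (((u⁻¹ : _ˣ) : Γ(X.left, ⊤)) * x) := gaFn_injective (by
      simp only [gaFn_ptOfFn, ← hx, mul_comm _ (u : Γ(X.left, ⊤)), Units.inv_mul_cancel_left])
    obtain rfl : y' = ptOfFn (((u⁻¹ : _ˣ) : Γ(X.left, ⊤)) * y) := gaFn_injective (by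
      simp only [gaFn_ptOfFn, ← hy, mul_comm _ (u : Γ(X.left, ⊤)), Units.inv_mul_cancel_left])
    refine h.trans ?_
    simp [Category.assoc]

end Groth.Agent.GrpSchLib.RankOne
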