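import Groth.Agent.GrpSchLib.RankOne
import Mathlib.AlgebraicGeometry.Morphisms.FlatDescent
import Mathlib.RingTheory.AdjoinRoot

/-! The braid relation in a rank-one system. -/

set_option autoImplicit false
set_option linter.style.haveILetI false

universe u

open CategoryTheory CategoryTheory.Limits AlgebraicGeometry MonoidalCategory CartesianMonoidalCategory
open scoped MonObj

namespace Groth.Agent.GrpSchLib.RankOne

namespace Sys

variable {R G T : Type*} [CommRing R] [Group G] [Group T] (Φ : Sys R G T)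

/-- The braid relation, in presence of a unit `s` with `1 - s` invertible. -/
theorem braid_of_unit (x : Rˣ) (s r : Rˣ) (hr : (r : R) = 1 - s) :
    Φ.m ((x⁻¹ : Rˣ) : R) * Φ.p (-(x : R)) * Φ.m ((x⁻¹ : Rˣ) : R) = Φ.w (-x) := by
  have hs : (s : R) = 1 - r := by rw [hr]; ring
  have h1 : Φ.p (-(x : R)) = Φ.p (-(s * x)) * Φ.p (-(r * x)) := by
    rw [← Φ.p_add, hr]; congr 1; ring
  have e1 := Φ.rule_rev (-(s * x : R)) ((x⁻¹ : Rˣ) : R) r (by rw [hr, neg_mul, Units.mul_inv_cancel_right]; ring)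
  have e2 := Φ.rule (-(r * x : R)) ((x⁻¹ : Rˣ) : R) s (by rw [hs, neg_mul, Units.mul_inv_cancel_right]; ring)
  rw [← map_inv, ← map_inv] at e1
  have key : Φ.w (-x) = Φ.w (-(x * (s * r⁻¹))) * Φ.I (Φ.av (s * r⁻¹)) := by
    rw [show -(x * (s * r⁻¹)) = (s * r⁻¹) * (-x) by rw [mul_neg, mul_comm], w_mul_right]; group
  calc Φ.m ((x⁻¹ : Rˣ) : R) * Φ.p (-(x : R)) * Φ.m ((x⁻¹ : Rˣ) : R)
      = (Φ.m ((x⁻¹ : Rˣ) : R) * Φ.p (-(s * x : R))) * (Φ.p (-(r * x : R)) * Φ.m ((x⁻¹ : Rˣ) : R)) := by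
        rw [h1]; group
    _ = Φ.p (((r⁻¹ : Rˣ) : R) * -(s * x)) * Φ.I (Φ.av r⁻¹) *
          (Φ.m (((r⁻¹ : Rˣ) : R) * ((x⁻¹ : Rˣ) : R)) * Φ.m (((s⁻¹ : Rˣ) : R) * ((x⁻¹ : Rˣ) : R))) *
          Φ.I (Φ.av s) * Φ.p (((s⁻¹ : Rˣ) : R) * -(r * x)) := by rw [e1, e2]; group
    _ = Φ.p (((r⁻¹ : Rˣ) : R) * -(s * x)) * (Φ.I (Φ.av r⁻¹) * Φ.m (((r⁻¹ : Rˣ) : R) * ((x⁻¹ : Rˣ) : R) + ((s⁻¹ : Rˣ) : R) * ((x⁻¹ : Rˣ) : R))) *
          Φ.I (Φ.av s) * Φ.p (((s⁻¹ : Rˣ) : R) * -(r * x)) := by rw [Φ.m_add]; group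
    _ = Φ.p (((r⁻¹ : Rˣ) : R) * -(s * x)) * Φ.m ((r : R) * ((s⁻¹ : Rˣ) : R) * ((x⁻¹ : Rˣ) : R)) *
          (Φ.I (Φ.av (s * r⁻¹)) * Φ.p (((s⁻¹ : Rˣ) : R) * -(r * x))) := by
        rw [I_mul_m, mul_comm s, map_mul, map_mul]
        have : (((Φ.a (Φ.av r⁻¹))⁻¹ : Rˣ) : R) * (((r⁻¹ : Rˣ) : R) * ((x⁻¹ : Rˣ) : R) + ((s⁻¹ : Rˣ) : R) * ((x⁻¹ : Rˣ) : R)) =
            (r : R) * ((s⁻¹ : Rˣ) : R) * ((x⁻¹ : Rˣ) : R) := by
          rw [Φ.a_av, ← inv_pow, inv_inv, Units.val_pow_eq_pow_val]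
          linear_combination (r : R) * ((x⁻¹ : Rˣ) : R) * r.mul_inv - (r : R) * ((x⁻¹ : Rˣ) : R) * s.mul_inv +
            (r : R) * ((s⁻¹ : Rˣ) : R) * ((x⁻¹ : Rˣ) : R) * hr
        rw [this]; group
    _ = Φ.p (((r⁻¹ : Rˣ) : R) * -(s * x)) * Φ.m ((r : R) * ((s⁻¹ : Rˣ) : R) * ((x⁻¹ : Rˣ) : R)) *
          Φ.p (((r⁻¹ : Rˣ) : R) * -(s * x)) * Φ.I (Φ.av (s * r⁻¹)) := by
        rw [I_mul_p, ← mul_assoc]
        congr 3
        rw [Φ.a_av, Units.val_pow_eq_pow_val, Units.val_mul]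
        linear_combination (-(s : R) * x * ((r⁻¹ : Rˣ) : R)) * ((s : R) * ((s⁻¹ : Rˣ) : R) * r.mul_inv + s.mul_inv)
    _ = _ := by
        rw [key]
        simp only [w, inv_neg, neg_neg, Units.val_neg, Units.val_mul, mul_inv_rev, inv_inv]
        congr 3
        all_goals (congr 1; ring)

end Sys

variable {S : Scheme.{u}} {G T : Over S} [GrpObj G] [GrpObj T]

theorem map_gaFn_ptOfFn {X X' : Over S} (f : X' ⟶ X) (v : Γ(X.left, ⊤)) :
    f ≫ (GaPts.ptOfFn v : X ⟶ Red.Ga S) = GaPts.ptOfFn (f.left.appTop v) :=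
  GaPts.gaFn_injective (by simp only [GaPts.gaFn_comp, GaPts.gaFn_ptOfFn])

/-- A cover on which some unit `s` has `1 - s` invertible. -/
theorem exists_cover (X : Over S) : ∃ (X' : Over S) (f : X' ⟶ X) (s r : (Γ(X'.left, ⊤))ˣ),
    Epi f ∧ (r : Γ(X'.left, ⊤)) = 1 - s := by
  let Z := ULift.{u} ℤ
  let P : Polynomial Z := Polynomial.X ^ 2 - Polynomial.X + 1
  have hP : P.Monic := by simp only [P]; monicity!
  let A := AdjoinRoot P
  haveI : Module.Free Z A := hP.free_adjoinRoot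
  haveI : Module.Finite Z A := hP.finite_adjoinRoot
  haveI : IsDomain Z := (ULift.ringEquiv : ULift.{u} ℤ ≃+* ℤ).toMulEquiv.isDomain ℤ
  haveI : Nontrivial A := AdjoinRoot.nontrivial P (by
    rw [show P.degree = 2 by simp only [P]; compute_degree!]; decide)
  let q : Spec (CommRingCat.of A) ⟶ Spec (CommRingCat.of Z) := Spec.map (CommRingCat.ofHom (algebraMap Z A))
  haveI : Module.FaithfullyFlat Z A := inferInstance
  haveI : Flat q := (Flat.SpecMap_iff (f := CommRingCat.ofHom (algebraMap Z A))).2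
    (RingHom.flat_algebraMap_iff.2 (inferInstanceAs (Module.Flat Z A)))
  haveI : Surjective q := ⟨(RingHom.FaithfullyFlat.iff_flat_and_comap_surjective.1
    (RingHom.faithfullyFlat_algebraMap_iff.2 ‹Module.FaithfullyFlat Z A›)).2⟩
  haveI : QuasiCompact q := inferInstance
  let g := specULiftZIsTerminal.from X.left
  let X' : Over S := Over.mk (pullback.fst g q ≫ X.hom)
  let f : X' ⟶ X := Over.homMk (pullback.fst g q) rfl
  haveI : Flat f.left := inferInstanceAs (Flat (pullback.fst g q))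
  haveI : Surjective f.left := inferInstanceAs (Surjective (pullback.fst g q))
  haveI : QuasiCompact f.left := inferInstanceAs (QuasiCompact (pullback.fst g q))
  haveI : Epi f.left := Flat.epi_of_flat_of_surjective f.left
  haveI : Epi f := (Over.forget S).epi_of_epi_map (inferInstanceAs (Epi f.left))
  let ρ : A →+* Γ(X'.left, ⊤) := ((Scheme.ΓSpecIso (CommRingCat.of A)).inv ≫ (pullback.snd g q).appTop).hom
  have hroot : (AdjoinRoot.root P) * (1 - AdjoinRoot.root P) = 1 := by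
    have h : AdjoinRoot.mk P (Polynomial.X ^ 2 - Polynomial.X + 1) = 0 := AdjoinRoot.mk_self
    simp only [map_add, map_sub, map_pow, map_one, AdjoinRoot.mk_X] at h
    linear_combination -h
  let s₀ : Aˣ := Units.mkOfMulEqOne _ _ hroot
  let r₀ : Aˣ := Units.mkOfMulEqOne _ _ ((mul_comm _ _).trans hroot)
  exact ⟨X', f, Units.map ρ.toMonoidHom s₀, Units.map ρ.toMonoidHom r₀, inferInstance,
    (map_sub ρ 1 (AdjoinRoot.root P)).trans (by rw [map_one]; rfl)⟩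

section

variable (i : T ⟶ G) [IsMonHom i] (α : T ⟶ Red.Gm S) [IsMonHom α]
    (pp pm : Red.Ga S ⟶ G) [IsMonHom pp] [IsMonHom pm]
    (hpp : ∀ (X : Over S) (t : X ⟶ T) (x : X ⟶ Red.Ga S), ∃ x' : X ⟶ Red.Ga S,
      x' ≫ pp = (t ≫ i) * (x ≫ pp) * (t ≫ i)⁻¹ ∧ Red.gaFn x' = Red.gmFn (t ≫ α) * Red.gaFn x)
    (hpm : ∀ (X : Over S) (t : X ⟶ T) (y : X ⟶ Red.Ga S), ∃ y' : X ⟶ Red.Ga S,
      y' ≫ pm = (t ≫ i) * (y ≫ pm) * (t ≫ i)⁻¹ ∧ Red.gaFn y' * Red.gmFn (t ≫ α) = Red.gaFn y)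
    (av : Red.Gm S ⟶ T) [IsMonHom av] (h2 : av ≫ α = (𝟙 (Red.Gm S)) ^ 2)
    (hF : ∀ (X : Over S) (x y : X ⟶ Red.Ga S), IsUnit (1 + Red.gaFn x * Red.gaFn y) →
      ∃ (x' y' : X ⟶ Red.Ga S) (z : X ⟶ Red.Gm S), Red.gmFn z = 1 + Red.gaFn x * Red.gaFn y ∧
        Red.gaFn x' * Red.gmFn z = Red.gaFn x ∧ Red.gaFn y' * Red.gmFn z = Red.gaFn y ∧
        (x ≫ pp) * (y ≫ pm) = (y' ≫ pm) * (z ≫ av ≫ i) * (x' ≫ pp))

/-- The braid relation on points. -/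
theorem braid (X : Over S) (x : (Γ(X.left, ⊤))ˣ) :
    (sys i α pp pm hpp hpm av h2 hF X).m ((x⁻¹ : _ˣ) : Γ(X.left, ⊤)) *
      (sys i α pp pm hpp hpm av h2 hF X).p (-(x : Γ(X.left, ⊤))) *
      (sys i α pp pm hpp hpm av h2 hF X).m ((x⁻¹ : _ˣ) : Γ(X.left, ⊤)) =
      (sys i α pp pm hpp hpm av h2 hF X).w (-x) := by
  obtain ⟨X', f, s, r, _, hr⟩ := exists_cover X
  rw [← cancel_epi f]
  have h := Sys.braid_of_unit (sys i α pp pm hpp hpm av h2 hF X') (Units.map f.left.appTop.hom.toMonoidHom x) s r hr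
  simp only [Sys.w, sys, MonObj.comp_mul, ← Category.assoc, map_gaFn_ptOfFn] at h ⊢
  convert h using 3 <;> simp

end

end Groth.Agent.GrpSchLib.RankOne
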