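import Groth.Agent.GrpSchLib.RankOneBase
import Mathlib.Algebra.Polynomial.Laurent
import Mathlib.Algebra.Polynomial.Expand
import Mathlib.Algebra.Polynomial.Roots
import Mathlib.FieldTheory.IsAlgClosed.AlgebraicClosure

/-! The big cell of a rank-one system and morphisms into it equivariant for a cocharacter. -/

set_option autoImplicit false
set_option linter.style.haveILetI false

universe u

open CategoryTheory CategoryTheory.Limits AlgebraicGeometry MonoidalCategory CartesianMonoidalCategory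
open scoped MonObj Polynomial

noncomputable section

namespace Groth.Agent.GrpSchLib.RankOne

variable {S : Scheme.{u}} {G T : Over S} [GrpObj G] (i : T ⟶ G) (pp pm : Red.Ga S ⟶ G)

/-- The cell map. -/
abbrev cellMap : (Red.Ga S ⊗ T) ⊗ Red.Ga S ⟶ G := ((pm ⊗ₘ i) ⊗ₘ pp) ≫ (μ[G] ▷ G) ≫ μ[G]

theorem cell_comp {X : Over S} (a : X ⟶ Red.Ga S) (t : X ⟶ T) (d : X ⟶ Red.Ga S) :
    lift (lift a t) d ≫ cellMap i pp pm = (a ≫ pm) * (t ≫ i) * (d ≫ pp) := by
  simp [cellMap, ← Hom.mul_def, _root_.mul_assoc]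

variable {i pp pm} (hΩ : IsOpenImmersion (cellMap i pp pm).left)
include hΩ

theorem cell_ext {X : Over S} {a a' : X ⟶ Red.Ga S} {t t' : X ⟶ T} {d d' : X ⟶ Red.Ga S}
    (h : (a ≫ pm) * (t ≫ i) * (d ≫ pp) = (a' ≫ pm) * (t' ≫ i) * (d' ≫ pp)) : a = a' ∧ t = t' ∧ d = d' := by
  haveI : Mono (cellMap i pp pm) := (Over.forget S).mono_of_mono_map (inferInstanceAs (Mono (cellMap i pp pm).left))
  rw [← cell_comp, ← cell_comp, cancel_mono] at h
  have h1 := congrArg (fun k => k ≫ fst _ _) h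
  simp only [lift_fst] at h1
  exact ⟨by simpa using congrArg (fun k => k ≫ fst _ _) h1, by simpa using congrArg (fun k => k ≫ snd _ _) h1,
    by simpa using congrArg (fun k => k ≫ snd _ _) h⟩

/-- A morphism factors through the cell once its geometric points do. -/
theorem exists_coords {X : Over S} (g : X ⟶ G)
    (h : ∀ (K : CommRingCat.{u}), IsField K → ∀ (b : Spec K ⟶ S) (j : Over.mk b ⟶ X),
      (∀ q : Polynomial K, q.natDegree ≠ 0 → ∃ a, q.eval a = 0) →
      ∃ (a : Over.mk b ⟶ Red.Ga S) (t : Over.mk b ⟶ T) (d : Over.mk b ⟶ Red.Ga S),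
        j ≫ g = (a ≫ pm) * (t ≫ i) * (d ≫ pp)) :
    ∃ (a : X ⟶ Red.Ga S) (t : X ⟶ T) (d : X ⟶ Red.Ga S), g = (a ≫ pm) * (t ≫ i) * (d ≫ pp) := by
  have hr : Set.range g.left ⊆ Set.range (cellMap i pp pm).left := by
    rintro _ ⟨x, rfl⟩
    let K := AlgebraicClosure (X.left.residueField x)
    let q : Spec (CommRingCat.of K) ⟶ X.left :=
      Spec.map (CommRingCat.ofHom (algebraMap (X.left.residueField x) K)) ≫ X.left.fromSpecResidueField x
    let j : Over.mk (q ≫ X.hom) ⟶ X := Over.homMk q rfl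
    obtain ⟨a, t, d, he⟩ := h (CommRingCat.of K) (Field.toIsField K) (q ≫ X.hom) j
      (fun p hp => IsAlgClosed.exists_root p (fun hd => hp (Polynomial.natDegree_eq_of_degree_eq_some hd)))
    let pt : Spec (CommRingCat.of K) := ⟨⊥, Ideal.isPrime_bot⟩
    have hx : q pt = x := by
      have hm : q pt ∈ Set.range (X.left.fromSpecResidueField x) :=
        ⟨Spec.map (CommRingCat.ofHom (algebraMap (X.left.residueField x) K)) pt, rfl⟩
      rwa [Scheme.range_fromSpecResidueField, Set.mem_singleton_iff] at hm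
    refine ⟨(lift (lift a t) d).left pt, ?_⟩
    rw [← cell_comp] at he
    have := congrArg (fun k : Over.mk (q ≫ X.hom) ⟶ G => k.left pt) he
    exact this.symm.trans (congrArg g.left hx)
  let l : X ⟶ (Red.Ga S ⊗ T) ⊗ Red.Ga S := Over.homMk (IsOpenImmersion.lift (cellMap i pp pm).left g.left hr) (by
    rw [← Over.w (cellMap i pp pm), IsOpenImmersion.lift_fac_assoc, Over.w])
  refine ⟨l ≫ fst _ _ ≫ fst _ _, l ≫ fst _ _ ≫ snd _ _, l ≫ snd _ _, ?_⟩
  rw [← cell_comp]
  have hl : l ≫ cellMap i pp pm = g := Over.OverMorphism.ext (IsOpenImmersion.lift_fac _ _ _)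
  refine hl.symm.trans ?_
  congr 1
  ext <;> simp

end Groth.Agent.GrpSchLib.RankOne
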