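import Groth.Agent.GrpSchLib.RankOneDense

/-! The centralizer of a cocharacter on which the root is non-trivial is the maximal torus. -/

set_option autoImplicit false
set_option linter.style.haveILetI false

universe u

open CategoryTheory CategoryTheory.Limits AlgebraicGeometry MonoidalCategory CartesianMonoidalCategory
open scoped MonObj Polynomial

noncomputable section

namespace Groth.Agent.GrpSchLib.RankOne

variable {S : Scheme.{u}} {G : Over S}

section LineFun

variable {A : CommRingCat.{u}} (b : Spec A ⟶ S)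

/-- A point of the fibre as a morphism to the base change. -/
def toFib (g : Over.mk b ⟶ G) : Spec A ⟶ pullback G.hom b :=
  pullback.lift g.left (𝟙 _) ((Over.w g).trans (Category.id_comp _).symm)

/-- A family of points over the line as a morphism to the base change. -/
def lineToFib (ψ : Over.mk (lineBase b) ⟶ G) : Spec (lineRing A) ⟶ pullback G.hom b :=
  pullback.lift ψ.left (Spec.map (CommRingCat.ofHom (Polynomial.C : A →+* A[X]))) (Over.w ψ)

theorem eval_lineToFib (ψ : Over.mk (lineBase b) ⟶ G) (v : A) :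
    (specHom _ (eval_base b v)).left ≫ lineToFib b ψ = toFib b (specHom _ (eval_base b v) ≫ ψ) := by
  show Spec.map (CommRingCat.ofHom (Polynomial.evalRingHom v : A[X] →+* A)) ≫ lineToFib b ψ = _
  apply pullback.hom_ext
  · simp only [lineToFib, toFib, Category.assoc, pullback.lift_fst]; rfl
  · simp only [lineToFib, toFib, Category.assoc, pullback.lift_snd, ← Spec.map_comp, ← CommRingCat.ofHom_comp,
      show (Polynomial.evalRingHom v).comp (Polynomial.C : A →+* A[X]) = RingHom.id A from RingHom.ext fun r => by simp]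
    simp

/-- The value of a function of the fibre at a point. -/
def fibVal (g : Over.mk b ⟶ G) (f : Γ(pullback G.hom b, ⊤)) : A := sval b ((toFib b g).appTop f)

/-- The polynomial of a function of the fibre along a family of points. -/
def lineVal (ψ : Over.mk (lineBase b) ⟶ G) (f : Γ(pullback G.hom b, ⊤)) : A[X] :=
  sval (lineBase b) ((lineToFib b ψ).appTop f)

theorem fibVal_eval (ψ : Over.mk (lineBase b) ⟶ G) (f : Γ(pullback G.hom b, ⊤)) (v : A) :
    fibVal b (specHom _ (eval_base b v) ≫ ψ) f = (lineVal b ψ f).eval v := by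
  unfold fibVal
  rw [← eval_lineToFib]
  exact (congrArg (sval b) (GmPts.appTop_comp_apply _ (lineToFib b ψ) f)).trans
    (sval_specHom (A := lineRing A) (B := A) (b := lineBase b) (b' := b) _ (eval_base b v) _)

theorem eq_of_fibVal [IsAffineHom G.hom] {g g' : Over.mk b ⟶ G} (h : ∀ f, fibVal b g f = fibVal b g' f) :
    g = g' := by
  haveI : IsAffineHom (pullback.snd G.hom b) := inferInstance
  haveI : IsAffine (pullback G.hom b) := isAffine_of_isAffineHom (pullback.snd G.hom b)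
  have hl : toFib b g = toFib b g' :=
    ext_of_isAffine (CommRingCat.hom_ext (RingHom.ext fun f => (sval b).injective (h f)))
  ext1
  exact (pullback.lift_fst _ _ _).symm.trans
    ((congrArg (· ≫ pullback.fst G.hom b) hl).trans (pullback.lift_fst _ _ _))

end LineFun

section LineConst

variable {K : Type u} [Field K] (b : Spec (CommRingCat.of K) ⟶ S)

theorem polys_const [Infinite K] (Q F : K[X]) {δ : K} (hδ : δ ≠ 0)
    (h : ∀ v : K, v ≠ 0 → Q.eval v = F.eval (δ / v)) : ∃ q : K, Q = Polynomial.C q ∧ F = Polynomial.C q := by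
  have hzero : ∀ P : K[X], (∀ v : K, v ≠ 0 → P.eval v = 0) → P = 0 := fun P hP => by
    have h0 : P * Polynomial.X = 0 := Polynomial.zero_of_eval_zero _ fun v => by
      rcases eq_or_ne v 0 with rfl | hv
      · simp
      · simp [hP v hv]
    simpa using h0
  let n := F.natDegree
  let R : K[X] := ∑ j ∈ Finset.range (n + 1), Polynomial.C (F.coeff j * δ ^ j) * Polynomial.X ^ (n - j)
  have hR : Q * Polynomial.X ^ n = R := sub_eq_zero.1 (hzero _ fun v hv => by
    rw [Polynomial.eval_sub, Polynomial.eval_mul, h v hv, Polynomial.eval_eq_sum_range (p := F), Finset.sum_mul,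
      Polynomial.eval_finsetSum, sub_eq_zero]
    refine Finset.sum_congr rfl fun j hj => ?_
    obtain ⟨d, hd⟩ := Nat.exists_eq_add_of_le (Nat.lt_succ_iff.1 (Finset.mem_range.1 hj))
    simp only [Polynomial.eval_mul, Polynomial.eval_C, Polynomial.eval_pow, Polynomial.eval_X, div_pow]
    rw [show n - j = d from Nat.sub_eq_of_eq_add (hd.trans (add_comm _ _)), show v ^ n = v ^ j * v ^ d by
      rw [← pow_add, ← hd]]
    field_simp)
  have hdeg : R.natDegree ≤ n := Polynomial.natDegree_sum_le_of_forall_le _ _ fun j _ =>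
    (Polynomial.natDegree_C_mul_X_pow_le _ _).trans (Nat.sub_le _ _)
  have hQ : Q.natDegree = 0 := by
    by_contra hQ
    have hne : Q ≠ 0 := fun h0 => hQ (by simp [h0])
    rw [← hR, Polynomial.natDegree_mul hne (pow_ne_zero _ Polynomial.X_ne_zero), Polynomial.natDegree_X_pow] at hdeg
    omega
  refine ⟨Q.coeff 0, Polynomial.eq_C_of_natDegree_eq_zero hQ, sub_eq_zero.1 (hzero _ fun v hv => ?_)⟩
  have h2 := h (δ / v) (div_ne_zero hδ hv)
  rw [div_div_cancel₀ hδ, Polynomial.eq_C_of_natDegree_eq_zero hQ, Polynomial.eval_C] at h2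
  simp [← h2]

/-- Two families which agree after inverting the parameter are constant. -/
theorem line_const [Infinite K] [IsAffineHom G.hom] (ψ ρ : Over.mk (lineBase b) ⟶ G) {δ : K} (hδ : δ ≠ 0)
    (h : ∀ v : K, v ≠ 0 → specHom _ (eval_base b v) ≫ ψ = specHom _ (eval_base b (δ / v)) ≫ ρ) (v : K) :
    specHom _ (eval_base b v) ≫ ρ = specHom _ (eval_base b (0 : K)) ≫ ρ ∧
      specHom _ (eval_base b v) ≫ ψ = specHom _ (eval_base b (0 : K)) ≫ ρ := by
  have h3 : ∀ f, ∃ q : K, lineVal b ψ f = Polynomial.C q ∧ lineVal b ρ f = Polynomial.C q := fun f =>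
    polys_const _ _ hδ fun v hv => (fibVal_eval b ψ f v).symm.trans
      ((congrArg (fun g => fibVal b g f) (h v hv)).trans (fibVal_eval b ρ f (δ / v)))
  constructor <;> refine eq_of_fibVal b fun f => ?_ <;> obtain ⟨q, hq₁, hq₂⟩ := h3 f
  · rw [fibVal_eval, fibVal_eval, hq₂]
    exact (Polynomial.eval_C).trans (Polynomial.eval_C).symm
  · rw [fibVal_eval, fibVal_eval, hq₁, hq₂]
    exact (Polynomial.eval_C).trans (Polynomial.eval_C).symm

end LineConst

variable [GrpObj G] {T : Over S} [GrpObj T] {i : T ⟶ G} [IsMonHom i] {α : T ⟶ Red.Gm S}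
  {pp pm : Red.Ga S ⟶ G} [IsMonHom pp] [IsMonHom pm]

variable (hG : Red.IsReductive G) (hT : Red.IsTorus T)
  (hpp : ∀ (X : Over S) (t : X ⟶ T) (x : X ⟶ Red.Ga S), ∃ x' : X ⟶ Red.Ga S,
      x' ≫ pp = (t ≫ i) * (x ≫ pp) * (t ≫ i)⁻¹ ∧ Red.gaFn x' = Red.gmFn (t ≫ α) * Red.gaFn x)
  (hpm : ∀ (X : Over S) (t : X ⟶ T) (y : X ⟶ Red.Ga S), ∃ y' : X ⟶ Red.Ga S,
      y' ≫ pm = (t ≫ i) * (y ≫ pm) * (t ≫ i)⁻¹ ∧ Red.gaFn y' * Red.gmFn (t ≫ α) = Red.gaFn y)
  (hΩ : IsOpenImmersion (cellMap i pp pm).left)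

include hG hT hpp hpm hΩ

/-- On a geometric fibre the centralizer of the cocharacter lies in the torus. -/
theorem exists_torus_of_centralizes_field {K : Type u} [Field K] [IsAlgClosed K]
    {b : Spec (CommRingCat.of K) ⟶ S} (lam : Red.Gm S ⟶ T) (m : ℕ) (hm : 0 < m)
    (hlam : ∀ (X : Over S) (z : (Γ(X.left, ⊤))ˣ), GmPts.unitOfPt (GmPts.ptOfUnit z ≫ lam ≫ α) = z ^ m)
    (g : Over.mk b ⟶ G)
    (hg : ∀ z : (Γ((Over.mk b).left, ⊤))ˣ,
      (GmPts.ptOfUnit z ≫ lam ≫ i) * g * (GmPts.ptOfUnit z ≫ lam ≫ i)⁻¹ = g) :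
    ∃ t : Over.mk b ⟶ T, g = t ≫ i := by
  haveI := hG.1
  haveI : Infinite K := IsAlgClosed.instInfinite
  obtain ⟨a, t, d, a', t', d', he⟩ := exists_cell_translate hG hΩ g
  let e := sval b
  let a₀ : K := e (Red.gaFn a)
  let a₁ : K := e (Red.gaFn a')
  let δ : K := e (GmPts.unitOfPt (t ≫ α)) * (e (Red.gaFn d') - e (Red.gaFn d))
  let β := t' * t⁻¹
  let cst : ∀ {Y : Over S}, (Over.mk b ⟶ Y) → (Over.mk (lineBase b) ⟶ Y) := fun {Y} k =>
    specHom (b := b) (b' := lineBase b) (Polynomial.C : K →+* K[X]) rfl ≫ k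
  have hcst : ∀ (v : K) {Y : Over S} (k : Over.mk b ⟶ Y),
      specHom _ (eval_base b v) ≫ cst k = k := fun v {Y} k => by
    show specHom _ (eval_base b v) ≫ specHom (b := b) (b' := lineBase b) (Polynomial.C : K →+* K[X]) rfl ≫ k = k
    rw [← Category.assoc,
      show specHom _ (eval_base b v) ≫ specHom (b := b) (b' := lineBase b) (Polynomial.C : K →+* K[X]) rfl = 𝟙 _ by
        ext1
        simp only [Over.comp_left, specHom, Over.homMk_left, ← Spec.map_comp, ← CommRingCat.ofHom_comp,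
          show (Polynomial.evalRingHom v).comp (Polynomial.C : K →+* K[X]) = RingHom.id K from RingHom.ext fun r => by simp]
        simp, Category.id_comp]
  have hev : ∀ (v r : K) (p : Red.Ga S ⟶ G),
      specHom _ (eval_base b v) ≫
        ((GaPts.ptOfFn ((sval (lineBase b)).symm (Polynomial.X * Polynomial.C r)) : Over.mk (lineBase b) ⟶ _) ≫ p) =
      GaPts.ptOfFn (e.symm (v * r)) ≫ p := fun v r p => by
    rw [← Category.assoc, specHom_ptOfFn]
    refine congrArg (fun x : K => (GaPts.ptOfFn (e.symm x) : Over.mk b ⟶ Red.Ga S) ≫ p) ?_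
    simp only [Polynomial.coe_evalRingHom, Polynomial.eval_mul, Polynomial.eval_X, Polynomial.eval_C]
  let ψ : Over.mk (lineBase b) ⟶ G :=
    (cst (β ≫ i))⁻¹ * ((GaPts.ptOfFn ((sval (lineBase b)).symm (Polynomial.X * Polynomial.C a₁)) ≫ pm)⁻¹) *
      cst g * (GaPts.ptOfFn ((sval (lineBase b)).symm (Polynomial.X * Polynomial.C a₀)) ≫ pm)
  have hψ : ∀ v : K, v ≠ 0 → specHom _ (eval_base b v) ≫ ψ = GaPts.ptOfFn (e.symm (δ / v)) ≫ pp := by
    intro v hv
    obtain ⟨z, hz⟩ := IsAlgClosed.exists_pow_nat_eq (v⁻¹) hm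
    have hz0 : z ≠ 0 := fun h => inv_ne_zero hv (by rw [← hz, h, zero_pow hm.ne'])
    let zu : (Γ((Over.mk b).left, ⊤))ˣ := Units.map e.symm.toMonoidHom (Units.mk0 z hz0)
    let s := GmPts.ptOfUnit zu ≫ lam
    have hs : GmPts.unitOfPt (s ≫ α) = zu ^ m := by rw [Category.assoc]; exact hlam _ zu
    have hsz : e (zu ^ m : _ˣ) = v⁻¹ := by
      rw [Units.val_pow_eq_pow_val, map_pow]
      show e (e.symm z) ^ m = _
      rw [RingEquiv.apply_symm_apply, hz]
    have hsi : e ((zu ^ m)⁻¹ : _ˣ) = v := by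
      have h2 : e ((zu ^ m)⁻¹ : _ˣ) * e (zu ^ m : _ˣ) = 1 := by rw [← map_mul, Units.inv_mul, map_one]
      rw [hsz, mul_inv_eq_one₀ hv] at h2
      exact h2
    have hc : ∀ x : Over.mk b ⟶ T, s * x * s⁻¹ = x := fun x => by rw [torus_mul_comm hT, inv_mul_cancel_left]
    have h1 : (s ≫ i) * (g * ((a ≫ pm) * (t ≫ i) * (d ≫ pp))) * (s ≫ i)⁻¹ =
        g * ((s ≫ i) * ((a ≫ pm) * (t ≫ i) * (d ≫ pp)) * (s ≫ i)⁻¹) := by
      have hcomm : (s ≫ i) * g = g * (s ≫ i) := by
        have := hg zu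
        rw [← Category.assoc] at this
        exact mul_inv_eq_iff_eq_mul.1 this
      rw [← _root_.mul_assoc, hcomm]
      group
    rw [he, conj_cell hpp hpm, conj_cell hpp hpm, hc, hc, hs] at h1
    have ha : ((zu ^ m)⁻¹ : _ˣ) * Red.gaFn a = e.symm (v * a₀) := e.injective (by rw [map_mul, hsi, RingEquiv.apply_symm_apply])
    have ha' : ((zu ^ m)⁻¹ : _ˣ) * Red.gaFn a' = e.symm (v * a₁) := e.injective (by rw [map_mul, hsi, RingEquiv.apply_symm_apply])
    rw [ha, ha'] at h1
    have hg2 : g * (GaPts.ptOfFn (e.symm (v * a₀)) ≫ pm) = (GaPts.ptOfFn (e.symm (v * a₁)) ≫ pm) * (β ≫ i) *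
        (GaPts.ptOfFn (e.symm (δ / v)) ≫ pp) := by
      have h4 : GaPts.ptOfFn (e.symm (δ / v)) ≫ pp = (t ≫ i) *
          ((GaPts.ptOfFn (((zu ^ m : _ˣ) : Γ((Over.mk b).left, ⊤)) * Red.gaFn d') ≫ pp) *
            (GaPts.ptOfFn (((zu ^ m : _ˣ) : Γ((Over.mk b).left, ⊤)) * Red.gaFn d) ≫ pp)⁻¹) * (t ≫ i)⁻¹ := by
        rw [eq_comm, ← GrpObj.inv_comp _ pp, ← MonObj.mul_comp _ _ pp, conj_pp hpp]
        congr 1
        refine GaPts.gaFn_injective ?_
        simp only [GaPts.gaFn_ptOfFn, GaPts.gaFn_mul]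
        refine e.injective ?_
        have hneg : ∀ x : Over.mk b ⟶ Red.Ga S, Red.gaFn x⁻¹ = - Red.gaFn x := fun x =>
          eq_neg_of_add_eq_zero_left (by rw [← GaPts.gaFn_mul, inv_mul_cancel, GaPts.gaFn_one])
        simp only [hneg, GaPts.gaFn_ptOfFn, map_mul, map_add, map_neg, RingEquiv.apply_symm_apply, hsz, δ]
        ring
      rw [h4, MonObj.mul_comp, GrpObj.inv_comp]
      calc g * (GaPts.ptOfFn (e.symm (v * a₀)) ≫ pm)
          = (g * ((GaPts.ptOfFn (e.symm (v * a₀)) ≫ pm) * (t ≫ i) *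
            (GaPts.ptOfFn (((zu ^ m : _ˣ) : Γ((Over.mk b).left, ⊤)) * Red.gaFn d) ≫ pp))) *
            (GaPts.ptOfFn (((zu ^ m : _ˣ) : Γ((Over.mk b).left, ⊤)) * Red.gaFn d) ≫ pp)⁻¹ * (t ≫ i)⁻¹ := by group
        _ = _ := by rw [← h1]; group
    simp only [ψ, MonObj.comp_mul, GrpObj.comp_inv, hcst, hev]
    rw [_root_.mul_assoc _ g, hg2]
    group
  let ρ : Over.mk (lineBase b) ⟶ G := linePt b ≫ pp
  have hρ : ∀ v : K, specHom _ (eval_base b v) ≫ ρ = GaPts.ptOfFn (e.symm v) ≫ pp := fun v => by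
    rw [← Category.assoc, specHom_eval_linePt]
  have hδ : δ = 0 := by
    by_contra hδ
    have h := (line_const b ψ ρ hδ (fun v hv => (hψ v hv).trans (hρ _).symm) 1).1
    rw [hρ, hρ, map_zero, map_one] at h
    have h' := (cell_ext hΩ (a := (1 : Over.mk b ⟶ Red.Ga S)) (t := (1 : Over.mk b ⟶ T))
      (d := GaPts.ptOfFn 1) (a' := 1) (t' := 1) (d' := GaPts.ptOfFn 0) (congrArg (_ * ·) h)).2.2
    have h'' := congrArg (fun x => e (Red.gaFn x)) h'
    simp [GaPts.gaFn_ptOfFn] at h''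
  have h0 := (line_const b ψ 1 one_ne_zero (fun v hv => by
    rw [hψ v hv, hδ, zero_div, map_zero, ga_zero_comp, MonObj.comp_one]) 0).2
  simp only [ψ, MonObj.comp_mul, GrpObj.comp_inv, hcst, hev, zero_mul, map_zero, ga_zero_comp, inv_one,
    _root_.mul_one, MonObj.comp_one] at h0
  exact ⟨β, (inv_mul_eq_one.1 h0).symm⟩

/-- The centralizer of the cocharacter is the torus. -/
theorem exists_torus_of_centralizes (lam : Red.Gm S ⟶ T) (m : ℕ) (hm : 0 < m)
    (hlam : ∀ (X : Over S) (z : (Γ(X.left, ⊤))ˣ), GmPts.unitOfPt (GmPts.ptOfUnit z ≫ lam ≫ α) = z ^ m)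
    {X : Over S} (g : X ⟶ G)
    (hg : ∀ (Y : Over S) (j : Y ⟶ X) (z : (Γ(Y.left, ⊤))ˣ),
      (GmPts.ptOfUnit z ≫ lam ≫ i) * (j ≫ g) * (GmPts.ptOfUnit z ≫ lam ≫ i)⁻¹ = j ≫ g) :
    ∃ t : X ⟶ T, g = t ≫ i := by
  obtain ⟨a, t, d, he⟩ := exists_coords hΩ g fun K hK b j hroot => by
    letI := hK.toField
    haveI : IsAlgClosed K := IsAlgClosed.of_exists_root _ fun q _ hq =>
      hroot q (Irreducible.natDegree_pos hq).ne'
    obtain ⟨t, ht⟩ := exists_torus_of_centralizes_field (K := (K : Type u)) (b := b) hG hT hpp hpm hΩ lam m hm hlam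
      (j ≫ g) (fun z => hg _ j z)
    exact ⟨1, t, 1, by rw [ht, MonObj.one_comp, MonObj.one_comp, _root_.one_mul, _root_.mul_one]⟩
  refine ⟨t, ?_⟩
  suffices h : a = 1 ∧ d = 1 by
    rw [he, h.1, h.2, MonObj.one_comp, MonObj.one_comp, _root_.one_mul, _root_.mul_one]
  have key : ∀ (A : CommRingCat.{u}) (bA : Spec A ⟶ S) (j : Over.mk bA ⟶ X),
      sval bA (Red.gaFn (j ≫ a)) = 0 ∧ sval bA (Red.gaFn (j ≫ d)) = 0 := by
    intro A bA j
    let φ : A →+* LaurentPolynomial A := (Polynomial.toLaurent : A[X] →+* _).comp Polynomial.C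
    let b' : Spec (CommRingCat.of (LaurentPolynomial A)) ⟶ S := Spec.map (CommRingCat.ofHom φ) ≫ bA
    have hb : Spec.map (CommRingCat.ofHom φ) ≫ bA = b' := rfl
    let jA : Over.mk b' ⟶ Over.mk bA := specHom (A := A) (B := CommRingCat.of (LaurentPolynomial A)) (b := bA) (b' := b') φ hb
    let k : Over.mk b' ⟶ X := jA ≫ j
    let z : (Γ((Over.mk b').left, ⊤))ˣ :=
      Units.map (sval b').symm.toMonoidHom (LaurentPolynomial.isUnit_T (R := A) 1).unit
    have hz : sval b' z = Polynomial.toLaurent (Polynomial.X : A[X]) := by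
      show sval b' ((sval b').symm ((LaurentPolynomial.isUnit_T (R := A) 1).unit : LaurentPolynomial A)) = _
      rw [RingEquiv.apply_symm_apply, Polynomial.toLaurent_X]
      rfl
    have h := hg _ k z
    rw [he, MonObj.comp_mul, MonObj.comp_mul, ← Category.assoc, ← Category.assoc, ← Category.assoc, ← Category.assoc,
      conj_cell hpp hpm, Category.assoc, hlam] at h
    obtain ⟨ha, -, hd⟩ := cell_ext hΩ h
    have e1 := congrArg (fun x => (z : Γ((Over.mk b').left, ⊤)) ^ m * Red.gaFn x) ha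
    have e2 := congrArg Red.gaFn hd
    simp only [GaPts.gaFn_ptOfFn, ← Units.val_pow_eq_pow_val, Units.mul_inv_cancel_left] at e1 e2
    have hk : ∀ y : X ⟶ Red.Ga S, sval b' (Red.gaFn (k ≫ y)) = φ (sval bA (Red.gaFn (j ≫ y))) := fun y => by
      rw [Category.assoc]
      exact (congrArg (sval b') (GaPts.gaFn_comp jA (j ≫ y))).trans
        (sval_specHom (A := A) (B := CommRingCat.of (LaurentPolynomial A)) (b := bA) (b' := b') φ hb _)
    have fin : ∀ r : A, Polynomial.toLaurent (Polynomial.X : A[X]) ^ m * φ r = φ r → r = 0 := fun r hr => by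
      rw [RingHom.comp_apply, ← map_pow, ← map_mul] at hr
      have := congrArg (Polynomial.eval 0) (Polynomial.toLaurent_injective hr)
      simpa [zero_pow hm.ne'] using this.symm
    constructor
    · refine fin _ ?_
      have := congrArg (sval b') e1
      rw [Units.val_pow_eq_pow_val, map_mul, map_pow, hz, hk] at this
      exact this.symm
    · refine fin _ ?_
      have := congrArg (sval b') e2
      rw [Units.val_pow_eq_pow_val, map_mul, map_pow, hz, hk] at this
      exact this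
  constructor <;> refine ext_spec fun A bA j => GaPts.gaFn_injective ((sval bA).injective ?_) <;>
    simp [key A bA j, MonObj.comp_one, GaPts.gaFn_one]

end Groth.Agent.GrpSchLib.RankOne
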