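import Groth.Agent.GrpSchLib.RankOneFactor
import Groth.Agent.GrpSchLib.GeomIrr
import Groth.Agent.GrpSchLib.FieldComp
import Groth.Agent.SmallFlat.Misc
import Mathlib.AlgebraicGeometry.AlgClosed.Basic
import Groth.Prelude.Def_Red

/-! Density of the big cell on geometric fibres. -/

set_option autoImplicit false
set_option linter.style.haveILetI false

universe u

open CategoryTheory CategoryTheory.Limits AlgebraicGeometry MonoidalCategory CartesianMonoidalCategory
open scoped MonObj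

noncomputable section

namespace Groth.Agent.GrpSchLib.RankOne

variable {S : Scheme.{u}} {G : Over S} [GrpObj G]

/-- Every fibre of a reductive group at an algebraically closed field is irreducible. -/
theorem irreducible_fibre (hG : Red.IsReductive G) {K : Type u} [Field K] [IsAlgClosed K]
    (b : Spec (CommRingCat.of K) ⟶ S) : IrreducibleSpace ↥(pullback G.hom b) := by
  let s := b (IsLocalRing.closedPoint K)
  let k₀ := S.residueField s
  obtain ⟨-, -, hconn, -⟩ := hG.2.2 s
  let L := AlgebraicClosure k₀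
  have hirr : IrreducibleSpace ↥(Red.geomFibre s G).left := by
    haveI := hconn
    let e := η[Red.geomFibre s G].left (IsLocalRing.closedPoint L)
    obtain ⟨g, hg, hge⟩ := exists_isMaxPt e
    rw [irreducibleSpace_def, Set.top_eq_univ, ← PreconnectedSpace.connectedComponent_eq_univ e,
      connectedComponent_one hg hge]
    exact isIrreducible_singleton.closure
  obtain ⟨φ, hφ⟩ : ∃ φ : k₀ →+* K, b = Spec.map (CommRingCat.ofHom φ) ≫ S.fromSpecResidueField s :=
    ⟨(Scheme.descResidueField (Scheme.stalkClosedPointTo b)).hom,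
      (Scheme.descResidueField_stalkClosedPointTo_fromSpecResidueField (K := K) (X := S) b).symm⟩
  let : Algebra k₀ K := φ.toAlgebra
  let ψ : L →ₐ[k₀] K := IsAlgClosed.lift
  let t := Spec.map (CommRingCat.ofHom ψ.toRingHom)
  have hb : t ≫ Red.geomPt s = b := by
    rw [hφ, ← Category.assoc, ← Spec.map_comp, ← CommRingCat.ofHom_comp]
    congr 3
    exact RingHom.ext fun r => ψ.commutes r
  haveI : IrreducibleSpace ↥(pullback G.hom (Red.geomPt s)) := hirr
  have h1 : IrreducibleSpace ↥(pullback (pullback.snd G.hom (Red.geomPt s)) t) :=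
    irreducibleSpace_pullback_of_isAlgClosed _ ψ.toRingHom
  exact ((pullbackLeftPullbackSndIso G.hom (Red.geomPt s) t) ≪≫
    pullback.congrHom rfl hb).hom.homeomorph.irreducibleSpace_iff.mp h1

/-- Two open conditions on a point of a geometric fibre, each satisfied by some point, are satisfied together. -/
theorem exists_point_mem (hG : Red.IsReductive G) {K : Type u} [Field K] [IsAlgClosed K]
    (b : Spec (CommRingCat.of K) ⟶ S) {Y Y' : Over S} (φ : Over.mk b ⊗ G ⟶ Y) (φ' : Over.mk b ⊗ G ⟶ Y')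
    (U : Y.left.Opens) (U' : Y'.left.Opens) (h₁ h₂ : Over.mk b ⟶ G)
    (m₁ : (lift (𝟙 _) h₁ ≫ φ).left (IsLocalRing.closedPoint K) ∈ U)
    (m₂ : (lift (𝟙 _) h₂ ≫ φ').left (IsLocalRing.closedPoint K) ∈ U') :
    ∃ h : Over.mk b ⟶ G, (lift (𝟙 _) h ≫ φ).left (IsLocalRing.closedPoint K) ∈ U ∧
      (lift (𝟙 _) h ≫ φ').left (IsLocalRing.closedPoint K) ∈ U' := by
  let Z : Scheme.{u} := (Over.mk b ⊗ G).left
  let f : Z ⟶ Spec (CommRingCat.of K) := (fst (Over.mk b) G).left
  haveI : Smooth G.hom := hG.2.1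
  haveI : LocallyOfFiniteType f := inferInstanceAs (LocallyOfFiniteType (pullback.fst b G.hom))
  haveI := irreducible_fibre hG b
  haveI : IrreducibleSpace ↥Z :=
    (pullbackSymmetry b G.hom).hom.homeomorph.irreducibleSpace_iff.mpr inferInstance
  haveI : JacobsonSpace ↥Z := LocallyOfFiniteType.jacobsonSpace f
  let W : Z.Opens := φ.left ⁻¹ᵁ U ⊓ φ'.left ⁻¹ᵁ U'
  have hne : (W : Set Z).Nonempty :=
    nonempty_preirreducible_inter (φ.left ⁻¹ᵁ U).2 (φ'.left ⁻¹ᵁ U').2
      ⟨(lift (𝟙 _) h₁).left (IsLocalRing.closedPoint K), m₁⟩ ⟨(lift (𝟙 _) h₂).left (IsLocalRing.closedPoint K), m₂⟩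
  obtain ⟨z, hzW, hz⟩ := nonempty_inter_closedPoints hne W.2.isLocallyClosed
  let p : Over.mk b ⟶ Over.mk b ⊗ G := Over.homMk (pointOfClosedPoint f z hz) (by
    refine (congrArg (pointOfClosedPoint f z hz ≫ ·) (Over.w (fst (Over.mk b) G)).symm).trans ?_
    exact ((Category.assoc _ _ _).symm.trans (congrArg (· ≫ b) (pointOfClosedPoint_comp f z hz))).trans
      (Category.id_comp _))
  have hp : lift (𝟙 _) (p ≫ snd _ _) = p := by
    refine CartesianMonoidalCategory.hom_ext _ _ ?_ (lift_snd _ _)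
    rw [lift_fst]
    exact Over.OverMorphism.ext (pointOfClosedPoint_comp f z hz).symm
  have hpz : p.left (IsLocalRing.closedPoint K) = z := pointOfClosedPoint_apply f z hz _
  refine ⟨p ≫ snd _ _, ?_, ?_⟩ <;> rw [hp]
  · show φ.left (p.left (IsLocalRing.closedPoint K)) ∈ U
    rw [hpz]; exact hzW.1
  · show φ'.left (p.left (IsLocalRing.closedPoint K)) ∈ U'
    rw [hpz]; exact hzW.2

variable {T : Over S} [GrpObj T] {i : T ⟶ G} [IsMonHom i] {pp pm : Red.Ga S ⟶ G} [IsMonHom pp] [IsMonHom pm]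

/-- A point of a geometric fibre whose underlying point is in the cell is a point of the cell. -/
theorem exists_coords_of_mem (hΩ : IsOpenImmersion (cellMap i pp pm).left) {K : Type u} [Field K]
    {b : Spec (CommRingCat.of K) ⟶ S} (g : Over.mk b ⟶ G)
    (h : g.left (IsLocalRing.closedPoint K) ∈ Set.range (cellMap i pp pm).left) :
    ∃ (a : Over.mk b ⟶ Red.Ga S) (t : Over.mk b ⟶ T) (d : Over.mk b ⟶ Red.Ga S),
      g = (a ≫ pm) * (t ≫ i) * (d ≫ pp) := by
  haveI := hΩ
  have hr : Set.range g.left ⊆ Set.range (cellMap i pp pm).left := by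
    rintro _ ⟨x, rfl⟩
    obtain rfl : x = IsLocalRing.closedPoint K := Subsingleton.elim (α := Spec (CommRingCat.of K)) _ _
    exact h
  let l : Over.mk b ⟶ (Red.Ga S ⊗ T) ⊗ Red.Ga S :=
    Over.homMk (IsOpenImmersion.lift (cellMap i pp pm).left g.left hr) (by
      rw [← Over.w (cellMap i pp pm), IsOpenImmersion.lift_fac_assoc, Over.w])
  refine ⟨l ≫ fst _ _ ≫ fst _ _, l ≫ fst _ _ ≫ snd _ _, l ≫ snd _ _, ?_⟩
  rw [← cell_comp]
  have hl : l ≫ cellMap i pp pm = g := Over.OverMorphism.ext (IsOpenImmersion.lift_fac _ _ _)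
  refine hl.symm.trans ?_
  congr 1
  ext <;> simp

/-- Every point of a geometric fibre moves some cell point into the cell. -/
theorem exists_cell_translate (hG : Red.IsReductive G) (hΩ : IsOpenImmersion (cellMap i pp pm).left)
    {K : Type u} [Field K] [IsAlgClosed K] {b : Spec (CommRingCat.of K) ⟶ S} (g : Over.mk b ⟶ G) :
    ∃ (a : Over.mk b ⟶ Red.Ga S) (t : Over.mk b ⟶ T) (d a' : Over.mk b ⟶ Red.Ga S) (t' : Over.mk b ⟶ T)
      (d' : Over.mk b ⟶ Red.Ga S),
      g * ((a ≫ pm) * (t ≫ i) * (d ≫ pp)) = (a' ≫ pm) * (t' ≫ i) * (d' ≫ pp) := by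
  haveI := hΩ
  let m : Over.mk b ⊗ G ⟶ G := (fst _ _ ≫ g) * snd _ _
  have hm : ∀ h : Over.mk b ⟶ G, lift (𝟙 _) h ≫ m = g * h := fun h => by
    simp [m, MonObj.comp_mul]
  have h1 : (1 : Over.mk b ⟶ G).left (IsLocalRing.closedPoint K) ∈ (cellMap i pp pm).left.opensRange := by
    have he : (lift (lift 1 1) 1 : Over.mk b ⟶ _) ≫ cellMap i pp pm = 1 := by
      rw [cell_comp, MonObj.one_comp, MonObj.one_comp, MonObj.one_comp, _root_.one_mul, _root_.one_mul]
    rw [← he]
    exact ⟨_, rfl⟩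
  obtain ⟨h, m₁, m₂⟩ := exists_point_mem hG b (snd _ _) m (cellMap i pp pm).left.opensRange
    (cellMap i pp pm).left.opensRange 1 g⁻¹ (by rw [lift_snd]; exact h1) (by rw [hm, mul_inv_cancel]; exact h1)
  rw [lift_snd] at m₁
  rw [hm] at m₂
  obtain ⟨a, t, d, rfl⟩ := exists_coords_of_mem hΩ h m₁
  obtain ⟨a', t', d', he⟩ := exists_coords_of_mem hΩ _ m₂
  exact ⟨a, t, d, a', t', d', he⟩

end Groth.Agent.GrpSchLib.RankOne
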