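import Groth.Agent.GrpSchLib.RankOneWeight

/-! Homogeneous morphisms from the additive group into the group of a rank-one system lie in a root group. -/

set_option autoImplicit false
set_option linter.style.haveILetI false

universe u

open CategoryTheory CategoryTheory.Limits AlgebraicGeometry MonoidalCategory CartesianMonoidalCategory
open scoped MonObj Polynomial

noncomputable section

namespace Groth.Agent.GrpSchLib.RankOne

variable {S : Scheme.{u}} {G T : Over S} [GrpObj G] [GrpObj T] {i : T ⟶ G} [IsMonHom i] {α : T ⟶ Red.Gm S}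
  {pp pm : Red.Ga S ⟶ G} [IsMonHom pp] [IsMonHom pm]

theorem ga_zero_comp {X : Over S} (p : Red.Ga S ⟶ G) [IsMonHom p] :
    (GaPts.ptOfFn 0 : X ⟶ Red.Ga S) ≫ p = 1 := by
  rw [show (GaPts.ptOfFn 0 : X ⟶ Red.Ga S) = 1 from
    GaPts.gaFn_injective (by simp [GaPts.gaFn_ptOfFn, GaPts.gaFn_one])]
  exact MonObj.one_comp p

theorem conj_pp (hpp : ∀ (X : Over S) (t : X ⟶ T) (x : X ⟶ Red.Ga S), ∃ x' : X ⟶ Red.Ga S,
      x' ≫ pp = (t ≫ i) * (x ≫ pp) * (t ≫ i)⁻¹ ∧ Red.gaFn x' = Red.gmFn (t ≫ α) * Red.gaFn x)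
    {X : Over S} (t : X ⟶ T) (x : X ⟶ Red.Ga S) :
    (t ≫ i) * (x ≫ pp) * (t ≫ i)⁻¹ =
      GaPts.ptOfFn (GmPts.unitOfPt (t ≫ α) * Red.gaFn x : Γ(X.left, ⊤)) ≫ pp := by
  obtain ⟨x', h1, h2⟩ := hpp X t x
  rw [← h1]
  congr 1
  exact GaPts.gaFn_injective (by simp only [GaPts.gaFn_ptOfFn, h2]; rfl)

theorem conj_pm (hpm : ∀ (X : Over S) (t : X ⟶ T) (y : X ⟶ Red.Ga S), ∃ y' : X ⟶ Red.Ga S,
      y' ≫ pm = (t ≫ i) * (y ≫ pm) * (t ≫ i)⁻¹ ∧ Red.gaFn y' * Red.gmFn (t ≫ α) = Red.gaFn y)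
    {X : Over S} (t : X ⟶ T) (y : X ⟶ Red.Ga S) :
    (t ≫ i) * (y ≫ pm) * (t ≫ i)⁻¹ =
      GaPts.ptOfFn (((GmPts.unitOfPt (t ≫ α))⁻¹ : _ˣ) * Red.gaFn y : Γ(X.left, ⊤)) ≫ pm := by
  obtain ⟨y', h1, h2⟩ := hpm X t y
  rw [← h1]
  congr 1
  refine GaPts.gaFn_injective ?_
  simp only [GaPts.gaFn_ptOfFn]
  rw [← h2, mul_comm (Red.gaFn y'), ← GmPts.val_unitOfPt, Units.inv_mul_cancel_left]

variable (hpp : ∀ (X : Over S) (t : X ⟶ T) (x : X ⟶ Red.Ga S), ∃ x' : X ⟶ Red.Ga S,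
      x' ≫ pp = (t ≫ i) * (x ≫ pp) * (t ≫ i)⁻¹ ∧ Red.gaFn x' = Red.gmFn (t ≫ α) * Red.gaFn x)
  (hpm : ∀ (X : Over S) (t : X ⟶ T) (y : X ⟶ Red.Ga S), ∃ y' : X ⟶ Red.Ga S,
      y' ≫ pm = (t ≫ i) * (y ≫ pm) * (t ≫ i)⁻¹ ∧ Red.gaFn y' * Red.gmFn (t ≫ α) = Red.gaFn y)

include hpp hpm in
/-- The torus conjugates the cell into itself. -/
theorem conj_cell {X : Over S} (s : X ⟶ T) (a : X ⟶ Red.Ga S) (t : X ⟶ T) (d : X ⟶ Red.Ga S) :
    (s ≫ i) * ((a ≫ pm) * (t ≫ i) * (d ≫ pp)) * (s ≫ i)⁻¹ =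
      (GaPts.ptOfFn (((GmPts.unitOfPt (s ≫ α))⁻¹ : _ˣ) * Red.gaFn a : Γ(X.left, ⊤)) ≫ pm) * ((s * t * s⁻¹) ≫ i) *
        (GaPts.ptOfFn (GmPts.unitOfPt (s ≫ α) * Red.gaFn d : Γ(X.left, ⊤)) ≫ pp) := by
  rw [← conj_pm hpm, ← conj_pp hpp, MonObj.mul_comp, MonObj.mul_comp, GrpObj.inv_comp]
  group

variable (hΩ : IsOpenImmersion (cellMap i pp pm).left)

set_option maxHeartbeats 800000 in
include hpp hpm hΩ in
/-- A morphism from the line which is equivariant for scalings lies in the cell. -/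
theorem mem_cell_of_scaling (f : Red.Ga S ⟶ G) (lam : Red.Gm S ⟶ T) (e : ℕ) (he : 0 < e)
    (hf0 : ∀ X : Over S, (GaPts.ptOfFn 0 : X ⟶ Red.Ga S) ≫ f = 1)
    (hconj : ∀ (X : Over S) (z : (Γ(X.left, ⊤))ˣ) (y : Γ(X.left, ⊤)),
      (GmPts.ptOfUnit z ≫ lam ≫ i) * (GaPts.ptOfFn y ≫ f) * (GmPts.ptOfUnit z ≫ lam ≫ i)⁻¹ =
        GaPts.ptOfFn ((z : Γ(X.left, ⊤)) ^ e * y) ≫ f) :
    ∃ (a : Red.Ga S ⟶ Red.Ga S) (t : Red.Ga S ⟶ T) (d : Red.Ga S ⟶ Red.Ga S),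
      f = (a ≫ pm) * (t ≫ i) * (d ≫ pp) := by
  refine exists_coords hΩ f fun K hK b j hroot => ?_
  have hbot : ∀ x : Spec K, x.asIdeal = ⊥ := fun x => (Submodule.eq_bot_iff _).2 fun r hr => by
    by_contra h
    obtain ⟨s, hs⟩ := hK.mul_inv_cancel h
    exact x.2.ne_top ((Ideal.eq_top_iff_one _).2 (hs ▸ Ideal.mul_mem_right s _ hr))
  letI := hK.toField
  haveI : IsAlgClosed K := IsAlgClosed.of_exists_root _ fun q _ hq =>
    hroot q (Irreducible.natDegree_pos hq).ne'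
  let y : K := sval b (Red.gaFn j)
  have hj : j = GaPts.ptOfFn ((sval b).symm y) :=
    GaPts.gaFn_injective (by simp only [y, RingEquiv.symm_apply_apply, GaPts.gaFn_ptOfFn])
  by_cases hy : y = 0
  · refine ⟨1, 1, 1, ?_⟩
    rw [hj, hy, map_zero, hf0, MonObj.one_comp, MonObj.one_comp, MonObj.one_comp]
    simp
  haveI := hΩ
  let k : Over.mk (lineBase b) ⟶ G := linePt b ≫ f
  let pt0 : Spec K := ⟨⊥, Ideal.isPrime_bot⟩
  let x0 : Spec (CommRingCat.of K[X]) := Spec.map (CommRingCat.ofHom (Polynomial.evalRingHom (0 : K))) pt0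
  let V : (Spec (CommRingCat.of K[X])).Opens := k.left ⁻¹ᵁ (cellMap i pp pm).left.opensRange
  have hx0 : x0 ∈ V := by
    have h1 : specHom _ (eval_base b 0) ≫ k = (lift (lift 1 1) 1 : Over.mk b ⟶ _) ≫ cellMap i pp pm := by
      rw [← Category.assoc, specHom_eval_linePt, map_zero, hf0, cell_comp, MonObj.one_comp, MonObj.one_comp,
        MonObj.one_comp]
      simp
    exact ⟨_, (congrArg (fun l : Over.mk b ⟶ G => l.left pt0) h1).symm⟩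
  obtain ⟨_, ⟨g, rfl⟩, hg0, hgV⟩ :=
    PrimeSpectrum.isTopologicalBasis_basic_opens.exists_subset_of_mem_open hx0 V.isOpen
  have hg : g.eval 0 ≠ 0 := fun h => hg0 (show Polynomial.evalRingHom 0 g ∈ (⊥ : Ideal K) from h)
  haveI : Infinite K := IsAlgClosed.instInfinite
  obtain ⟨a, ha⟩ : ∃ a, (g * Polynomial.X).eval a ≠ 0 := by
    by_contra h
    push_neg at h
    exact mul_ne_zero (fun h => hg (by rw [h, Polynomial.eval_zero])) Polynomial.X_ne_zero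
      (Polynomial.zero_of_eval_zero _ h)
  rw [Polynomial.eval_mul, Polynomial.eval_X, mul_ne_zero_iff] at ha
  obtain ⟨z, hz⟩ := IsAlgClosed.exists_pow_nat_eq (y / a) he
  have hz0 : z ≠ 0 := fun h => div_ne_zero hy ha.2 (by rw [← hz, h, zero_pow he.ne'])
  have hv : ∀ x : Spec K, k.left ((specHom _ (eval_base b a)).left x) ∈
      Set.range (cellMap i pp pm).left := by
    intro x
    have hx := hbot x
    have hmem : Spec.map (CommRingCat.ofHom (Polynomial.evalRingHom a)) x ∈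
        (PrimeSpectrum.basicOpen g : Set (PrimeSpectrum K[X])) := by
      show Polynomial.evalRingHom a g ∉ x.asIdeal
      rw [hx]
      exact ha.1
    exact hgV hmem
  let g1 : Over.mk b ⟶ G := specHom _ (eval_base b a) ≫ k
  have hrg : Set.range g1.left ⊆ Set.range (cellMap i pp pm).left := by
    rintro _ ⟨x, rfl⟩
    exact hv x
  let l : Over.mk b ⟶ (Red.Ga S ⊗ T) ⊗ Red.Ga S :=
    Over.homMk (IsOpenImmersion.lift (cellMap i pp pm).left g1.left hrg) (by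
      rw [← Over.w (cellMap i pp pm), IsOpenImmersion.lift_fac_assoc, Over.w])
  have hl : l ≫ cellMap i pp pm = GaPts.ptOfFn ((sval b).symm a) ≫ f := by
    rw [← specHom_eval_linePt, Category.assoc]
    exact Over.OverMorphism.ext (IsOpenImmersion.lift_fac _ _ _)
  let A₁ := l ≫ fst _ _ ≫ fst _ _
  let T₁ := l ≫ fst _ _ ≫ snd _ _
  let D₁ := l ≫ snd _ _
  have hl' : GaPts.ptOfFn ((sval b).symm a) ≫ f = (A₁ ≫ pm) * (T₁ ≫ i) * (D₁ ≫ pp) := by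
    rw [← cell_comp, ← hl]
    congr 1
    ext <;> simp [A₁, T₁, D₁]
  let zu : (Γ((Over.mk b).left, ⊤))ˣ := Units.map (sval b).symm.toMonoidHom (Units.mk0 z hz0)
  have hyz : (sval b).symm y = (zu : Γ((Over.mk b).left, ⊤)) ^ e * (sval b).symm a := by
    show _ = (sval b).symm z ^ e * (sval b).symm a
    rw [← map_pow, hz, ← map_mul, div_mul_cancel₀ y ha.2]
  have hc := conj_cell hpp hpm (GmPts.ptOfUnit zu ≫ lam) A₁ T₁ D₁
  rw [← hl', Category.assoc, hconj, ← hyz, ← hj] at hc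
  exact ⟨_, _, _, hc⟩

variable (hT : Red.IsTorus T) [IsAffineHom G.hom]

include hpp hpm hΩ hT in
/-- Coordinates of an equivariant morphism from the line. -/
theorem coords_of_scaling (f : Red.Ga S ⟶ G) (lam : Red.Gm S ⟶ T) (e : ℕ) (he : 0 < e)
    (hf0 : ∀ X : Over S, (GaPts.ptOfFn 0 : X ⟶ Red.Ga S) ≫ f = 1)
    (hconj : ∀ (X : Over S) (z : (Γ(X.left, ⊤))ˣ) (y : Γ(X.left, ⊤)),
      (GmPts.ptOfUnit z ≫ lam ≫ i) * (GaPts.ptOfFn y ≫ f) * (GmPts.ptOfUnit z ≫ lam ≫ i)⁻¹ =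
        GaPts.ptOfFn ((z : Γ(X.left, ⊤)) ^ e * y) ≫ f) :
    ∃ (a d : Red.Ga S ⟶ Red.Ga S),
      (∀ (X : Over S) (y : Γ(X.left, ⊤)), GaPts.ptOfFn y ≫ f = (GaPts.ptOfFn y ≫ a ≫ pm) * (GaPts.ptOfFn y ≫ d ≫ pp)) ∧
      (∀ (X : Over S) (z : (Γ(X.left, ⊤))ˣ) (y : Γ(X.left, ⊤)),
        Red.gaFn (GaPts.ptOfFn ((z : Γ(X.left, ⊤)) ^ e * y) ≫ a) =
          ((GmPts.unitOfPt (GmPts.ptOfUnit z ≫ lam ≫ α))⁻¹ : _ˣ) * Red.gaFn (GaPts.ptOfFn y ≫ a) ∧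
        Red.gaFn (GaPts.ptOfFn ((z : Γ(X.left, ⊤)) ^ e * y) ≫ d) =
          GmPts.unitOfPt (GmPts.ptOfUnit z ≫ lam ≫ α) * Red.gaFn (GaPts.ptOfFn y ≫ d)) := by
  obtain ⟨a, t, d, hf⟩ := mem_cell_of_scaling hpp hpm hΩ f lam e he hf0 hconj
  have hfy : ∀ (X : Over S) (y : Γ(X.left, ⊤)), GaPts.ptOfFn y ≫ f =
      ((GaPts.ptOfFn y ≫ a) ≫ pm) * ((GaPts.ptOfFn y ≫ t) ≫ i) * ((GaPts.ptOfFn y ≫ d) ≫ pp) := fun X y => by
    rw [hf, MonObj.comp_mul, MonObj.comp_mul]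
    simp only [Category.assoc]
  have key : ∀ (X : Over S) (z : (Γ(X.left, ⊤))ˣ) (y : Γ(X.left, ⊤)),
      _ ∧ _ ∧ _ := fun X z y => by
    have h := hconj X z y
    rw [hfy, hfy, ← Category.assoc, conj_cell hpp hpm] at h
    exact cell_ext hΩ h.symm
  have ht : ∀ (X : Over S) (y : Γ(X.left, ⊤)), (GaPts.ptOfFn y ≫ t) ≫ i = 1 := fun X y => by
    have hc := homog_const (t ≫ i) e he (fun X z y => by
      rw [← Category.assoc, ← Category.assoc, (key X z y).2.1, torus_mul_comm hT, inv_mul_cancel_left]) X y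
    rw [Category.assoc, hc, ← Category.assoc]
    have h0 := hfy X 0
    rw [hf0] at h0
    have e2 := (cell_ext hΩ (h0.symm.trans (show (1 : X ⟶ G) =
      ((1 : X ⟶ Red.Ga S) ≫ pm) * ((1 : X ⟶ T) ≫ i) * ((1 : X ⟶ Red.Ga S) ≫ pp) by
        rw [MonObj.one_comp, MonObj.one_comp, MonObj.one_comp, _root_.one_mul, _root_.one_mul]))).2.1
    rw [e2, MonObj.one_comp]
  refine ⟨a, d, fun X y => ?_, fun X z y => ⟨?_, ?_⟩⟩
  · rw [hfy, ht, _root_.mul_one, Category.assoc, Category.assoc]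
  · rw [(key X z y).1, GaPts.gaFn_ptOfFn, Category.assoc]
  · rw [(key X z y).2.2, GaPts.gaFn_ptOfFn, Category.assoc]

include hpp hpm hΩ hT in
/-- Positive weight: the morphism lies in the positive root group. -/
theorem eq_pp_of_scaling (f : Red.Ga S ⟶ G) (lam : Red.Gm S ⟶ T) (e q : ℕ) (he : 0 < e) (hq : 0 < q)
    (hlam : ∀ (X : Over S) (z : (Γ(X.left, ⊤))ˣ), GmPts.unitOfPt (GmPts.ptOfUnit z ≫ lam ≫ α) = z ^ (e * q))
    (hf0 : ∀ X : Over S, (GaPts.ptOfFn 0 : X ⟶ Red.Ga S) ≫ f = 1)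
    (hconj : ∀ (X : Over S) (z : (Γ(X.left, ⊤))ˣ) (y : Γ(X.left, ⊤)),
      (GmPts.ptOfUnit z ≫ lam ≫ i) * (GaPts.ptOfFn y ≫ f) * (GmPts.ptOfUnit z ≫ lam ≫ i)⁻¹ =
        GaPts.ptOfFn ((z : Γ(X.left, ⊤)) ^ e * y) ≫ f) :
    ∃ c : 𝟙_ (Over S) ⟶ Red.Ga S, ∀ (X : Over S) (y : Γ(X.left, ⊤)),
      GaPts.ptOfFn y ≫ f = GaPts.ptOfFn (Red.gaFn (toUnit X ≫ c) * y ^ q) ≫ pp := by
  obtain ⟨a, d, hf, had⟩ := coords_of_scaling hpp hpm hΩ hT f lam e he hf0 hconj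
  have ha := homog_zero a e (e * q) (Nat.mul_pos he hq) fun X z y => by
    rw [(had X z y).1, hlam, ← Units.val_pow_eq_pow_val, Units.mul_inv_cancel_left]
  have hd := homog_mono d e q he fun X z y => by rw [(had X z y).2, hlam, Units.val_pow_eq_pow_val]
  refine ⟨GaPts.ptOfFn (1 : Γ((𝟙_ (Over S)).left, ⊤)) ≫ d, fun X y => ?_⟩
  have e1 : (GaPts.ptOfFn y : X ⟶ Red.Ga S) ≫ a = GaPts.ptOfFn 0 :=
    GaPts.gaFn_injective (by simp only [ha X y, GaPts.gaFn_ptOfFn])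
  rw [hf, ← Category.assoc, e1, ga_zero_comp, _root_.one_mul, ← Category.assoc, ← Category.assoc]
  congr 1
  refine GaPts.gaFn_injective ?_
  simp only [GaPts.gaFn_ptOfFn, hd X y]
  congr 3
  exact GaPts.gaFn_injective (by simp [GaPts.gaFn_comp, GaPts.gaFn_ptOfFn])

include hpp hpm hΩ hT in
/-- Negative weight: the morphism lies in the negative root group. -/
theorem eq_pm_of_scaling (f : Red.Ga S ⟶ G) (lam : Red.Gm S ⟶ T) (e q : ℕ) (he : 0 < e) (hq : 0 < q)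
    (hlam : ∀ (X : Over S) (z : (Γ(X.left, ⊤))ˣ), GmPts.unitOfPt (GmPts.ptOfUnit z ≫ lam ≫ α) = (z ^ (e * q))⁻¹)
    (hf0 : ∀ X : Over S, (GaPts.ptOfFn 0 : X ⟶ Red.Ga S) ≫ f = 1)
    (hconj : ∀ (X : Over S) (z : (Γ(X.left, ⊤))ˣ) (y : Γ(X.left, ⊤)),
      (GmPts.ptOfUnit z ≫ lam ≫ i) * (GaPts.ptOfFn y ≫ f) * (GmPts.ptOfUnit z ≫ lam ≫ i)⁻¹ =
        GaPts.ptOfFn ((z : Γ(X.left, ⊤)) ^ e * y) ≫ f) :
    ∃ c : 𝟙_ (Over S) ⟶ Red.Ga S, ∀ (X : Over S) (y : Γ(X.left, ⊤)),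
      GaPts.ptOfFn y ≫ f = GaPts.ptOfFn (Red.gaFn (toUnit X ≫ c) * y ^ q) ≫ pm := by
  obtain ⟨a, d, hf, had⟩ := coords_of_scaling hpp hpm hΩ hT f lam e he hf0 hconj
  have hd := homog_zero d e (e * q) (Nat.mul_pos he hq) fun X z y => by
    rw [(had X z y).2, hlam, ← Units.val_pow_eq_pow_val, Units.mul_inv_cancel_left]
  have ha := homog_mono a e q he fun X z y => by rw [(had X z y).1, hlam, inv_inv, Units.val_pow_eq_pow_val]
  refine ⟨GaPts.ptOfFn (1 : Γ((𝟙_ (Over S)).left, ⊤)) ≫ a, fun X y => ?_⟩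
  have e1 : (GaPts.ptOfFn y : X ⟶ Red.Ga S) ≫ d = GaPts.ptOfFn 0 :=
    GaPts.gaFn_injective (by simp only [hd X y, GaPts.gaFn_ptOfFn])
  rw [hf, ← Category.assoc (GaPts.ptOfFn y) d, e1, ga_zero_comp, _root_.mul_one, ← Category.assoc, ← Category.assoc]
  congr 1
  refine GaPts.gaFn_injective ?_
  simp only [GaPts.gaFn_ptOfFn, ha X y]
  congr 3
  exact GaPts.gaFn_injective (by simp [GaPts.gaFn_comp, GaPts.gaFn_ptOfFn])

end Groth.Agent.GrpSchLib.RankOne
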