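import Groth.Agent.GrpSchLib.RankOneCentral

/-! Homomorphisms of rank-one systems: the exponent and the scalar on the root groups. -/

set_option autoImplicit false
set_option linter.style.haveILetI false

universe u

open CategoryTheory CategoryTheory.Limits AlgebraicGeometry MonoidalCategory CartesianMonoidalCategory
open scoped MonObj Polynomial

noncomputable section

namespace Groth.Agent.GrpSchLib.RankOne

namespace Sys

variable {R G T : Type*} [CommRing R] [Group G] [Group T] (Φ : Sys R G T)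

/-- The system with root coordinates rescaled by a unit and its inverse. -/
def rescale (c : Rˣ) : Sys R G T where
  p x := Φ.p (c * x)
  m y := Φ.m (((c⁻¹ : Rˣ) : R) * y)
  I := Φ.I
  a := Φ.a
  av := Φ.av
  p_add x y := by rw [mul_add, Φ.p_add]
  m_add x y := by rw [mul_add, Φ.m_add]
  conj_p t x := by rw [Φ.conj_p, mul_left_comm]
  conj_m t y := by rw [Φ.conj_m, mul_left_comm]
  a_av := Φ.a_av
  rule x y u hu := by
    rw [Φ.rule _ _ u (by rw [hu]; linear_combination (-(x * y)) * c.mul_inv),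
      mul_left_comm ((c⁻¹ : Rˣ) : R), mul_left_comm (c : R)]

theorem rescale_w (c x : Rˣ) : (Φ.rescale c).w x = Φ.w (c * x) := by
  simp [w, rescale, mul_neg, mul_comm]

end Sys

theorem neg_pow_of_additive {R : Type*} [CommRing R] {q : ℕ} (hq0 : 0 < q)
    (hq : ∀ a b : R, (a + b) ^ q = a ^ q + b ^ q) (x : R) : (-x) ^ q = -(x ^ q) := by
  have h := hq x (-x)
  rw [add_neg_cancel, zero_pow hq0.ne'] at h
  exact eq_neg_of_add_eq_zero_right h.symm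

variable {S : Scheme.{u}}

theorem ptOfUnit_comp_pow {X : Over S} (z : (Γ(X.left, ⊤))ˣ) (q : ℕ) :
    GmPts.ptOfUnit z ≫ (𝟙 (Red.Gm S)) ^ q = GmPts.ptOfUnit (z ^ q) := by
  rw [MonObj.comp_pow, Category.comp_id]
  exact (map_pow (GmPts.equiv X).symm z q).symm

theorem ptOfUnit_comp_inv {X : Over S} (z : (Γ(X.left, ⊤))ˣ) (q : ℕ) :
    GmPts.ptOfUnit z ≫ ((𝟙 (Red.Gm S)) ^ q)⁻¹ = GmPts.ptOfUnit ((z ^ q)⁻¹) := by
  rw [GrpObj.comp_inv, ptOfUnit_comp_pow, GmPts.ptOfUnit_inv]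

theorem unitOfPt_av {T : Over S} [GrpObj T] {α : T ⟶ Red.Gm S} {av : Red.Gm S ⟶ T}
    (h2 : av ≫ α = (𝟙 (Red.Gm S)) ^ 2) {X : Over S} (z : (Γ(X.left, ⊤))ˣ) :
    GmPts.unitOfPt (GmPts.ptOfUnit z ≫ av ≫ α) = z ^ 2 := by
  rw [h2, ptOfUnit_comp_pow, GmPts.unitOfPt_ptOfUnit]

variable {G T : Over S} [GrpObj G] [GrpObj T] {i : T ⟶ G} [IsMonHom i] {α : T ⟶ Red.Gm S}
  {pp pm : Red.Ga S ⟶ G}
  {G' T' : Over S} [GrpObj G'] [GrpObj T'] {i' : T' ⟶ G'} [IsMonHom i'] {α' : T' ⟶ Red.Gm S}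
  {pp' pm' : Red.Ga S ⟶ G'} [IsMonHom pp'] [IsMonHom pm'] {av : Red.Gm S ⟶ T} {av' : Red.Gm S ⟶ T'}
  (f : G ⟶ G') [IsMonHom f] (q : ℕ)

/-- A compatible homomorphism maps the positive root group into the positive root group. -/
theorem exists_pp_coeff [IsMonHom pp] [IsAffineHom G'.hom]
    (hpp : ∀ (X : Over S) (t : X ⟶ T) (x : X ⟶ Red.Ga S), ∃ x' : X ⟶ Red.Ga S,
      x' ≫ pp = (t ≫ i) * (x ≫ pp) * (t ≫ i)⁻¹ ∧ Red.gaFn x' = Red.gmFn (t ≫ α) * Red.gaFn x)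
    (h2 : av ≫ α = (𝟙 (Red.Gm S)) ^ 2) (hT' : Red.IsTorus T')
    (hpp' : ∀ (X : Over S) (t : X ⟶ T') (x : X ⟶ Red.Ga S), ∃ x' : X ⟶ Red.Ga S,
      x' ≫ pp' = (t ≫ i') * (x ≫ pp') * (t ≫ i')⁻¹ ∧ Red.gaFn x' = Red.gmFn (t ≫ α') * Red.gaFn x)
    (hpm' : ∀ (X : Over S) (t : X ⟶ T') (y : X ⟶ Red.Ga S), ∃ y' : X ⟶ Red.Ga S,
      y' ≫ pm' = (t ≫ i') * (y ≫ pm') * (t ≫ i')⁻¹ ∧ Red.gaFn y' * Red.gmFn (t ≫ α') = Red.gaFn y)
    (hΩ' : IsOpenImmersion (cellMap i' pp' pm').left) (h2' : av' ≫ α' = (𝟙 (Red.Gm S)) ^ 2) (hq0 : 0 < q)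
    (hI : ∀ (X : Over S) (z : (Γ(X.left, ⊤))ˣ),
      (GmPts.ptOfUnit z ≫ av ≫ i) ≫ f = GmPts.ptOfUnit (z ^ q) ≫ av' ≫ i') :
    ∃ c : 𝟙_ (Over S) ⟶ Red.Ga S, ∀ (X : Over S) (y : Γ(X.left, ⊤)),
      GaPts.ptOfFn y ≫ pp ≫ f = GaPts.ptOfFn (Red.gaFn (toUnit X ≫ c) * y ^ q) ≫ pp' := by
  refine eq_pp_of_scaling hpp' hpm' hΩ' hT' (pp ≫ f) (((𝟙 (Red.Gm S)) ^ q) ≫ av') 2 q two_pos hq0 ?_ ?_ ?_
  · intro X z
    rw [Category.assoc, ← Category.assoc (GmPts.ptOfUnit z), ptOfUnit_comp_pow, unitOfPt_av h2', ← pow_mul, _root_.mul_comm q]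
  · intro X
    rw [← Category.assoc, ga_zero_comp, MonObj.one_comp]
  · intro X z y
    have h := congrArg (· ≫ f) (conj_pp hpp (GmPts.ptOfUnit z ≫ av) (GaPts.ptOfFn y))
    simp only [MonObj.mul_comp, GrpObj.inv_comp, Category.assoc, GaPts.gaFn_ptOfFn] at h
    rw [show GmPts.ptOfUnit z ≫ av ≫ i ≫ f = GmPts.ptOfUnit (z ^ q) ≫ av' ≫ i' by
      rw [← hI X z]; simp only [Category.assoc]] at h
    rw [unitOfPt_av h2, Units.val_pow_eq_pow_val] at h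
    rw [Category.assoc, ← Category.assoc (GmPts.ptOfUnit z), ptOfUnit_comp_pow]
    exact h

/-- A compatible homomorphism maps the negative root group into the negative root group. -/
theorem exists_pm_coeff [IsMonHom pm] [IsAffineHom G'.hom]
    (hpm : ∀ (X : Over S) (t : X ⟶ T) (y : X ⟶ Red.Ga S), ∃ y' : X ⟶ Red.Ga S,
      y' ≫ pm = (t ≫ i) * (y ≫ pm) * (t ≫ i)⁻¹ ∧ Red.gaFn y' * Red.gmFn (t ≫ α) = Red.gaFn y)
    (h2 : av ≫ α = (𝟙 (Red.Gm S)) ^ 2) (hT' : Red.IsTorus T')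
    (hpp' : ∀ (X : Over S) (t : X ⟶ T') (x : X ⟶ Red.Ga S), ∃ x' : X ⟶ Red.Ga S,
      x' ≫ pp' = (t ≫ i') * (x ≫ pp') * (t ≫ i')⁻¹ ∧ Red.gaFn x' = Red.gmFn (t ≫ α') * Red.gaFn x)
    (hpm' : ∀ (X : Over S) (t : X ⟶ T') (y : X ⟶ Red.Ga S), ∃ y' : X ⟶ Red.Ga S,
      y' ≫ pm' = (t ≫ i') * (y ≫ pm') * (t ≫ i')⁻¹ ∧ Red.gaFn y' * Red.gmFn (t ≫ α') = Red.gaFn y)
    (hΩ' : IsOpenImmersion (cellMap i' pp' pm').left) [IsMonHom av'] (h2' : av' ≫ α' = (𝟙 (Red.Gm S)) ^ 2) (hq0 : 0 < q)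
    (hI : ∀ (X : Over S) (z : (Γ(X.left, ⊤))ˣ),
      (GmPts.ptOfUnit z ≫ av ≫ i) ≫ f = GmPts.ptOfUnit (z ^ q) ≫ av' ≫ i') :
    ∃ c : 𝟙_ (Over S) ⟶ Red.Ga S, ∀ (X : Over S) (y : Γ(X.left, ⊤)),
      GaPts.ptOfFn y ≫ pm ≫ f = GaPts.ptOfFn (Red.gaFn (toUnit X ≫ c) * y ^ q) ≫ pm' := by
  refine eq_pm_of_scaling hpp' hpm' hΩ' hT' (pm ≫ f) (((𝟙 (Red.Gm S)) ^ q)⁻¹ ≫ av') 2 q two_pos hq0 ?_ ?_ ?_
  · intro X z
    rw [Category.assoc, ← Category.assoc (GmPts.ptOfUnit z), ptOfUnit_comp_inv, unitOfPt_av h2', inv_pow, ← pow_mul,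
      _root_.mul_comm q]
  · intro X
    rw [← Category.assoc, ga_zero_comp, MonObj.one_comp]
  · intro X z y
    have h := congrArg (· ≫ f) (conj_pm hpm (GmPts.ptOfUnit z⁻¹ ≫ av) (GaPts.ptOfFn y))
    simp only [MonObj.mul_comp, GrpObj.inv_comp, Category.assoc, GaPts.gaFn_ptOfFn] at h
    rw [show GmPts.ptOfUnit z⁻¹ ≫ av ≫ i ≫ f = GmPts.ptOfUnit (z⁻¹ ^ q) ≫ av' ≫ i' by
      rw [← hI X z⁻¹]; simp only [Category.assoc]] at h
    rw [unitOfPt_av h2, inv_pow, inv_pow, inv_inv, Units.val_pow_eq_pow_val] at h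
    rw [Category.assoc, ← Category.assoc (GmPts.ptOfUnit z), ptOfUnit_comp_inv]
    exact h

theorem sval_gaFn_one {A : CommRingCat.{u}} (b : Spec A ⟶ S) (c : 𝟙_ (Over S) ⟶ Red.Ga S) {B : CommRingCat.{u}}
    (φ : A →+* B) {b' : Spec B ⟶ S} (h : Spec.map (CommRingCat.ofHom φ) ≫ b = b') :
    sval b' (Red.gaFn (toUnit (Over.mk b') ≫ c)) = φ (sval b (Red.gaFn (toUnit (Over.mk b) ≫ c))) := by
  rw [show toUnit (Over.mk b') = specHom φ h ≫ toUnit (Over.mk b) from (toUnit_unique _ _), Category.assoc]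
  exact (congrArg (sval b') (GaPts.gaFn_comp (specHom φ h) (toUnit (Over.mk b) ≫ c))).trans (sval_specHom φ h _)

set_option maxHeartbeats 400000 in
/-- The commutation rule forces the two scalars to be inverse to each other. -/
theorem coeff_mul_eq_one [IsMonHom pp] [IsMonHom pm] (Φ : ∀ X : Over S, Sys Γ(X.left, ⊤) (X ⟶ G) (X ⟶ T))
    (Φ' : ∀ X : Over S, Sys Γ(X.left, ⊤) (X ⟶ G') (X ⟶ T'))
    (hp : ∀ (X : Over S) x, (Φ X).p x = GaPts.ptOfFn x ≫ pp) (hm : ∀ (X : Over S) x, (Φ X).m x = GaPts.ptOfFn x ≫ pm)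
    (hp' : ∀ (X : Over S) x, (Φ' X).p x = GaPts.ptOfFn x ≫ pp') (hm' : ∀ (X : Over S) x, (Φ' X).m x = GaPts.ptOfFn x ≫ pm')
    (hI' : ∀ (X : Over S) t, (Φ' X).I t = t ≫ i')
    (hΩ' : IsOpenImmersion (cellMap i' pp' pm').left)
    (hq0 : 0 < q) (hq : ∀ (X : Over S) (a b : Γ(X.left, ⊤)), (a + b) ^ q = a ^ q + b ^ q)
    (hI : ∀ (X : Over S) (z : (Γ(X.left, ⊤))ˣ), (Φ X).I ((Φ X).av z) ≫ f = (Φ' X).I ((Φ' X).av (z ^ q)))
    (c a : 𝟙_ (Over S) ⟶ Red.Ga S)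
    (hc : ∀ (X : Over S) (y : Γ(X.left, ⊤)), GaPts.ptOfFn y ≫ pp ≫ f = GaPts.ptOfFn (Red.gaFn (toUnit X ≫ c) * y ^ q) ≫ pp')
    (ha : ∀ (X : Over S) (y : Γ(X.left, ⊤)), GaPts.ptOfFn y ≫ pm ≫ f = GaPts.ptOfFn (Red.gaFn (toUnit X ≫ a) * y ^ q) ≫ pm')
    (X : Over S) : Red.gaFn (toUnit X ≫ c) * Red.gaFn (toUnit X ≫ a) = 1 := by
  have key : ∀ (A : CommRingCat.{u}) (b : Spec A ⟶ S),
      sval b (Red.gaFn (toUnit (Over.mk b) ≫ c)) * sval b (Red.gaFn (toUnit (Over.mk b) ≫ a)) = 1 := by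
    intro A b
    set c₀ := sval b (Red.gaFn (toUnit (Over.mk b) ≫ c)) with hc₀
    set a₀ := sval b (Red.gaFn (toUnit (Over.mk b) ≫ a)) with ha₀
    let P : A[X] := (1 + Polynomial.X) * (1 + Polynomial.C (c₀ * a₀) * Polynomial.X ^ q)
    have hP : P ∈ nonZeroDivisors A[X] := Polynomial.mem_nonZeroDivisors_of_trailingCoeff (by
      have h0 : P.coeff 0 = 1 := by simp [P, Polynomial.coeff_zero_eq_eval_zero, zero_pow hq0.ne']
      rcases subsingleton_or_nontrivial A with hA | hA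
      · exact ⟨fun _ _ => Subsingleton.elim _ _, fun _ _ => Subsingleton.elim _ _⟩
      · rw [Polynomial.trailingCoeff, Polynomial.natTrailingDegree_eq_zero.2 (Or.inr (by rw [h0]; exact one_ne_zero)), h0]
        exact one_mem _)
    let B := CommRingCat.of (Localization.Away P)
    let φ : A[X] →+* B := algebraMap A[X] (Localization.Away P)
    have hφ : Function.Injective φ := IsLocalization.injective _ (Submonoid.powers_le.2 hP)
    let ψ : A →+* B := φ.comp Polynomial.C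
    let b' : Spec B ⟶ S := Spec.map (CommRingCat.ofHom ψ) ≫ b
    have hPu : IsUnit (φ P) := IsLocalization.Away.algebraMap_isUnit P
    let e := sval b'
    let Y := Over.mk b'
    let t : Γ(Y.left, ⊤) := e.symm (φ Polynomial.X)
    have hcY : e (Red.gaFn (toUnit Y ≫ c)) = ψ c₀ := sval_gaFn_one (A := A) (B := B) b c ψ rfl
    have haY : e (Red.gaFn (toUnit Y ≫ a)) = ψ a₀ := sval_gaFn_one (A := A) (B := B) b a ψ rfl
    rw [map_mul, IsUnit.mul_iff] at hPu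
    have hu0 : IsUnit (1 + t) := by
      rw [← e.symm.map_one, ← map_add]
      exact (show IsUnit (1 + φ Polynomial.X) by rw [← map_one φ, ← map_add]; exact hPu.1).map e.symm
    let u := hu0.unit
    have hu : (u : Γ(Y.left, ⊤)) = 1 + 1 * t := by rw [one_mul]; rfl
    have hu1 : IsUnit (1 + Red.gaFn (toUnit Y ≫ c) * (Red.gaFn (toUnit Y ≫ a) * t ^ q)) := by
      rw [← isUnit_map_iff e, map_add, map_one, map_mul, map_mul, map_pow, hcY, haY]
      convert hPu.2 using 1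
      simp [t, ψ, mul_assoc]
    let v := hu1.unit
    have h := congrArg (· ≫ f) ((Φ Y).rule 1 t u hu)
    simp only [hp, hm, MonObj.mul_comp, hI, Category.assoc, hc, ha, one_pow, mul_one] at h
    have h' := (Φ' Y).rule _ _ v rfl
    simp only [hp', hm'] at h'
    rw [h', hI', hI'] at h
    obtain ⟨-, hT, hd⟩ := cell_ext hΩ' h
    have hd' : ((v⁻¹ : _ˣ) : Γ(Y.left, ⊤)) * Red.gaFn (toUnit Y ≫ c) =
        Red.gaFn (toUnit Y ≫ c) * ((u⁻¹ : _ˣ) : Γ(Y.left, ⊤)) ^ q := by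
      have := congrArg Red.gaFn hd
      simpa [GaPts.gaFn_ptOfFn] using this
    have hav := congrArg (fun x => (((Φ' Y).a x : _ˣ) : Γ(Y.left, ⊤))) hT
    simp only [(Φ' Y).a_av, Units.val_pow_eq_pow_val] at hav
    have huq : (u : Γ(Y.left, ⊤)) ^ q = 1 + t ^ q := by
      show (1 + t) ^ q = _
      rw [hq, one_pow]
    have h1 : Red.gaFn (toUnit Y ≫ c) * (1 + t ^ q) =
        Red.gaFn (toUnit Y ≫ c) * (1 + Red.gaFn (toUnit Y ≫ c) * (Red.gaFn (toUnit Y ≫ a) * t ^ q)) := by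
      have huu : ((u⁻¹ : _ˣ) : Γ(Y.left, ⊤)) ^ q * (u : Γ(Y.left, ⊤)) ^ q = 1 := by
        rw [← mul_pow, Units.inv_mul, one_pow]
      have hvv : ((v⁻¹ : _ˣ) : Γ(Y.left, ⊤)) * (v : Γ(Y.left, ⊤)) = 1 := Units.inv_mul v
      rw [← huq, show (1 + Red.gaFn (toUnit Y ≫ c) * (Red.gaFn (toUnit Y ≫ a) * t ^ q)) = (v : Γ(Y.left, ⊤)) from rfl]
      linear_combination ((u : Γ(Y.left, ⊤)) ^ q * (v : Γ(Y.left, ⊤))) * hd' -
        Red.gaFn (toUnit Y ≫ c) * (u : Γ(Y.left, ⊤)) ^ q * hvv + Red.gaFn (toUnit Y ≫ c) * (v : Γ(Y.left, ⊤)) * huu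
    have h2 : (1 + t ^ q) ^ 2 = (1 + Red.gaFn (toUnit Y ≫ c) * (Red.gaFn (toUnit Y ≫ a) * t ^ q)) ^ 2 := by
      rw [← huq]
      exact hav.symm
    have hte : e t = φ Polynomial.X := e.apply_symm_apply _
    have p1 : Polynomial.C c₀ * (1 + Polynomial.X ^ q) =
        Polynomial.C c₀ * (1 + Polynomial.C (c₀ * a₀) * Polynomial.X ^ q) := hφ (by
      have := congrArg e h1
      simp only [map_mul, map_add, map_one, map_pow, hcY, haY, hte, ψ, RingHom.comp_apply] at this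
      simp only [map_mul, map_add, map_one, map_pow]
      linear_combination this)
    have p2 : (1 + (Polynomial.X : A[X]) ^ q) ^ 2 = (1 + Polynomial.C (c₀ * a₀) * Polynomial.X ^ q) ^ 2 := hφ (by
      have := congrArg e h2
      simp only [map_mul, map_add, map_one, map_pow, hcY, haY, hte, ψ, RingHom.comp_apply] at this
      simp only [map_mul, map_add, map_one, map_pow]
      linear_combination this)
    have q1 : c₀ = c₀ * (c₀ * a₀) := by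
      have := congrArg (fun p => Polynomial.coeff p q) p1
      simpa only [Polynomial.coeff_C_mul, Polynomial.coeff_add, Polynomial.coeff_one, Polynomial.coeff_X_pow, if_neg hq0.ne',
        if_true, zero_add, mul_one] using this
    have q2 : (c₀ * a₀) ^ 2 = 1 := by
      have hexp : ∀ r : A, (1 + Polynomial.C r * (Polynomial.X : A[X]) ^ q) ^ 2 =
          1 + Polynomial.C (r + r) * Polynomial.X ^ q + Polynomial.C (r ^ 2) * Polynomial.X ^ (q * 2) := fun r => by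
        rw [map_add, map_pow, pow_mul]; ring
      have e1 := hexp 1
      rw [Polynomial.C_1, _root_.one_mul] at e1
      rw [e1, hexp] at p2
      have := congrArg (fun p => Polynomial.coeff p (q * 2)) p2
      simp only [Polynomial.coeff_C_mul, Polynomial.coeff_add, Polynomial.coeff_one, Polynomial.coeff_X_pow,
        if_neg (show ¬ q * 2 = q by omega), if_neg (show ¬ q * 2 = 0 by omega), if_true, zero_add, add_zero, mul_zero,
        mul_one, one_pow] at this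
      exact this.symm
    calc c₀ * a₀ = (c₀ * (c₀ * a₀)) * a₀ := by rw [← q1]
      _ = (c₀ * a₀) ^ 2 := by ring
      _ = 1 := q2
  have h1 : GaPts.ptOfFn (Red.gaFn (toUnit X ≫ c) * Red.gaFn (toUnit X ≫ a)) = (GaPts.ptOfFn 1 : X ⟶ Red.Ga S) := by
    refine ext_spec fun A b j => GaPts.gaFn_injective ((sval b).injective ?_)
    simp only [GaPts.gaFn_comp j, GaPts.gaFn_ptOfFn, map_mul, map_one, ← GaPts.gaFn_comp, ← Category.assoc,
      show j ≫ toUnit X = toUnit (Over.mk b) from toUnit_unique _ _]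
    exact key A b
  simpa [GaPts.gaFn_ptOfFn] using congrArg Red.gaFn h1

end Groth.Agent.GrpSchLib.RankOne
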