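import Groth.Agent.GrpSchLib.RankOneBase
import Groth.Agent.DSPtsLib.Basic
import Mathlib.Algebra.MonoidAlgebra.NoZeroDivisors
import Mathlib.FieldTheory.IsAlgClosed.AlgebraicClosure
import Mathlib.FieldTheory.Minpoly.Field
import Mathlib.AlgebraicGeometry.Morphisms.FlatDescent

/-! A character of a torus which is non-trivial on every geometric fibre is nowhere a root of unity: a function
annihilated by `α ^ k - 1` vanishes. -/

set_option autoImplicit false
set_option linter.style.haveILetI false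

universe u

open CategoryTheory CategoryTheory.Limits AlgebraicGeometry MonoidalCategory CartesianMonoidalCategory
open scoped MonObj

noncomputable section

namespace Groth.Agent.GrpSchLib.RankOne

variable {S : Scheme.{u}}

theorem eq_algebraMap_of_pow_eq_one {L R : Type u} [Field L] [IsAlgClosed L] [CommRing R] [IsDomain R] [Algebra L R]
    (x : R) {k : ℕ} (hk : 0 < k) (hx : x ^ k = 1) : ∃ c : L, x = algebraMap L R c := by
  have hint : IsIntegral L x :=
    ⟨Polynomial.X ^ k - 1, Polynomial.monic_X_pow_sub_C (1 : L) hk.ne', by simp [hx]⟩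
  obtain ⟨c, hc⟩ := minpoly.mem_range_of_degree_eq_one L x
    (IsAlgClosed.degree_eq_one_of_irreducible L (minpoly.irreducible hint))
  exact ⟨c, hc.symm⟩

theorem theta_pullback_map {U : Scheme.{u}} (q : U ⟶ S) {Y : Over U} {H H' : Over S} (a : Y ⟶ Red.bc q H)
    (f : H ⟶ H') : DSPtsLib.theta q (a ≫ (Over.pullback q).map f) = DSPtsLib.theta q a ≫ f :=
  (Over.mapPullbackAdj q).homEquiv_naturality_right_symm a f

theorem theta_one {U : Scheme.{u}} (q : U ⟶ S) (Y : Over U) {H : Over S} [GrpObj H] :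
    DSPtsLib.theta q (1 : Y ⟶ Red.bc q H) = 1 :=
  map_one (MonoidHom.mk' (DSPtsLib.theta q (Y := Y) (H := H)) (DSPtsLib.theta_mul q))

variable {T : Over S} [GrpObj T]

/-- `α` is trivial on all points over a base. -/
def TrivialOver (α : T ⟶ Red.Gm S) {L : Type u} [CommRing L] (b : Spec (CommRingCat.of L) ⟶ S) : Prop :=
  ∀ (C : Type u) [CommRing C] (χ : L →+* C) (b'' : Spec (CommRingCat.of C) ⟶ S),
    Spec.map (CommRingCat.ofHom χ) ≫ b = b'' → ∀ x : Over.mk b'' ⟶ T, x ≫ α = 1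

set_option maxHeartbeats 800000 in
theorem map_eq_one_of_trivialOver (α : T ⟶ Red.Gm S) {L : Type u} [Field L] [IsAlgClosed L]
    (b : Spec (CommRingCat.of L) ⟶ S) (h : TrivialOver α b) :
    (Over.pullback (Red.geomPt (b (IsLocalRing.closedPoint L)))).map α = 1 := by
  let s := b (IsLocalRing.closedPoint L)
  let k₀ := S.residueField s
  let L₀ := AlgebraicClosure k₀
  obtain ⟨φ, hφ⟩ : ∃ φ : k₀ →+* L, b = Spec.map (CommRingCat.ofHom φ) ≫ S.fromSpecResidueField s :=
    ⟨(Scheme.descResidueField (Scheme.stalkClosedPointTo b)).hom,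
      (Scheme.descResidueField_stalkClosedPointTo_fromSpecResidueField (K := L) (X := S) b).symm⟩
  let : Algebra k₀ L := φ.toAlgebra
  let ψ : L₀ →ₐ[k₀] L := IsAlgClosed.lift
  let q : Spec (CommRingCat.of L₀) ⟶ S := Red.geomPt s
  let t : Spec (CommRingCat.of L) ⟶ Spec (CommRingCat.of L₀) := Spec.map (CommRingCat.ofHom ψ.toRingHom)
  have hb : t ≫ q = b := by
    rw [hφ, ← Category.assoc, ← Spec.map_comp, ← CommRingCat.ofHom_comp]
    congr 3
    exact RingHom.ext fun r => ψ.commutes r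
  haveI : Flat t := by
    rw [HasRingHomProperty.Spec_iff (P := @Flat)]
    let := ψ.toRingHom.toAlgebra
    show RingHom.Flat (algebraMap L₀ L)
    rw [RingHom.flat_algebraMap_iff]
    infer_instance
  haveI : Surjective t := ⟨fun x => ⟨IsLocalRing.closedPoint L, Subsingleton.elim _ _⟩⟩
  let Z := Red.bc q T
  let p := pullback.fst Z.hom t
  haveI : Epi p := Flat.epi_of_flat_of_surjective p
  have key : DSPtsLib.theta q (𝟙 Z) ≫ α = 1 := by
    let P : Over S := Over.mk (p ≫ Z.hom ≫ q)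
    let p' : P ⟶ (Over.map q).obj Z := Over.homMk p rfl
    have h1 : p' ≫ DSPtsLib.theta q (𝟙 Z) ≫ α = 1 := ext_spec fun C b'' j => by
      let e : Spec C ⟶ Spec (CommRingCat.of L) := j.left ≫ pullback.snd Z.hom t
      have he : Spec.map (CommRingCat.ofHom (Spec.preimage e).hom) ≫ b = b'' := by
        rw [CommRingCat.ofHom_hom, Spec.map_preimage, ← hb]
        refine Eq.trans ?_ (Over.w j)
        show (j.left ≫ pullback.snd Z.hom t) ≫ t ≫ q = j.left ≫ p ≫ Z.hom ≫ q
        simp only [Category.assoc, p, pullback.condition_assoc]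
      rw [MonObj.comp_one, ← Category.assoc, ← Category.assoc]
      exact h C (Spec.preimage e).hom b'' he _
    haveI : Epi p' := (Over.forget S).epi_of_epi_map (inferInstanceAs (Epi p))
    rw [← cancel_epi p', h1, MonObj.comp_one]
  apply (DSPtsLib.theta_bijective q).injective
  have h2 : DSPtsLib.theta q (𝟙 Z ≫ (Over.pullback q).map α) = 1 :=
    (theta_pullback_map q (Y := Z) (𝟙 Z) α).trans key
  rw [Category.id_comp] at h2
  exact h2.trans (theta_one q Z).symm

section Split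

variable {U : Scheme.{u}} (g : U ⟶ S) {M : Type} [AddCommGroup M] (ψ : Red.bc g T ⟶ Red.DS U M) [IsIso ψ]
  (α : T ⟶ Red.Gm S) {B : Type u} [CommRing B] (j : Spec (CommRingCat.of B) ⟶ U)

/-- A point of a torus split over `U`, given by its characters. -/
def splitPt (f : DSPtsLib.CoordM.{u} M →+* B) : Over.mk (j ≫ g) ⟶ T :=
  DSPtsLib.theta g (DSPtsLib.pt j f ≫ inv ψ)

/-- The value of the character on such a point. -/
def splitVal (f : DSPtsLib.CoordM.{u} M →+* B) : B :=
  sval (j ≫ g) (GmPts.unitOfPt (splitPt g ψ j f ≫ α) : Γ((Over.mk (j ≫ g)).left, ⊤))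

variable {B' : Type u} [CommRing B'] (σ : B →+* B') (j' : Spec (CommRingCat.of B') ⟶ U)
  (hj : Spec.map (CommRingCat.ofHom σ) ≫ j = j')

include hj in
theorem splitPt_comp (f : DSPtsLib.CoordM.{u} M →+* B) :
    ∀ h : Spec.map (CommRingCat.ofHom σ) ≫ (j ≫ g) = j' ≫ g,
      specHom (b := j ≫ g) (b' := j' ≫ g) σ h ≫ splitPt g ψ j f = splitPt g ψ j' (σ.comp f) := by
  intro h
  have h1 := DSPtsLib.theta_comp g (Over.homMk (Spec.map (CommRingCat.ofHom σ)) hj : DSPtsLib.spU j' ⟶ DSPtsLib.spU j)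
    (DSPtsLib.pt j f ≫ inv ψ)
  rw [← Category.assoc, DSPtsLib.pt_comp j f σ j' hj] at h1
  refine Eq.trans ?_ h1.symm
  rfl

include hj in
theorem splitVal_comp (f : DSPtsLib.CoordM.{u} M →+* B) :
    splitVal g ψ α j' (σ.comp f) = σ (splitVal g ψ α j f) := by
  have h : Spec.map (CommRingCat.ofHom σ) ≫ (j ≫ g) = j' ≫ g := by rw [← Category.assoc, hj]
  unfold splitVal
  rw [GmPts.val_unitOfPt, GmPts.val_unitOfPt, ← splitPt_comp g ψ j σ j' hj f h, Category.assoc, GmPts.gmFn_comp]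
  exact sval_specHom (b := j ≫ g) (b' := j' ≫ g) σ h _

theorem splitVal_one [IsMonHom ψ] [IsMonHom α] (f : DSPtsLib.CoordM.{u} M →+* B)
    (hf : ∀ m, f (MonoidAlgebra.single m 1) = 1) : splitVal g ψ α j f = 1 := by
  have hp : DSPtsLib.pt j f * DSPtsLib.pt j f = DSPtsLib.pt j f := DSPtsLib.pt_mul j f f f (fun n => by simp [hf])
  have hf1 : DSPtsLib.pt j f = 1 := (mul_inv_cancel_right (DSPtsLib.pt j f) (DSPtsLib.pt j f)).symm.trans
    ((congrArg (· * (DSPtsLib.pt j f)⁻¹) hp).trans (mul_inv_cancel _))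
  have h1 : (1 : DSPtsLib.spU j ⟶ Red.DS U M) ≫ inv ψ = 1 := by
    rw [← cancel_mono ψ, Category.assoc, IsIso.inv_hom_id, Category.comp_id]
    exact (MonObj.one_comp ψ).symm
  have h2 : splitPt g ψ j f = 1 := by
    unfold splitPt
    rw [hf1, h1]
    exact map_one (MonoidHom.mk' (DSPtsLib.theta g (Y := DSPtsLib.spU j)) (DSPtsLib.theta_mul g))
  unfold splitVal
  rw [h2, show (1 : Over.mk (j ≫ g) ⟶ T) ≫ α = 1 from MonObj.one_comp α, GmPts.unitOfPt_one, Units.val_one,
    map_one]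

theorem trivialOver_of_splitVal [IsMonHom ψ]
    (h : ∀ (C : Type u) [CommRing C] (χ : B →+* C) (f : DSPtsLib.CoordM.{u} M →+* C),
      splitVal g ψ α (Spec.map (CommRingCat.ofHom χ) ≫ j) f = 1) : TrivialOver α (j ≫ g) := by
  intro C _ χ b'' hb x
  rw [← Category.assoc] at hb
  subst hb
  let jC : Spec (CommRingCat.of C) ⟶ U := Spec.map (CommRingCat.ofHom χ) ≫ j
  obtain ⟨x₀, rfl⟩ := (DSPtsLib.theta_bijective g (Y := DSPtsLib.spU jC) (H := T)).surjective x
  obtain ⟨f, hf⟩ := DSPtsLib.exists_eq_pt jC (x₀ ≫ ψ)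
  have h1 : x₀ = DSPtsLib.pt jC f ≫ inv ψ := by rw [← hf]; simp
  rw [h1]
  exact GmPts.gmFn_injective ((sval (jC ≫ g)).injective (by
    show sval _ (Red.gmFn (splitPt g ψ jC f ≫ α)) = sval _ (Red.gmFn 1)
    rw [← GmPts.val_unitOfPt, GmPts.gmFn_one, map_one]
    exact h C χ f))

end Split

/-- Non-degeneracy on an affine chart over which the torus is split. -/
theorem eq_zero_chart (α : T ⟶ Red.Gm S) [IsMonHom α] (hα : ∀ s : S, (Over.pullback (Red.geomPt s)).map α ≠ 1)
    {U : Scheme.{u}} (g : U ⟶ S) {r : ℕ} (ψ : Red.bc g T ⟶ Red.DS U (Fin r → ℤ)) [IsMonHom ψ] [IsIso ψ]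
    {A : Type u} [CommRing A] (j : Spec (CommRingCat.of A) ⟶ U) {k : ℕ} (hk : 0 < k) (r₀ : A)
    (h : ∀ (B : Type u) [CommRing B] (φ : A →+* B) (b' : Spec (CommRingCat.of B) ⟶ S),
      Spec.map (CommRingCat.ofHom φ) ≫ j ≫ g = b' → ∀ s : Over.mk b' ⟶ T,
        φ r₀ * (sval b' (GmPts.unitOfPt (s ≫ α) : Γ((Over.mk b').left, ⊤)) ^ k - 1) = 0) : r₀ = 0 := by
  classical
  by_contra hr
  let M := Multiplicative (Fin r → ℤ)
  obtain ⟨p, hp, hle⟩ := Ideal.exists_le_maximal (Ideal.torsionOf A A r₀) (fun htop => hr (by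
    have h1 : (1 : A) ∈ Ideal.torsionOf A A r₀ := htop ▸ Submodule.mem_top
    simpa using h1))
  letI := Ideal.Quotient.field p
  let L := AlgebraicClosure (A ⧸ p)
  let ψ₀ : A →+* L := (algebraMap (A ⧸ p) L).comp (Ideal.Quotient.mk p)
  let R := MonoidAlgebra A M
  let RL := MonoidAlgebra L M
  let unv : DSPtsLib.CoordM.{u} (Fin r → ℤ) →+* R :=
    MonoidAlgebra.mapRingHom _ ((algebraMap ℤ A).comp ULift.ringEquiv.toRingHom)
  let m : R →+* RL := MonoidAlgebra.mapRingHom M ψ₀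
  have hunvL : ∀ n : M, (m.comp unv) (MonoidAlgebra.single n 1) = (MonoidAlgebra.single n (1 : L) : RL) := fun n =>
    (congrArg m ((MonoidAlgebra.mapRingHom_single _ n 1).trans (congrArg _ (map_one _)))).trans
      ((MonoidAlgebra.mapRingHom_single ψ₀ n 1).trans (congrArg _ (map_one _)))
  let jR : Spec (CommRingCat.of R) ⟶ U :=
    Spec.map (CommRingCat.ofHom (MonoidAlgebra.singleOneRingHom : A →+* R)) ≫ j
  let bL : Spec (CommRingCat.of L) ⟶ U := Spec.map (CommRingCat.ofHom ψ₀) ≫ j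
  let jL : Spec (CommRingCat.of RL) ⟶ U :=
    Spec.map (CommRingCat.ofHom (MonoidAlgebra.singleOneRingHom : L →+* RL)) ≫ bL
  have hm : Spec.map (CommRingCat.ofHom m) ≫ jR = jL := by
    have e : m.comp (MonoidAlgebra.singleOneRingHom : A →+* R) =
        (MonoidAlgebra.singleOneRingHom : L →+* RL).comp ψ₀ := RingHom.ext fun a => MonoidAlgebra.mapRingHom_single ψ₀ (1 : M) a
    simp only [jR, jL, bL, ← Category.assoc, ← Spec.map_comp, ← CommRingCat.ofHom_comp, e]
  let w : R := splitVal g ψ α jR unv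
  let uL : RL := splitVal g ψ α jL (m.comp unv)
  have huL : uL = m w := splitVal_comp g ψ α jR m jL hm unv
  have hk1 : uL ^ k = 1 := by
    have h1 : MonoidAlgebra.single 1 r₀ * (w ^ k - 1) = 0 :=
      h R MonoidAlgebra.singleOneRingHom (jR ≫ g) (by simp [jR]) (splitPt g ψ jR unv)
    have h2 : m (w ^ k - 1) = 0 := by
      refine MonoidAlgebra.ext (Finsupp.ext fun n => ?_)
      rw [MonoidAlgebra.coeff_mapRingHom]
      have h3 : r₀ * (w ^ k - 1).coeff n = 0 :=
        (MonoidAlgebra.coeff_single_one_mul (w ^ k - 1) r₀ n).symm.trans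
          ((congrArg (fun x : R => x.coeff n) h1).trans rfl)
      have h4 : (w ^ k - 1).coeff n ∈ p := hle (by
        rw [Ideal.mem_torsionOf_iff, smul_eq_mul, _root_.mul_comm]
        simpa using h3)
      simp [ψ₀, Ideal.Quotient.eq_zero_iff_mem.mpr h4]
    rw [huL, ← sub_eq_zero, ← map_pow, ← map_one m, ← map_sub]
    exact h2
  haveI : IsDomain RL := NoZeroDivisors.to_isDomain _
  obtain ⟨c, hc⟩ := eq_algebraMap_of_pow_eq_one (L := L) uL hk hk1
  let ε : RL →+* L := (MonoidAlgebra.lift L L M (1 : M →* L)).toRingHom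
  have hε : Spec.map (CommRingCat.ofHom ε) ≫ jL = bL := by
    have e : ε.comp (MonoidAlgebra.singleOneRingHom : L →+* RL) = RingHom.id L := RingHom.ext fun a => (MonoidAlgebra.lift_single (1 : M →* L) (1 : M) a).trans (by simp)
    simp only [jL, ← Category.assoc, ← Spec.map_comp, ← CommRingCat.ofHom_comp, e]
    exact (congrArg (· ≫ bL) (Spec.map_id _)).trans (Category.id_comp _)
  have hεu : ε uL = 1 :=
    (splitVal_comp g ψ α jL ε bL hε (m.comp unv)).symm.trans
      (splitVal_one g ψ α bL _ fun n => by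
        show ε ((m.comp unv) (MonoidAlgebra.single n 1)) = 1
        rw [hunvL]
        exact (MonoidAlgebra.lift_single (1 : M →* L) n (1 : L)).trans (by simp))
  have huL1 : uL = 1 := by
    rw [hc] at hεu ⊢
    rw [show ε (algebraMap L RL c) = c by simp [ε]] at hεu
    rw [hεu, map_one]
  refine hα _ (map_eq_one_of_trivialOver α (bL ≫ g) (trivialOver_of_splitVal g ψ α bL fun C _ χ f => ?_))
  let fM : M →* C := (f.toMonoidHom).comp (MonoidAlgebra.of _ M)
  let σ : RL →+* C := MonoidAlgebra.liftNCRingHom χ fM fun _ _ => Commute.all _ _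
  have hσ : Spec.map (CommRingCat.ofHom σ) ≫ jL = Spec.map (CommRingCat.ofHom χ) ≫ bL := by
    have e : σ.comp (MonoidAlgebra.singleOneRingHom : L →+* RL) = χ := RingHom.ext fun a => (MonoidAlgebra.liftNCRingHom_single χ fM (fun _ _ => Commute.all _ _) (1 : M) a).trans (by rw [map_one, _root_.mul_one])
    simp only [jL, ← Category.assoc, ← Spec.map_comp, ← CommRingCat.ofHom_comp, e]
  have hfσ : σ.comp (m.comp unv) = f := MonoidAlgebra.ringHom_ext
    (fun n => RingHom.congr_fun (DSPtsLib.ulift_ringHom_ext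
      ((σ.comp (m.comp unv)).comp MonoidAlgebra.singleOneRingHom) (f.comp MonoidAlgebra.singleOneRingHom)) n)
    (fun n => by
      show σ ((m.comp unv) (MonoidAlgebra.single n 1)) = _
      rw [hunvL]
      exact (MonoidAlgebra.liftNCRingHom_single χ fM _ n 1).trans (by rw [map_one, _root_.one_mul]; rfl))
  rw [← hfσ, splitVal_comp g ψ α jL σ _ hσ]
  exact (congrArg σ huL1).trans (map_one σ)

/-- A function killed by `α ^ k - 1` on all torus points is zero. -/
theorem eq_zero_of_nondeg (hT : Red.IsTorus T) (α : T ⟶ Red.Gm S) [IsMonHom α]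
    (hα : ∀ s : S, (Over.pullback (Red.geomPt s)).map α ≠ 1) {k : ℕ} (hk : 0 < k) {X : Over S} (r₀ : Γ(X.left, ⊤))
    (h : ∀ (X' : Over S) (x : X' ⟶ X) (s : X' ⟶ T),
      x.left.appTop r₀ * ((GmPts.unitOfPt (s ≫ α) : Γ(X'.left, ⊤)) ^ k - 1) = 0) : r₀ = 0 := by
  obtain ⟨S', f, hf, hs, -, hloc⟩ := hT
  let p := pullback.fst X.hom f
  haveI : Epi p := Flat.epi_of_flat_of_surjective p
  suffices hP : (Over.homMk p rfl : Over.mk (p ≫ X.hom) ⟶ X) ≫ (GaPts.ptOfFn r₀ : X ⟶ Red.Ga S) =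
      (Over.homMk p rfl : Over.mk (p ≫ X.hom) ⟶ X) ≫ GaPts.ptOfFn 0 by
    haveI : Epi (Over.homMk p rfl : Over.mk (p ≫ X.hom) ⟶ X) := (Over.forget S).epi_of_epi_map (inferInstanceAs (Epi p))
    rw [cancel_epi] at hP
    simpa [GaPts.gaFn_ptOfFn] using congrArg Red.gaFn hP
  refine Over.OverMorphism.ext (Scheme.Cover.hom_ext ((S'.openCoverOfIsOpenCover (fun s : S' => (hloc s).choose) ?_).pullback₁
    (pullback.snd X.hom f)) _ _ fun s => ?_)
  · exact TopologicalSpace.IsOpenCover.mk (top_le_iff.1 fun s _ =>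
      TopologicalSpace.Opens.mem_iSup.2 ⟨s, (hloc s).choose_spec.1⟩)
  obtain ⟨r, ⟨e⟩⟩ := (hloc s).choose_spec.2
  let U := (hloc s).choose
  let g := U.ι ≫ f
  haveI : IsMonHom e.hom.hom.hom := e.hom.hom.isMonHom_hom
  haveI : IsIso e.hom.hom.hom := ((Grp.forget _).mapIso e).isIso_hom
  let Q := pullback (pullback.snd X.hom f) U.ι
  let q : Q ⟶ pullback X.hom f := pullback.fst _ _
  let Y : Over S := Over.mk (q ≫ p ≫ X.hom)
  suffices hY : (Over.homMk (q ≫ p) (Category.assoc _ _ _) : Y ⟶ X) ≫ (GaPts.ptOfFn r₀ : X ⟶ Red.Ga S) =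
      (Over.homMk (q ≫ p) (Category.assoc _ _ _) : Y ⟶ X) ≫ GaPts.ptOfFn 0 by
    have := congrArg CommaMorphism.left hY
    simp only [Over.comp_left, Over.homMk_left, Category.assoc] at this ⊢
    exact this
  refine ext_spec fun A b jA => GaPts.gaFn_injective ((sval b).injective ?_)
  let x : Over.mk b ⟶ X := jA ≫ Over.homMk (q ≫ p) (Category.assoc _ _ _)
  show sval b (Red.gaFn _) = sval b (Red.gaFn _)
  rw [← Category.assoc, ← Category.assoc, GaPts.gaFn_comp x, GaPts.gaFn_comp x, GaPts.gaFn_ptOfFn,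
    GaPts.gaFn_ptOfFn, map_zero, map_zero]
  let j : Spec A ⟶ (U : Scheme.{u}) := jA.left ≫ pullback.snd (pullback.snd X.hom f) U.ι
  have hb : j ≫ g = b := by
    refine Eq.trans ?_ (Over.w jA)
    show (jA.left ≫ pullback.snd _ U.ι) ≫ U.ι ≫ f = jA.left ≫ q ≫ p ≫ X.hom
    simp only [Category.assoc, q, p, ← pullback.condition_assoc, pullback.condition]
  refine eq_zero_chart α hα g e.hom.hom.hom (A := A) j hk _ fun B _ φ b' hb' s => ?_
  have hx : Spec.map (CommRingCat.ofHom φ) ≫ b = b' := by rw [← hb, hb']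
  have h1 := h _ (specHom φ hx ≫ x) s
  have h2 := congrArg (sval b') h1
  rw [map_mul, map_sub, map_pow, map_one, map_zero, Over.comp_left, GmPts.appTop_comp_apply] at h2
  rw [← sval_specHom (b := b) (b' := b') φ hx]
  exact h2

end Groth.Agent.GrpSchLib.RankOne
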