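import Groth.Agent.GrpSchLib.RankOneBig

/-! Homomorphisms of exponent one. -/

set_option autoImplicit false
set_option linter.style.haveILetI false

universe u

open CategoryTheory CategoryTheory.Limits AlgebraicGeometry MonoidalCategory CartesianMonoidalCategory
open scoped MonObj

noncomputable section

namespace Groth.Agent.GrpSchLib.RankOne

variable {S : Scheme.{u}} {G T : Over S} [GrpObj G] [GrpObj T] {i : T ⟶ G} [IsMonHom i] {α : T ⟶ Red.Gm S}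
  [IsMonHom α] {pp pm : Red.Ga S ⟶ G} [IsMonHom pp] [IsMonHom pm] {av : Red.Gm S ⟶ T} [IsMonHom av]
  {G' T' : Over S} [GrpObj G'] [GrpObj T'] {i' : T' ⟶ G'} [IsMonHom i'] {α' : T' ⟶ Red.Gm S} [IsMonHom α']
  {pp' pm' : Red.Ga S ⟶ G'} [IsMonHom pp'] [IsMonHom pm'] {av' : Red.Gm S ⟶ T'} [IsMonHom av']

/-- With exponent one the homomorphism scales the root groups by `c` and `c⁻¹`. -/
theorem scale_of_qOne
    (hpp : ∀ (X : Over S) (t : X ⟶ T) (x : X ⟶ Red.Ga S), ∃ x' : X ⟶ Red.Ga S,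
      x' ≫ pp = (t ≫ i) * (x ≫ pp) * (t ≫ i)⁻¹ ∧ Red.gaFn x' = Red.gmFn (t ≫ α) * Red.gaFn x)
    (hpm : ∀ (X : Over S) (t : X ⟶ T) (y : X ⟶ Red.Ga S), ∃ y' : X ⟶ Red.Ga S,
      y' ≫ pm = (t ≫ i) * (y ≫ pm) * (t ≫ i)⁻¹ ∧ Red.gaFn y' * Red.gmFn (t ≫ α) = Red.gaFn y)
    (h2 : av ≫ α = (𝟙 (Red.Gm S)) ^ 2)
    (hF : ∀ (X : Over S) (x y : X ⟶ Red.Ga S), IsUnit (1 + Red.gaFn x * Red.gaFn y) →
      ∃ (x' y' : X ⟶ Red.Ga S) (z : X ⟶ Red.Gm S), Red.gmFn z = 1 + Red.gaFn x * Red.gaFn y ∧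
        Red.gaFn x' * Red.gmFn z = Red.gaFn x ∧ Red.gaFn y' * Red.gmFn z = Red.gaFn y ∧
        (x ≫ pp) * (y ≫ pm) = (y' ≫ pm) * (z ≫ av ≫ i) * (x' ≫ pp))
    [IsAffineHom G'.hom] (hT' : Red.IsTorus T')
    (hpp' : ∀ (X : Over S) (t : X ⟶ T') (x : X ⟶ Red.Ga S), ∃ x' : X ⟶ Red.Ga S,
      x' ≫ pp' = (t ≫ i') * (x ≫ pp') * (t ≫ i')⁻¹ ∧ Red.gaFn x' = Red.gmFn (t ≫ α') * Red.gaFn x)
    (hpm' : ∀ (X : Over S) (t : X ⟶ T') (y : X ⟶ Red.Ga S), ∃ y' : X ⟶ Red.Ga S,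
      y' ≫ pm' = (t ≫ i') * (y ≫ pm') * (t ≫ i')⁻¹ ∧ Red.gaFn y' * Red.gmFn (t ≫ α') = Red.gaFn y)
    (hΩ' : IsOpenImmersion (cellMap i' pp' pm').left) (h2' : av' ≫ α' = (𝟙 (Red.Gm S)) ^ 2)
    (hF' : ∀ (X : Over S) (x y : X ⟶ Red.Ga S), IsUnit (1 + Red.gaFn x * Red.gaFn y) →
      ∃ (x' y' : X ⟶ Red.Ga S) (z : X ⟶ Red.Gm S), Red.gmFn z = 1 + Red.gaFn x * Red.gaFn y ∧
        Red.gaFn x' * Red.gmFn z = Red.gaFn x ∧ Red.gaFn y' * Red.gmFn z = Red.gaFn y ∧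
        (x ≫ pp') * (y ≫ pm') = (y' ≫ pm') * (z ≫ av' ≫ i') * (x' ≫ pp'))
    (c : 𝟙_ (Over S) ⟶ Red.Gm S) {fT : T ⟶ T'} (hfTav : av ≫ fT = av') (f : G ⟶ G') [IsMonHom f]
    (hfT : i ≫ f = fT ≫ i')
    (hf : ∀ (X : Over S) (x y : X ⟶ Red.Ga S), Red.gaFn y = Red.gmFn (toUnit X ≫ c) * Red.gaFn x →
      (x ≫ pp) ≫ f = y ≫ pp') :
    pp ≫ f = (scaleIso c).hom ≫ pp' ∧ pm ≫ f = (scaleIso c).inv ≫ pm' := by
  have hI : ∀ (X : Over S) (z : (Γ(X.left, ⊤))ˣ),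
      (GmPts.ptOfUnit z ≫ av ≫ i) ≫ f = GmPts.ptOfUnit (z ^ 1) ≫ av' ≫ i' := fun X z => by
    rw [Category.assoc, Category.assoc, hfT, pow_one, ← hfTav, Category.assoc]
  obtain ⟨a, ha⟩ := exists_pm_coeff f 1 hpm h2 hT' hpp' hpm' hΩ' h2' one_pos hI
  have hone := coeff_mul_eq_one f 1 (fun X => sys i α pp pm hpp hpm av h2 hF X)
    (fun X => sys i' α' pp' pm' hpp' hpm' av' h2' hF' X) (fun _ _ => rfl) (fun _ _ => rfl) (fun _ _ => rfl)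
    (fun _ _ => rfl) (fun _ _ => rfl) hΩ' one_pos (fun _ _ _ => by simp) (fun X z => by
      refine Eq.trans ?_ ((hI X z).trans (Category.assoc (GmPts.ptOfUnit (z ^ 1)) av' i').symm)
      exact congrArg (· ≫ f) (Category.assoc (GmPts.ptOfUnit z) av i))
    (GaPts.ptOfFn (Red.gmFn c)) a
    (fun X v => by
      rw [exists_unit_const X]
      exact (Category.assoc _ _ _).symm.trans (hf X _ _ (by simp only [GaPts.gaFn_ptOfFn, pow_one]))) ha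
  constructor
  · have h := hf (Red.Ga S) (𝟙 _) (𝟙 _ ≫ (scaleIso c).hom) (scaleIso_hom c _)
    simpa using h
  · have h := ha (Red.Ga S) (Red.gaFn (𝟙 _))
    rw [← ga_eq_ptOfFn, pow_one, Category.id_comp] at h
    rw [h]
    refine congrArg (· ≫ pm') (GaPts.gaFn_injective ?_)
    simp only [GaPts.gaFn_ptOfFn]
    have h1 := scaleIso_inv c (𝟙 (Red.Ga S))
    rw [Category.id_comp] at h1
    have h2 := hone (Red.Ga S)
    rw [exists_unit_const] at h2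
    linear_combination Red.gaFn (scaleIso c).inv * h2 - Red.gaFn (toUnit (Red.Ga S) ≫ a) * h1

end Groth.Agent.GrpSchLib.RankOne
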