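import Groth.Agent.GrpSchLib.RankOneHom

/-! Transferring relations of a rank-one system along a homomorphism, on points. -/

set_option autoImplicit false

universe u

open CategoryTheory AlgebraicGeometry MonoidalCategory CartesianMonoidalCategory
open scoped MonObj

namespace Groth.Agent.GrpSchLib.RankOne

namespace Sys

variable {R G T G' T' : Type*} [CommRing R] [Group G] [Group T] [Group G'] [Group T'] (Φ : Sys R G T)
  (Φ' : Sys R G' T') (F : G →* G') {q : ℕ} (c : Rˣ)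

theorem w_of_roots (hneg : ∀ x : R, (-x) ^ q = -(x ^ q))
    (hp : ∀ x, F (Φ.p x) = Φ'.p (c * x ^ q)) (hm : ∀ y, F (Φ.m y) = Φ'.m (((c⁻¹ : Rˣ) : R) * y ^ q)) (x : Rˣ) :
    F (Φ.w x) = Φ'.w (c * x ^ q) := by
  simp only [w, map_mul, hp, hm, hneg, mul_neg, mul_inv_rev, Units.val_mul, Units.val_pow_eq_pow_val, ← inv_pow,
    mul_comm ((c⁻¹ : Rˣ) : R), neg_mul]

theorem coroot_of_w (hw : ∀ x : Rˣ, F (Φ.w x) = Φ'.w (c * x ^ q)) (z : Rˣ) :
    F (Φ.I (Φ.av z)) = Φ'.I (Φ'.av (z ^ q)) := by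
  have h := hw (z * 1)
  rw [w_mul, map_mul, hw 1, mul_one, one_pow, mul_one, mul_comm c, w_mul] at h
  exact mul_right_cancel h

end Sys

variable {S : Scheme.{u}} {G T G' : Over S} [GrpObj G] [GrpObj G']

/-- Composition with a homomorphism, on points. -/
def postHom (f : G ⟶ G') [IsMonHom f] (X : Over S) : (X ⟶ G) →* (X ⟶ G') where
  toFun g := g ≫ f
  map_one' := MonObj.one_comp f
  map_mul' g h := MonObj.mul_comp g h f

theorem ga_eq_ptOfFn {X : Over S} (x : X ⟶ Red.Ga S) : x = GaPts.ptOfFn (Red.gaFn x) :=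
  GaPts.gaFn_injective (GaPts.gaFn_ptOfFn _).symm

/-- The unit of a point of the multiplicative group, as a global constant. -/
theorem exists_unit_const {c : 𝟙_ (Over S) ⟶ Red.Gm S} (X : Over S) :
    Red.gaFn (toUnit X ≫ (GaPts.ptOfFn (Red.gmFn c) : 𝟙_ (Over S) ⟶ Red.Ga S)) = Red.gmFn (toUnit X ≫ c) := by
  rw [GaPts.gaFn_comp, GaPts.gaFn_ptOfFn, GmPts.gmFn_comp]

end Groth.Agent.GrpSchLib.RankOne
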