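import Groth.Agent.GrpSchLib.RankOneTorusPts
import Groth.Agent.GrpSchLib.RankOneDense
import Groth.Agent.GrpSchLib.RankOneCentral
import Groth.Agent.GrpSchLib.RankOneTransfer

/-! A line in a rank-one group on which the torus acts by the positive root is the positive root group. -/

set_option autoImplicit false
set_option linter.style.haveILetI false

universe u

open CategoryTheory CategoryTheory.Limits AlgebraicGeometry MonoidalCategory CartesianMonoidalCategory
open scoped MonObj Polynomial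

noncomputable section

namespace Groth.Agent.GrpSchLib.RankOne

variable {S : Scheme.{u}} {G T : Over S} [GrpObj G] [GrpObj T] {i : T ⟶ G} [IsMonHom i] {α : T ⟶ Red.Gm S}
  [IsMonHom α] {pp pm : Red.Ga S ⟶ G} [IsMonHom pp] [IsMonHom pm]

/-- Non-degeneracy tested on affine bases. -/
theorem eq_zero_of_nondeg_affine (hT : Red.IsTorus T) (hα : ∀ s : S, (Over.pullback (Red.geomPt s)).map α ≠ 1)
    {A : CommRingCat.{u}} (b : Spec A ⟶ S) {k : ℕ} (hk : 0 < k) (r : A)
    (h : ∀ (B : CommRingCat.{u}) (φ : A →+* B) (b' : Spec B ⟶ S), Spec.map (CommRingCat.ofHom φ) ≫ b = b' →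
      ∀ s : Over.mk b' ⟶ T, φ r * (sval b' (GmPts.unitOfPt (s ≫ α) : Γ((Over.mk b').left, ⊤)) ^ k - 1) = 0) :
    r = 0 := by
  refine (sval b).symm.injective ((eq_zero_of_nondeg hT α hα hk ((sval b).symm r) fun X' x s => ?_).trans
    (map_zero (sval b).symm).symm)
  let v : Γ(X'.left, ⊤) := x.left.appTop ((sval b).symm r) * ((GmPts.unitOfPt (s ≫ α) : Γ(X'.left, ⊤)) ^ k - 1)
  have hv : (GaPts.ptOfFn v : X' ⟶ Red.Ga S) = GaPts.ptOfFn 0 := ext_spec fun B b' j => by
    refine GaPts.gaFn_injective ((sval b').injective ?_)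
    show sval b' (Red.gaFn (j ≫ GaPts.ptOfFn v)) = sval b' (Red.gaFn (j ≫ GaPts.ptOfFn 0))
    rw [GaPts.gaFn_comp, GaPts.gaFn_comp, GaPts.gaFn_ptOfFn, GaPts.gaFn_ptOfFn, map_zero, map_zero]
    let φ : A →+* B := (Spec.preimage (j ≫ x).left).hom
    have hφ : Spec.map (CommRingCat.ofHom φ) ≫ b = b' := by
      rw [CommRingCat.ofHom_hom, Spec.map_preimage]
      exact Over.w (j ≫ x)
    have hjx : j ≫ x = specHom φ hφ := by
      ext1
      simp [specHom, φ]
    have e1 : sval b' (j.left.appTop (x.left.appTop ((sval b).symm r))) = φ r := by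
      rw [← GmPts.appTop_comp_apply, ← Over.comp_left, hjx, sval_specHom, RingEquiv.apply_symm_apply]
    have e2 : sval b' (j.left.appTop (GmPts.unitOfPt (s ≫ α) : Γ(X'.left, ⊤))) =
        sval b' (GmPts.unitOfPt ((j ≫ s) ≫ α) : Γ((Over.mk b').left, ⊤)) := by
      rw [GmPts.val_unitOfPt, GmPts.val_unitOfPt, Category.assoc, GmPts.gmFn_comp j]
    simp only [v, map_mul, map_sub, map_pow, map_one, e1, e2]
    exact h B φ b' hφ (j ≫ s)
  have := congrArg Red.gaFn hv
  rwa [GaPts.gaFn_ptOfFn, GaPts.gaFn_ptOfFn] at this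

section SplitLocal

variable {U : Scheme.{u}} (g : U ⟶ S) {M : Type} [AddCommGroup M] (ψ : Red.bc g T ⟶ Red.DS U M) [IsIso ψ]
  {B : Type u} [CommRing B] (j : Spec (CommRingCat.of B) ⟶ U)

omit [GrpObj T] [IsMonHom α] in
theorem exists_eq_splitPt (x : Over.mk (j ≫ g) ⟶ T) : ∃ f, x = splitPt g ψ j f := by
  obtain ⟨x₀, rfl⟩ := (DSPtsLib.theta_bijective g (Y := DSPtsLib.spU j) (H := T)).surjective x
  obtain ⟨f, hf⟩ := DSPtsLib.exists_eq_pt j (x₀ ≫ ψ)
  exact ⟨f, congrArg (DSPtsLib.theta g) (by rw [← hf]; simp)⟩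

omit [GrpObj T] [IsMonHom α] in
theorem splitPt_injective {f f' : DSPtsLib.CoordM.{u} M →+* B} (h : splitPt g ψ j f = splitPt g ψ j f') : f = f' := by
  have h1 := (cancel_mono (inv ψ)).mp ((DSPtsLib.theta_bijective g).injective h)
  have h2 := congrArg (fun z : DSPtsLib.spU j ⟶ Red.DS U M => z.left ≫ pullback.fst _ _) h1
  simp only [DSPtsLib.pt_fst] at h2
  exact congrArg CommRingCat.Hom.hom (Spec.map_injective h2)

end SplitLocal

omit [IsMonHom α] in
/-- Morphisms are compared on affine bases over which the torus is split. -/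
theorem eq_of_split_local (hT : Red.IsTorus T) {X Y : Over S} {F F' : X ⟶ Y}
    (h : ∀ (A : CommRingCat.{u}) (b : Spec A ⟶ S) (jA : Over.mk b ⟶ X) (U : Scheme.{u}) (g : U ⟶ S) (r : ℕ)
      (ψ : Red.bc g T ⟶ Red.DS U (Fin r → ℤ)) [IsMonHom ψ] [IsIso ψ] (j : Spec A ⟶ U), j ≫ g = b → jA ≫ F = jA ≫ F') :
    F = F' := by
  obtain ⟨S', f, hf, hs, -, hloc⟩ := hT
  let p := pullback.fst X.hom f
  haveI : Epi p := Flat.epi_of_flat_of_surjective p
  haveI : Epi (Over.homMk p rfl : Over.mk (p ≫ X.hom) ⟶ X) := (Over.forget S).epi_of_epi_map (inferInstanceAs (Epi p))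
  rw [← cancel_epi (Over.homMk p rfl : Over.mk (p ≫ X.hom) ⟶ X)]
  refine Over.OverMorphism.ext (Scheme.Cover.hom_ext ((S'.openCoverOfIsOpenCover (fun s : S' => (hloc s).choose) ?_).pullback₁
    (pullback.snd X.hom f)) _ _ fun s => ?_)
  · exact TopologicalSpace.IsOpenCover.mk (top_le_iff.1 fun s _ =>
      TopologicalSpace.Opens.mem_iSup.2 ⟨s, (hloc s).choose_spec.1⟩)
  obtain ⟨r, ⟨e⟩⟩ := (hloc s).choose_spec.2
  let U := (hloc s).choose
  haveI : IsMonHom e.hom.hom.hom := e.hom.hom.isMonHom_hom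
  haveI : IsIso e.hom.hom.hom := ((Grp.forget _).mapIso e).isIso_hom
  let Q := pullback (pullback.snd X.hom f) U.ι
  let q : Q ⟶ pullback X.hom f := pullback.fst _ _
  let Y' : Over S := Over.mk (q ≫ p ≫ X.hom)
  suffices hY : (Over.homMk (q ≫ p) (Category.assoc _ _ _) : Y' ⟶ X) ≫ F =
      (Over.homMk (q ≫ p) (Category.assoc _ _ _) : Y' ⟶ X) ≫ F' by
    have := congrArg CommaMorphism.left hY
    simp only [Over.comp_left, Over.homMk_left, Category.assoc] at this ⊢
    exact this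
  refine ext_spec fun A b jA => ?_
  rw [← Category.assoc, ← Category.assoc]
  refine h A b _ U (U.ι ≫ f) r e.hom.hom.hom (jA.left ≫ pullback.snd (pullback.snd X.hom f) U.ι) ?_
  refine Eq.trans ?_ (Over.w jA)
  show (jA.left ≫ pullback.snd _ U.ι) ≫ U.ι ≫ f = jA.left ≫ q ≫ p ≫ X.hom
  simp only [Category.assoc, q, p, ← pullback.condition_assoc, pullback.condition]

section Subst

variable {A : CommRingCat.{u}} (b : Spec A ⟶ S) {B : CommRingCat.{u}} (φ : A →+* B) {b' : Spec B ⟶ S}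
  (hb : Spec.map (CommRingCat.ofHom φ) ≫ b = b')

/-- Substituting `q` for the coordinate. -/
abbrev substHom (q : B[X]) : A[X] →+* B[X] := Polynomial.eval₂RingHom ((Polynomial.C : B →+* B[X]).comp φ) q

include hb in
theorem substHom_base (q : B[X]) :
    Spec.map (CommRingCat.ofHom (substHom φ q)) ≫ lineBase b = lineBase b' := by
  subst hb
  simp only [lineBase, ← Category.assoc, ← Spec.map_comp, ← CommRingCat.ofHom_comp,
    show (substHom φ q).comp Polynomial.C = (Polynomial.C : B →+* B[X]).comp φ from RingHom.ext fun a => by simp]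

theorem specHom_subst (q : B[X]) :
    specHom (substHom φ q) (substHom_base b φ hb q) ≫ linePt b = GaPts.ptOfFn ((sval (lineBase b')).symm q) := by
  rw [linePt, specHom_ptOfFn]
  simp

include hb in
theorem sval_subst (F : Red.Ga S ⟶ Red.Ga S) (q : B[X]) :
    sval (lineBase b') (Red.gaFn (GaPts.ptOfFn ((sval (lineBase b')).symm q) ≫ F)) =
      substHom φ q (sval (lineBase b) (Red.gaFn (linePt b ≫ F))) := by
  rw [← specHom_subst b φ hb q, Category.assoc]
  exact (congrArg (sval (lineBase b'))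
    (GaPts.gaFn_comp (specHom (b := lineBase b) (b' := lineBase b') (substHom φ q) (substHom_base b φ hb q))
      (linePt b ≫ F))).trans
    (sval_specHom (b := lineBase b) (b' := lineBase b') (substHom φ q) (substHom_base b φ hb q) _)

theorem coeff_subst (P : A[X]) (c : B) (n : ℕ) :
    (substHom φ (Polynomial.C c * Polynomial.X) P).coeff n = φ (P.coeff n) * c ^ n := by
  rw [Polynomial.coe_eval₂RingHom, ← Polynomial.eval₂_map, ← Polynomial.comp, Polynomial.comp_C_mul_X_coeff,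
    Polynomial.coeff_map]

theorem substHom_X (P : A[X]) : substHom φ Polynomial.X P = P.map φ := rfl

end Subst

variable (hT : Red.IsTorus T) {Q : Over S} [GrpObj Q] (hQ : Red.IsTorus Q) {j₀ : Q ⟶ T} [IsMonHom j₀]
  (hα : ∀ s : S, (Over.pullback (Red.geomPt s)).map (j₀ ≫ α) ≠ 1) {q₀ : ℕ}
  (hpp : ∀ (X : Over S) (t : X ⟶ T) (x : X ⟶ Red.Ga S), ∃ x' : X ⟶ Red.Ga S,
      x' ≫ pp = (t ≫ i) * (x ≫ pp) * (t ≫ i)⁻¹ ∧ Red.gaFn x' = Red.gmFn (t ≫ α) * Red.gaFn x)
  (hpm : ∀ (X : Over S) (t : X ⟶ T) (y : X ⟶ Red.Ga S), ∃ y' : X ⟶ Red.Ga S,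
      y' ≫ pm = (t ≫ i) * (y ≫ pm) * (t ≫ i)⁻¹ ∧ Red.gaFn y' * Red.gmFn (t ≫ α) = Red.gaFn y)
  (hΩ : IsOpenImmersion (cellMap i pp pm).left)
  {p : Red.Ga S ⟶ G} [IsMonHom p]
  (hp : ∀ (X : Over S) (t : X ⟶ Q) (x x' : X ⟶ Red.Ga S), Red.gaFn x' = Red.gmFn (t ≫ j₀ ≫ α) * Red.gaFn x →
      x' ≫ p = ((t ≫ j₀ ≫ i) ^ q₀) * (x ≫ p) * ((t ≫ j₀ ≫ i) ^ q₀)⁻¹)

theorem conj_line (hp : ∀ (X : Over S) (t : X ⟶ Q) (x x' : X ⟶ Red.Ga S),
      Red.gaFn x' = Red.gmFn (t ≫ j₀ ≫ α) * Red.gaFn x →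
      x' ≫ p = ((t ≫ j₀ ≫ i) ^ q₀) * (x ≫ p) * ((t ≫ j₀ ≫ i) ^ q₀)⁻¹)
    {X : Over S} (t : X ⟶ Q) (x : X ⟶ Red.Ga S) :
    (((t ≫ j₀) ^ q₀) ≫ i) * (x ≫ p) * (((t ≫ j₀) ^ q₀) ≫ i)⁻¹ =
      GaPts.ptOfFn (GmPts.unitOfPt (t ≫ j₀ ≫ α) * Red.gaFn x : Γ(X.left, ⊤)) ≫ p := by
  rw [MonObj.pow_comp, Category.assoc, hp X t x (GaPts.ptOfFn (GmPts.unitOfPt (t ≫ j₀ ≫ α) * Red.gaFn x : Γ(X.left, ⊤)))
    (by rw [GaPts.gaFn_ptOfFn, GmPts.val_unitOfPt])]

theorem unit_pow {X : Over S} (t : X ⟶ Q) (n : ℕ) :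
    GmPts.unitOfPt (((t ≫ j₀) ^ n) ≫ α) = GmPts.unitOfPt (t ≫ j₀ ≫ α) ^ n := by
  rw [show ((t ≫ j₀) ^ n) ≫ α = ((t ≫ j₀) ≫ α) ^ n from MonObj.pow_comp _ _ α, Category.assoc]
  exact map_pow (GmPts.equiv X) _ n

include hT hQ hα hpp hpm hΩ hp

/-- An equivariant line lies in the cell. -/
theorem mem_cell_root : ∃ (a : Red.Ga S ⟶ Red.Ga S) (t : Red.Ga S ⟶ T) (d : Red.Ga S ⟶ Red.Ga S),
    p = (a ≫ pm) * (t ≫ i) * (d ≫ pp) := by
  refine exists_coords hΩ p fun K hK b j _ => ?_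
  letI := hK.toField
  haveI := hΩ
  let y : K := sval b (Red.gaFn j)
  let k : Over.mk (lineBase b) ⟶ G := linePt b ≫ p
  let x0 : Spec (lineRing K) := Spec.map (CommRingCat.ofHom (Polynomial.evalRingHom (0 : K))) (IsLocalRing.closedPoint K)
  let V : (Spec (lineRing K)).Opens := k.left ⁻¹ᵁ (cellMap i pp pm).left.opensRange
  have hx0 : x0 ∈ V := by
    have h1 : specHom _ (eval_base b 0) ≫ k = (lift (lift 1 1) 1 : Over.mk b ⟶ _) ≫ cellMap i pp pm := by
      rw [← Category.assoc, specHom_eval_linePt, map_zero, ga_zero_comp, cell_comp, MonObj.one_comp, MonObj.one_comp,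
        MonObj.one_comp]
      simp
    exact ⟨_, (congrArg (fun l : Over.mk b ⟶ G => l.left (IsLocalRing.closedPoint K)) h1).symm⟩
  obtain ⟨_, ⟨g, rfl⟩, hg0, hgV⟩ :=
    PrimeSpectrum.isTopologicalBasis_basic_opens.exists_subset_of_mem_open hx0 V.isOpen
  have hg : g.eval 0 ≠ 0 := fun h => hg0 (show Polynomial.evalRingHom 0 g ∈ IsLocalRing.maximalIdeal K by
    rw [Polynomial.coe_evalRingHom, h]; exact zero_mem _)
  obtain ⟨L, _, θ, b', -, hb, hs⟩ := exists_notMem hQ (j₀ ≫ α) hα (K := K) b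
  classical
  let y' : L := θ y
  let q : L[X] := (g.map θ).comp (Polynomial.C y' * Polynomial.X)
  have hq : q ≠ 0 := fun h => hg (θ.injective (by
    have := congrArg (Polynomial.eval 0) h
    simpa [q, Polynomial.eval_comp] using this))
  obtain ⟨s, hsZ⟩ := hs q.roots.toFinset
  let uu : L := sval b' (GmPts.unitOfPt (s ≫ j₀ ≫ α) : Γ((Over.mk b').left, ⊤))
  have hne : g.eval₂ θ (uu * y') ≠ 0 := fun h => hsZ (by
    rw [Multiset.mem_toFinset, Polynomial.mem_roots hq, Polynomial.IsRoot.def]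
    simp only [q, Polynomial.eval_comp, Polynomial.eval_mul, Polynomial.eval_C, Polynomial.eval_X,
      Polynomial.eval_map]
    rwa [_root_.mul_comm y'])
  have he : Spec.map (CommRingCat.ofHom (Polynomial.eval₂RingHom θ (uu * y'))) ≫ lineBase b = b' := by
    rw [← hb, ← Category.assoc, ← Spec.map_comp, ← CommRingCat.ofHom_comp,
      show (Polynomial.eval₂RingHom θ (uu * y')).comp Polynomial.C = θ from RingHom.ext fun a => by simp]
  have hpt : (GaPts.ptOfFn ((sval b').symm (uu * y')) : Over.mk b' ⟶ Red.Ga S) ≫ p =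
      specHom (b := lineBase b) (b' := b') _ he ≫ k := by
    rw [← Category.assoc, linePt, specHom_ptOfFn]
    simp
  obtain ⟨A₁, T₁, D₁, h1⟩ := exists_coords_of_mem (K := L) hΩ
    ((GaPts.ptOfFn ((sval b').symm (uu * y')) : Over.mk b' ⟶ Red.Ga S) ≫ p) (by
      rw [hpt]
      refine hgV ?_
      show Polynomial.eval₂RingHom θ (uu * y') g ∉ IsLocalRing.maximalIdeal L
      rw [IsLocalRing.maximalIdeal_eq_bot]
      exact hne)
  have hj : specHom (b := b) (b' := b') θ hb ≫ j = GaPts.ptOfFn ((sval b').symm y') := by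
    refine GaPts.gaFn_injective ((sval b').injective ?_)
    show sval b' (Red.gaFn _) = sval b' (Red.gaFn _)
    rw [GaPts.gaFn_comp, sval_specHom, GaPts.gaFn_ptOfFn, RingEquiv.apply_symm_apply]
  have hconj := conj_line hp s (specHom (b := b) (b' := b') θ hb ≫ j)
  have hval : (GaPts.ptOfFn (GmPts.unitOfPt (s ≫ j₀ ≫ α) * Red.gaFn (specHom (b := b) (b' := b') θ hb ≫ j) :
      Γ((Over.mk b').left, ⊤)) : Over.mk b' ⟶ Red.Ga S) = GaPts.ptOfFn ((sval b').symm (uu * y')) := by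
    refine congrArg _ ((sval b').injective ?_)
    rw [hj, GaPts.gaFn_ptOfFn, map_mul, RingEquiv.apply_symm_apply, RingEquiv.apply_symm_apply]
  rw [hval, h1] at hconj
  have hmem : (specHom (b := b) (b' := b') θ hb ≫ j ≫ p).left (IsLocalRing.closedPoint L) ∈
      Set.range (cellMap i pp pm).left := by
    have h2 := congrArg (fun z => ((((s ≫ j₀) ^ q₀)⁻¹) ≫ i) * z * ((((s ≫ j₀) ^ q₀)⁻¹) ≫ i)⁻¹) hconj
    simp only [GrpObj.inv_comp, inv_inv] at h2
    have h3 : specHom (b := b) (b' := b') θ hb ≫ j ≫ p =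
        ((((s ≫ j₀) ^ q₀)⁻¹) ≫ i) * ((A₁ ≫ pm) * (T₁ ≫ i) * (D₁ ≫ pp)) * ((((s ≫ j₀) ^ q₀)⁻¹) ≫ i)⁻¹ := by
      rw [GrpObj.inv_comp, inv_inv, ← h2, Category.assoc]
      group
    rw [h3, conj_cell hpp hpm, ← cell_comp]
    exact ⟨_, rfl⟩
  have hcp : (specHom (b := b) (b' := b') θ hb).left (IsLocalRing.closedPoint L) = IsLocalRing.closedPoint K :=
    Subsingleton.elim (α := Spec (CommRingCat.of K)) _ _
  refine exists_coords_of_mem (K := K) hΩ (j ≫ p) ?_
  rw [← hcp]
  exact hmem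

/-- An equivariant line is a multiple of the positive root group. -/
theorem exists_coeff_root :
    ∃ c : 𝟙_ (Over S) ⟶ Red.Ga S, ∀ (X : Over S) (y : Γ(X.left, ⊤)),
      GaPts.ptOfFn y ≫ p = GaPts.ptOfFn (Red.gaFn (toUnit X ≫ c) * y ^ q₀) ≫ pp := by
  obtain ⟨a, τ, d, hf⟩ := mem_cell_root hT hQ hα hpp hpm hΩ hp
  have hfy : ∀ {X : Over S} (x : X ⟶ Red.Ga S),
      x ≫ p = ((x ≫ a) ≫ pm) * ((x ≫ τ) ≫ i) * ((x ≫ d) ≫ pp) := fun x => by
    rw [hf, MonObj.comp_mul, MonObj.comp_mul]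
    simp only [Category.assoc]
  have key : ∀ {X : Over S} (t : X ⟶ Q) (y : Γ(X.left, ⊤)),
      _ ∧ _ ∧ _ := fun {X} t y => by
    have h := conj_line hp t (GaPts.ptOfFn y)
    rw [GaPts.gaFn_ptOfFn, hfy, hfy, conj_cell hpp hpm, unit_pow (j₀ := j₀) t q₀, Units.val_pow_eq_pow_val] at h
    exact cell_ext hΩ h.symm
  have hzero : ∀ (A : CommRingCat.{u}) (b : Spec A ⟶ S),
      (sval (lineBase b) (Red.gaFn (linePt b ≫ a))).coeff 0 = 0 ∧
        (sval (lineBase b) (Red.gaFn (linePt b ≫ d))).coeff 0 = 0 := fun A b => by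
    have h0 := hfy (GaPts.ptOfFn 0 : Over.mk b ⟶ Red.Ga S)
    rw [ga_zero_comp] at h0
    obtain ⟨e1, -, e3⟩ := cell_ext hΩ (h0.symm.trans (show (1 : Over.mk b ⟶ G) =
      ((1 : Over.mk b ⟶ Red.Ga S) ≫ pm) * ((1 : Over.mk b ⟶ T) ≫ i) * ((1 : Over.mk b ⟶ Red.Ga S) ≫ pp) by
        rw [MonObj.one_comp, MonObj.one_comp, MonObj.one_comp, _root_.one_mul, _root_.one_mul]))
    constructor
    · rw [Polynomial.coeff_zero_eq_eval_zero, ← sval_gaFn_comp, map_zero, e1, GaPts.gaFn_one, map_zero]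
    · rw [Polynomial.coeff_zero_eq_eval_zero, ← sval_gaFn_comp, map_zero, e3, GaPts.gaFn_one, map_zero]
  -- the three coordinates on the universal point
  have ha : a = 1 := ext_line fun A b => GaPts.gaFn_injective ((sval (lineBase b)).injective (by
    show sval _ (Red.gaFn (linePt b ≫ a)) = sval _ (Red.gaFn (linePt b ≫ 1))
    rw [MonObj.comp_one, GaPts.gaFn_one, map_zero]
    refine Polynomial.ext fun n => ?_
    rw [Polynomial.coeff_zero]
    rcases Nat.eq_zero_or_pos n with rfl | hn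
    · exact (hzero A b).1
    refine eq_zero_of_nondeg_affine (α := j₀ ≫ α) hQ hα b (k := n + q₀) (by omega) _ fun B φ b' hb s => ?_
    let uu : B := sval b' (GmPts.unitOfPt (s ≫ j₀ ≫ α) : Γ((Over.mk b').left, ⊤))
    let sC : Over.mk (lineBase b') ⟶ Q := specHom (b := b') (b' := lineBase b') (Polynomial.C : B →+* B[X]) rfl ≫ s
    have hu : sval (lineBase b') (GmPts.unitOfPt (sC ≫ j₀ ≫ α) : Γ((Over.mk (lineBase b')).left, ⊤)) = Polynomial.C uu := by
      rw [GmPts.val_unitOfPt, Category.assoc, GmPts.gmFn_comp, sval_specHom]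
      rfl
    have h := congrArg (fun z => Red.gaFn z) (key sC ((sval (lineBase b')).symm Polynomial.X)).1
    simp only [GaPts.gaFn_ptOfFn] at h
    have h' := congrArg (fun z => (GmPts.unitOfPt (sC ≫ j₀ ≫ α) : Γ((Over.mk (lineBase b')).left, ⊤)) ^ q₀ * z) h
    rw [← Units.val_pow_eq_pow_val, Units.mul_inv_cancel_left, Units.val_pow_eq_pow_val] at h'
    have h'' := congrArg (sval (lineBase b')) h'
    rw [map_mul, map_pow, hu, show (GmPts.unitOfPt (sC ≫ j₀ ≫ α) : Γ((Over.mk (lineBase b')).left, ⊤)) *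
      (sval (lineBase b')).symm Polynomial.X = (sval (lineBase b')).symm (Polynomial.C uu * Polynomial.X) from
        (sval (lineBase b')).injective (by rw [map_mul, hu]; simp),
      sval_subst b φ hb a, sval_subst b φ hb a] at h''
    have h3 := congrArg (fun z : B[X] => z.coeff n) h''
    simp only [← Polynomial.C_pow, Polynomial.coeff_C_mul, coeff_subst, substHom_X, Polynomial.coeff_map] at h3
    show φ _ * (uu ^ (n + q₀) - 1) = 0
    linear_combination h3))
  have hτ' : τ = 1 := eq_of_split_local hT fun A b jA U g r ψ _ _ j hj => by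
    subst hj
    let jL : Spec (lineRing A) ⟶ U := Spec.map (CommRingCat.ofHom (Polynomial.C : A →+* A[X])) ≫ j
    have h0 : Spec.map (CommRingCat.ofHom (RingHom.id A[X])) ≫ lineBase (j ≫ g) = jL ≫ g := by
      simp only [lineBase, jL, ← Category.assoc, ← Spec.map_comp, ← CommRingCat.ofHom_comp, RingHom.id_comp]
    let e0 : Over.mk (jL ≫ g) ⟶ Over.mk (lineBase (j ≫ g)) :=
      specHom (A := lineRing A) (B := lineRing A) (b := lineBase (j ≫ g)) (b' := jL ≫ g) _ h0
    let x : Over.mk (jL ≫ g) ⟶ T := e0 ≫ linePt (j ≫ g) ≫ τ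
    obtain ⟨f, hf⟩ := exists_eq_splitPt g ψ jL x
    have hval : ∀ (C' : CommRingCat.{u}) (e : A[X] →+* C') (jC : Spec C' ⟶ U)
        (_ : Spec.map (CommRingCat.ofHom e) ≫ jL = jC),
        splitPt g ψ jC (e.comp f) = (GaPts.ptOfFn ((sval (jC ≫ g)).symm (e Polynomial.X)) : _ ⟶ Red.Ga S) ≫ τ := by
      intro C' e jC he
      have h' : Spec.map (CommRingCat.ofHom e) ≫ jL ≫ g = jC ≫ g := by rw [← Category.assoc, he]
      rw [← splitPt_comp g ψ jL e jC he f h', ← hf]
      simp only [x, e0, ← Category.assoc]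
      congr 1
      have h'' : Spec.map (CommRingCat.ofHom e) ≫ lineBase (j ≫ g) = jC ≫ g := by
        rw [← h', ← h0, CommRingCat.ofHom_id, Spec.map_id, Category.id_comp]
      rw [show specHom (A := lineRing A) (b := jL ≫ g) (b' := jC ≫ g) e h' ≫
          specHom (A := lineRing A) (B := lineRing A) (b := lineBase (j ≫ g)) (b' := jL ≫ g) _ h0 =
          specHom (A := lineRing A) (b := lineBase (j ≫ g)) (b' := jC ≫ g) e h'' by
        ext1
        simp [specHom], linePt]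
      refine (specHom_ptOfFn (A := lineRing A) (b := lineBase (j ≫ g)) (b' := jC ≫ g) e h'' _).trans ?_
      simp
    have hcoef : ∀ (r₁ : DSPtsLib.CoordM.{u} (Fin r → ℤ)) (n : ℕ), 0 < n → (f r₁).coeff n = 0 := fun r₁ n hn => by
      refine eq_zero_of_nondeg_affine (α := j₀ ≫ α) hQ hα (j ≫ g) hn _ fun B φ b' hb s => ?_
      subst hb
      let uu : B := sval _ (GmPts.unitOfPt (s ≫ j₀ ≫ α) : Γ((Over.mk (Spec.map (CommRingCat.ofHom φ) ≫ j ≫ g)).left, ⊤))
      let jC : Spec (lineRing B) ⟶ U :=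
        Spec.map (CommRingCat.ofHom (Polynomial.C : B →+* B[X])) ≫ Spec.map (CommRingCat.ofHom φ) ≫ j
      have hC : Spec.map (CommRingCat.ofHom (Polynomial.C : B →+* B[X])) ≫ Spec.map (CommRingCat.ofHom φ) ≫ j ≫ g =
          jC ≫ g := by simp only [jC, Category.assoc]
      let sC : Over.mk (jC ≫ g) ⟶ Q := specHom (b := Spec.map (CommRingCat.ofHom φ) ≫ j ≫ g) (b' := jC ≫ g) _ hC ≫ s
      have hu : sval (jC ≫ g) (GmPts.unitOfPt (sC ≫ j₀ ≫ α) : Γ((Over.mk (jC ≫ g)).left, ⊤)) = Polynomial.C uu := by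
        have hass : sC ≫ j₀ ≫ α =
            specHom (b := Spec.map (CommRingCat.ofHom φ) ≫ j ≫ g) (b' := jC ≫ g) _ hC ≫ (s ≫ j₀ ≫ α) :=
          Category.assoc _ _ _
        rw [GmPts.val_unitOfPt, hass, GmPts.gmFn_comp, sval_specHom]
        rfl
      have h := (key sC ((sval (jC ≫ g)).symm Polynomial.X)).2.1
      rw [torus_mul_comm hT, inv_mul_cancel_left,
        show (GmPts.unitOfPt (sC ≫ j₀ ≫ α) : Γ((Over.mk (jC ≫ g)).left, ⊤)) *
          (sval (jC ≫ g)).symm Polynomial.X = (sval (jC ≫ g)).symm (Polynomial.C uu * Polynomial.X) from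
          (sval (jC ≫ g)).injective (by rw [map_mul, hu]; simp)] at h
      have hq : ∀ q : B[X], Spec.map (CommRingCat.ofHom (substHom φ q)) ≫ jL = jC := fun q => by
        simp only [jL, jC, ← Category.assoc, ← Spec.map_comp, ← CommRingCat.ofHom_comp,
          show (substHom φ q).comp Polynomial.C = (Polynomial.C : B →+* B[X]).comp φ from RingHom.ext fun a => by simp]
      have h1 : splitPt g ψ jC ((substHom φ (Polynomial.C uu * Polynomial.X)).comp f) =
          splitPt g ψ jC ((substHom φ Polynomial.X).comp f) := by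
        rw [hval (lineRing B) (substHom φ (Polynomial.C uu * Polynomial.X)) jC (hq _),
          hval (lineRing B) (substHom φ Polynomial.X) jC (hq _)]
        simp only [substHom, Polynomial.coe_eval₂RingHom, Polynomial.eval₂_X]
        exact h
      have h5 := congrArg (fun z : B[X] => z.coeff n) (RingHom.congr_fun (splitPt_injective g ψ jC h1) r₁)
      simp only [RingHom.comp_apply, coeff_subst, substHom_X, Polynomial.coeff_map] at h5
      show φ ((f r₁).coeff n) * (uu ^ n - 1) = 0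
      linear_combination h5
    let e : A[X] →+* A[X] := (Polynomial.C : A →+* A[X]).comp (Polynomial.evalRingHom 0)
    have hef : e.comp f = f := RingHom.ext fun r₁ => by
      show Polynomial.C ((f r₁).eval 0) = f r₁
      rw [← Polynomial.coeff_zero_eq_eval_zero]
      exact (Polynomial.eq_C_of_natDegree_eq_zero (Polynomial.natDegree_eq_zero_iff_degree_le_zero.mpr
        ((Polynomial.degree_le_iff_coeff_zero _ _).mpr fun n hn => hcoef r₁ n (by exact_mod_cast hn)))).symm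
    have he : Spec.map (CommRingCat.ofHom e) ≫ jL = jL := by
      simp only [jL, ← Category.assoc, ← Spec.map_comp, ← CommRingCat.ofHom_comp,
        show e.comp Polynomial.C = (Polynomial.C : A →+* A[X]) from RingHom.ext fun a => by simp [e]]
    have hx : x = 1 := by
      rw [hf, ← hef, hval (lineRing A) e jL he]
      simp only [e, RingHom.comp_apply, Polynomial.coe_evalRingHom, Polynomial.eval_X, map_zero]
      have h1 := hfy (GaPts.ptOfFn 0 : Over.mk (jL ≫ g) ⟶ Red.Ga S)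
      rw [ga_zero_comp] at h1
      exact (cell_ext hΩ (h1.symm.trans (show (1 : Over.mk (jL ≫ g) ⟶ G) =
        ((1 : Over.mk (jL ≫ g) ⟶ Red.Ga S) ≫ pm) * ((1 : Over.mk (jL ≫ g) ⟶ T) ≫ i) *
          ((1 : Over.mk (jL ≫ g) ⟶ Red.Ga S) ≫ pp) by
          rw [MonObj.one_comp, MonObj.one_comp, MonObj.one_comp, _root_.one_mul, _root_.one_mul]))).2.1
    let v : A := sval (j ≫ g) (Red.gaFn jA)
    have hev : Spec.map (CommRingCat.ofHom (Polynomial.evalRingHom v)) ≫ jL ≫ g = j ≫ g := by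
      simp only [jL, ← Category.assoc, ← Spec.map_comp, ← CommRingCat.ofHom_comp,
        show (Polynomial.evalRingHom v).comp Polynomial.C = RingHom.id A from RingHom.ext fun a => by simp]
      simp
    have hjA : jA = specHom (A := lineRing A) (b := jL ≫ g) (b' := j ≫ g) _ hev ≫ e0 ≫ linePt (j ≫ g) := by
      rw [← Category.assoc, show specHom (A := lineRing A) (b := jL ≫ g) (b' := j ≫ g) _ hev ≫ e0 =
        specHom _ (eval_base (j ≫ g) v) by ext1; simp [e0, specHom], specHom_eval_linePt, RingEquiv.symm_apply_apply]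
      exact ga_eq_ptOfFn jA
    rw [hjA]
    refine ((Category.assoc _ _ _).trans ?_).trans (MonObj.comp_one _).symm
    refine (congrArg (specHom (A := lineRing A) (b := jL ≫ g) (b' := j ≫ g) _ hev ≫ ·)
      ((Category.assoc e0 _ τ).trans hx)).trans (MonObj.comp_one _)
  have hτ : τ ≫ i = 1 := by rw [hτ', MonObj.one_comp]
  have hd : ∀ (X : Over S) (y : Γ(X.left, ⊤)), Red.gaFn (GaPts.ptOfFn y ≫ d) =
      Red.gaFn (GaPts.ptOfFn (1 : Γ(X.left, ⊤)) ≫ d) * y ^ q₀ := by
    intro X y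
    let c : 𝟙_ (Over S) ⟶ Red.Ga S := GaPts.ptOfFn (1 : Γ((𝟙_ (Over S)).left, ⊤)) ≫ d
    have hc : ∀ (X : Over S), toUnit X ≫ c = GaPts.ptOfFn (1 : Γ(X.left, ⊤)) ≫ d := fun X => by
      rw [← Category.assoc]
      congr 1
      exact GaPts.gaFn_injective (by simp [GaPts.gaFn_comp, GaPts.gaFn_ptOfFn])
    let M : Red.Ga S ⟶ Red.Ga S :=
      GaPts.ptOfFn (Red.gaFn (toUnit (Red.Ga S) ≫ c) * Red.gaFn (𝟙 (Red.Ga S)) ^ q₀)
    have hM : ∀ (X : Over S) (y : Γ(X.left, ⊤)),
        Red.gaFn (GaPts.ptOfFn y ≫ M) = Red.gaFn (GaPts.ptOfFn (1 : Γ(X.left, ⊤)) ≫ d) * y ^ q₀ := fun X y => by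
      rw [GaPts.gaFn_comp, GaPts.gaFn_ptOfFn, map_mul, map_pow, ← GaPts.gaFn_comp, ← GaPts.gaFn_comp,
        ← Category.assoc, show (GaPts.ptOfFn y : X ⟶ Red.Ga S) ≫ toUnit _ = toUnit X from toUnit_unique _ _, hc,
        Category.comp_id, GaPts.gaFn_ptOfFn]
    have hdM : d = M := ext_line fun A b => GaPts.gaFn_injective ((sval (lineBase b)).injective (by
      show sval _ (Red.gaFn (linePt b ≫ d)) = sval _ (Red.gaFn (linePt b ≫ M))
      let P : A[X] := sval (lineBase b) (Red.gaFn (linePt b ≫ d))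
      have hP : ∀ n, n ≠ q₀ → P.coeff n = 0 := fun n hn => by
        rcases Nat.eq_zero_or_pos n with rfl | hn0
        · exact (hzero A b).2
        obtain ⟨k, hk, hrel⟩ : ∃ k : ℕ, 0 < k ∧ ∀ (B : CommRingCat.{u}) (u r : B), IsUnit u →
            r * u ^ n = u ^ q₀ * r → r * (u ^ k - 1) = 0 := by
          rcases Nat.lt_or_gt_of_ne hn with h | h
          · obtain ⟨k, rfl⟩ := Nat.exists_eq_add_of_lt h
            exact ⟨k + 1, k.succ_pos, fun B u r hu h => (hu.pow n).mul_right_eq_zero.mp (by linear_combination -h)⟩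
          · obtain ⟨k, rfl⟩ := Nat.exists_eq_add_of_lt h
            exact ⟨k + 1, k.succ_pos, fun B u r hu h => (hu.pow q₀).mul_right_eq_zero.mp (by linear_combination h)⟩
        refine eq_zero_of_nondeg_affine (α := j₀ ≫ α) hQ hα b hk _ fun B φ b' hb s => ?_
        let uu : B := sval b' (GmPts.unitOfPt (s ≫ j₀ ≫ α) : Γ((Over.mk b').left, ⊤))
        refine hrel B uu _ ((GmPts.unitOfPt (s ≫ j₀ ≫ α)).isUnit.map (sval b')) ?_
        let sC : Over.mk (lineBase b') ⟶ Q := specHom (b := b') (b' := lineBase b') (Polynomial.C : B →+* B[X]) rfl ≫ s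
        have hu : sval (lineBase b') (GmPts.unitOfPt (sC ≫ j₀ ≫ α) : Γ((Over.mk (lineBase b')).left, ⊤)) = Polynomial.C uu := by
          rw [GmPts.val_unitOfPt, Category.assoc, GmPts.gmFn_comp, sval_specHom]
          rfl
        have h := congrArg (fun z => Red.gaFn z) (key sC ((sval (lineBase b')).symm Polynomial.X)).2.2
        simp only [GaPts.gaFn_ptOfFn] at h
        have h'' := congrArg (sval (lineBase b')) h
        rw [map_mul, map_pow, hu, show (GmPts.unitOfPt (sC ≫ j₀ ≫ α) : Γ((Over.mk (lineBase b')).left, ⊤)) *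
          (sval (lineBase b')).symm Polynomial.X = (sval (lineBase b')).symm (Polynomial.C uu * Polynomial.X) from
            (sval (lineBase b')).injective (by rw [map_mul, hu]; simp),
          sval_subst b φ hb d, sval_subst b φ hb d] at h''
        have h3 := congrArg (fun z : B[X] => z.coeff n) h''
        simp only [← Polynomial.C_pow, Polynomial.coeff_C_mul, coeff_subst, substHom_X, Polynomial.coeff_map] at h3
        exact h3
      have hP1 : P = Polynomial.C (P.eval 1) * Polynomial.X ^ q₀ := by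
        have e : P = Polynomial.C (P.coeff q₀) * Polynomial.X ^ q₀ := Polynomial.ext fun n => by
          rcases eq_or_ne n q₀ with rfl | hn
          · simp
          · simp [hP n hn, hn]
        rw [e]; simp
      rw [hM, map_mul, map_pow, RingEquiv.apply_symm_apply]
      show P = _
      rw [hP1]
      congr 1
      have h5 : sval b (Red.gaFn (GaPts.ptOfFn ((sval b).symm (1 : A)) ≫ d)) = P.eval 1 := sval_gaFn_comp b d 1
      rw [map_one] at h5
      have e1 : specHom (b := b) (b' := lineBase b) (Polynomial.C : A →+* A[X]) rfl ≫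
          (GaPts.ptOfFn (1 : Γ((Over.mk b).left, ⊤)) : Over.mk b ⟶ Red.Ga S) = GaPts.ptOfFn 1 :=
        GaPts.gaFn_injective (by simp [GaPts.gaFn_comp, GaPts.gaFn_ptOfFn])
      rw [← e1, Category.assoc, GaPts.gaFn_comp, sval_specHom, h5]))
    rw [hdM]
    exact (hM X y).trans (by rw [← hdM])
  refine ⟨GaPts.ptOfFn (1 : Γ((𝟙_ (Over S)).left, ⊤)) ≫ d, fun X y => ?_⟩
  rw [hfy, ha, MonObj.comp_one, Category.assoc _ τ i, hτ, MonObj.comp_one, MonObj.one_comp, _root_.one_mul,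
    _root_.one_mul]
  congr 1
  refine GaPts.gaFn_injective ?_
  show Red.gaFn _ = Red.gaFn _
  rw [GaPts.gaFn_ptOfFn, hd]
  congr 2
  rw [← Category.assoc]
  congr 1
  exact GaPts.gaFn_injective (by simp [GaPts.gaFn_comp, GaPts.gaFn_ptOfFn])

end Groth.Agent.GrpSchLib.RankOne
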