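import Groth.Agent.GrpSchLib.RankOneNondeg
import Mathlib.RingTheory.Jacobson.Ring
import Mathlib.RingTheory.FiniteType

/-! Geometric points of a torus at which a character avoids finitely many values. -/

set_option autoImplicit false
set_option linter.style.haveILetI false

universe u

open CategoryTheory CategoryTheory.Limits AlgebraicGeometry MonoidalCategory CartesianMonoidalCategory
open scoped MonObj

noncomputable section

namespace Groth.Agent.GrpSchLib.RankOne

variable {S : Scheme.{u}} {T : Over S} [GrpObj T]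

/-- Over a larger algebraically closed field, the torus has points at which no power of the character is trivial. -/
theorem exists_pow_ne_one (hT : Red.IsTorus T) (α : T ⟶ Red.Gm S) [IsMonHom α]
    (hα : ∀ s : S, (Over.pullback (Red.geomPt s)).map α ≠ 1)
    {K : Type u} [Field K] (b : Spec (CommRingCat.of K) ⟶ S) :
    ∃ (L : Type u) (_ : Field L) (θ : K →+* L) (b' : Spec (CommRingCat.of L) ⟶ S),
      IsAlgClosed L ∧ Spec.map (CommRingCat.ofHom θ) ≫ b = b' ∧
        ∀ k : ℕ, 0 < k → ∃ s : Over.mk b' ⟶ T,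
          sval b' (GmPts.unitOfPt (s ≫ α) : Γ((Over.mk b').left, ⊤)) ^ k ≠ 1 := by
  classical
  obtain ⟨S', f, -, hs, -, hloc⟩ := hT
  obtain ⟨s', hs'⟩ := f.surjective (b (IsLocalRing.closedPoint K))
  obtain ⟨z, hz, -⟩ := Scheme.Pullback.exists_preimage_pullback (f := f) (g := b) s' (IsLocalRing.closedPoint K) hs'
  let κ := (pullback f b).residueField z
  let L := AlgebraicClosure κ
  let e : Spec (CommRingCat.of L) ⟶ pullback f b :=
    Spec.map (CommRingCat.ofHom (algebraMap κ L)) ≫ (pullback f b).fromSpecResidueField z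
  let θ : K →+* L := (Spec.preimage (e ≫ pullback.snd f b)).hom
  have hθ : Spec.map (CommRingCat.ofHom θ) = e ≫ pullback.snd f b := by
    rw [CommRingCat.ofHom_hom, Spec.map_preimage]
  obtain ⟨U, hU, r, ⟨eiso⟩⟩ := hloc s'
  have hez : ∀ x, e x = z := fun x => by
    have hm : e x ∈ Set.range ((pullback f b).fromSpecResidueField z) :=
      ⟨Spec.map (CommRingCat.ofHom (algebraMap κ L)) x, rfl⟩
    rwa [Scheme.range_fromSpecResidueField, Set.mem_singleton_iff] at hm
  have hrange : Set.range (e ≫ pullback.fst f b) ⊆ Set.range U.ι := by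
    rintro _ ⟨x, rfl⟩
    rw [Scheme.Opens.range_ι]
    show pullback.fst f b (e x) ∈ (U : Set S')
    rw [hez, hz]
    exact hU
  let j : Spec (CommRingCat.of L) ⟶ (U : Scheme.{u}) := IsOpenImmersion.lift U.ι (e ≫ pullback.fst f b) hrange
  have hj : j ≫ U.ι ≫ f = Spec.map (CommRingCat.ofHom θ) ≫ b := by
    rw [hθ, ← Category.assoc, IsOpenImmersion.lift_fac, Category.assoc, Category.assoc, pullback.condition]
    simp only [e, Category.assoc]
  refine ⟨L, inferInstance, θ, Spec.map (CommRingCat.ofHom θ) ≫ b, inferInstance, rfl, ?_⟩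
  rw [← hj]
  intro k hk
  let g := U.ι ≫ f
  let ψ := eiso.hom.hom.hom
  haveI : IsMonHom ψ := eiso.hom.hom.isMonHom_hom
  haveI : IsIso ψ := ((Grp.forget _).mapIso eiso).isIso_hom
  let M := Multiplicative (Fin r → ℤ)
  let R := MonoidAlgebra L M
  let unv : DSPtsLib.CoordM.{u} (Fin r → ℤ) →+* R :=
    MonoidAlgebra.mapRingHom _ ((algebraMap ℤ L).comp ULift.ringEquiv.toRingHom)
  have hunv : ∀ n : M, unv (MonoidAlgebra.single n 1) = (MonoidAlgebra.single n (1 : L) : R) := fun n =>
    (MonoidAlgebra.mapRingHom_single _ n 1).trans (congrArg _ (map_one _))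
  let jR : Spec (CommRingCat.of R) ⟶ (U : Scheme.{u}) :=
    Spec.map (CommRingCat.ofHom (MonoidAlgebra.singleOneRingHom : L →+* R)) ≫ j
  let w : R := splitVal g ψ α jR unv
  -- every point is a specialisation of the universal one
  have huniv : ∀ (C : Type u) [CommRing C] (χ : L →+* C) (f' : DSPtsLib.CoordM.{u} (Fin r → ℤ) →+* C),
      ∃ σ : R →+* C, splitVal g ψ α (Spec.map (CommRingCat.ofHom χ) ≫ j) f' = σ w := by
    intro C _ χ f'
    let fM : M →* C := (f'.toMonoidHom).comp (MonoidAlgebra.of _ M)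
    let σ : R →+* C := MonoidAlgebra.liftNCRingHom χ fM fun _ _ => Commute.all _ _
    have hσ : Spec.map (CommRingCat.ofHom σ) ≫ jR = Spec.map (CommRingCat.ofHom χ) ≫ j := by
      have e : σ.comp (MonoidAlgebra.singleOneRingHom : L →+* R) = χ := RingHom.ext fun a =>
        (MonoidAlgebra.liftNCRingHom_single χ fM (fun _ _ => Commute.all _ _) (1 : M) a).trans
          (by rw [map_one, _root_.mul_one])
      simp only [jR, ← Category.assoc, ← Spec.map_comp, ← CommRingCat.ofHom_comp, e]
    have hfσ : σ.comp unv = f' := MonoidAlgebra.ringHom_ext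
      (fun n => RingHom.congr_fun (DSPtsLib.ulift_ringHom_ext
        ((σ.comp unv).comp MonoidAlgebra.singleOneRingHom) (f'.comp MonoidAlgebra.singleOneRingHom)) n)
      (fun n => by
        show σ (unv (MonoidAlgebra.single n 1)) = _
        rw [hunv]
        exact (MonoidAlgebra.liftNCRingHom_single χ fM _ n 1).trans (by rw [map_one, _root_.one_mul]; rfl))
    refine ⟨σ, ?_⟩
    rw [← hfσ]
    exact splitVal_comp g ψ α jR σ _ hσ unv
  -- the universal value is not a root of unity
  have hw : w ^ k - 1 ≠ 0 := fun h0 => one_ne_zero (α := L) (eq_zero_chart α hα g ψ j hk 1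
    fun B _ φ b'' hb s => by
      rw [← Category.assoc] at hb
      subst hb
      let jB : Spec (CommRingCat.of B) ⟶ (U : Scheme.{u}) := Spec.map (CommRingCat.ofHom φ) ≫ j
      obtain ⟨x₀, rfl⟩ := (DSPtsLib.theta_bijective g (Y := DSPtsLib.spU jB) (H := T)).surjective s
      obtain ⟨f', hf'⟩ := DSPtsLib.exists_eq_pt jB (x₀ ≫ ψ)
      obtain ⟨σ, hσ⟩ := huniv B φ f'
      have h1 : x₀ = DSPtsLib.pt jB f' ≫ inv ψ := by rw [← hf']; simp
      have h2 : splitVal g ψ α jB f' ^ k - 1 = 0 := by
        rw [hσ, ← map_pow, ← map_one σ, ← map_sub, h0, map_zero]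
      rw [map_one, _root_.one_mul, h1]
      exact h2)
  -- evaluate at a closed point
  haveI : IsJacobsonRing R := isJacobsonRing_of_finiteType (A := L)
  haveI : IsDomain R := NoZeroDivisors.to_isDomain _
  obtain ⟨m, hm, hnot⟩ : ∃ m : Ideal R, m.IsMaximal ∧ w ^ k - 1 ∉ m := by
    by_contra! hall
    have h1 : (⊥ : Ideal R).jacobson = ⊥ :=
      IsJacobsonRing.out ‹_› (Ideal.bot_prime (α := R)).isRadical
    have h2 : w ^ k - 1 ∈ (⊥ : Ideal R).jacobson := Ideal.mem_sInf.mpr fun {J} hJ => hall J hJ.2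
    rw [h1] at h2
    exact hw h2
  letI := Ideal.Quotient.field m
  haveI : Module.Finite L (R ⧸ m) := finite_of_finite_type_of_isJacobsonRing L (R ⧸ m)
  haveI : Algebra.IsIntegral L (R ⧸ m) := Algebra.IsIntegral.of_finite L _
  let eL : L ≃+* (R ⧸ m) :=
    RingEquiv.ofBijective (algebraMap L (R ⧸ m)) IsAlgClosed.algebraMap_bijective_of_isIntegral
  let σ : R →+* L := eL.symm.toRingHom.comp (Ideal.Quotient.mk m)
  have hσ : Spec.map (CommRingCat.ofHom σ) ≫ jR = j := by
    have e : σ.comp (MonoidAlgebra.singleOneRingHom : L →+* R) = RingHom.id L := RingHom.ext fun a =>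
      eL.injective ((eL.apply_symm_apply _).trans rfl)
    simp only [jR, ← Category.assoc, ← Spec.map_comp, ← CommRingCat.ofHom_comp, e]
    exact (congrArg (· ≫ j) (Spec.map_id _)).trans (Category.id_comp _)
  refine ⟨splitPt g ψ j (σ.comp unv), fun h => hnot ?_⟩
  have h1 : σ (w ^ k - 1) = 0 := by
    rw [map_sub, map_pow, map_one, ← splitVal_comp g ψ α jR σ j hσ unv, sub_eq_zero]
    exact h
  exact Ideal.Quotient.eq_zero_iff_mem.mp (eL.symm.injective (h1.trans (map_zero _).symm))

/-- The character avoids any given finite set at some geometric point of the torus. -/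
theorem exists_notMem (hT : Red.IsTorus T) (α : T ⟶ Red.Gm S) [IsMonHom α]
    (hα : ∀ s : S, (Over.pullback (Red.geomPt s)).map α ≠ 1)
    {K : Type u} [Field K] (b : Spec (CommRingCat.of K) ⟶ S) :
    ∃ (L : Type u) (_ : Field L) (θ : K →+* L) (b' : Spec (CommRingCat.of L) ⟶ S),
      IsAlgClosed L ∧ Spec.map (CommRingCat.ofHom θ) ≫ b = b' ∧
        ∀ Z : Finset L, ∃ s : Over.mk b' ⟶ T,
          sval b' (GmPts.unitOfPt (s ≫ α) : Γ((Over.mk b').left, ⊤)) ∉ Z := by
  obtain ⟨L, _, θ, b', hL, hb, h⟩ := exists_pow_ne_one hT α hα b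
  refine ⟨L, inferInstance, θ, b', hL, hb, fun Z => ?_⟩
  let φ : (Over.mk b' ⟶ T) →* Lˣ := (Units.map (sval b').toMonoidHom).comp
    (MonoidHom.mk' (fun s => GmPts.unitOfPt (s ≫ α)) fun s t => by
      rw [show (s * t) ≫ α = (s ≫ α) * (t ≫ α) from MonObj.mul_comp s t α, GmPts.unitOfPt_mul])
  by_contra! hall
  haveI : Finite φ.range := Finite.of_injective
    (fun x : φ.range => (⟨((x : Lˣ) : L), by obtain ⟨s, hs⟩ := x.2; rw [← hs]; exact hall s⟩ : Z))
    (fun x y hxy => Subtype.ext (Units.ext (congrArg Subtype.val hxy)))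
  obtain ⟨s, hs⟩ := h (Nat.card φ.range) Nat.card_pos
  refine hs ?_
  have h1 := congrArg φ.range.subtype (pow_card_eq_one' (x := (⟨φ s, s, rfl⟩ : φ.range)))
  rw [map_pow, map_one] at h1
  have h2 : ((φ s : Lˣ) : L) ^ Nat.card φ.range = 1 := (Units.val_pow_eq_pow_val _ _).symm.trans (congrArg Units.val h1)
  exact h2

end Groth.Agent.GrpSchLib.RankOne
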