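import Groth.Agent.GrpSchLib.RankOneCell

/-! Morphisms out of the additive group which are homogeneous for a cocharacter. -/

set_option autoImplicit false
set_option linter.style.haveILetI false

universe u

open CategoryTheory CategoryTheory.Limits AlgebraicGeometry MonoidalCategory CartesianMonoidalCategory
open scoped MonObj Polynomial

noncomputable section

namespace Groth.Agent.GrpSchLib.RankOne

variable {S : Scheme.{u}}

section Univ

variable {A : CommRingCat.{u}} (b : Spec A ⟶ S)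

/-- The affine line over a test ring. -/
abbrev lineRing (A : CommRingCat.{u}) : CommRingCat.{u} := CommRingCat.of A[X]

abbrev lineBase : Spec (lineRing A) ⟶ S := Spec.map (CommRingCat.ofHom (Polynomial.C : A →+* A[X])) ≫ b

/-- The universal point of the line. -/
abbrev linePt : Over.mk (lineBase b) ⟶ Red.Ga S :=
  GaPts.ptOfFn ((sval (lineBase b)).symm (Polynomial.X : A[X]))

theorem eval_base (v : A) :
    Spec.map (CommRingCat.ofHom (Polynomial.evalRingHom v : A[X] →+* A)) ≫ lineBase b = b := by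
  rw [lineBase, ← Category.assoc, ← Spec.map_comp, ← CommRingCat.ofHom_comp,
    show (Polynomial.evalRingHom v).comp (Polynomial.C : A →+* A[X]) = RingHom.id A from RingHom.ext fun r => by simp]
  simp

theorem specHom_eval_linePt (v : A) :
    specHom _ (eval_base b v) ≫ linePt b = GaPts.ptOfFn ((sval b).symm v) := by
  rw [linePt, specHom_ptOfFn]
  simp

/-- Substituting `z ^ e * y`, polynomially in `z`. -/
abbrev scaleHom (A : CommRingCat.{u}) (e : ℕ) : A[X] →+* A[X][X] :=
  Polynomial.eval₂RingHom ((Polynomial.C : A[X] →+* A[X][X]).comp Polynomial.C)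
    (Polynomial.X ^ e * Polynomial.C Polynomial.X)

end Univ

/-- An equation in a unit variable, evaluated on the universal unit and the universal point. -/
theorem universal_relation {A : CommRingCat.{u}} (b : Spec A ⟶ S) (e : ℕ) {Y : Over S}
    (R : ∀ X : Over S, (Γ(X.left, ⊤))ˣ → (X ⟶ Y) → (X ⟶ Y) → Prop) (F : Red.Ga S ⟶ Y)
    (hR : ∀ (X : Over S) (z : (Γ(X.left, ⊤))ˣ) (y : Γ(X.left, ⊤)),
      R X z (GaPts.ptOfFn ((z : Γ(X.left, ⊤)) ^ e * y) ≫ F) (GaPts.ptOfFn y ≫ F)) :
    ∃ (b' : Spec (CommRingCat.of (LaurentPolynomial A[X])) ⟶ S)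
      (h1 : Spec.map (CommRingCat.ofHom ((Polynomial.toLaurent : A[X][X] →+* _).comp (scaleHom A e))) ≫ lineBase b = b')
      (h2 : Spec.map (CommRingCat.ofHom ((Polynomial.toLaurent : A[X][X] →+* _).comp Polynomial.C)) ≫ lineBase b = b')
      (z : (Γ((Over.mk b').left, ⊤))ˣ), sval b' z = Polynomial.toLaurent (Polynomial.X : A[X][X]) ∧
        R _ z (specHom _ h1 ≫ linePt b ≫ F) (specHom _ h2 ≫ linePt b ≫ F) := by
  let L := LaurentPolynomial A[X]
  let b' : Spec (CommRingCat.of L) ⟶ S :=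
    Spec.map (CommRingCat.ofHom ((Polynomial.toLaurent : A[X][X] →+* L).comp Polynomial.C)) ≫ lineBase b
  have hb : Spec.map (CommRingCat.ofHom ((Polynomial.toLaurent : A[X][X] →+* L).comp (scaleHom A e))) ≫ lineBase b = b' := by
    simp only [b', lineBase, ← Category.assoc, ← Spec.map_comp, ← CommRingCat.ofHom_comp]
    congr 3
    exact RingHom.ext fun r => by simp [scaleHom]
  let z₀ : Lˣ := (LaurentPolynomial.isUnit_T (R := A[X]) 1).unit
  let z : (Γ((Over.mk b').left, ⊤))ˣ := Units.map (sval b').symm.toMonoidHom z₀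
  have hz : sval b' z = Polynomial.toLaurent (Polynomial.X : A[X][X]) := by
    show sval b' ((sval b').symm (z₀ : L)) = _
    rw [RingEquiv.apply_symm_apply, Polynomial.toLaurent_X]
    rfl
  refine ⟨b', hb, rfl, z, hz, ?_⟩
  have h := hR (Over.mk b') z ((sval b').symm (Polynomial.toLaurent (Polynomial.C (Polynomial.X : A[X]))))
  rw [← Category.assoc, ← Category.assoc, linePt, specHom_ptOfFn, specHom_ptOfFn]
  convert h using 4
  swap
  · rfl
  rw [← (sval b').symm_apply_apply (z : Γ((Over.mk b').left, ⊤)), hz, ← map_pow, ← map_mul]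
  congr 1
  simp [scaleHom]
  rw [LaurentPolynomial.T_pow, mul_one, mul_comm]

/-- The value of a function on the line at a point is the value of its polynomial. -/
theorem sval_gaFn_comp {A : CommRingCat.{u}} (b : Spec A ⟶ S) (F : Red.Ga S ⟶ Red.Ga S) (v : A) :
    sval b (Red.gaFn (GaPts.ptOfFn ((sval b).symm v) ≫ F)) =
      Polynomial.eval v (sval (lineBase b) (Red.gaFn (linePt b ≫ F))) := by
  rw [← specHom_eval_linePt, Category.assoc, GaPts.gaFn_comp, sval_specHom]
  rfl

theorem ext_line {Y : Over S} {f g : Red.Ga S ⟶ Y}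
    (h : ∀ (A : CommRingCat.{u}) (b : Spec A ⟶ S), linePt b ≫ f = linePt b ≫ g) : f = g := by
  refine ext_spec fun A b j => ?_
  have e : j = specHom _ (eval_base b (sval b (Red.gaFn j))) ≫ linePt b := by
    rw [specHom_eval_linePt, RingEquiv.symm_apply_apply]
    exact GaPts.gaFn_injective (GaPts.gaFn_ptOfFn _).symm
  rw [e, Category.assoc, Category.assoc, h]

/-- A function of positive degree of homogeneity for the inverse scaling vanishes. -/
theorem homog_zero (F : Red.Ga S ⟶ Red.Ga S) (e k : ℕ) (hk : 0 < k)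
    (h : ∀ (X : Over S) (z : (Γ(X.left, ⊤))ˣ) (y : Γ(X.left, ⊤)),
      (z : Γ(X.left, ⊤)) ^ k * Red.gaFn (GaPts.ptOfFn ((z : Γ(X.left, ⊤)) ^ e * y) ≫ F) =
        Red.gaFn (GaPts.ptOfFn y ≫ F)) (X : Over S) (y : Γ(X.left, ⊤)) : Red.gaFn (GaPts.ptOfFn y ≫ F) = 0 := by
  have hF : F = 1 := by
    refine ext_line fun A b => GaPts.gaFn_injective ?_
    obtain ⟨b', h1, h2, z, hz, hr⟩ := universal_relation b e
      (fun X z l r => (z : Γ(X.left, ⊤)) ^ k * Red.gaFn l = Red.gaFn r) F h
    let a : A[X] := sval (lineBase b) (Red.gaFn (linePt b ≫ F))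
    have hr' := congrArg (sval b') hr
    rw [map_mul, map_pow, hz, GaPts.gaFn_comp (specHom _ h1) (linePt b ≫ F), GaPts.gaFn_comp (specHom _ h2) (linePt b ≫ F),
      sval_specHom, sval_specHom, RingHom.comp_apply,
      RingHom.comp_apply, ← map_pow, ← map_mul] at hr'
    have h3 := congrArg (Polynomial.eval 0) (Polynomial.toLaurent_injective hr')
    simp only [Polynomial.eval_mul, Polynomial.eval_pow, Polynomial.eval_X, zero_pow hk.ne', zero_mul,
      Polynomial.eval_C] at h3
    show Red.gaFn (linePt b ≫ F) = Red.gaFn (linePt b ≫ (1 : Red.Ga S ⟶ Red.Ga S))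
    rw [MonObj.comp_one, GaPts.gaFn_one]
    exact (sval (lineBase b)).injective (h3.symm.trans (map_zero _).symm)
  rw [hF, MonObj.comp_one, GaPts.gaFn_one]

/-- A homogeneous function on the line is a monomial. -/
theorem homog_mono (F : Red.Ga S ⟶ Red.Ga S) (e q : ℕ) (he : 0 < e)
    (h : ∀ (X : Over S) (z : (Γ(X.left, ⊤))ˣ) (y : Γ(X.left, ⊤)),
      Red.gaFn (GaPts.ptOfFn ((z : Γ(X.left, ⊤)) ^ e * y) ≫ F) =
        (z : Γ(X.left, ⊤)) ^ (e * q) * Red.gaFn (GaPts.ptOfFn y ≫ F)) (X : Over S) (y : Γ(X.left, ⊤)) :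
    Red.gaFn (GaPts.ptOfFn y ≫ F) = Red.gaFn (GaPts.ptOfFn (1 : Γ(X.left, ⊤)) ≫ F) * y ^ q := by
  let c : 𝟙_ (Over S) ⟶ Red.Ga S := GaPts.ptOfFn (1 : Γ((𝟙_ (Over S)).left, ⊤)) ≫ F
  have hc : ∀ (X : Over S), toUnit X ≫ c = GaPts.ptOfFn (1 : Γ(X.left, ⊤)) ≫ F := fun X => by
    rw [← Category.assoc]
    congr 1
    exact GaPts.gaFn_injective (by simp [GaPts.gaFn_comp, GaPts.gaFn_ptOfFn])
  let M : Red.Ga S ⟶ Red.Ga S :=
    GaPts.ptOfFn (Red.gaFn (toUnit (Red.Ga S) ≫ c) * Red.gaFn (𝟙 (Red.Ga S)) ^ q)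
  have hM : ∀ (X : Over S) (y : Γ(X.left, ⊤)),
      Red.gaFn (GaPts.ptOfFn y ≫ M) = Red.gaFn (GaPts.ptOfFn (1 : Γ(X.left, ⊤)) ≫ F) * y ^ q := fun X y => by
    rw [GaPts.gaFn_comp, GaPts.gaFn_ptOfFn, map_mul, map_pow, ← GaPts.gaFn_comp, ← GaPts.gaFn_comp,
      ← Category.assoc, show (GaPts.ptOfFn y : X ⟶ Red.Ga S) ≫ toUnit _ = toUnit X from toUnit_unique _ _, hc, Category.comp_id, GaPts.gaFn_ptOfFn]
  have hF : F = M := by
    refine ext_line fun A b => GaPts.gaFn_injective ?_
    obtain ⟨b', h1, h2, z, hz, hr⟩ := universal_relation b e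
      (fun X z l r => Red.gaFn l = (z : Γ(X.left, ⊤)) ^ (e * q) * Red.gaFn r) F h
    let a : A[X] := sval (lineBase b) (Red.gaFn (linePt b ≫ F))
    have hr' := congrArg (sval b') hr
    rw [map_mul, map_pow, hz, GaPts.gaFn_comp (specHom _ h1) (linePt b ≫ F), GaPts.gaFn_comp (specHom _ h2) (linePt b ≫ F),
      sval_specHom, sval_specHom, RingHom.comp_apply,
      RingHom.comp_apply, ← map_pow, ← map_mul] at hr'
    have h3 := congrArg (Polynomial.map (Polynomial.evalRingHom (1 : A))) (Polynomial.toLaurent_injective hr')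
    have hs : ∀ p : A[X], Polynomial.map (Polynomial.evalRingHom (1 : A)) (scaleHom A e p) =
        Polynomial.expand A e p := fun p => by
      induction p using Polynomial.induction_on' with
      | add p r hp hr => simp only [map_add, Polynomial.map_add, hp, hr]
      | monomial n r =>
        simp [scaleHom, Polynomial.eval₂_monomial, ← Polynomial.C_mul_X_pow_eq_monomial, mul_pow, ← pow_mul]
    rw [hs, Polynomial.map_mul, Polynomial.map_pow, Polynomial.map_X, Polynomial.map_C,
      Polynomial.coe_evalRingHom] at h3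
    have h4 : a = Polynomial.C (a.eval 1) * Polynomial.X ^ q := by
      refine Polynomial.expand_injective he ?_
      rw [map_mul, map_pow, Polynomial.expand_C, Polynomial.expand_X, ← pow_mul, mul_comm (Polynomial.C _)]
      exact h3
    refine (sval (lineBase b)).injective ?_
    show a = sval _ (Red.gaFn (linePt b ≫ M))
    rw [hM (Over.mk (lineBase b)), map_mul, map_pow, RingEquiv.apply_symm_apply, h4]
    congr 1
    have h5 := sval_gaFn_comp b F 1
    rw [map_one] at h5
    have e1 : specHom (b := b) (b' := lineBase b) (Polynomial.C : A →+* A[X]) rfl ≫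
        (GaPts.ptOfFn (1 : Γ((Over.mk b).left, ⊤)) : Over.mk b ⟶ Red.Ga S) = GaPts.ptOfFn 1 :=
      GaPts.gaFn_injective (by simp [GaPts.gaFn_comp, GaPts.gaFn_ptOfFn])
    rw [← e1, Category.assoc, GaPts.gaFn_comp, sval_specHom, h5]
  rw [hF]
  exact (hM X y).trans (by rw [← hF])

/-- An invariant morphism to an affine `S`-scheme is constant. -/
theorem homog_const {Y : Over S} [IsAffineHom Y.hom] (F : Red.Ga S ⟶ Y) (e : ℕ) (he : 0 < e)
    (h : ∀ (X : Over S) (z : (Γ(X.left, ⊤))ˣ) (y : Γ(X.left, ⊤)),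
      GaPts.ptOfFn ((z : Γ(X.left, ⊤)) ^ e * y) ≫ F = GaPts.ptOfFn y ≫ F) (X : Over S) (y : Γ(X.left, ⊤)) :
    GaPts.ptOfFn y ≫ F = GaPts.ptOfFn (0 : Γ(X.left, ⊤)) ≫ F := by
  have hF : F = (GaPts.ptOfFn 0 : Red.Ga S ⟶ Red.Ga S) ≫ F := by
    refine ext_line fun A b => ?_
    obtain ⟨b', h1, h2, z, hz, hr⟩ := universal_relation b e (fun X _ l r => l = r) F h
    let b₂ : Spec (CommRingCat.of A[X][X]) ⟶ S :=
      Spec.map (CommRingCat.ofHom (Polynomial.C : A[X] →+* A[X][X])) ≫ lineBase b
    have g2 : Spec.map (CommRingCat.ofHom (scaleHom A e)) ≫ lineBase b = b₂ := by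
      simp only [b₂, lineBase, ← Category.assoc, ← Spec.map_comp, ← CommRingCat.ofHom_comp]
      congr 3
      exact RingHom.ext fun r => by simp [scaleHom]
    have hb' : Spec.map (CommRingCat.ofHom (Polynomial.toLaurent : A[X][X] →+* LaurentPolynomial A[X])) ≫ b₂ = b' := by
      rw [← h2]
      simp only [b₂, ← Category.assoc, ← Spec.map_comp, ← CommRingCat.ofHom_comp]
    have heq : specHom (b := lineBase b) (b' := b₂) _ g2 ≫ linePt b ≫ F = specHom (b := lineBase b) (b' := b₂) (Polynomial.C : A[X] →+* A[X][X]) rfl ≫ linePt b ≫ F := by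
      refine eq_of_injective (b := b₂) (b' := b') _ hb' Polynomial.toLaurent_injective ?_
      have k1 : specHom (b := b₂) (b' := b') _ hb' ≫ specHom (b := lineBase b) (b' := b₂) _ g2 = specHom _ h1 := by
        ext1
        simp only [Over.comp_left, specHom, Over.homMk_left, ← Spec.map_comp, ← CommRingCat.ofHom_comp]
      have k2 : specHom (b := b₂) (b' := b') _ hb' ≫ specHom (b := lineBase b) (b' := b₂) (Polynomial.C : A[X] →+* A[X][X]) rfl = specHom _ h2 := by
        ext1
        simp only [Over.comp_left, specHom, Over.homMk_left, ← Spec.map_comp, ← CommRingCat.ofHom_comp]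
      rw [← Category.assoc, ← Category.assoc (specHom (b := b₂) (b' := b') _ hb'), k1, k2]
      exact hr
    have g0 : Spec.map (CommRingCat.ofHom (Polynomial.evalRingHom (0 : A[X]))) ≫ b₂ = lineBase b := by
      show _ ≫ Spec.map _ ≫ lineBase b = _
      rw [← Category.assoc, ← Spec.map_comp, ← CommRingCat.ofHom_comp,
        show (Polynomial.evalRingHom (0 : A[X])).comp Polynomial.C = RingHom.id A[X] from RingHom.ext fun r => by simp]
      simp
    have k3 := congrArg (fun k => specHom (b := b₂) (b' := lineBase b) _ g0 ≫ k) heq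
    simp only [← Category.assoc] at k3
    rw [show specHom (b := b₂) (b' := lineBase b) _ g0 ≫ specHom (b := lineBase b) (b' := b₂) (Polynomial.C : A[X] →+* A[X][X]) rfl = 𝟙 _ by
        ext1
        simp only [Over.comp_left, specHom, Over.homMk_left, ← Spec.map_comp, ← CommRingCat.ofHom_comp,
          show (Polynomial.evalRingHom (0 : A[X])).comp Polynomial.C = RingHom.id A[X] from RingHom.ext fun r => by simp]
        simp,
      Category.id_comp, Category.assoc (specHom (b := b₂) (b' := lineBase b) _ g0), linePt, specHom_ptOfFn, specHom_ptOfFn] at k3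
    rw [← k3, ← Category.assoc (linePt b)]
    congr 1
    refine GaPts.gaFn_injective ?_
    simp [GaPts.gaFn_comp, GaPts.gaFn_ptOfFn, scaleHom, zero_pow he.ne']
  refine (congrArg (fun k => GaPts.ptOfFn y ≫ k) hF).trans ?_
  rw [← Category.assoc]
  congr 1
  exact GaPts.gaFn_injective (by simp [GaPts.gaFn_comp, GaPts.gaFn_ptOfFn])

end Groth.Agent.GrpSchLib.RankOne
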