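import Mathlib.Algebra.Module.PID
import Mathlib.Algebra.Polynomial.Module.AEval
import Mathlib.LinearAlgebra.Matrix.ToLin
import Mathlib.LinearAlgebra.Matrix.Charpoly.Coeff
import Mathlib.LinearAlgebra.Matrix.Charpoly.Basic
import Mathlib.LinearAlgebra.Dimension.Constructions
import Mathlib.RingTheory.Ideal.Quotient.Operations
import Mathlib.Algebra.Algebra.Subalgebra.Basic
import Mathlib.LinearAlgebra.Matrix.NonsingularInverse
import Mathlib.RingTheory.Ideal.Maximal
import Mathlib.LinearAlgebra.Matrix.MvPolynomial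
import Mathlib.RingTheory.Flat.Basic
import Mathlib.Algebra.MvPolynomial.Basic

/-! Matrices whose commutant has minimal dimension: the commutant is the algebra they generate. -/

open Polynomial Matrix

namespace Groth.Agent.GrpSchLib

universe u

section Field

variable {K : Type u} [Field K] {n : ℕ} (g : Matrix (Fin n) (Fin n) K)

/-- A `K[X]`-endomorphism of `Kⁿ` gives a matrix commuting with `g`. -/
noncomputable def endToCentralizer :
    Module.End K[X] (Module.AEval' (Matrix.toLinAlgEquiv' g)) →ₗ[K]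
      Subalgebra.centralizer K ({g} : Set (Matrix (Fin n) (Fin n) K)) where
  toFun T := ⟨Matrix.toLinAlgEquiv'.symm ((Module.AEval'.of (Matrix.toLinAlgEquiv' g)).symm.toLinearMap ∘ₗ
      T.restrictScalars K ∘ₗ (Module.AEval'.of (Matrix.toLinAlgEquiv' g)).toLinearMap), by
    rw [Subalgebra.mem_centralizer_iff]
    rintro _ rfl
    apply Matrix.toLinAlgEquiv'.injective
    rw [map_mul, map_mul, AlgEquiv.apply_symm_apply]
    apply LinearMap.ext
    intro v
    simp only [Module.End.mul_apply, LinearMap.comp_apply, LinearEquiv.coe_coe, LinearMap.restrictScalars_apply]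
    rw [← Module.AEval'.of_symm_X_smul, ← map_smul, Module.AEval'.X_smul_of]⟩
  map_add' S T := Subtype.ext <| by
    show Matrix.toLinAlgEquiv'.symm _ = Matrix.toLinAlgEquiv'.symm _ + Matrix.toLinAlgEquiv'.symm _
    rw [← map_add]
    congr 1
  map_smul' c T := Subtype.ext <| by
    show Matrix.toLinAlgEquiv'.symm _ = c • Matrix.toLinAlgEquiv'.symm _
    rw [← map_smul]
    congr 1

theorem endToCentralizer_injective : Function.Injective (endToCentralizer g) := by
  intro S T h
  have h' := Matrix.toLinAlgEquiv'.symm.injective (congrArg Subtype.val h)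
  apply LinearMap.ext
  intro m
  obtain ⟨v, rfl⟩ := (Module.AEval'.of (Matrix.toLinAlgEquiv' g)).surjective m
  exact (Module.AEval'.of (Matrix.toLinAlgEquiv' g)).symm.injective (LinearMap.congr_fun h' v)

theorem exists_cyclic_of_finrank_centralizer
    (hreg : Module.finrank K (Subalgebra.centralizer K ({g} : Set (Matrix (Fin n) (Fin n) K))) = n) :
    ∃ v : Fin n → K, ∀ w : Fin n → K, ∃ q : K[X], (aeval g q).mulVec v = w := by
  classical
  let f : Module.End K (Fin n → K) := Matrix.toLinAlgEquiv' g
  let M := Module.AEval' f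
  have htor : Module.IsTorsion K[X] M := by
    intro m
    refine ⟨⟨g.charpoly, mem_nonZeroDivisors_of_ne_zero g.charpoly_monic.ne_zero⟩, ?_⟩
    show g.charpoly • m = 0
    apply (Module.AEval'.of f).symm.injective
    rw [Module.AEval.of_symm_smul, map_zero]
    show (aeval f g.charpoly) _ = 0
    rw [show f = Matrix.toLinAlgEquiv' g from rfl, aeval_algHom_apply, Matrix.aeval_self_charpoly, map_zero]
    rfl
  obtain ⟨ι, _, p, hp, e, ⟨E₀⟩⟩ := Module.equiv_directSum_of_isTorsion htor
  let Q : ι → Type u := fun i => K[X] ⧸ Ideal.span {p i ^ e i}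
  let E : M ≃ₗ[K[X]] (∀ i, Q i) := E₀.trans (DirectSum.linearEquivFunOnFintype K[X] ι _)
  have hcop : Pairwise (Function.onFun IsCoprime fun i => Ideal.span {p i ^ e i}) := by
    intro a b hab
    by_contra hnc
    rw [Function.onFun, Ideal.isCoprime_span_singleton_iff] at hnc
    wlog hle : e a ≤ e b generalizing a b
    · exact this hab.symm (fun h => hnc h.symm) (le_of_not_ge hle)
    have ha : e a ≠ 0 := fun h => hnc (by rw [h, pow_zero]; exact isCoprime_one_left)
    have hass : Associated (p a) (p b) := by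
      have := mt (fun h : IsCoprime (p a) (p b) => h.pow (m := e a) (n := e b)) hnc
      rw [(hp a).coprime_iff_not_dvd, not_not] at this
      exact (hp a).associated_of_dvd (hp b) this
    let h : Q a →ₗ[K[X]] Q b := Submodule.mapQ _ _ (LinearMap.mulLeft K[X] (p a ^ (e b - e a))) <| by
      intro x hx
      rw [Ideal.mem_span_singleton] at hx
      show p a ^ (e b - e a) * x ∈ Ideal.span {p b ^ e b}
      rw [Ideal.mem_span_singleton]
      refine (hass.pow_pow (n := e b)).symm.dvd.trans ?_
      obtain ⟨c, rfl⟩ := hx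
      exact ⟨c, by rw [← mul_assoc, ← pow_add, Nat.sub_add_cancel hle]⟩
    have h1 : h (Ideal.Quotient.mk _ 1) ≠ 0 := by
      show Ideal.Quotient.mk (Ideal.span {p b ^ e b}) (p a ^ (e b - e a) * 1) ≠ 0
      rw [Ne, Ideal.Quotient.eq_zero_iff_mem, mul_one, Ideal.mem_span_singleton]
      intro hd
      have := (pow_dvd_pow_iff (hp a).ne_zero (hp a).not_isUnit).mp ((hass.pow_pow (n := e b)).dvd.trans hd)
      omega
    let φ : Module.End K[X] (∀ i, Q i) := LinearMap.single K[X] Q b ∘ₗ h ∘ₗ LinearMap.proj a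
    let Θ : ((∀ i, Q i) × K) →ₗ[K] Module.End K[X] (∀ i, Q i) :=
      { toFun := fun z => LinearMap.mulLeft K[X] z.1 + z.2 • φ
        map_add' := fun x y => by
          apply LinearMap.ext; intro w
          simp [add_mul, add_smul]; abel
        map_smul' := fun c x => by
          apply LinearMap.ext; intro w
          simp [smul_add, smul_smul, smul_mul_assoc] }
    have hΘ : Function.Injective Θ := by
      rw [injective_iff_map_eq_zero]
      rintro ⟨z, c⟩ hz
      have hi : ∀ i, z i = 0 ∨ i = a := by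
        intro i
        by_cases hia : i = a
        · exact Or.inr hia
        left
        have := congrFun (LinearMap.congr_fun hz (Pi.single i 1)) i
        simpa [Θ, φ, Pi.single_apply, Ne.symm hia] using this
      have hza : z a = 0 := by
        have := congrFun (LinearMap.congr_fun hz (Pi.single a 1)) a
        simpa [Θ, φ, Pi.single_apply, hab] using this
      have hc : c = 0 := by
        have h2 := congrFun (LinearMap.congr_fun hz (Pi.single a 1)) b
        have hzb : z b = 0 := (hi b).resolve_right hab.symm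
        have h3 : c • h (Ideal.Quotient.mk _ 1) = 0 := by
          simpa [Θ, φ, Pi.single_apply, hab.symm, hzb] using h2
        exact (smul_eq_zero.mp h3).resolve_right h1
      refine Prod.ext ?_ hc
      funext i
      rcases hi i with h | rfl
      · exact h
      · exact hza
    let conj : Module.End K[X] (∀ i, Q i) →ₗ[K] Module.End K[X] M :=
      { toFun := fun T => E.symm.toLinearMap ∘ₗ T ∘ₗ E.toLinearMap
        map_add' := fun S T => by ext; simp
        map_smul' := fun c T => LinearMap.ext fun x =>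
          LinearMap.map_smul_of_tower E.symm.toLinearMap c (T (E x)) }
    have hconj : Function.Injective conj := by
      intro S T hST
      apply LinearMap.ext; intro x
      obtain ⟨m, rfl⟩ := E.surjective x
      exact E.symm.injective (LinearMap.congr_fun hST m)
    have hfin : Module.Finite K (∀ i, Q i) :=
      Module.Finite.equiv ((Module.AEval'.of f).trans (E.restrictScalars K))
    have hdim : Module.finrank K (∀ i, Q i) = n := by
      rw [← ((Module.AEval'.of f).trans (E.restrictScalars K)).finrank_eq, Module.finrank_fin_fun]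
    have := LinearMap.finrank_le_finrank_of_injective (f := endToCentralizer g ∘ₗ conj ∘ₗ Θ)
      ((endToCentralizer_injective g).comp (hconj.comp hΘ))
    rw [hreg, Module.finrank_prod, hdim, Module.finrank_self] at this
    omega
  refine ⟨(Module.AEval'.of f).symm (E.symm 1), fun w => ?_⟩
  have hmk : ∀ i, ∃ r : K[X], Ideal.Quotient.mk (Ideal.span {p i ^ e i}) r = E (Module.AEval'.of f w) i :=
    fun i => Ideal.Quotient.mk_surjective _
  choose r hr using hmk
  obtain ⟨q, hq⟩ := Ideal.exists_forall_sub_mem_ideal hcop r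
  refine ⟨q, ?_⟩
  have h1 : q • (1 : ∀ i, Q i) = E (Module.AEval'.of f w) := by
    funext i
    rw [← hr i]
    show Ideal.Quotient.mk (Ideal.span {p i ^ e i}) (q * 1) = _
    rw [mul_one]
    exact (Ideal.Quotient.eq.mpr (hq i))
  have h2 : q • E.symm (1 : ∀ i, Q i) = Module.AEval'.of f w := by
    rw [← map_smul, h1, LinearEquiv.symm_apply_apply]
  have h3 := congrArg (Module.AEval'.of f).symm h2
  rw [Module.AEval.of_symm_smul, LinearEquiv.symm_apply_apply] at h3
  conv_rhs => rw [← h3]
  show _ = (aeval f q) _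
  rw [show aeval f q = Matrix.toLinAlgEquiv' (aeval g q) from aeval_algHom_apply _ g q]
  rfl

/-- A regular matrix has a Krylov basis. -/
theorem exists_isUnit_det_krylov
    (hreg : Module.finrank K (Subalgebra.centralizer K ({g} : Set (Matrix (Fin n) (Fin n) K))) = n) :
    ∃ v : Fin n → K, IsUnit (Matrix.of fun i j : Fin n => (g ^ (j : ℕ)).mulVec v i).det := by
  obtain ⟨v, hv⟩ := exists_cyclic_of_finrank_centralizer g hreg
  refine ⟨v, ?_⟩
  rw [← Matrix.isUnit_iff_isUnit_det]
  refine Matrix.mulVec_surjective_iff_isUnit.mp fun w => ?_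
  obtain ⟨q, hq⟩ := hv w
  refine ⟨fun j => (q %ₘ g.charpoly).coeff j, ?_⟩
  have hmod : aeval g (q %ₘ g.charpoly) = aeval g q := by
    conv_rhs => rw [← modByMonic_add_div q g.charpoly]
    rw [map_add, map_mul, Matrix.aeval_self_charpoly, zero_mul, add_zero]
  rw [← hq, ← hmod]
  have hdeg : (q %ₘ g.charpoly).degree < n := by
    have h := degree_modByMonic_lt q g.charpoly_monic
    rwa [g.charpoly_degree_eq_dim, Fintype.card_fin] at h
  conv_rhs => rw [← Polynomial.sum_C_mul_X_pow_eq (q %ₘ g.charpoly),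
    ← Polynomial.sum_fin (fun i a => C a * X ^ i) (by simp) hdeg, map_sum, Matrix.sum_mulVec]
  funext i
  simp only [map_mul, aeval_C, map_pow, aeval_X, Finset.sum_apply, ← Algebra.smul_def, Matrix.smul_mulVec,
    Pi.smul_apply, smul_eq_mul]
  rw [Matrix.mulVec, dotProduct]
  exact Finset.sum_congr rfl fun j _ => by rw [Matrix.of_apply, mul_comm]

end Field

section Ring

variable {A : Type u} [CommRing A] {n : ℕ} (g : Matrix (Fin n) (Fin n) A)

/-- A matrix commuting with a fibrewise regular matrix is a polynomial in it. -/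
theorem exists_sum_pow_eq_of_commute
    (hreg : ∀ (K : Type u) [Field K] (φ : A →+* K),
      Module.finrank K (Subalgebra.centralizer K ({g.map φ} : Set (Matrix (Fin n) (Fin n) K))) = n)
    (T : Matrix (Fin n) (Fin n) A) (hT : T * g = g * T) :
    ∃ c : Fin n → A, ∑ i : Fin n, c i • g ^ (i : ℕ) = T := by
  let L : (Fin n → A) →ₗ[A] Matrix (Fin n) (Fin n) A :=
    ∑ i : Fin n, (LinearMap.proj i).smulRight (g ^ (i : ℕ))
  have hL : ∀ c, L c = ∑ i : Fin n, c i • g ^ (i : ℕ) := fun c => by simp [L]
  suffices h : T ∈ LinearMap.range L by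
    obtain ⟨c, hc⟩ := h
    exact ⟨c, (hL c).symm.trans hc⟩
  let J : Ideal A := (LinearMap.range L).comap (LinearMap.toSpanSingleton A (Matrix (Fin n) (Fin n) A) T)
  have hJ : ∀ a, a ∈ J ↔ a • T ∈ LinearMap.range L := fun _ => Iff.rfl
  suffices h : J = ⊤ by simpa using (hJ 1).mp (h ▸ Submodule.mem_top)
  by_contra hne
  obtain ⟨m, hm, hJm⟩ := Ideal.exists_le_maximal J hne
  let : Field (A ⧸ m) := Ideal.Quotient.field m
  let φ := Ideal.Quotient.mk m
  obtain ⟨v₀, hv₀⟩ := exists_isUnit_det_krylov (g.map φ) (hreg (A ⧸ m) φ)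
  choose v hv using fun i => Ideal.Quotient.mk_surjective (I := m) (v₀ i)
  let Kr : Matrix (Fin n) (Fin n) A := Matrix.of fun i j : Fin n => (g ^ (j : ℕ)).mulVec v i
  have hKr : Kr.map φ = Matrix.of fun i j : Fin n => ((g.map φ) ^ (j : ℕ)).mulVec v₀ i := by
    ext i j
    rw [Matrix.map_apply, show Kr i j = (g ^ (j : ℕ)).mulVec v i from rfl, Matrix.of_apply, RingHom.map_mulVec, ← RingHom.mapMatrix_apply,
      map_pow, RingHom.mapMatrix_apply, show (φ ∘ v) = v₀ from funext hv]
  have hd : φ Kr.det ≠ 0 := by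
    rw [RingHom.map_det, RingHom.mapMatrix_apply, hKr]
    exact hv₀.ne_zero
  let c := Kr.adjugate.mulVec (T.mulVec v)
  let D := Kr.det • T - ∑ i : Fin n, c i • g ^ (i : ℕ)
  have hgp : ∀ q : ℕ, T * g ^ q = g ^ q * T := fun q => (Commute.pow_right (show Commute T g from hT) q).eq
  have hsum : (∑ i : Fin n, c i • g ^ (i : ℕ)).mulVec v = Kr.mulVec c := by
    rw [Matrix.sum_mulVec]
    funext k
    rw [Finset.sum_apply]
    show _ = ∑ j : Fin n, (g ^ (j : ℕ)).mulVec v k * c j
    refine Finset.sum_congr rfl fun j _ => ?_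
    rw [Matrix.smul_mulVec, Pi.smul_apply, smul_eq_mul, mul_comm]
  have hD0 : D.mulVec v = 0 := by
    rw [Matrix.sub_mulVec, Matrix.smul_mulVec, hsum]
    simp only [c, Matrix.mulVec_mulVec, ← Matrix.mul_assoc, Matrix.mul_adjugate, Matrix.smul_mul, Matrix.one_mul,
      Matrix.smul_mulVec, sub_self]
  have hDg : ∀ q : ℕ, D * g ^ q = g ^ q * D := fun q => by
    simp only [D, sub_mul, mul_sub, smul_mul_assoc, mul_smul_comm, Finset.sum_mul, Finset.mul_sum, hgp,
      ← pow_add, add_comm q]
  have hDK : D * Kr = 0 := by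
    ext i j
    have : (D * g ^ (j : ℕ)).mulVec v i = 0 := by
      rw [hDg, ← Matrix.mulVec_mulVec, hD0, Matrix.mulVec_zero]; rfl
    rw [← Matrix.mulVec_mulVec] at this
    exact this
  have hdD : Kr.det • D = 0 := by
    have := congrArg (· * Kr.adjugate) hDK
    simpa [Matrix.mul_assoc, Matrix.mul_adjugate] using this
  have hmem : Kr.det * Kr.det ∈ J := by
    refine (hJ _).mpr ⟨Kr.det • c, ?_⟩
    rw [smul_sub, smul_smul, sub_eq_zero] at hdD
    rw [map_smul, hL, hdD]
  exact hd (mul_self_eq_zero.mp (by rw [← map_mul]; exact Ideal.Quotient.eq_zero_iff_mem.mpr (hJm hmem)))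

theorem reg_map {B : Type u} [CommRing B] (ψ : A →+* B)
    (hreg : ∀ (K : Type u) [Field K] (φ : A →+* K),
      Module.finrank K (Subalgebra.centralizer K ({g.map φ} : Set (Matrix (Fin n) (Fin n) K))) = n) :
    ∀ (K : Type u) [Field K] (φ : B →+* K),
      Module.finrank K (Subalgebra.centralizer K ({(g.map ψ).map φ} : Set (Matrix (Fin n) (Fin n) K))) = n := by
  intro K _ φ
  have h := hreg K (φ.comp ψ)
  rwa [show g.map (φ.comp ψ) = (g.map ψ).map φ from by ext i j; rfl] at h

theorem commute_of_commute_regular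
    (hreg : ∀ (K : Type u) [Field K] (φ : A →+* K),
      Module.finrank K (Subalgebra.centralizer K ({g.map φ} : Set (Matrix (Fin n) (Fin n) K))) = n)
    {x y : Matrix (Fin n) (Fin n) A} (hx : x * g = g * x) (hy : y * g = g * y) : x * y = y * x := by
  obtain ⟨c, rfl⟩ := exists_sum_pow_eq_of_commute g hreg x hx
  refine (Commute.sum_left _ _ _ fun i _ => ?_).eq
  exact ((Commute.pow_left (show Commute g y from hy.symm) _).smul_left _)

/-- The ring of the commutant of a fibrewise regular matrix is flat. -/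
theorem flat_commutant
    (hreg : ∀ (K : Type u) [Field K] (φ : A →+* K),
      Module.finrank K (Subalgebra.centralizer K ({g.map φ} : Set (Matrix (Fin n) (Fin n) K))) = n)
    (I : Ideal (MvPolynomial (Fin n × Fin n) A))
    (hI : I = Ideal.span (Set.range fun ij : Fin n × Fin n =>
      (Matrix.mvPolynomialX (Fin n) (Fin n) A * g.map MvPolynomial.C -
        g.map MvPolynomial.C * Matrix.mvPolynomialX (Fin n) (Fin n) A :
          Matrix (Fin n) (Fin n) (MvPolynomial (Fin n × Fin n) A)) ij.1 ij.2)) :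
    Module.Flat A (MvPolynomial (Fin n × Fin n) A ⧸ I) := by
  let Qr := MvPolynomial (Fin n × Fin n) A ⧸ I
  let mk : MvPolynomial (Fin n × Fin n) A →ₐ[A] Qr := Ideal.Quotient.mkₐ A I
  let gC : Matrix (Fin n) (Fin n) (MvPolynomial (Fin n) A) := g.map MvPolynomial.C
  let X₀ : Matrix (Fin n) (Fin n) (MvPolynomial (Fin n) A) := ∑ l : Fin n, (MvPolynomial.X l : MvPolynomial (Fin n) A) • gC ^ (l : ℕ)
  let φ₀ : MvPolynomial (Fin n × Fin n) A →ₐ[A] MvPolynomial (Fin n) A :=
    MvPolynomial.aeval fun ij => X₀ ij.1 ij.2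
  have hφX : (Matrix.mvPolynomialX (Fin n) (Fin n) A).map φ₀ = X₀ := by
    ext i j; simp [φ₀, Matrix.mvPolynomialX_apply]
  have hφg : (g.map MvPolynomial.C).map φ₀ = gC := by
    ext i j; simp [φ₀, gC]
  have hcomm : X₀ * gC = gC * X₀ := by
    simp only [X₀, Finset.sum_mul, Finset.mul_sum, smul_mul_assoc, mul_smul_comm, ← pow_succ, ← pow_succ']
  let φ : Qr →ₐ[A] MvPolynomial (Fin n) A := Ideal.Quotient.liftₐ I φ₀ <| by
    intro a ha
    refine (Ideal.span_le (I := RingHom.ker φ₀)).mpr ?_ (hI ▸ ha)
    rintro _ ⟨ij, rfl⟩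
    show φ₀ _ = 0
    have := congrArg (fun M : Matrix (Fin n) (Fin n) (MvPolynomial (Fin n) A) => M ij.1 ij.2) (sub_eq_zero.mpr hcomm)
    rw [← hφX, ← hφg, ← Matrix.map_mul, ← Matrix.map_mul] at this
    simp only [Matrix.sub_apply, Matrix.zero_apply, Matrix.map_apply, ← map_sub] at this
    exact this
  let G : Matrix (Fin n) (Fin n) Qr := g.map (algebraMap A Qr)
  let U : Matrix (Fin n) (Fin n) Qr := (Matrix.mvPolynomialX (Fin n) (Fin n) A).map mk
  have hU : U * G = G * U := by
    have hG : G = (g.map MvPolynomial.C).map mk := by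
      ext i j; exact (mk.commutes _).symm
    rw [hG, ← Matrix.map_mul, ← Matrix.map_mul]
    ext i j
    rw [Matrix.map_apply, Matrix.map_apply]
    refine Ideal.Quotient.eq.mpr (hI ▸ Ideal.subset_span ⟨(i, j), ?_⟩)
    rfl
  obtain ⟨q, hq⟩ := exists_sum_pow_eq_of_commute G (reg_map g (algebraMap A Qr) hreg) U hU
  let ψ : MvPolynomial (Fin n) A →ₐ[A] Qr := MvPolynomial.aeval q
  have hret : ψ.comp φ = AlgHom.id A Qr := by
    apply Ideal.Quotient.algHom_ext
    apply MvPolynomial.algHom_ext
    rintro ⟨i, j⟩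
    show ψ (φ₀ (MvPolynomial.X (i, j))) = mk (MvPolynomial.X (i, j))
    rw [MvPolynomial.aeval_X]
    show ψ.toRingHom.mapMatrix X₀ i j = _
    have : ψ.toRingHom.mapMatrix X₀ = U := by
      rw [← hq]
      simp only [X₀, map_sum]
      refine Finset.sum_congr rfl fun l _ => ?_
      have hgG : ψ.toRingHom.mapMatrix gC = G := by
        ext a b; exact ψ.commutes (g a b)
      rw [RingHom.mapMatrix_apply, Matrix.map_smul' _ _ _ (map_mul ψ.toRingHom), ← RingHom.mapMatrix_apply,
        map_pow, hgG]
      congr 1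
      exact MvPolynomial.aeval_X q l
    rw [this]
    simp [U, Matrix.mvPolynomialX_apply]
  exact Module.Flat.of_retract φ.toLinearMap ψ.toLinearMap (congrArg AlgHom.toLinearMap hret)

end Ring

end Groth.Agent.GrpSchLib
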