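import Groth.Agent.GrpSchLib.HomFlat
import Groth.Prelude.Def_AlgGrp

/-! Loci of good behaviour of a homomorphism or orbit map of group schemes are stable under
translation. -/

universe u

open CategoryTheory Limits AlgebraicGeometry MonoidalCategory CartesianMonoidalCategory MonObj GrpObj
  TopologicalSpace

namespace Groth.Agent.GrpSchLib.Saturate

/-- A function assigning a set of points to each morphism. -/
abbrev LocusFn : Type (u + 1) := ∀ ⦃A B : Scheme.{u}⦄, (A ⟶ B) → Set A

/-- Compatibility of a locus with base change along morphisms in `R`. -/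
def IsCompat (L : LocusFn.{u}) (R : MorphismProperty Scheme.{u}) : Prop :=
  ∀ ⦃A' A B' B : Scheme.{u}⦄ (v : A' ⟶ A) (d' : A' ⟶ B') (d : A ⟶ B) (q : B' ⟶ B),
    IsPullback v d' d q → R q → ∀ x, x ∈ L d' ↔ v x ∈ L d

variable {S : Scheme.{u}} {G X : Over S} [GrpObj G]

/-- The homomorphism `u` as an equivariant map. -/
noncomputable def homAction {H : Over S} [GrpObj H] (u : G ⟶ H) [IsMonHom u] : AlgGrp.Action G H where
  act := (u ▷ H) ≫ μ[H]
  one_act := by
    rw [← Category.assoc, ← MonoidalCategory.comp_whiskerRight, IsMonHom.one_hom]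
    exact MonObj.one_mul H
  mul_act := by
    have h : ∀ {T : Over S} (x : T ⟶ G) (y : T ⟶ H), lift x y ≫ (u ▷ H) ≫ μ[H] = (x ≫ u) * y := by
      intro T x y
      rw [← Category.assoc, lift_whiskerRight, Hom.mul_def]
    apply (cancel_epi (α_ G G H).inv).mp
    simp only [Iso.inv_hom_id_assoc]
    have hw : (α_ G G H).inv = lift (lift (fst G (G ⊗ H)) (snd G (G ⊗ H) ≫ fst G H)) (snd G (G ⊗ H) ≫ snd G H) := by
      apply CartesianMonoidalCategory.hom_ext
      · apply CartesianMonoidalCategory.hom_ext <;> simp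
      · simp
    rw [hw, ← Category.assoc, lift_whiskerRight, ← Hom.mul_def]
    rw [show (G ◁ ((u ▷ H) ≫ μ[H])) = lift (fst G (G ⊗ H)) (snd G (G ⊗ H) ≫ (u ▷ H) ≫ μ[H]) by
      apply CartesianMonoidalCategory.hom_ext <;> simp, h, h]
    rw [show snd G (G ⊗ H) ≫ (u ▷ H) ≫ μ[H] = (snd G (G ⊗ H) ≫ fst G H ≫ u) * (snd G (G ⊗ H) ≫ snd G H) by
      rw [Hom.mul_def, ← Category.assoc (snd G (G ⊗ H)) (fst G H), ← lift_whiskerRight_assoc, ← comp_lift, lift_fst_snd, Category.comp_id]]
    rw [MonObj.mul_comp]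
    simp [_root_.mul_assoc]

theorem equivariant_hom {H : Over S} [GrpObj H] (u : G ⟶ H) [IsMonHom u] {T : Over S} (g h : T ⟶ G) :
    lift g (h ≫ u) ≫ (homAction u).act = (g * h) ≫ u := by
  show lift g (h ≫ u) ≫ (u ▷ H) ≫ μ[H] = _
  rw [lift_whiskerRight_assoc, ← Hom.mul_def, MonObj.mul_comp]

variable (a : AlgGrp.Action G X) in
/-- Orbit maps are equivariant. -/
theorem equivariant_orbit (o : 𝟙_ (Over S) ⟶ X) {T : Over S} (g h : T ⟶ G) :
    lift g (h ≫ a.orbitMap o) ≫ a.act = (g * h) ≫ a.orbitMap o := by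
  have e : ∀ k : T ⟶ G, k ≫ a.orbitMap o = lift k (toUnit T ≫ o) ≫ a.act := by
    intro k
    rw [AlgGrp.Action.orbitMap, comp_lift_assoc, Category.comp_id, ← Category.assoc k, comp_toUnit]
  rw [e h, e (g * h)]
  have : lift (g * h) (toUnit T ≫ o) = lift (lift g h) (toUnit T ≫ o) ≫ (μ[G] ▷ X) := by
    rw [lift_whiskerRight, Hom.mul_def]
  rw [this, Category.assoc, a.mul_act]
  simp [lift_lift_associator_hom_assoc, lift_whiskerLeft_assoc]

variable (a : AlgGrp.Action G X) (u : G ⟶ X)
  (hu : ∀ {T : Over S} (g h : T ⟶ G), lift g (h ≫ u) ≫ a.act = (g * h) ≫ u)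

variable {L : LocusFn.{u}} {R : MorphismProperty Scheme.{u}} [R.IsStableUnderBaseChange]
  [R.ContainsIdentities] [R.RespectsIso]

include hu in
/-- Translations by points of `T` preserve the locus. -/
theorem key (hL : IsCompat L R) {T : Over S} (j : T ⟶ G) (hT : R T.hom) (w : (G ⊗ T).left) :
    (fst G T).left w ∈ L u.left ↔
      ((snd G T ≫ j) * fst G T).left w ∈ L u.left := by
  let τ : G ⊗ T ≅ G ⊗ T :=
    { hom := lift ((snd G T ≫ j) * fst G T) (snd G T)
      inv := lift ((snd G T ≫ j)⁻¹ * fst G T) (snd G T)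
      hom_inv_id := by
        refine CartesianMonoidalCategory.hom_ext _ _ ?_ ?_
        · simp [MonObj.comp_mul, GrpObj.comp_inv]
        · simp
      inv_hom_id := by
        refine CartesianMonoidalCategory.hom_ext _ _ ?_ ?_
        · simp [MonObj.comp_mul, GrpObj.comp_inv]
        · simp }
  have hone : ∀ {P : Over S} (x : P ⟶ X), lift (1 : P ⟶ G) x ≫ a.act = x := by
    intro P x
    have h : lift (1 : P ⟶ G) x = lift (toUnit P) x ≫ (η[G] ▷ X) := by
      rw [lift_whiskerRight, Hom.one_def]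
    rw [h, Category.assoc, a.one_act, lift_leftUnitor_hom]
  have hmul : ∀ {P : Over S} (g g' : P ⟶ G) (x : P ⟶ X),
      lift g (lift g' x ≫ a.act) ≫ a.act = lift (g * g') x ≫ a.act := by
    intro P g g' x
    have h : lift (g * g') x = lift (lift g g') x ≫ (μ[G] ▷ X) := by
      rw [lift_whiskerRight, Hom.mul_def]
    rw [h, Category.assoc, a.mul_act]
    simp [lift_lift_associator_hom_assoc, lift_whiskerLeft_assoc]
  let σ : X ⊗ T ≅ X ⊗ T :=
    { hom := lift (lift (snd X T ≫ j) (fst X T) ≫ a.act) (snd X T)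
      inv := lift (lift (snd X T ≫ j)⁻¹ (fst X T) ≫ a.act) (snd X T)
      hom_inv_id := by
        refine CartesianMonoidalCategory.hom_ext _ _ ?_ ?_
        · simp only [Category.assoc, lift_fst, Category.id_comp, comp_lift_assoc, lift_snd_assoc,
            GrpObj.comp_inv]
          rw [hmul, inv_mul_cancel, hone]
        · simp
      inv_hom_id := by
        refine CartesianMonoidalCategory.hom_ext _ _ ?_ ?_
        · simp only [Category.assoc, lift_fst, Category.id_comp, comp_lift_assoc, lift_snd_assoc,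
            GrpObj.comp_inv]
          rw [hmul, mul_inv_cancel, hone]
        · simp }
  have comm : τ.hom ≫ (u ▷ T) = (u ▷ T) ≫ σ.hom := by
    refine CartesianMonoidalCategory.hom_ext _ _ ?_ ?_
    · simp only [τ, σ, Category.assoc, whiskerRight_fst, lift_fst_assoc, lift_fst, comp_lift_assoc,
        whiskerRight_snd_assoc]
      exact (hu _ _).symm
    · simp [τ, σ]
  have sq : IsPullback τ.hom.left (u ▷ T).left (u ▷ T).left σ.hom.left := by
    haveI : IsIso τ.hom.left := ((Over.forget S).mapIso τ).isIso_hom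
    haveI : IsIso σ.hom.left := ((Over.forget S).mapIso σ).isIso_hom
    exact IsPullback.of_horiz_isIso ⟨by rw [← Over.comp_left, ← Over.comp_left, comm]⟩
  have h1 : ∀ y, y ∈ L (u ▷ T).left ↔ (fst G T).left y ∈ L u.left :=
    hL _ _ _ _ (isPullback_whiskerRight u T).flip
      (MorphismProperty.of_isPullback (P := R) (IsPullback.of_hasPullback X.hom T.hom).flip hT)
  have h2 : w ∈ L (u ▷ T).left ↔ τ.hom.left w ∈ L (u ▷ T).left := by
    haveI : IsIso σ.hom.left := ((Over.forget S).mapIso σ).isIso_hom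
    exact hL _ _ _ _ sq (R.of_isIso σ.hom.left) w
  have h3 : (fst G T).left (τ.hom.left w) = ((snd G T ≫ j) * fst G T).left w := by
    rw [← Scheme.Hom.comp_apply, ← Over.comp_left]
    simp [τ]
  rw [← h1, h2, h1, h3]

include hu in
/-- If the group is `R` over the base, the locus is a union of fibres. -/
theorem saturated (hL : IsCompat L R) (hG : R G.hom) {x y : G.left} (hx : x ∈ L u.left)
    (h : G.hom y = G.hom x) : y ∈ L u.left := by
  let e : G ⊗ G ≅ G ⊗ G :=
    { hom := lift (fst G G) (snd G G * fst G G)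
      inv := lift (fst G G) (snd G G * (fst G G)⁻¹)
      hom_inv_id := by
        refine CartesianMonoidalCategory.hom_ext _ _ ?_ ?_
        · simp
        · simp [MonObj.comp_mul, GrpObj.comp_inv]
      inv_hom_id := by
        refine CartesianMonoidalCategory.hom_ext _ _ ?_ ?_
        · simp
        · simp [MonObj.comp_mul, GrpObj.comp_inv] }
  obtain ⟨z, hz1, hz2⟩ := Scheme.Pullback.exists_preimage_pullback (f := G.hom) (g := G.hom) x y h.symm
  have hw := key a u hu hL (𝟙 G) hG (e.inv.left z)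
  have h1 : (fst G G).left (e.inv.left z) = x := by
    rw [← Scheme.Hom.comp_apply, ← Over.comp_left]
    simpa [e] using hz1
  have h2 : ((snd G G ≫ 𝟙 G) * fst G G).left (e.inv.left z) = y := by
    rw [← Scheme.Hom.comp_apply, ← Over.comp_left]
    simpa [e, MonObj.comp_mul, GrpObj.comp_inv] using hz2
  rw [h1, h2] at hw
  exact hw.mp hx

include hu in
/-- An open locus which is `R` over the base is a subgroup over its image. -/
theorem subgroup (hL : IsCompat L R) (V : G.left.Opens) (hV : R (V.ι ≫ G.hom))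
    (hVL : ∀ x, x ∈ V ↔ x ∈ L u.left) :
    (∀ g ∈ V, ∀ p : ↥(𝟙_ (Over S)).left, (𝟙_ (Over S)).hom.base p = G.hom.base g →
      η[G].left.base p ∈ V) ∧
    (∀ g ∈ V, ι[G].left.base g ∈ V) ∧
    (∀ z : ↥(G ⊗ G).left, (fst G G).left.base z ∈ V → (snd G G).left.base z ∈ V →
      μ[G].left.base z ∈ V) := by
  let T : Over S := Over.mk (V.ι ≫ G.hom)
  let j : T ⟶ G := Over.homMk V.ι rfl
  have k := key a u hu hL j hV
  have hone : ∀ g : T.left, (toUnit T ≫ η[G]).left g ∈ V := by
    intro g
    rw [hVL]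
    refine Eq.mp ?_ ((k ((lift (toUnit T ≫ η[G]) (𝟙 T)).left g)).mpr ?_)
    · rw [← Scheme.Hom.comp_apply, ← Over.comp_left, lift_fst]
    · rw [← Scheme.Hom.comp_apply, ← Over.comp_left]
      have : lift (toUnit T ≫ η[G]) (𝟙 T) ≫ ((snd G T ≫ j) * fst G T) = j := by
        simp [MonObj.comp_mul, MonObj.one_eq_one]
      rw [this]
      exact (hVL _).mp g.2
  refine ⟨fun g hg p hp => ?_, fun g hg => ?_, fun z hz1 hz2 => ?_⟩
  · have h : (toUnit T ≫ η[G]).left (⟨g, hg⟩ : V.toScheme) = η[G].left p := by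
      rw [Over.comp_left, Scheme.Hom.comp_apply]
      refine congrArg _ ?_
      exact hp.symm
    exact h ▸ hone ⟨g, hg⟩
  · let g' : T.left := (⟨g, hg⟩ : V.toScheme)
    rw [hVL]
    refine Eq.mp ?_ ((k ((lift j⁻¹ (𝟙 T)).left g')).mpr ?_)
    · rw [← Scheme.Hom.comp_apply, ← Over.comp_left, lift_fst, Hom.inv_def]
      rfl
    · rw [← Scheme.Hom.comp_apply, ← Over.comp_left]
      have : lift j⁻¹ (𝟙 T) ≫ ((snd G T ≫ j) * fst G T) = toUnit T ≫ η[G] := by
        simp [MonObj.comp_mul, MonObj.one_eq_one]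
      rw [this]
      exact (hVL _).mp (hone g')
  · have hr : Set.range (G ◁ j).left = (snd G G).left ⁻¹' Set.range V.ι := by
      have e : (G ◁ j).left = pullback.map G.hom T.hom G.hom G.hom (𝟙 _) j.left (𝟙 S)
          (by simp) (by rw [Category.comp_id]; exact (Over.w j).symm) := Over.whiskerLeft_left _
      rw [e]
      exact (Scheme.Pullback.range_map _ _ _ _ _ _ _ _ _).trans (by simp [j]; exact congrArg _ (Scheme.Opens.range_ι V))
    -- `μ` is `fst * snd`: swap the factors
    let s : G ⊗ G ⟶ G ⊗ G := lift (snd G G) (fst G G)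
    obtain ⟨w, hw⟩ : s.left z ∈ Set.range (G ◁ j).left := by
      rw [hr, Set.mem_preimage, ← Scheme.Hom.comp_apply, ← Over.comp_left, lift_snd, Scheme.Opens.range_ι]
      exact hz1
    have hA : (fst G T).left w = (snd G G).left z := by
      have h1 : (fst G G).left ((G ◁ j).left w) = (fst G T).left w := by
        rw [← Scheme.Hom.comp_apply, ← Over.comp_left, whiskerLeft_fst]
      rw [← h1, hw, ← Scheme.Hom.comp_apply, ← Over.comp_left, lift_fst]
    have hB : ((snd G T ≫ j) * fst G T).left w = μ[G].left z := by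
      have h1 : (G ◁ j) ≫ (snd G G * fst G G) = (snd G T ≫ j) * fst G T := by
        simp [MonObj.comp_mul]
      have h2 : s ≫ (snd G G * fst G G) = μ[G] := by
        rw [show μ[G] = fst G G * snd G G by rw [Hom.mul_def, lift_fst_snd, Category.id_comp]]
        simp [s, MonObj.comp_mul]
      rw [← h1, Over.comp_left, Scheme.Hom.comp_apply, hw, ← Scheme.Hom.comp_apply, ← Over.comp_left, h2]
    rw [hVL, ← hB]
    exact (k w).mp (by rw [hA]; exact (hVL _).mp hz2)

end Groth.Agent.GrpSchLib.Saturate
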