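import Groth.Agent.GrpSchLib.Kunneth
import Groth.Agent.GrpSchLib.LineGroups
import Groth.Agent.GrpSchLib.SplitTorusPoints
import Mathlib.AlgebraicGeometry.AffineScheme

/-! Functions on the product of a quasi-compact scheme with finite-dimensional functions and any scheme. -/

universe u

set_option autoImplicit false
set_option backward.isDefEq.respectTransparency false
set_option backward.isDefEq.respectTransparency.types false

open CategoryTheory MonoidalCategory CartesianMonoidalCategory AlgebraicGeometry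
open scoped TensorProduct Polynomial

namespace Groth.Agent.GrpSchLib.SectionsProdQC

open Kunneth AffineHopf SplitTorusPoints

variable {k : Type u} [Field k]

/-- An open subscheme over the base. -/
noncomputable abbrev opn (Y : Over (Spec (CommRingCat.of k))) (U : Y.left.Opens) : Over (Spec (CommRingCat.of k)) :=
  Over.mk (U.ι ≫ Y.hom)

/-- The inclusion. -/
noncomputable abbrev inc (Y : Over (Spec (CommRingCat.of k))) (U : Y.left.Opens) : opn Y U ⟶ Y := Over.homMk U.ι rfl

theorem exists_fn_hom {Y : Over (Spec (CommRingCat.of k))} (f : Fn Y) :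
    ∃ g : Y ⟶ sp k k[X], ev g (fnSp k k[X] Polynomial.X) = f := by
  obtain ⟨g, hg⟩ := LineGroups.exists_hom_ev (T := Y) (X := sp k k[X])
    ((Polynomial.aeval f).comp (fnSp k k[X]).symm.toAlgHom)
  refine ⟨g, ?_⟩
  rw [hg]
  show Polynomial.aeval f ((fnSp k k[X]).symm (fnSp k k[X] Polynomial.X)) = f
  rw [AlgEquiv.symm_apply_apply, Polynomial.aeval_X]

theorem fn_hom_ext {Y : Over (Spec (CommRingCat.of k))} {g g' : Y ⟶ sp k k[X]}
    (h : ev g (fnSp k k[X] Polynomial.X) = ev g' (fnSp k k[X] Polynomial.X)) : g = g' := by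
  refine LineGroups.ext_ev ?_
  have : (ev g).comp (fnSp k k[X]).toAlgHom = (ev g').comp (fnSp k k[X]).toAlgHom := Polynomial.algHom_ext h
  refine AlgHom.ext fun z => ?_
  obtain ⟨b, rfl⟩ := (fnSp k k[X]).surjective z
  exact DFunLike.congr_fun this b

theorem sep {Y : Over (Spec (CommRingCat.of k))} {κ : Type u} (V : κ → Y.left.Opens)
    (hV : ∀ y, ∃ i, y ∈ V i) {f f' : Fn Y} (h : ∀ i, ev (inc Y (V i)) f = ev (inc Y (V i)) f') : f = f' := by
  obtain ⟨g, rfl⟩ := exists_fn_hom f
  obtain ⟨g', rfl⟩ := exists_fn_hom f'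
  suffices g = g' by rw [this]
  refine Over.OverMorphism.ext (Scheme.Cover.hom_ext (Y.left.openCoverOfIsOpenCover V
    (TopologicalSpace.IsOpenCover.mk (eq_top_iff.2 fun y _ => TopologicalSpace.Opens.mem_iSup.2 (hV y)))) _ _ fun i => ?_)
  exact congrArg CommaMorphism.left (fn_hom_ext (g := inc Y (V i) ≫ g) (g' := inc Y (V i) ≫ g')
    (by rw [← ev_ev, ← ev_ev]; exact h i))

theorem glue {Y : Over (Spec (CommRingCat.of k))} {κ : Type u} (V : κ → Y.left.Opens)
    (hV : ∀ y, ∃ i, y ∈ V i) (f : ∀ i, Fn (opn Y (V i)))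
    (hf : ∀ i j (T : Over (Spec (CommRingCat.of k))) [IsAffine T.left] (a : T ⟶ opn Y (V i)) (b : T ⟶ opn Y (V j)),
      a ≫ inc Y (V i) = b ≫ inc Y (V j) → ev a (f i) = ev b (f j)) :
    ∃ F : Fn Y, ∀ i, ev (inc Y (V i)) F = f i := by
  choose g hg using fun i => exists_fn_hom (f i)
  let 𝒰 : Y.left.OpenCover := Y.left.openCoverOfIsOpenCover V
    (TopologicalSpace.IsOpenCover.mk (eq_top_iff.2 fun y _ => TopologicalSpace.Opens.mem_iSup.2 (hV y)))
  have hc : ∀ i j : κ, Limits.pullback.fst (V i).ι (V j).ι ≫ (g i).left = Limits.pullback.snd (V i).ι (V j).ι ≫ (g j).left := by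
    intro i j
    let P := Limits.pullback (V i).ι (V j).ι
    refine Scheme.Cover.hom_ext P.affineCover _ _ fun x => ?_
    let c := P.affineCover.f x
    let T : Over (Spec (CommRingCat.of k)) := Over.mk ((c ≫ Limits.pullback.fst (V i).ι (V j).ι) ≫ (V i).ι ≫ Y.hom)
    haveI : IsAffine T.left := inferInstanceAs (IsAffine (P.affineCover.X x))
    let a : T ⟶ opn Y (V i) := Over.homMk (c ≫ Limits.pullback.fst (V i).ι (V j).ι) rfl
    let b : T ⟶ opn Y (V j) := Over.homMk (c ≫ Limits.pullback.snd (V i).ι (V j).ι) (by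
      show (c ≫ Limits.pullback.snd (V i).ι (V j).ι) ≫ (V j).ι ≫ Y.hom = (c ≫ Limits.pullback.fst (V i).ι (V j).ι) ≫ (V i).ι ≫ Y.hom
      simp only [Category.assoc, Limits.pullback.condition_assoc])
    have hab : a ≫ inc Y (V i) = b ≫ inc Y (V j) := Over.OverMorphism.ext (by
      show (c ≫ Limits.pullback.fst (V i).ι (V j).ι) ≫ (V i).ι = (c ≫ Limits.pullback.snd (V i).ι (V j).ι) ≫ (V j).ι
      rw [Category.assoc, Category.assoc, Limits.pullback.condition])
    have h2 := congrArg CommaMorphism.left (fn_hom_ext (g := a ≫ g i) (g' := b ≫ g j)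
      (by rw [← ev_ev, ← ev_ev, hg, hg]; exact hf i j T a b hab))
    rw [← Category.assoc, ← Category.assoc]
    exact h2
  let G : Y ⟶ sp k k[X] := Over.homMk (𝒰.glueMorphisms (fun i => (g i).left) hc) (by
    refine Scheme.Cover.hom_ext 𝒰 _ _ fun i => ?_
    rw [← Category.assoc, Scheme.Cover.ι_glueMorphisms]
    exact Over.w (g i))
  refine ⟨ev G (fnSp k k[X] Polynomial.X), fun i => ?_⟩
  rw [ev_ev, show inc Y (V i) ≫ G = g i from Over.OverMorphism.ext (Scheme.Cover.ι_glueMorphisms 𝒰 _ hc i), hg]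

variable (X S : Over (Spec (CommRingCat.of k)))

/-- The product of two open subschemes mapped into the product. -/
noncomputable abbrev piece (U : X.left.Opens) (V : S.left.Opens) : opn X U ⊗ opn S V ⟶ X ⊗ S := inc X U ⊗ₘ inc S V

theorem ext_pieces {f f' : Fn (X ⊗ S)}
    (h : ∀ (U : X.left.affineOpens) (V : S.left.affineOpens), ev (piece X S U.1 V.1) f = ev (piece X S U.1 V.1) f') :
    f = f' := by
  let W : X.left.affineOpens × S.left.affineOpens → (X ⊗ S).left.Opens := fun p =>
    (fst X S).left ⁻¹ᵁ p.1.1 ⊓ (snd X S).left ⁻¹ᵁ p.2.1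
  refine sep W (fun y => ?_) fun p => ?_
  · obtain ⟨U, hU, hyU, -⟩ := exists_isAffineOpen_mem_and_subset (x := (fst X S).left y) (U := ⊤) trivial
    obtain ⟨V, hV, hyV, -⟩ := exists_isAffineOpen_mem_and_subset (x := (snd X S).left y) (U := ⊤) trivial
    exact ⟨(⟨U, hU⟩, ⟨V, hV⟩), hyU, hyV⟩
  · have h1 : Set.range (inc _ (W p) ≫ fst X S).left ⊆ Set.range p.1.1.ι := by
      rintro _ ⟨z, rfl⟩
      rw [Scheme.Opens.range_ι]
      exact z.2.1
    have h2 : Set.range (inc _ (W p) ≫ snd X S).left ⊆ Set.range p.2.1.ι := by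
      rintro _ ⟨z, rfl⟩
      rw [Scheme.Opens.range_ι]
      exact z.2.2
    let a : opn _ (W p) ⟶ opn X p.1.1 := Over.homMk (IsOpenImmersion.lift p.1.1.ι _ h1) (by
      show IsOpenImmersion.lift p.1.1.ι _ h1 ≫ p.1.1.ι ≫ X.hom = _
      rw [IsOpenImmersion.lift_fac_assoc]
      exact Over.w (inc _ (W p) ≫ fst X S))
    let b : opn _ (W p) ⟶ opn S p.2.1 := Over.homMk (IsOpenImmersion.lift p.2.1.ι _ h2) (by
      show IsOpenImmersion.lift p.2.1.ι _ h2 ≫ p.2.1.ι ≫ S.hom = _
      rw [IsOpenImmersion.lift_fac_assoc]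
      exact Over.w (inc _ (W p) ≫ snd X S))
    have hab : lift a b ≫ piece X S p.1.1 p.2.1 = inc _ (W p) := by
      rw [lift_map]
      apply CartesianMonoidalCategory.hom_ext
      · rw [lift_fst]; exact Over.OverMorphism.ext (IsOpenImmersion.lift_fac _ _ h1)
      · rw [lift_snd]; exact Over.OverMorphism.ext (IsOpenImmersion.lift_fac _ _ h2)
    rw [← hab, ← ev_ev, ← ev_ev, h]

theorem isAffine_opn {Y : Over (Spec (CommRingCat.of k))} (U : Y.left.affineOpens) : IsAffine (opn Y U.1).left := U.2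

variable {m : ℕ} (e : Module.Basis (Fin m) k (Fn X))

theorem injective_coeff (s : Fin m → Fn S) (h : ∑ i, ev (fst X S) (e i) * ev (snd X S) (s i) = 0) : ∀ i, s i = 0 := by
  classical
  intro i
  refine sep (fun V : S.left.affineOpens => V.1)
    (fun y => by obtain ⟨U, hU, hy, -⟩ := exists_isAffineOpen_mem_and_subset (x := y) (U := ⊤) trivial; exact ⟨⟨U, hU⟩, hy⟩)
    fun V => ?_
  rw [map_zero]
  haveI := isAffine_opn V
  let b := Module.Free.chooseBasis k (Fn (opn S V.1))
  let F := Finset.univ.biUnion fun i => (b.repr (ev (inc S V.1) (s i))).support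
  have hexp : ∀ i, ev (inc S V.1) (s i) = ∑ l ∈ F, b.repr (ev (inc S V.1) (s i)) l • b l := fun i => by
    conv_lhs => rw [← b.linearCombination_repr (ev (inc S V.1) (s i)), Finsupp.linearCombination_apply]
    exact Finset.sum_subset (fun l hl => Finset.mem_biUnion.2 ⟨i, Finset.mem_univ _, hl⟩)
      (fun l _ hl => by simp [Finsupp.notMem_support_iff.1 hl])
  have hzero : ∀ l ∈ F, ∑ j, b.repr (ev (inc S V.1) (s j)) l • e j = 0 := by
    intro l hl
    refine sep (fun U : X.left.affineOpens => U.1)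
      (fun y => by obtain ⟨U, hU, hy, -⟩ := exists_isAffineOpen_mem_and_subset (x := y) (U := ⊤) trivial; exact ⟨⟨U, hU⟩, hy⟩)
      fun U => ?_
    rw [map_zero]
    haveI := isAffine_opn U
    refine indep (X := opn X U.1) b.linearIndependent F
      (fun l => ev (inc X U.1) (∑ j, b.repr (ev (inc S V.1) (s j)) l • e j)) ?_ l hl
    have h2 := congrArg (ev (piece X S U.1 V.1)) h
    simp only [map_sum, map_mul, map_zero, ev_ev, tensorHom_fst, tensorHom_snd] at h2
    simp only [← ev_ev] at h2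
    rw [← h2]
    simp only [map_sum, map_smul, Finset.sum_mul]
    rw [Finset.sum_comm]
    refine Finset.sum_congr rfl fun j _ => ?_
    conv_rhs => rw [hexp j]
    simp only [map_sum, map_smul, Finset.mul_sum, smul_mul_assoc, mul_smul_comm]
  rw [hexp i]
  refine Finset.sum_eq_zero fun l hl => ?_
  rw [Fintype.linearIndependent_iff.1 e.linearIndependent _ (hzero l hl) i, zero_smul]

theorem exists_coeff_affine [CompactSpace X.left] (z : Fn (X ⊗ S)) (V : S.left.affineOpens) :
    ∃ t : Fin m → Fn (opn S V.1), ∀ U : X.left.affineOpens,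
      ev (piece X S U.1 V.1) z = ∑ i, ev (fst _ _) (ev (inc X U.1) (e i)) * ev (snd _ _) (t i) := by
  classical
  haveI := isAffine_opn V
  let b := Module.Free.chooseBasis k (Fn (opn S V.1))
  have hex : ∀ U : X.left.affineOpens, ∃ (F : Finset (Module.Free.ChooseBasisIndex k (Fn (opn S V.1))))
      (a : Module.Free.ChooseBasisIndex k (Fn (opn S V.1)) → Fn (opn X U.1)),
      (∀ l ∉ F, a l = 0) ∧ ev (piece X S U.1 V.1) z = ∑ l ∈ F, ev (fst _ _) (a l) * ev (snd _ _) (b l) := fun U => by
    haveI := isAffine_opn U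
    obtain ⟨F, a, ha⟩ := exists_expand b (ev (piece X S U.1 V.1) z)
    refine ⟨F, fun l => if l ∈ F then a l else 0, fun l hl => if_neg hl, ?_⟩
    rw [ha]
    exact Finset.sum_congr rfl fun l hl => by simp only [if_pos hl]
  choose F a ha0 ha using hex
  have hext : ∀ U F', F U ⊆ F' → ev (piece X S U.1 V.1) z = ∑ l ∈ F', ev (fst _ _) (a U l) * ev (snd _ _) (b l) := by
    intro U F' hF
    rw [ha U]
    exact Finset.sum_subset hF fun l _ hl => by rw [ha0 U l hl, map_zero, zero_mul]
  have hglue : ∀ l, ∃ c : Fn X, ∀ U : X.left.affineOpens, ev (inc X U.1) c = a U l := by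
    intro l
    refine glue (fun U : X.left.affineOpens => U.1)
      (fun y => by obtain ⟨U, hU, hy, -⟩ := exists_isAffineOpen_mem_and_subset (x := y) (U := ⊤) trivial; exact ⟨⟨U, hU⟩, hy⟩)
      (fun U => a U l) fun U U' T _ p p' hp => ?_
    by_cases hl : l ∈ F U ∪ F U'
    · have h1 := congrArg (ev (p ▷ opn S V.1)) (hext U (F U ∪ F U') Finset.subset_union_left)
      have h2 := congrArg (ev (p' ▷ opn S V.1)) (hext U' (F U ∪ F U') Finset.subset_union_right)
      simp only [map_sum, map_mul, ev_ev, whiskerRight_fst, whiskerRight_snd] at h1 h2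
      have h3 : (p ▷ opn S V.1) ≫ piece X S U.1 V.1 = (p' ▷ opn S V.1) ≫ piece X S U'.1 V.1 := by
        apply CartesianMonoidalCategory.hom_ext <;> simp [tensorHom_fst, tensorHom_snd, hp]
      rw [h3, h2] at h1
      rw [← sub_eq_zero]
      refine indep (X := T) b.linearIndependent _ (fun l => ev p (a U l) - ev p' (a U' l)) ?_ l hl
      simp only [map_sub, sub_mul, Finset.sum_sub_distrib, ev_ev]
      rw [h1, sub_self]
    · rw [Finset.notMem_union] at hl
      rw [ha0 U l hl.1, ha0 U' l hl.2, map_zero, map_zero]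
  choose c hc using hglue
  obtain ⟨Js, hJs⟩ := (isCompact_univ (X := X.left)).elim_finite_subcover
    (fun U : X.left.affineOpens => (U.1 : Set X.left)) (fun U => U.1.2) (fun y _ => by
      obtain ⟨U, hU, hy, -⟩ := exists_isAffineOpen_mem_and_subset (x := y) (U := ⊤) trivial
      exact Set.mem_iUnion.2 ⟨⟨U, hU⟩, hy⟩)
  let F₀ := Js.biUnion F
  have hc0 : ∀ l ∉ F₀, c l = 0 := fun l hl => by
    refine sep (fun U : {U : X.left.affineOpens // U ∈ Js} => U.1.1) (fun y => ?_) fun U => ?_
    · obtain ⟨U, hU, hy⟩ := Set.mem_iUnion₂.1 (hJs (Set.mem_univ y))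
      exact ⟨⟨U, hU⟩, hy⟩
    · rw [hc, map_zero, ha0 _ _ fun h => hl (Finset.mem_biUnion.2 ⟨_, U.2, h⟩)]
  refine ⟨fun i => ∑ l ∈ F₀, e.repr (c l) i • b l, fun U => ?_⟩
  rw [hext U (F U ∪ F₀) Finset.subset_union_left,
    ← Finset.sum_subset (Finset.subset_union_right (s₁ := F U))
      (fun l _ hl => by rw [← hc l U, hc0 l hl, map_zero, map_zero, zero_mul])]
  simp only [map_sum, map_smul, Finset.mul_sum]
  rw [Finset.sum_comm]
  refine Finset.sum_congr rfl fun l _ => ?_
  conv_lhs => rw [← hc l U, ← e.sum_repr (c l)]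
  simp only [map_sum, map_smul, Finset.sum_mul, smul_mul_assoc, mul_smul_comm]

theorem exists_coeff [CompactSpace X.left] (z : Fn (X ⊗ S)) :
    ∃ s : Fin m → Fn S, z = ∑ i, ev (fst X S) (e i) * ev (snd X S) (s i) := by
  classical
  choose t ht using exists_coeff_affine X S e z
  have hs : ∀ i, ∃ s : Fn S, ∀ V : S.left.affineOpens, ev (inc S V.1) s = t V i := by
    intro i
    refine glue (fun V : S.left.affineOpens => V.1)
      (fun y => by obtain ⟨U, hU, hy, -⟩ := exists_isAffineOpen_mem_and_subset (x := y) (U := ⊤) trivial; exact ⟨⟨U, hU⟩, hy⟩)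
      (fun V => t V i) fun V V' T _ p p' hp => ?_
    have key : ∀ (V : S.left.affineOpens) (p : T ⟶ opn S V.1),
        ev (X ◁ (p ≫ inc S V.1)) z = ∑ i, ev (fst X T) (e i) * ev (snd X T) (ev p (t V i)) := by
      intro V p
      refine ext_pieces X T fun U W => ?_
      have h1 := congrArg (ev (opn X U.1 ◁ (inc T W.1 ≫ p))) (ht V U)
      simp only [map_sum, map_mul, ev_ev, whiskerLeft_fst_assoc, whiskerLeft_snd, whiskerLeft_fst] at h1
      simp only [map_sum, map_mul, ev_ev, tensorHom_fst, tensorHom_snd, tensorHom_snd_assoc]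
      rw [show piece X T U.1 W.1 ≫ X ◁ (p ≫ inc S V.1) = (opn X U.1 ◁ (inc T W.1 ≫ p)) ≫ piece X S U.1 V.1 by
        apply CartesianMonoidalCategory.hom_ext <;> simp [tensorHom_fst, tensorHom_snd]]
      rw [h1]
    have h4 := (key V p).symm.trans ((congrArg (fun w => ev (X ◁ w) z) hp).trans (key V' p'))
    refine sub_eq_zero.1 (injective_coeff X T e (fun i => ev p (t V i) - ev p' (t V' i)) ?_ i)
    simp only [map_sub, mul_sub, Finset.sum_sub_distrib, h4, sub_self]
  choose s hs' using hs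
  refine ⟨s, ext_pieces X S fun U V => ?_⟩
  rw [ht V U]
  simp only [map_sum, map_mul, ev_ev, tensorHom_fst, tensorHom_snd]
  refine Finset.sum_congr rfl fun i _ => ?_
  rw [← hs' i V, ev_ev]

/-- The product formula. -/
theorem toProd_bijective [CompactSpace X.left] [Module.Finite k (Fn X)] :
    Function.Bijective (Algebra.TensorProduct.lift (ev (fst X S)) (ev (snd X S)) fun _ _ => .all _ _ :
      Fn X ⊗[k] Fn S →ₐ[k] Fn (X ⊗ S)) := by
  classical
  let e := Module.finBasis k (Fn X)
  refine ⟨(injective_iff_map_eq_zero _).2 fun z hz => ?_, fun z => ?_⟩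
  · obtain ⟨c, rfl⟩ : ∃ c, (TensorProduct.equivFinsuppOfBasisLeft e).symm c = z :=
      ⟨_, LinearEquiv.symm_apply_apply _ z⟩
    rw [TensorProduct.equivFinsuppOfBasisLeft_symm_apply, Finsupp.sum_fintype _ _ (fun i => TensorProduct.tmul_zero _ _)] at hz ⊢
    simp only [map_sum, Algebra.TensorProduct.lift_tmul] at hz
    exact Finset.sum_eq_zero fun i _ => by rw [injective_coeff X S e (fun i => c i) hz i, TensorProduct.tmul_zero]
  · obtain ⟨s, rfl⟩ := exists_coeff X S e z
    exact ⟨∑ i, e i ⊗ₜ[k] s i, by simp only [map_sum, Algebra.TensorProduct.lift_tmul]⟩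

end Groth.Agent.GrpSchLib.SectionsProdQC
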