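import Groth.Agent.GrpSchLib.LineInUnip
import Groth.Agent.S11398
import Groth.Agent.AGFLib.QuasiComp.Chevalley
import Groth.Agent.H23.RatProductK

/-! Semi-abelian varieties are the groups receiving only constant maps from the affine line. -/

set_option autoImplicit false
set_option backward.isDefEq.respectTransparency false
set_option backward.isDefEq.respectTransparency.types false
set_option linter.style.haveILetI false
set_option maxHeartbeats 1000000

universe u

open CategoryTheory MonoidalCategory CartesianMonoidalCategory MonObj AlgebraicGeometry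

namespace Groth.Agent.GrpSchLib.SemiabLine

open SolvGrp GrpSchLib.Kunneth GrpSchLib.LineGroups GrpSchLib.LineInUnip WeilCmp.Unip

variable {k : Type u} [Field k] [IsAlgClosed k]

local notation "PT" => 𝟙_ (Over (Spec (CommRingCat.of k)))

theorem pt_toUnit {T X : Over (Spec (CommRingCat.of k))} (p : PT ⟶ T) (x : PT ⟶ X) : p ≫ toUnit T ≫ x = x := by
  rw [← Category.assoc, toUnit_unique (p ≫ toUnit T) (𝟙 _), Category.id_comp]

/-- Units of functions on the affine line are scalars. -/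
theorem isUnit_fn_A1 {u : Fn (A1 k)} (hu : IsUnit u) : ∃ r : k, u = algebraMap k (Fn (A1 k)) r := by
  let P : Over (Spec (CommRingCat.of k)) :=
    Over.mk (Spec.map (CommRingCat.ofHom (algebraMap k (MvPolynomial PUnit.{u + 1} k))))
  let j : P ≅ A1 k := Over.isoMk (AffineSpace.SpecIso PUnit.{u + 1} (CommRingCat.of k)).symm
    (AffineSpace.SpecIso_inv_over _)
  let θ : Fn (A1 k) ≃ₐ[k] Polynomial k :=
    (fnEquiv j).trans ((spEquiv (k := k) (MvPolynomial PUnit.{u + 1} k)).symm.trans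
      (MvPolynomial.uniqueAlgEquiv k PUnit.{u + 1}))
  obtain ⟨r, -, hr⟩ := Polynomial.isUnit_iff.mp (hu.map θ)
  exact ⟨r, θ.injective (by rw [AlgEquiv.commutes, ← hr]; rfl)⟩

/-- Maps from the affine line to a torus are constant. -/
theorem torus_const {T : Over (Spec (CommRingCat.of k))} [GrpObj T] (hT : Red.IsTorus T) (x : A1 k ⟶ T)
    (p : PT ⟶ A1 k) : x = toUnit _ ≫ p ≫ x := by
  obtain ⟨r, ⟨e⟩⟩ := exists_iso_sp hT
  let a : AffineHopf.sp k (MonoidAlgebra k (Multiplicative (Fin r → ℤ))) ≅ T := (Grp.forget _).mapIso e.symm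
  haveI : IsIso a.hom.left := ((Over.forget _).mapIso a).isIso_hom
  haveI : IsAffine T.left := (torus_props hT).1
  let φ : MonoidAlgebra k (Multiplicative (Fin r → ℤ)) ≃ₐ[k] Fn T :=
    (LineVec.toFn (k := k) (A := MonoidAlgebra k (Multiplicative (Fin r → ℤ)))).trans (fnEquiv a.symm)
  have key : (ev x).comp φ.toAlgHom = (ev (toUnit (A1 k) ≫ p ≫ x)).comp φ.toAlgHom := by
    refine MonoidAlgebra.algHom_ext (fun m => ?_) (AlgHom.ext fun c => ?_)
    · have hu : IsUnit (MonoidAlgebra.single m (1 : k)) :=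
        ⟨⟨MonoidAlgebra.single m 1, MonoidAlgebra.single m⁻¹ 1,
          by rw [MonoidAlgebra.single_mul_single]; simp [MonoidAlgebra.one_def],
          by rw [MonoidAlgebra.single_mul_single]; simp [MonoidAlgebra.one_def]⟩, rfl⟩
      obtain ⟨c, hc⟩ := isUnit_fn_A1 ((hu.map φ).map (ev x))
      show ev x (φ _) = ev (toUnit (A1 k) ≫ p ≫ x) (φ _)
      rw [← ev_ev, ← ev_ev, hc, AlgHom.commutes, AlgHom.commutes]
    · have hc : MonoidAlgebra.single (1 : Multiplicative (Fin r → ℤ)) c = algebraMap k _ c := rfl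
      show ev x (φ (MonoidAlgebra.single 1 c)) = ev (toUnit (A1 k) ≫ p ≫ x) (φ (MonoidAlgebra.single 1 c))
      rw [hc, AlgEquiv.commutes, AlgHom.commutes, AlgHom.commutes]
  refine LineGroups.ext_ev (AlgHom.ext fun f => ?_)
  obtain ⟨b, rfl⟩ := φ.surjective f
  exact DFunLike.congr_fun key b

/-- A semi-abelian variety receives only constant maps from the affine line. -/
theorem const_of_semiab {G T A : Over (Spec (CommRingCat.of k))} [GrpObj G] [GrpObj T] [GrpObj A]
    (i : T ⟶ G) [IsMonHom i] (hT : Red.IsTorus T) (q : G ⟶ A) [IsMonHom q] (hk : AlgGrp.IsKernel i q)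
    [IsProper A.hom] [Smooth A.hom] [ConnectedSpace A.left] (f : A1 k ⟶ G) :
    ∃ g : PT ⟶ G, f = toUnit _ ≫ g := by
  haveI : IrreducibleSpace A.left := S0348.result k A
  haveI : IsReduced A.left := GrpSchLib.isReduced_of_smooth_field A.hom
  haveI : IsIntegral A.left := isIntegral_of_irreducibleSpace_of_isReduced A.left
  haveI : GeometricallyIntegral A.hom := H23.EquidimFibres.geometricallyIntegral_of_isAlgClosed
  obtain ⟨a, ha⟩ := H23.RatProductK.affine_const PUnit.{u + 1} (f ≫ q)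
  let p : PT ⟶ A1 k := Over.homMk
    (AffineSpace.homOfVector (PT : Over (Spec (CommRingCat.of k))).hom fun _ => algebraMap k (Fn PT) 0)
    (AffineSpace.homOfVector_over _ _)
  have hq : (f * (toUnit _ ≫ p ≫ f)⁻¹) ≫ q = 1 := by
    rw [MonObj.mul_comp, GrpObj.inv_comp, Category.assoc, Category.assoc, ha, pt_toUnit, mul_inv_cancel]
  obtain ⟨x, hx⟩ : ∃ x : A1 k ⟶ T, x ≫ i = f * (toUnit _ ≫ p ≫ f)⁻¹ :=
    ⟨hk.lift _ (toUnit _) hq, hk.lift_fst _ _ _⟩
  refine ⟨p ≫ f, mul_inv_eq_one.mp ?_⟩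
  rw [← hx, torus_const hT x p, Category.assoc, Category.assoc, hx, MonObj.comp_mul, GrpObj.comp_inv, pt_toUnit,
    mul_inv_cancel, MonObj.comp_one]

/-- Conversely. -/
theorem semiab_of_const {G : Over (Spec (CommRingCat.of k))} [GrpObj G] [Smooth G.hom] [QuasiCompact G.hom]
    [ConnectedSpace G.left] (h : ∀ f : A1 k ⟶ G, ∃ g : PT ⟶ G, f = toUnit _ ≫ g) :
    ∃ (T : Over (Spec (CommRingCat.of k))) (_ : GrpObj T) (i : T ⟶ G) (A : Over (Spec (CommRingCat.of k)))
      (_ : GrpObj A) (q : G ⟶ A), IsMonHom i ∧ IsClosedImmersion i.left ∧ Red.IsTorus T ∧ IsMonHom q ∧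
        Surjective q.left ∧ Flat q.left ∧ AlgGrp.IsKernel i q ∧ IsProper A.hom ∧ Smooth A.hom ∧
        ConnectedSpace ↥A.left := by
  obtain ⟨N, _, i, ⟨hi, hic, hNs, hNc, hNa, hNn⟩, hmax, -⟩ := S11398.result k G
  haveI := hi
  haveI := hic
  haveI := hNs
  haveI := hNc
  haveI := hNa
  obtain ⟨A, _, q, hq, hAp, hAs, hAc, hqs, hqf, hqk⟩ := AGFLib.QuasiComp.exists_abelian_quot i hNn hmax
  refine ⟨N, inferInstance, i, A, inferInstance, q, hi, hic, ?_, hq, hqs, hqf, hqk, hAp, hAs, hAc⟩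
  haveI := AGFLib.BorelExist.mono_of_closedImmersion i
  refine isTorus_of_unip_trivial fun U _ j _ hjc hsU hcU hns => ?_
  haveI := hjc
  haveI := hsU
  haveI := hcU
  haveI := AGFLib.BorelExist.mono_of_closedImmersion j
  haveI : IsAffine U.left := isAffine_of_isAffineHom j.left
  haveI : IsReduced U.left := isReduced_of_smooth_field U.hom
  refine isTrivialGrp_of_pts fun x => ?_
  by_contra hx
  obtain ⟨f, p, r, hpr⟩ := exists_line (U₀ := U) (fun g => isUnipPt_of_hasNoSubtorus hns g) ⟨x, hx⟩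
  obtain ⟨g, hg⟩ := h (f ≫ j ≫ i)
  refine hpr ?_
  rw [← cancel_mono j, ← cancel_mono i]
  simp only [Category.assoc, hg, pt_toUnit]

end Groth.Agent.GrpSchLib.SemiabLine
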