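import Groth.Agent.GrpSchLib.SemiabDescent
import Groth.Agent.GrpSchLib.ImageFactor
import Groth.Agent.GrpSchLib.KernelGrp
import Groth.Agent.GrpSchLib.FibreDimGrp
import Groth.Agent.H23.TopDim
import Groth.Agent.S3030

/-! Semi-abelian subgroups of commutative groups. -/

set_option autoImplicit false
set_option backward.isDefEq.respectTransparency false
set_option backward.isDefEq.respectTransparency.types false
set_option linter.style.haveILetI false
set_option maxHeartbeats 1600000
set_option synthInstance.maxHeartbeats 400000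

universe u

open CategoryTheory CategoryTheory.Limits MonoidalCategory CartesianMonoidalCategory MonObj AlgebraicGeometry

namespace Groth.Agent.GrpSchLib.SemiabSub

open GrpSchLib SemiabExt SemiabDescent LineInUnip AGFLib AGFLib.Gen

variable {k : Type u} [Field k]

local notation "σk" => Spec.map (CommRingCat.ofHom (algebraMap k (AlgebraicClosure k)))

/-- Being semi-abelian. -/
def IsSAV (G : Over (Spec (CommRingCat.of k))) [GrpObj G] : Prop :=
  ∃ (T : Over (Spec (CommRingCat.of k))) (_ : GrpObj T) (i : T ⟶ G) (A : Over (Spec (CommRingCat.of k))) (_ : GrpObj A)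
    (q : G ⟶ A), IsMonHom i ∧ IsClosedImmersion i.left ∧ Red.IsTorus T ∧ IsMonHom q ∧ Surjective q.left ∧ Flat q.left ∧
      AlgGrp.IsKernel i q ∧ IsProper A.hom ∧ Smooth A.hom ∧ ConnectedSpace ↥A.left

variable {G S : Over (Spec (CommRingCat.of k))} [GrpObj G] [GrpObj S]

theorem surjective_σk : Surjective σk :=
  ⟨fun y => ⟨IsLocalRing.closedPoint (AlgebraicClosure k), @Subsingleton.elim (PrimeSpectrum k) _ _ _⟩⟩

/-- A semi-abelian group is smooth, connected and semi-abelian over the closure. -/
theorem props [LocallyOfFiniteType S.hom] [QuasiCompact S.hom] (h : IsSAV S) :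
    Smooth S.hom ∧ ConnectedSpace S.left ∧ Smooth (Red.bc σk S).hom ∧ ConnectedSpace (Red.bc σk S).left ∧
      LineConst (Red.bc σk S) := by
  obtain ⟨T, _, i, A, _, q, hi, hic, hT, hq, hqs, hqf, hk, hA, hAs, hAc⟩ := h
  haveI := hi; haveI := hic; haveI := hq; haveI := hqs; haveI := hqf; haveI := hA; haveI := hAs; haveI := hAc
  haveI hσs := surjective_σk (k := k)
  haveI : LocallyOfFiniteType (Red.bc σk S).hom := inferInstanceAs (LocallyOfFiniteType (pullback.snd S.hom σk))
  haveI : QuasiCompact (Red.bc σk S).hom := inferInstanceAs (QuasiCompact (pullback.snd S.hom σk))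
  haveI : Smooth (Red.bc σk A).hom := inferInstanceAs (Smooth (pullback.snd A.hom σk))
  haveI : IsProper (Red.bc σk A).hom := inferInstanceAs (IsProper (pullback.snd A.hom σk))
  haveI : ConnectedSpace (Red.bc σk A).left := AntiAffine.connectedSpace_bc A (algebraMap k (AlgebraicClosure k))
  haveI : Surjective ((Over.pullback σk).map q).left :=
    MorphismProperty.of_isPullback (P := @Surjective) (HomSplitLocal.isPullback_map q σk) inferInstance
  haveI : Flat ((Over.pullback σk).map q).left :=
    MorphismProperty.of_isPullback (P := @Flat) (HomSplitLocal.isPullback_map q σk) inferInstance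
  have hTb : Red.IsTorus (Red.bc σk T) := SolvGrp.isTorus_bc σk hT
  obtain ⟨-, hTs, hTc, -⟩ := SolvGrp.torus_props hTb
  have hkb := NIsog.isKernel_bc σk hk
  obtain ⟨hs, hc⟩ := smooth_connected ((Over.pullback σk).map i) ((Over.pullback σk).map q) hkb
  have hQ : (@Surjective ⊓ @Flat ⊓ @QuasiCompact : MorphismProperty Scheme.{u}) σk :=
    ⟨⟨hσs, (HasRingHomProperty.Spec_iff (P := @Flat)).2 (RingHom.flat_algebraMap_iff.2 inferInstance)⟩, inferInstance⟩
  refine ⟨MorphismProperty.of_isPullback_of_descendsAlong (P := @Smooth) (Q := @Surjective ⊓ @Flat ⊓ @QuasiCompact)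
      (f := σk) (g := S.hom) (IsPullback.of_hasPullback S.hom σk).flip hQ hs, ?_, hs, hc,
    fun f => SemiabLine.const_of_semiab ((Over.pullback σk).map i) hTb ((Over.pullback σk).map q) hkb f⟩
  haveI : ConnectedSpace (pullback S.hom σk : Scheme.{u}) := hc
  exact { toPreconnectedSpace := ⟨by
            rw [← (pullback.fst S.hom σk).surjective.range_eq]
            exact isPreconnected_range (pullback.fst S.hom σk).continuous⟩
          toNonempty := ⟨η[S].left (IsLocalRing.closedPoint k)⟩ }

/-- The criterion over the algebraic closure. -/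
theorem of_lineConst [LocallyOfFiniteType S.hom] [QuasiCompact S.hom] [Smooth (Red.bc σk S).hom]
    [ConnectedSpace (Red.bc σk S).left] (h : LineConst (Red.bc σk S)) : IsSAV S := by
  haveI : QuasiCompact (Red.bc σk S).hom := inferInstanceAs (QuasiCompact (pullback.snd S.hom σk))
  obtain ⟨T, _, i, A, _, q, hi, hic, hT, hq, hqs, hqf, hk, hA, hAs, hAc⟩ := semiab_iff.2 h
  haveI := hi; haveI := hic; haveI := hq; haveI := hqs; haveI := hqf; haveI := hA; haveI := hAs; haveI := hAc
  exact SemiabDescent.exists_semiab S i hT q hk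

/-- An extension of semi-abelian groups is semi-abelian. -/
theorem of_ext {E Q : Over (Spec (CommRingCat.of k))} [GrpObj E] [GrpObj Q] [LocallyOfFiniteType S.hom]
    [QuasiCompact S.hom] [LocallyOfFiniteType E.hom] [QuasiCompact E.hom] [LocallyOfFiniteType Q.hom]
    [QuasiCompact Q.hom] (j : S ⟶ E) [IsMonHom j] (p : E ⟶ Q) [IsMonHom p] [Surjective p.left] [Flat p.left]
    (hk : AlgGrp.IsKernel j p) (hS : IsSAV S) (hQ : IsSAV Q) : IsSAV E := by
  obtain ⟨-, -, hSs, hSc, hSl⟩ := props hS
  obtain ⟨-, -, hQs, hQc, hQl⟩ := props hQ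
  haveI := hSs; haveI := hSc; haveI := hQs; haveI := hQc
  haveI : LocallyOfFiniteType (Red.bc σk E).hom := inferInstanceAs (LocallyOfFiniteType (pullback.snd E.hom σk))
  haveI : QuasiCompact (Red.bc σk E).hom := inferInstanceAs (QuasiCompact (pullback.snd E.hom σk))
  haveI : Surjective ((Over.pullback σk).map p).left :=
    MorphismProperty.of_isPullback (P := @Surjective) (HomSplitLocal.isPullback_map p σk) inferInstance
  haveI : Flat ((Over.pullback σk).map p).left :=
    MorphismProperty.of_isPullback (P := @Flat) (HomSplitLocal.isPullback_map p σk) inferInstance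
  have hkb := NIsog.isKernel_bc σk hk
  obtain ⟨hs, hc⟩ := smooth_connected ((Over.pullback σk).map j) ((Over.pullback σk).map p) hkb
  exact of_lineConst (lineConst_ext ((Over.pullback σk).map j) ((Over.pullback σk).map p) hkb hSl hQl)

/-- A quotient of a semi-abelian group is semi-abelian. -/
theorem of_quot {I : Over (Spec (CommRingCat.of k))} [GrpObj I] [LocallyOfFiniteType S.hom]
    [QuasiCompact S.hom] [LocallyOfFiniteType I.hom] [QuasiCompact I.hom] (p : S ⟶ I) [IsMonHom p] [Surjective p.left]
    [Flat p.left] (hS : IsSAV S) : IsSAV I := by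
  obtain ⟨hs, hc, hSs, hSc, hSl⟩ := props hS
  haveI := hSs; haveI := hSc
  haveI : LocallyOfFiniteType (Red.bc σk I).hom := inferInstanceAs (LocallyOfFiniteType (pullback.snd I.hom σk))
  haveI : QuasiCompact (Red.bc σk I).hom := inferInstanceAs (QuasiCompact (pullback.snd I.hom σk))
  haveI : QuasiCompact (Red.bc σk S).hom := inferInstanceAs (QuasiCompact (pullback.snd S.hom σk))
  let P := (Over.pullback σk).map p
  haveI : Surjective P.left :=
    MorphismProperty.of_isPullback (P := @Surjective) (HomSplitLocal.isPullback_map p σk) inferInstance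
  haveI : Flat P.left :=
    MorphismProperty.of_isPullback (P := @Flat) (HomSplitLocal.isPullback_map p σk) inferInstance
  haveI : ConnectedSpace (Red.bc σk I).left :=
    { toPreconnectedSpace := ⟨P.left.surjective.range_eq ▸ isPreconnected_range P.left.continuous⟩
      toNonempty := ⟨η[Red.bc σk I].left (IsLocalRing.closedPoint (AlgebraicClosure k))⟩ }
  haveI : IsReduced (Red.bc σk S).left := isReduced_of_smooth_field (Red.bc σk S).hom
  haveI : Smooth (Red.bc σk I).hom := by
    haveI : IsReduced (Red.bc σk I).left := FBaseLib.isReduced_of_flat_surjective P.left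
    exact GrpSchLib.smooth_of_isReduced_of_isAlgClosed (Red.bc σk I)
  exact of_lineConst (semiab_iff.1 (semiab_quot P (semiab_iff.2 hSl)))

/-- The trivial group is semi-abelian. -/
theorem unit : IsSAV (𝟙_ (Over (Spec (CommRingCat.of k)))) := by
  haveI : IsIso (pullback.snd (𝟙 (Spec (CommRingCat.of k))) σk) := inferInstance
  let P := Red.bc σk (𝟙_ (Over (Spec (CommRingCat.of k))))
  haveI : IsIso P.hom := inferInstanceAs (IsIso (pullback.snd (𝟙 (Spec (CommRingCat.of k))) σk))
  haveI : ConnectedSpace P.left :=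
    { toPreconnectedSpace := ⟨(inv P.hom).surjective.range_eq ▸ isPreconnected_range (inv P.hom).continuous⟩
      toNonempty := ⟨η[P].left (IsLocalRing.closedPoint (AlgebraicClosure k))⟩ }
  haveI : Smooth P.hom := inferInstance
  haveI : LocallyOfFiniteType (𝟙_ (Over (Spec (CommRingCat.of k)))).hom :=
    inferInstanceAs (LocallyOfFiniteType (𝟙 (Spec (CommRingCat.of k))))
  haveI : QuasiCompact (𝟙_ (Over (Spec (CommRingCat.of k)))).hom :=
    inferInstanceAs (QuasiCompact (𝟙 (Spec (CommRingCat.of k))))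
  refine of_lineConst fun f => ⟨η[P], Over.OverMorphism.ext ((cancel_mono P.hom).mp ?_)⟩
  rw [Over.w, Over.w]

variable [IsCommMonObj G] [LocallyOfFiniteType G.hom] [QuasiCompact G.hom]

/-- A quotient of a commutative group is commutative. -/
theorem quot_comm {Q : Over (Spec (CommRingCat.of k))} [GrpObj Q] [LocallyOfFiniteType Q.hom] (q : G ⟶ Q) [IsMonHom q]
    [Surjective q.left] [Flat q.left] {W : Over (Spec (CommRingCat.of k))} (a b : W ⟶ Q) : a * b = b * a := by
  haveI : LocallyOfFiniteType (q.left ≫ Q.hom) := by rw [Over.w]; infer_instance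
  haveI : LocallyOfFiniteType q.left := locallyOfFiniteType_of_comp q.left Q.hom
  haveI : IsLocallyNoetherian Q.left := LocallyOfFiniteType.isLocallyNoetherian Q.hom
  haveI : LocallyOfFinitePresentation q.left := LocallyOfFinitePresentation.iff_locallyOfFiniteType.2 inferInstance
  let P₁ := q ▷ G
  let P₂ := Q ◁ q
  have hp₁ := GrpSchLib.isPullback_whiskerRight q G
  have hp₂ := (GrpSchLib.isPullback_whiskerLeft (W := Q) q).flip
  haveI : Flat P₁.left := MorphismProperty.of_isPullback (P := @Flat) hp₁.flip ‹_›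
  haveI : Surjective P₁.left := MorphismProperty.of_isPullback (P := @Surjective) hp₁.flip ‹_›
  haveI : LocallyOfFinitePresentation P₁.left :=
    MorphismProperty.of_isPullback (P := @LocallyOfFinitePresentation) hp₁.flip ‹_›
  haveI : Flat P₂.left := MorphismProperty.of_isPullback (P := @Flat) hp₂ ‹_›
  haveI : Surjective P₂.left := MorphismProperty.of_isPullback (P := @Surjective) hp₂ ‹_›
  haveI : LocallyOfFinitePresentation P₂.left :=
    MorphismProperty.of_isPullback (P := @LocallyOfFinitePresentation) hp₂ ‹_›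
  have h : (fst Q Q * snd Q Q) = snd Q Q * fst Q Q := by
    refine SemiabDescent.eq_of_epi_quot P₂ (SemiabDescent.eq_of_epi_quot P₁ ?_)
    simp only [P₁, P₂, MonObj.comp_mul, whiskerLeft_fst, whiskerLeft_snd, whiskerRight_fst, whiskerRight_snd_assoc]
    rw [← MonObj.mul_comp, ← MonObj.mul_comp, _root_.mul_comm]
  have h' := congrArg (lift a b ≫ ·) h
  simpa only [MonObj.comp_mul, lift_fst, lift_snd] using h'

theorem lft_qc {H : Over (Spec (CommRingCat.of k))} (h : H ⟶ G) [IsClosedImmersion h.left] :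
    LocallyOfFiniteType H.hom ∧ QuasiCompact H.hom := by
  rw [← Over.w h]; exact ⟨inferInstance, inferInstance⟩

/-- Two semi-abelian subgroups lie in a common one. -/
theorem exists_sum {S' : Over (Spec (CommRingCat.of k))} [GrpObj S'] (s : S ⟶ G) [IsMonHom s] [IsClosedImmersion s.left]
    (s' : S' ⟶ G) [IsMonHom s'] [IsClosedImmersion s'.left] (hS : IsSAV S) (hS' : IsSAV S') :
    ∃ (I : Over (Spec (CommRingCat.of k))) (_ : GrpObj I) (i : I ⟶ G), IsMonHom i ∧ IsClosedImmersion i.left ∧ IsSAV I ∧
      (∃ a : S ⟶ I, a ≫ i = s) ∧ ∃ b : S' ⟶ I, b ≫ i = s' := by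
  obtain ⟨_, _⟩ := lft_qc s
  obtain ⟨_, _⟩ := lft_qc s'
  haveI : LocallyOfFiniteType (S ⊗ S').hom := inferInstanceAs (LocallyOfFiniteType (pullback.fst S.hom S'.hom ≫ S.hom))
  haveI : QuasiCompact (S ⊗ S').hom := inferInstanceAs (QuasiCompact (pullback.fst S.hom S'.hom ≫ S.hom))
  haveI : IsMonHom (s ⊗ₘ s') := inferInstance
  let f : S ⊗ S' ⟶ G := (s ⊗ₘ s') ≫ μ[G]
  haveI : IsMonHom f := inferInstance
  obtain ⟨I, _, p, i, _, _, hpi, hic, _, _, _, _⟩ := ImageFactor.exists_image f
  haveI : IsMonHom (fst S S') := inferInstance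
  haveI : Surjective (snd S S').left := ⟨fun y => ⟨(lift 1 (𝟙 S') : S' ⟶ S ⊗ S').left y, by
    rw [← Scheme.Hom.comp_apply, ← Over.comp_left, lift_snd]; rfl⟩⟩
  haveI : Flat (snd S S').left := by
    haveI : Flat S.hom := inferInstance
    exact inferInstanceAs (Flat (pullback.snd S.hom S'.hom))
  have hk : AlgGrp.IsKernel (lift (𝟙 S) (1 : S ⟶ S')) (snd S S') :=
    ⟨⟨by rw [lift_snd]; exact Hom.one_def⟩, ⟨PullbackCone.isLimitAux' _ fun c => by
      refine ⟨c.fst ≫ fst S S', ?_, toUnit_unique _ _, fun {m} hm _ => ?_⟩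
      · show (c.fst ≫ fst S S') ≫ lift (𝟙 S) (1 : S ⟶ S') = c.fst
        rw [comp_lift, Category.comp_id, MonObj.comp_one]
        apply CartesianMonoidalCategory.hom_ext
        · rw [lift_fst]
        · rw [lift_snd, c.condition, toUnit_unique c.snd (toUnit _)]
          exact Hom.one_def
      · rw [← hm]
        show m = (m ≫ lift (𝟙 S) (1 : S ⟶ S')) ≫ fst S S'
        rw [Category.assoc, lift_fst]
        exact (Category.comp_id m).symm⟩⟩
  haveI : IsMonHom (lift (𝟙 S) (1 : S ⟶ S')) :=
    { one_hom := by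
        apply CartesianMonoidalCategory.hom_ext
        · rw [Category.assoc, lift_fst, Category.comp_id, IsMonHom.one_hom (fst S S')]
        · rw [Category.assoc, lift_snd, MonObj.comp_one, IsMonHom.one_hom (snd S S'), MonObj.one_eq_one]
      mul_hom := by
        apply CartesianMonoidalCategory.hom_ext
        · rw [Category.assoc, Category.assoc, lift_fst, Category.comp_id, IsMonHom.mul_hom (fst S S'),
            MonoidalCategory.tensorHom_comp_tensorHom_assoc, lift_fst, MonoidalCategory.id_tensorHom_id,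
            Category.id_comp]
        · rw [Category.assoc, Category.assoc, lift_snd, MonObj.comp_one, IsMonHom.mul_hom (snd S S'),
            MonoidalCategory.tensorHom_comp_tensorHom_assoc, lift_snd, MonObj.mul_eq_mul, MonObj.comp_mul,
            CartesianMonoidalCategory.tensorHom_fst, CartesianMonoidalCategory.tensorHom_snd, MonObj.comp_one,
            MonObj.comp_one, _root_.one_mul] }
  have hP : IsSAV (S ⊗ S') := of_ext (lift (𝟙 S) (1 : S ⟶ S')) (snd S S') hk hS hS'
  refine ⟨I, inferInstance, i, inferInstance, hic, of_quot p hP,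
    ⟨lift (𝟙 S) 1 ≫ p, ?_⟩, ⟨lift 1 (𝟙 S') ≫ p, ?_⟩⟩
  · rw [Category.assoc, hpi, ← Category.assoc, lift_map, Category.id_comp, MonObj.one_comp, ← Hom.mul_def,
      _root_.mul_one]
  · rw [Category.assoc, hpi, ← Category.assoc, lift_map, Category.id_comp, MonObj.one_comp, ← Hom.mul_def,
      _root_.one_mul]

/-- There is a largest semi-abelian subgroup. -/
theorem exists_largest :
    ∃ (S : Over (Spec (CommRingCat.of k))) (_ : GrpObj S) (s : S ⟶ G), IsMonHom s ∧ IsClosedImmersion s.left ∧ IsSAV S ∧
      ∀ (S' : Over (Spec (CommRingCat.of k))) [GrpObj S'] (s' : S' ⟶ G) [IsMonHom s'] [IsClosedImmersion s'.left],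
        IsSAV S' → ∃ g : S' ⟶ S, g ≫ s = s' := by
  classical
  let D : ℕ → Prop := fun m => ∃ (S : Over (Spec (CommRingCat.of k))) (_ : GrpObj S) (s : S ⟶ G),
    IsMonHom s ∧ IsClosedImmersion s.left ∧ IsSAV S ∧ topologicalKrullDim ↥S.left = ((m : ℕ∞) : WithBot ℕ∞)
  have hdim : ∀ (H : Over (Spec (CommRingCat.of k))) [GrpObj H] [LocallyOfFiniteType H.hom],
      ∃ n : ℕ, topologicalKrullDim ↥H.left = ((n : ℕ∞) : WithBot ℕ∞) := fun H _ _ => by
    obtain ⟨n, hn⟩ := FibreDimGrp.exists_nat H (IsLocalRing.closedPoint k)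
    have he : H.hom ⁻¹' {IsLocalRing.closedPoint k} = Set.univ :=
      Set.eq_univ_of_forall fun x => @Subsingleton.elim (PrimeSpectrum k) _ _ _
    rw [he, (Homeomorph.Set.univ H.left).isHomeomorph.topologicalKrullDim_eq] at hn
    exact ⟨n, hn⟩
  obtain ⟨N, hN⟩ := hdim G
  have hle : ∀ m, D m → m ≤ N := fun m ⟨S, _, s, _, hs, _, hm⟩ => by
    have := hs.base_closed.isInducing.topologicalKrullDim_le
    rw [hm, hN] at this
    exact_mod_cast this
  haveI : IsSeparated G.hom := AntiAffine.isSeparated_grp G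
  haveI : IsClosedImmersion η[G].left := by
    haveI : IsClosedImmersion (η[G].left ≫ G.hom) := by
      rw [Over.w η[G]]; exact inferInstanceAs (IsClosedImmersion (𝟙 (Spec (CommRingCat.of k))))
    exact IsClosedImmersion.of_comp η[G].left G.hom
  haveI : LocallyOfFiniteType (𝟙_ (Over (Spec (CommRingCat.of k)))).hom :=
    inferInstanceAs (LocallyOfFiniteType (𝟙 (Spec (CommRingCat.of k))))
  obtain ⟨m₀, hm₀⟩ := hdim (𝟙_ (Over (Spec (CommRingCat.of k))))
  have hne : ∃ m, m ≤ N ∧ D m := ⟨m₀, hle _ ⟨_, inferInstance, η[G], inferInstance, inferInstance, unit, hm₀⟩,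
    ⟨_, inferInstance, η[G], inferInstance, inferInstance, unit, hm₀⟩⟩
  obtain ⟨m, hm, hDm⟩ := hne
  have hmax : D (Nat.findGreatest D N) := Nat.findGreatest_spec hm hDm
  obtain ⟨S, _, s, _, hsc, hS, hd⟩ := hmax
  haveI := hsc
  refine ⟨S, inferInstance, s, inferInstance, hsc, hS, fun S' _ s' _ _ hS' => ?_⟩
  obtain ⟨I, _, i, _, hic, hI, ⟨a, ha⟩, ⟨b, hb⟩⟩ := exists_sum s s' hS hS'
  haveI := hic
  obtain ⟨_, _⟩ := lft_qc i
  obtain ⟨hIs, hIc, -⟩ := props hI
  haveI := hIs; haveI := hIc
  haveI : IsClosedImmersion (a.left ≫ i.left) := by rw [← Over.comp_left, ha]; infer_instance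
  haveI : IsClosedImmersion a.left := IsClosedImmersion.of_comp a.left i.left
  haveI := AVSubgroup.geometricallyIntegral_group I
  haveI : IsIntegral I.left := H23.MaxAbelian.isIntegral_of_geometricallyIntegral
  haveI : Surjective a.left := by
    refine ⟨fun y => ?_⟩
    by_contra hy
    have hclo : IsClosed (Set.range a.left) := a.left.isClosedEmbedding.isClosed_range
    obtain ⟨n, hn⟩ := hdim I
    have hlt := H23.TopDim.dim_lt_of_ssubset (X := I.left) (by rw [hn]; exact WithBot.coe_injective.ne (ENat.coe_ne_top n)) hclo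
      (fun h => hy (h.symm ▸ Set.mem_univ y : y ∈ Set.range a.left))
    rw [← a.left.isClosedEmbedding.isEmbedding.toHomeomorph.isHomeomorph.topologicalKrullDim_eq, hd, hn] at hlt
    have hlt' : Nat.findGreatest D N < n := by exact_mod_cast hlt
    have hDn : D n := ⟨I, inferInstance, i, inferInstance, hic, hI, hn⟩
    exact absurd (Nat.le_findGreatest (hle _ hDn) hDn) (not_le.mpr hlt')
  haveI : IsIso a.left := isIso_of_isClosedImmersion_of_surjective a.left
  haveI : IsIso ((Over.forget _).map a) := inferInstanceAs (IsIso a.left)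
  haveI : IsIso a := isIso_of_reflects_iso a (Over.forget _)
  exact ⟨b ≫ inv a, by rw [Category.assoc, ← ha, IsIso.inv_hom_id_assoc, hb]⟩

/-- The quotient by the largest semi-abelian subgroup contains none. -/
theorem quot_trivial (s : S ⟶ G) [IsMonHom s] [IsClosedImmersion s.left] (hS : IsSAV S)
    (hmax : ∀ (S' : Over (Spec (CommRingCat.of k))) [GrpObj S'] (s' : S' ⟶ G) [IsMonHom s'] [IsClosedImmersion s'.left],
      IsSAV S' → ∃ g : S' ⟶ S, g ≫ s = s')
    {Q : Over (Spec (CommRingCat.of k))} [GrpObj Q] [LocallyOfFiniteType Q.hom] [QuasiCompact Q.hom] (q : G ⟶ Q)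
    [IsMonHom q] [Surjective q.left] [Flat q.left] (hk : AlgGrp.IsKernel s q)
    {R : Over (Spec (CommRingCat.of k))} [GrpObj R] (r : R ⟶ Q) [IsMonHom r] [IsClosedImmersion r.left] (hR : IsSAV R) :
    IsIso η[R] := by
  haveI : IsSeparated Q.hom := AntiAffine.isSeparated_grp Q
  haveI : LocallyOfFiniteType R.hom := by rw [← Over.w r]; infer_instance
  haveI : QuasiCompact R.hom := by rw [← Over.w r]; infer_instance
  obtain ⟨_, _⟩ := lft_qc s
  haveI : Mono r := (Over.forget _).mono_of_mono_map (inferInstanceAs (Mono r.left))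
  haveI : Mono r.left := inferInstance
  have hn : AlgGrp.IsNormalHom r := fun W g n => by
    refine ⟨n, ?_⟩
    rw [quot_comm q g (n ≫ r), mul_inv_cancel_right]
  obtain ⟨Q', _, π, _, _, _, _, hπ, hQ'sep, _, _⟩ := S3030.result k R Q r hn
  haveI := hQ'sep
  obtain ⟨P, _, j, _, hjc, -, hP⟩ := GrpSchLib.exists_kernel (q ≫ π)
  haveI := hjc
  obtain ⟨_, _⟩ := lft_qc j
  have hjπ : (j ≫ q) ≫ π = toUnit P ≫ η[Q'] := by rw [Category.assoc]; exact hP.w
  let p : P ⟶ R := hπ.lift (j ≫ q) (toUnit P) hjπ
  have hpr : p ≫ r = j ≫ q := hπ.lift_fst _ _ _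
  have hsq : IsPullback p j r q := by
    refine IsPullback.of_right ?_ hpr hπ.flip
    rw [toUnit_unique (p ≫ toUnit R) (toUnit P)]
    exact hP.flip
  haveI : IsMonHom p :=
    { one_hom := by rw [← cancel_mono r, Category.assoc, hpr, IsMonHom.one_hom_assoc j, IsMonHom.one_hom q, IsMonHom.one_hom r]
      mul_hom := by
        rw [← cancel_mono r, Category.assoc, hpr, IsMonHom.mul_hom_assoc j, IsMonHom.mul_hom q, Category.assoc,
          IsMonHom.mul_hom r, MonoidalCategory.tensorHom_comp_tensorHom_assoc,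
          MonoidalCategory.tensorHom_comp_tensorHom_assoc, hpr] }
  haveI : Surjective p.left :=
    MorphismProperty.of_isPullback (P := @Surjective) (hsq.flip.map (Over.forget _)) ‹Surjective q.left›
  haveI : Flat p.left := MorphismProperty.of_isPullback (P := @Flat) (hsq.flip.map (Over.forget _)) ‹Flat q.left›
  haveI : Mono j := (Over.forget _).mono_of_mono_map (inferInstanceAs (Mono j.left))
  have hsπ : s ≫ q ≫ π = toUnit S ≫ η[Q'] := by
    rw [reassoc_of% hk.w, IsMonHom.one_hom π]
  let s' : S ⟶ P := hP.lift s (toUnit S) hsπ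
  have hs' : s' ≫ j = s := hP.lift_fst _ _ _
  haveI : IsMonHom s' :=
    { one_hom := by rw [← cancel_mono j, Category.assoc, hs', IsMonHom.one_hom s, IsMonHom.one_hom j]
      mul_hom := by
        rw [← cancel_mono j, Category.assoc, hs', IsMonHom.mul_hom s, Category.assoc, IsMonHom.mul_hom j,
          MonoidalCategory.tensorHom_comp_tensorHom_assoc, hs'] }
  have hkp : AlgGrp.IsKernel s' p := by
    refine IsPullback.of_right ?_ ?_ hsq.flip
    · rw [hs', IsMonHom.one_hom r]
      exact hk
    · rw [← cancel_mono r, Category.assoc, hpr, reassoc_of% hs', hk.w, Category.assoc, IsMonHom.one_hom r]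
  have hPS : IsSAV P := of_ext s' p hkp hS hR
  obtain ⟨g, hg⟩ := hmax P j hPS
  have hp1 : p = toUnit P ≫ η[R] := by
    rw [← cancel_mono r, hpr, ← hg, Category.assoc, hk.w, ← Category.assoc, toUnit_unique (g ≫ toUnit S) (toUnit P),
      Category.assoc, IsMonHom.one_hom r]
  haveI : Epi p := (Over.forget _).epi_of_epi_map (by
    haveI : LocallyOfFiniteType (p.left ≫ R.hom) := by rw [Over.w]; infer_instance
    haveI : QuasiCompact (p.left ≫ R.hom) := by rw [Over.w]; infer_instance
    haveI : IsSeparated R.hom := AntiAffine.isSeparated_grp R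
    haveI : QuasiCompact p.left := QuasiCompact.of_comp p.left R.hom
    exact inferInstanceAs (Epi p.left))
  refine ⟨toUnit R, toUnit_unique _ _, ?_⟩
  rw [← cancel_epi p, Category.comp_id, ← Category.assoc, toUnit_unique (p ≫ toUnit R) (toUnit P), ← hp1]

end Groth.Agent.GrpSchLib.SemiabSub
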