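import Groth.Agent.GrpSchLib.ClosedFibreFixed

/-!
# Spreading out fixed points

If a point with values in `R` is fixed by all characters over the algebras in which `R ∖ p` is invertible, it is fixed
over some `R[1/s]`, `s ∉ p`: the translates stay in an affine open there, and finitely many numerators are killed.
-/

universe u

open CategoryTheory CategoryTheory.Limits MonoidalCategory CartesianMonoidalCategory MonObj AlgebraicGeometry

namespace Groth.Agent.GrpSchLib.SpreadFixed

open DiagActionRigid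
open DSPtsLib (CoordM)
open FibreActionRigid (sub_mem_closure)
open HomKernelIdeal (evalChar)

variable {S : Scheme.{u}} {R : Type u} [CommRing R] {β : Spec (CommRingCat.of R) ⟶ S}
  {G X : Over S} [GrpObj G] (a : AlgGrp.Action G X) {M : Type} [AddCommGroup M]
  (χ : ∀ (A : Type u) [CommRing A] [Algebra R A], (CoordM.{u} M →+* A) → (sp β A ⟶ G))
  (hnat : ∀ {A A' : Type u} [CommRing A] [Algebra R A] [CommRing A'] [Algebra R A'] (φ : A →ₐ[R] A')
    (f : CoordM.{u} M →+* A), spm β φ ≫ χ A f = χ A' (φ.toRingHom.comp f))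
include hnat

/-- A point fixed near `p` is fixed on a principal open around `p`. -/
theorem exists_fixed_away' (hfin : LocallyOfFiniteType X.hom ∨ (IsNoetherianRing R ∧ AddGroup.FG M))
    (x : sp β R ⟶ X) (p : Ideal R) [hp' : p.IsPrime]
    (hp : ∀ (T : Type u) [CommRing T] [Algebra R T], (∀ r ∉ p, IsUnit (algebraMap R T r)) →
      ∀ (f : CoordM.{u} M →+* T),
        lift (χ T f) (spm β (Algebra.ofId R T) ≫ x) ≫ a.act = spm β (Algebra.ofId R T) ≫ x) :
    ∃ s ∉ p, ∀ (T : Type u) [CommRing T] [Algebra R T], IsUnit (algebraMap R T s) → ∀ (f : CoordM.{u} M →+* T),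
      lift (χ T f) (spm β (Algebra.ofId R T) ≫ x) ≫ a.act = spm β (Algebra.ofId R T) ≫ x := by
  classical
  let p₀ : Spec (CommRingCat.of R) := ⟨p, hp'⟩
  obtain ⟨V, hV, hsV, -⟩ := exists_isAffineOpen_mem_and_subset (show β p₀ ∈ (⊤ : S.Opens) from trivial)
  have hxβ : ∀ q, X.hom (x.left q) = β q := fun q => by
    rw [← Scheme.Hom.comp_apply, Over.w x]
    show (Spec.map (CommRingCat.ofHom (algebraMap R R)) ≫ β) q = β q
    rw [show Spec.map (CommRingCat.ofHom (algebraMap R R)) = 𝟙 _ from Spec.map_id _, Category.id_comp]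
  obtain ⟨W, hW, hsW, hWle⟩ := exists_isAffineOpen_mem_and_subset
    (show x.left p₀ ∈ X.hom ⁻¹ᵁ V by show X.hom (x.left p₀) ∈ V; rw [hxβ]; exact hsV)
  have hWV : W ≤ X.hom ⁻¹ᵁ V := hWle
  let xT : ∀ (T : Type u) [CommRing T] [Algebra R T], sp β T ⟶ X := fun T _ _ => spm β (Algebra.ofId R T) ≫ x
  have hxT : ∀ {T T' : Type u} [CommRing T] [Algebra R T] [CommRing T'] [Algebra R T'] (φ : T →ₐ[R] T'),
      spm β φ ≫ xT T = xT T' := fun {T T'} _ _ _ _ φ => by
    show spm β φ ≫ spm β (Algebra.ofId R T) ≫ x = _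
    rw [← Category.assoc, spm_comp]
    congr 2
    exact Subsingleton.elim _ _
  let A := MonoidAlgebra R (Multiplicative M)
  let u₀ := univPt R (AddMonoidHom.id M)
  let y : sp β A ⟶ X := lift (χ A u₀) (xT A) ≫ a.act
  let D : (Spec (CommRingCat.of A)).Opens := y.left ⁻¹ᵁ W ⊓ (xT A).left ⁻¹ᵁ W
  obtain ⟨J, hJ⟩ := (PrimeSpectrum.isClosed_iff_zeroLocus_ideal _).mp D.isOpen.isClosed_compl
  obtain ⟨s, hs, hsJ⟩ : ∃ s ∉ p, algebraMap R A s ∈ J := by
    by_contra hne
    have hd : Disjoint (J : Set A) (Algebra.algebraMapSubmonoid A p.primeCompl : Set A) := by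
      rw [Set.disjoint_right]
      rintro _ ⟨r, hr, rfl⟩ hrJ
      exact hne ⟨r, hr, hrJ⟩
    obtain ⟨q, hq, hJq, hqd⟩ := Ideal.exists_le_prime_disjoint J (Algebra.algebraMapSubmonoid A p.primeCompl) hd
    let q₀ : PrimeSpectrum A := ⟨q, hq⟩
    let K := q.ResidueField
    let φ : A →ₐ[R] K := IsScalarTower.toAlgHom R A K
    have hK : ∀ r ∉ p, IsUnit (algebraMap R K r) := fun r hr => by
      refine isUnit_iff_ne_zero.mpr fun h0 => ?_
      rw [IsScalarTower.algebraMap_apply R A K, Ideal.algebraMap_residueField_eq_zero] at h0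
      exact Set.disjoint_right.mp hqd ⟨r, hr, rfl⟩ h0
    have hpt : (spm β φ).left (IsLocalRing.closedPoint K) = q₀ := by
      refine PrimeSpectrum.ext ?_
      show Ideal.comap (algebraMap A K) (IsLocalRing.maximalIdeal K) = q
      rw [IsLocalRing.maximalIdeal_eq_bot, ← RingHom.ker_eq_comap_bot, Ideal.ker_algebraMap_residueField]
    have hxA : (xT A).left q₀ ∈ W := by
      let q' : Spec (CommRingCat.of R) := (spm β (Algebra.ofId R A)).left q₀
      show x.left q' ∈ W
      have hsp : q' ⤳ p₀ := (PrimeSpectrum.le_iff_specializes (q' : PrimeSpectrum R) p₀).mp fun r hr => by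
        by_contra hrp
        exact Set.disjoint_right.mp hqd ⟨r, hrp, rfl⟩ hr
      exact (hsp.map x.left.base.hom.continuous).mem_open W.isOpen hsW
    have h : spm β φ ≫ y = spm β φ ≫ xT A := by
      show spm β φ ≫ lift _ _ ≫ a.act = _
      rw [← Category.assoc, comp_lift, hnat, hxT]
      exact hp K hK _
    have hyA : y.left q₀ ∈ W := by
      have h' := congrArg (fun m : sp β K ⟶ X => m.left.base (IsLocalRing.closedPoint K)) h
      rw [← hpt]
      refine (congrArg (· ∈ W) h').mpr ?_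
      show (xT A).left ((spm β φ).left (IsLocalRing.closedPoint K)) ∈ W
      rw [hpt]
      exact hxA
    have : q₀ ∈ PrimeSpectrum.zeroLocus (J : Set A) := hJq
    rw [← hJ] at this
    exact this ⟨hyA, hxA⟩
  let h : A := algebraMap R A s
  let As := Localization.Away h
  let φs : A →ₐ[R] As := IsScalarTower.toAlgHom R A As
  let y' : sp β As ⟶ X := spm β φs ≫ y
  have hmemD : ∀ q : Spec (CommRingCat.of As), (spm β φs).left q ∈ D := fun q => by
    by_contra hq
    have hq' : (spm β φs).left q ∈ PrimeSpectrum.zeroLocus (J : Set A) := by rw [← hJ]; exact hq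
    exact (q : PrimeSpectrum As).isPrime.ne_top
      (Ideal.eq_top_of_isUnit_mem _ (hq' hsJ) (IsLocalization.Away.algebraMap_isUnit h))
  obtain ⟨ey, hey⟩ := exists_ev hW y' fun q => (hmemD q).1
  let x' : sp β As ⟶ X := spm β φs ≫ xT A
  obtain ⟨ex, hex⟩ := exists_ev hW x' fun q => (hmemD q).2
  let σ := X.hom.appLE V W hWV
  have hσ : Spec.map σ ≫ hV.fromSpec = hW.fromSpec ≫ X.hom := IsAffineOpen.SpecMap_appLE_fromSpec X.hom hV hW hWV
  have hbase : σ ≫ ey = σ ≫ ex := by
    apply Spec.map_injective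
    rw [← cancel_mono hV.fromSpec, Spec.map_comp, Spec.map_comp, Category.assoc, Category.assoc, hσ,
      reassoc_of% hey, reassoc_of% hex, Over.w, Over.w]
  obtain ⟨gens, hgens⟩ := ClosedFibreFixed.exists_test σ.hom ey.hom ex.hom (fun g => congr($hbase g)) (hfin.imp
    (fun hX => by haveI := hX; exact X.hom.finiteType_appLE hV hW hWV) fun hN => by
      haveI := hN.1; haveI := hN.2
      haveI : Monoid.FG (Multiplicative M) := inferInstance
      haveI : IsNoetherianRing A := Algebra.FiniteType.isNoetherianRing R A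
      exact IsLocalization.isNoetherianRing (Submonoid.powers h) As inferInstance)
  let Ap := Localization (Algebra.algebraMapSubmonoid A p.primeCompl)
  have hunit : ∀ r ∉ p, IsUnit (algebraMap R Ap r) := fun r hr => by
    rw [IsScalarTower.algebraMap_apply R A Ap]
    exact IsLocalization.map_units Ap (⟨_, r, hr, rfl⟩ : Algebra.algebraMapSubmonoid A p.primeCompl)
  let φp : A →ₐ[R] Ap := IsScalarTower.toAlgHom R A Ap
  have hpow : ∀ z : Submonoid.powers h, IsUnit (φp z) := by
    rintro ⟨_, n, rfl⟩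
    show IsUnit (φp (h ^ n))
    rw [map_pow, φp.commutes]
    exact (hunit s hs).pow n
  let ρ : As →ₐ[R] Ap := IsLocalization.liftAlgHom (M := Submonoid.powers h) (f := φp) hpow
  have hρ : ρ.comp φs = φp := AlgHom.ext fun z => IsLocalization.lift_eq _ z
  have hzero : ∀ v, ρ (ey.hom v - ex.hom v : As) = 0 := fun v => by
    have hc : spm β ρ ≫ spm β φs = spm β φp := by rw [spm_comp, hρ]
    have e : spm β ρ ≫ y' = spm β ρ ≫ x' := by
      show spm β ρ ≫ spm β φs ≫ lift _ _ ≫ a.act = spm β ρ ≫ spm β φs ≫ xT A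
      rw [reassoc_of% hc, reassoc_of% hc, ← Category.assoc, comp_lift, hnat, hxT]
      exact hp Ap hunit _
    have e' := congrArg (fun m => Over.Hom.left m) e
    simp only [Over.comp_left, spm_left, ← hex, ← hey, ← Spec.map_comp_assoc, cancel_mono] at e'
    rw [map_sub, sub_eq_zero]
    exact RingHom.congr_fun (congrArg CommRingCat.Hom.hom (Spec.map_injective e')) v
  have hkill : ∀ t, ∃ r ∉ p, algebraMap R As r * (ey.hom t - ex.hom t : As) = 0 := fun t => by
    obtain ⟨k, n, hn⟩ := IsLocalization.Away.surj h (ey.hom t - ex.hom t : As)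
    have h1 : algebraMap A Ap n = 0 := by
      have := congrArg ρ hn
      rw [map_mul, hzero, zero_mul] at this
      exact (AlgHom.congr_fun hρ n).symm.trans this.symm
    obtain ⟨⟨_, r, hr, rfl⟩, hrn⟩ :=
      (IsLocalization.map_eq_zero_iff (Algebra.algebraMapSubmonoid A p.primeCompl) Ap n).mp h1
    refine ⟨r, hr, ((IsLocalization.Away.algebraMap_isUnit h (S := As)).pow k).mul_left_eq_zero.mp ?_⟩
    rw [_root_.mul_assoc, hn, IsScalarTower.algebraMap_apply R A As, ← map_mul]
    exact (congrArg (algebraMap A As) hrn).trans (map_zero _)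
  choose r hr hrt using hkill
  refine ⟨s * ∏ t ∈ gens, r t, hp'.mul_notMem hs (p.primeCompl.prod_mem fun t _ => hr t), fun T _ _ hT f => ?_⟩
  rw [map_mul, map_prod, IsUnit.mul_iff, IsUnit.prod_iff] at hT
  let ρ₀ : A →ₐ[R] T := evalChar (R := R) f
  have hpowT : ∀ z : Submonoid.powers h, IsUnit (ρ₀ z) := by
    rintro ⟨_, n, rfl⟩
    show IsUnit (ρ₀ (h ^ n))
    rw [map_pow, ρ₀.commutes]
    exact hT.1.pow n
  let ρT : As →ₐ[R] T := IsLocalization.liftAlgHom (M := Submonoid.powers h) (f := ρ₀) hpowT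
  have hρT : ρT.comp φs = ρ₀ := AlgHom.ext fun z => IsLocalization.lift_eq _ z
  have hall : ∀ v, ρT (ey.hom v) = ρT (ex.hom v) := fun v => by
    have h0 : (ey.hom v - ex.hom v : As) ∈ RingHom.ker ρT.toRingHom := hgens _ (fun t ht => by
      have := congrArg ρT (hrt t)
      rw [map_mul, map_zero, ρT.commutes, (hT.2 t ht).mul_right_eq_zero] at this
      exact this) v
    rw [← sub_eq_zero, ← map_sub]
    exact h0
  have e : spm β ρT ≫ y' = spm β ρT ≫ x' := by
    refine Over.OverMorphism.ext ?_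
    simp only [Over.comp_left, spm_left, ← hex, ← hey, ← Spec.map_comp_assoc]
    congr 2
    exact CommRingCat.hom_ext (RingHom.ext hall)
  change spm β ρT ≫ spm β φs ≫ lift _ _ ≫ a.act = spm β ρT ≫ spm β φs ≫ xT A at e
  have hcT : spm β ρT ≫ spm β φs = spm β ρ₀ := by rw [spm_comp, hρT]
  rw [reassoc_of% hcT, reassoc_of% hcT, ← Category.assoc, comp_lift, hnat, hxT] at e
  rwa [show ρ₀.toRingHom.comp u₀ = f from HomKernelIdeal.evalChar_univ f] at e

/-- A point fixed near `p` is fixed on a principal open around `p`. -/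
theorem exists_fixed_away [LocallyOfFiniteType X.hom] (x : sp β R ⟶ X) (p : Ideal R) [p.IsPrime]
    (hp : ∀ (T : Type u) [CommRing T] [Algebra R T], (∀ r ∉ p, IsUnit (algebraMap R T r)) →
      ∀ (f : CoordM.{u} M →+* T),
        lift (χ T f) (spm β (Algebra.ofId R T) ≫ x) ≫ a.act = spm β (Algebra.ofId R T) ≫ x) :
    ∃ s ∉ p, ∀ (T : Type u) [CommRing T] [Algebra R T], IsUnit (algebraMap R T s) → ∀ (f : CoordM.{u} M →+* T),
      lift (χ T f) (spm β (Algebra.ofId R T) ≫ x) ≫ a.act = spm β (Algebra.ofId R T) ≫ x :=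
  exists_fixed_away' a χ hnat (Or.inl inferInstance) x p hp

end Groth.Agent.GrpSchLib.SpreadFixed
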