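import Groth.Agent.GrpSchLib.SubschemeDescent
import Groth.Agent.GrpSchLib.MonoSubgroup
import Groth.Agent.GrpSchLib.MultTypeBC
import Groth.Agent.GrpSchLib.GeomConnFibre
import Groth.Agent.GrpSchLib.HomUnitLocus
import Groth.Agent.TransLib.MultEssFree
import Groth.Agent.SBAut.Yoneda

/-!
# Descent of central subgroups of multiplicative type along coverings with geometrically connected fibres

The two pullbacks to `S' ×_S S'` agree on a clopen set containing the diagonal, hence everywhere; the subscheme descends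
and is closed under the group operations.
-/

universe u

open CategoryTheory CategoryTheory.Limits MonoidalCategory CartesianMonoidalCategory MonObj GrpObj AlgebraicGeometry

namespace Groth.Agent.GrpSchLib.SubgroupDescent

open SubgroupEqLocus (Le)

variable {S S' : Scheme.{u}} {G : Over S} [GrpObj G] {π : S' ⟶ S} {H' : Over S'} [GrpObj H'] (j' : H' ⟶ Red.bc π G)

/-- The base change of `j'` along `r`, into the base change of `G` to `q = r ≫ π`. -/
theorem exists_hom [IsMonHom j'] [IsImmersion j'.left] {P : Scheme.{u}} (r : P ⟶ S') (q : P ⟶ S) (h : r ≫ π = q)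
    (hc : ∀ (X : Over S') (g : X ⟶ Red.bc π G) (a : X ⟶ H'), g * (a ≫ j') = (a ≫ j') * g) :
    ∃ i : Red.bc r H' ⟶ Red.bc q G, IsMonHom i ∧ IsImmersion i.left ∧
      i.left ≫ pullback.fst G.hom q = pullback.fst H'.hom r ≫ j'.left ≫ pullback.fst G.hom π ∧
      ∀ (Y : Over P) (g : Y ⟶ Red.bc q G) (a : Y ⟶ Red.bc r H'), g * (a ≫ i) = (a ≫ i) * g := by
  subst h
  let x0 : (Over.map (r ≫ π)).obj (Red.bc r H') ⟶ G :=
    Over.homMk (pullback.fst H'.hom r ≫ j'.left ≫ pullback.fst G.hom π) (by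
      show (pullback.fst H'.hom r ≫ j'.left ≫ pullback.fst G.hom π) ≫ G.hom = pullback.snd H'.hom r ≫ r ≫ π
      rw [Category.assoc, Category.assoc, pullback.condition, ← pullback.condition_assoc]
      exact congrArg (pullback.fst H'.hom r ≫ ·) (by rw [← Category.assoc]; exact congrArg (· ≫ π) (Over.w j')))
  obtain ⟨i, hi⟩ := (DSPtsLib.theta_bijective (H := G) (r ≫ π)).2 x0
  have hfst : i.left ≫ pullback.fst G.hom (r ≫ π) = pullback.fst H'.hom r ≫ j'.left ≫ pullback.fst G.hom π :=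
    congrArg (fun m : (Over.map (r ≫ π)).obj (Red.bc r H') ⟶ G => m.left) hi
  let e : ∀ Y : Over P, (Over.map (r ≫ π)).obj Y ⟶ (Over.map π).obj ((Over.map r).obj Y) := fun Y =>
    Over.homMk (𝟙 Y.left) (by
      show 𝟙 _ ≫ (Y.hom ≫ r) ≫ π = Y.hom ≫ r ≫ π
      rw [Category.id_comp, Category.assoc])
  let e' : ∀ Y : Over P, (Over.map π).obj ((Over.map r).obj Y) ⟶ (Over.map (r ≫ π)).obj Y := fun Y =>
    Over.homMk (𝟙 Y.left) (by
      show 𝟙 _ ≫ Y.hom ≫ r ≫ π = (Y.hom ≫ r) ≫ π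
      rw [Category.id_comp, Category.assoc])
  have hee : ∀ Y, e Y ≫ e' Y = 𝟙 _ := fun Y => Over.OverMorphism.ext (Category.id_comp _)
  have hpt : ∀ {Y : Over P} (a : Y ⟶ Red.bc r H'),
      DSPtsLib.theta (r ≫ π) (a ≫ i) = e Y ≫ DSPtsLib.theta π (DSPtsLib.theta r a ≫ j') := fun {Y} a => by
    refine Over.OverMorphism.ext ?_
    show (a.left ≫ i.left) ≫ pullback.fst G.hom (r ≫ π) = 𝟙 Y.left ≫ ((a.left ≫ pullback.fst H'.hom r) ≫ j'.left) ≫ _
    rw [Category.assoc, hfst, Category.id_comp, Category.assoc, Category.assoc]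
    rfl
  have hmul : ∀ {Y : Over P} (a b : Y ⟶ Red.bc r H'), (a * b) ≫ i = (a ≫ i) * (b ≫ i) := fun a b => by
    refine (DSPtsLib.theta_bijective (r ≫ π)).1 ?_
    rw [hpt, DSPtsLib.theta_mul, MonObj.mul_comp, DSPtsLib.theta_mul, DSPtsLib.theta_mul, hpt, hpt, MonObj.comp_mul]
  refine ⟨i, ?_, ?_, hfst, fun Y g a => ?_⟩
  · constructor
    · have h1 := hmul (1 : 𝟙_ _ ⟶ Red.bc r H') 1
      rw [_root_.one_mul, left_eq_mul] at h1
      rwa [Hom.one_def, Hom.one_def, toUnit_unique (toUnit _) (𝟙 _), Category.id_comp, Category.id_comp] at h1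
    · have h1 := hmul (fst (Red.bc r H') (Red.bc r H')) (snd _ _)
      rw [Hom.mul_def, Hom.mul_def, lift_fst_snd, Category.id_comp] at h1
      rw [h1, ← lift_map, lift_fst_snd, Category.id_comp]
  · let k : pullback G.hom (r ≫ π) ⟶ pullback G.hom π :=
      pullback.lift (pullback.fst _ _) (pullback.snd _ _ ≫ r) (by rw [pullback.condition, Category.assoc])
    have hk : IsPullback k (pullback.snd G.hom (r ≫ π)) (pullback.snd G.hom π) r := by
      refine IsPullback.of_right (h₁₂ := pullback.fst G.hom π) (v₁₃ := G.hom) (h₂₂ := π) ?_ (pullback.lift_snd _ _ _)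
        (IsPullback.of_hasPullback G.hom π)
      rw [pullback.lift_fst]
      exact IsPullback.of_hasPullback G.hom (r ≫ π)
    have hsq : IsPullback (pullback.fst H'.hom r) i.left j'.left k := by
      refine IsPullback.of_bot (v₂₁ := pullback.snd G.hom (r ≫ π)) (v₂₂ := pullback.snd G.hom π) (h₃₁ := r) ?_ ?_ hk
      · have h1 : i.left ≫ pullback.snd G.hom (r ≫ π) = pullback.snd H'.hom r := Over.w i
        have h2 : j'.left ≫ pullback.snd G.hom π = H'.hom := Over.w j'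
        rw [h1, h2]
        exact IsPullback.of_hasPullback H'.hom r
      · refine pullback.hom_ext ?_ ?_
        · rw [Category.assoc, Category.assoc, pullback.lift_fst, hfst]
        · rw [Category.assoc, Category.assoc, pullback.lift_snd]
          have h2 : j'.left ≫ pullback.snd G.hom π = H'.hom := Over.w j'
          have h1 : i.left ≫ pullback.snd G.hom (r ≫ π) = pullback.snd H'.hom r := Over.w i
          rw [h2, reassoc_of% h1, pullback.condition]
    exact MorphismProperty.of_isPullback (P := @IsImmersion) hsq inferInstance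
  · obtain ⟨g'', hg''⟩ := (DSPtsLib.theta_bijective (H := G) (Y := (Over.map r).obj Y) π).2
      (e' Y ≫ DSPtsLib.theta (r ≫ π) g)
    refine (DSPtsLib.theta_bijective (r ≫ π)).1 ?_
    have hg : DSPtsLib.theta (r ≫ π) g = e Y ≫ DSPtsLib.theta π g'' := by rw [hg'', reassoc_of% (hee Y)]
    rw [DSPtsLib.theta_mul, DSPtsLib.theta_mul, hpt, hg, ← MonObj.comp_mul, ← MonObj.comp_mul, ← DSPtsLib.theta_mul,
      ← DSPtsLib.theta_mul, hc]

/-- The two pullbacks of the subgroup agree. -/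
theorem key [IsMonHom j'] [IsImmersion j'.left] [IsSeparated G.hom] [LocallyOfFiniteType G.hom]
    (hH' : SGA3x.IsMultTypeFT H')
    (hconn : ∀ y : S', _root_.IsConnected (pullback.fst π π ⁻¹' {y}))
    (hc : ∀ (X : Over S') (g : X ⟶ Red.bc π G) (a : X ⟶ H'), g * (a ≫ j') = (a ≫ j') * g)
    (T : Scheme.{u}) (a b : T ⟶ pullback G.hom π) (hab : a ≫ pullback.fst G.hom π = b ≫ pullback.fst G.hom π)
    (hl : ∃ l, l ≫ j'.left = a) : ∃ l, l ≫ j'.left = b := by
  let p₁ := pullback.fst π π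
  let p₂ := pullback.snd π π
  let q : pullback π π ⟶ S := p₁ ≫ π
  obtain ⟨i₁, h₁m, h₁i, h₁f, h₁c⟩ := exists_hom j' p₁ q rfl hc
  obtain ⟨i₂, h₂m, h₂i, h₂f, h₂c⟩ := exists_hom j' p₂ q pullback.condition.symm hc
  haveI := h₁m; haveI := h₁i; haveI := h₂m; haveI := h₂i
  haveI : IsSeparated (Red.bc q G).hom := inferInstanceAs (IsSeparated (pullback.snd G.hom q))
  haveI : LocallyOfFiniteType (Red.bc q G).hom := inferInstanceAs (LocallyOfFiniteType (pullback.snd G.hom q))
  obtain ⟨U, hU, hmem, hle⟩ := SubgroupEqLocus.main i₂ i₁ (MultTypeBC.isMultTypeFT_bc p₂ hH')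
    (MultTypeBC.isMultTypeFT_bc p₁ hH') (Or.inl h₂c) (Or.inr inferInstance)
  let δ : S' ⟶ pullback π π := pullback.lift (𝟙 _) (𝟙 _) rfl
  have hδ : Le i₂ i₁ δ := by
    intro Y r y
    have hp : Y.hom ≫ p₁ = Y.hom ≫ p₂ := by
      rw [← Over.w r]
      show (r.left ≫ δ) ≫ _ = (r.left ≫ δ) ≫ _
      simp only [δ, p₁, p₂, Category.assoc, pullback.lift_fst, pullback.lift_snd]
    have hy : y.left ≫ pullback.snd H'.hom p₁ = Y.hom := Over.w y
    let x : Y ⟶ Red.bc p₂ H' := Over.homMk (pullback.lift (y.left ≫ pullback.fst H'.hom p₁) Y.hom (by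
      rw [Category.assoc, pullback.condition, reassoc_of% hy, hp])) (pullback.lift_snd _ _ _)
    refine ⟨x, Over.OverMorphism.ext (pullback.hom_ext ?_ ?_)⟩
    · rw [Over.comp_left, Over.comp_left, Category.assoc, Category.assoc, h₁f, h₂f]
      show pullback.lift _ _ _ ≫ _ = _
      rw [pullback.lift_fst_assoc, Category.assoc]
    · exact (Over.w (x ≫ i₂)).trans (Over.w (y ≫ i₁)).symm
  have hall : ∀ z : (pullback π π : Scheme.{u}), z ∈ U := by
    intro z
    let y := pullback.fst π π z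
    have hδy : δ y ∈ U := by
      have hb : (S'.fromSpecResidueField y ≫ δ) (IsLocalRing.closedPoint (S'.residueField y)) = δ y := by
        rw [Scheme.Hom.comp_apply]
        exact congrArg (fun x => δ x) (Scheme.fromSpecResidueField_apply y _)
      rw [hmem, ← hb]
      have h := hδ.comp (S'.fromSpecResidueField y)
      rw [← Scheme.descResidueField_stalkClosedPointTo_fromSpecResidueField (S'.residueField y) _
        (S'.fromSpecResidueField y ≫ δ)] at h
      exact Le.of_covers _ (HomUnitLocus.covers_field _) h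
    have hsub := (hconn y).isPreconnected.subset_isClopen (show IsClopen (U : Set _) from ⟨hU, U.2⟩)
      ⟨δ y, show pullback.fst π π (δ y) = y by
        rw [← Scheme.Hom.comp_apply, pullback.lift_fst]; rfl, hδy⟩
    exact hsub rfl
  obtain ⟨l, hl⟩ := hl
  have hw : (a ≫ pullback.snd G.hom π) ≫ π = (b ≫ pullback.snd G.hom π) ≫ π := by
    rw [Category.assoc, Category.assoc, ← pullback.condition, reassoc_of% hab]
  let t : T ⟶ pullback π π := pullback.lift (a ≫ pullback.snd G.hom π) (b ≫ pullback.snd G.hom π) hw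
  let Y : Over (pullback π π) := Over.mk t
  have hlH : l ≫ H'.hom = t ≫ p₁ := by
    rw [← Over.w j', reassoc_of% hl]
    exact (pullback.lift_fst _ _ _).symm
  let y : Y ⟶ Red.bc p₁ H' := Over.homMk (pullback.lift l t hlH) (pullback.lift_snd _ _ _)
  have hr : Set.range t ⊆ Set.range U.ι := by
    rw [Scheme.Opens.range_ι]
    exact fun x _ => hall x
  obtain ⟨x, hx⟩ := hle Y (Over.homMk (IsOpenImmersion.lift U.ι t hr) (IsOpenImmersion.lift_fac _ _ _)) y
  refine ⟨x.left ≫ pullback.fst H'.hom p₂, ?_⟩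
  have hxl : x.left ≫ i₂.left = pullback.lift l t hlH ≫ i₁.left := by
    rw [← Over.comp_left, hx]
    rfl
  refine pullback.hom_ext ?_ ?_
  · have h := congrArg (· ≫ pullback.fst G.hom q) hxl
    simp only [Category.assoc, h₁f, h₂f, pullback.lift_fst_assoc] at h
    rw [Category.assoc, Category.assoc, h, reassoc_of% hl, hab]
  · have h2 : j'.left ≫ pullback.snd G.hom π = H'.hom := Over.w j'
    have h3 : x.left ≫ pullback.snd H'.hom p₂ = t := Over.w x
    rw [Category.assoc, Category.assoc, h2, pullback.condition, reassoc_of% h3]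
    exact pullback.lift_snd _ _ _

omit [GrpObj G] [GrpObj H'] in
/-- The closure of the range is saturated. -/
theorem closure_saturated [IsAffineHom H'.hom] [QuasiSeparated G.hom] [Flat π]
    (hcov : ∀ V : S.Opens, IsAffineOpen V → ∃ W : S'.Opens, IsCompact (W : Set S') ∧ π.base '' (W : Set S') = (V : Set S))
    (hpre : pullback.fst G.hom π ⁻¹' (pullback.fst G.hom π '' Set.range j'.left) = Set.range j'.left) :
    pullback.fst G.hom π ⁻¹' closure (pullback.fst G.hom π '' Set.range j'.left) ⊆ closure (Set.range j'.left) := by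
  intro z hz
  let g := pullback.fst G.hom π
  haveI : Flat g := inferInstance
  obtain ⟨V, hV, hzV, -⟩ := exists_isAffineOpen_mem_and_subset (show G.hom (g z) ∈ (⊤ : S.Opens) from trivial)
  obtain ⟨W, hWc, hWV⟩ := hcov V hV
  let GV : G.left.Opens := G.hom ⁻¹ᵁ V
  let A : H'.left.Opens := H'.hom ⁻¹ᵁ W
  haveI : QuasiCompact H'.hom := inferInstance
  haveI : CompactSpace (A : Scheme.{u}) := isCompact_iff_compactSpace.mp (H'.hom.isCompact_preimage hWc)
  have hr : Set.range (A.ι ≫ j'.left ≫ g) ⊆ Set.range GV.ι := by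
    rintro _ ⟨w, rfl⟩
    rw [Scheme.Opens.range_ι]
    show G.hom ((A.ι ≫ j'.left ≫ g) w) ∈ (V : Set S)
    rw [← hWV]
    refine ⟨H'.hom (A.ι w), w.2, ?_⟩
    show π (H'.hom (A.ι w)) = _
    rw [← Over.w j', Scheme.Hom.comp_apply, Scheme.Hom.comp_apply, Scheme.Hom.comp_apply]
    show π (pullback.snd G.hom π (j'.left (A.ι w))) = G.hom (g (j'.left (A.ι w)))
    rw [← Scheme.Hom.comp_apply, ← pullback.condition, Scheme.Hom.comp_apply]
  let f₀ : (A : Scheme.{u}) ⟶ GV := IsOpenImmersion.lift GV.ι (A.ι ≫ j'.left ≫ g) hr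
  haveI : IsAffine (V : Scheme.{u}) := hV
  haveI : QuasiSeparated (G.hom ∣_ V) := IsZariskiLocalAtTarget.restrict ‹_› V
  haveI : QuasiCompact (f₀ ≫ (G.hom ∣_ V)) := (quasiCompact_iff_compactSpace _).mpr inferInstance
  haveI : QuasiCompact f₀ := QuasiCompact.of_comp f₀ (G.hom ∣_ V)
  have hmem : (⟨g z, hzV⟩ : GV) ∈ closure (Set.range f₀) := by
    rw [GV.ι.isOpenEmbedding.isInducing.closure_eq_preimage_closure_image]
    refine closure_mono ?_ (GV.2.inter_closure ⟨hzV, hz⟩)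
    rintro _ ⟨hxV, x, ⟨h, rfl⟩, rfl⟩
    have hxV' : G.hom (g (j'.left h)) ∈ (V : Set S) := hxV
    rw [← hWV] at hxV'
    obtain ⟨w, hw, hwe⟩ := hxV'
    obtain ⟨x', hx1, hx2⟩ := Scheme.Pullback.exists_preimage_pullback (f := G.hom) (g := π) (g (j'.left h)) w hwe.symm
    have hx' : x' ∈ g ⁻¹' (g '' Set.range j'.left) := ⟨j'.left h, ⟨h, rfl⟩, hx1.symm⟩
    rw [hpre] at hx'
    obtain ⟨h', rfl⟩ := hx'
    have hA : h' ∈ A := by
      show H'.hom h' ∈ W
      rw [← Over.w j', Scheme.Hom.comp_apply]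
      exact hx2.symm ▸ hw
    refine ⟨f₀ ⟨h', hA⟩, ⟨⟨h', hA⟩, rfl⟩, ?_⟩
    rw [← Scheme.Hom.comp_apply, IsOpenImmersion.lift_fac, Scheme.Hom.comp_apply, Scheme.Hom.comp_apply]
    exact hx1
  obtain ⟨w, hw⟩ := SubschemeDescent.mem_closure_range_exists f₀ hmem
  have hsp : g (j'.left (A.ι w)) ⤳ g z := by
    have h := hw.map GV.ι.base.hom.continuous
    have hf : f₀ ≫ GV.ι = A.ι ≫ j'.left ≫ g := IsOpenImmersion.lift_fac _ _ _
    rw [show g (j'.left (A.ι w)) = GV.ι (f₀ w) by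
      rw [← Scheme.Hom.comp_apply, ← Scheme.Hom.comp_apply, ← Scheme.Hom.comp_apply, hf]]
    exact h
  obtain ⟨o, ho⟩ : g (j'.left (A.ι w)) ∈ Set.range (G.left.fromSpecStalk (g z)) := by
    rw [Scheme.range_fromSpecStalk]; exact hsp
  obtain ⟨o', ho'⟩ : o ∈ Set.range (Spec.map (g.stalkMap z)) :=
    Set.mem_range.mpr (SBAut.comap_surjective_of_flat_local (g.stalkMap z).hom (Flat.stalkMap g z) o)
  let z' := (pullback G.hom π).fromSpecStalk z o'
  have hz' : g z' = g (j'.left (A.ι w)) := by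
    rw [← ho, ← ho', ← Scheme.Hom.comp_apply (Spec.map (g.stalkMap z)), Scheme.SpecMap_stalkMap_fromSpecStalk,
      Scheme.Hom.comp_apply]
  have hz'R : z' ∈ Set.range j'.left := by
    rw [← hpre]
    exact ⟨j'.left (A.ι w), ⟨_, rfl⟩, hz'.symm⟩
  have hspz : z' ⤳ z := by
    have : z' ∈ Set.range ((pullback G.hom π).fromSpecStalk z) := ⟨o', rfl⟩
    rwa [Scheme.range_fromSpecStalk] at this
  exact hspz.mem_closed isClosed_closure |> fun h => h (subset_closure hz'R)

/-- Descent of the subgroup. -/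
theorem exists_descent [IsMonHom j'] [IsImmersion j'.left] [IsSeparated G.hom] [LocallyOfFiniteType G.hom] [Flat π]
    [Surjective π]
    (hcov : ∀ V : S.Opens, IsAffineOpen V → ∃ W : S'.Opens, IsCompact (W : Set S') ∧ π.base '' (W : Set S') = (V : Set S))
    (hH' : SGA3x.IsMultTypeFT H')
    (hconn : ∀ y : S', _root_.IsConnected (pullback.fst π π ⁻¹' {y}))
    (hc : ∀ (X : Over S') (g : X ⟶ Red.bc π G) (a : X ⟶ H'), g * (a ≫ j') = (a ≫ j') * g) :
    ∃ (H : Over S) (_ : GrpObj H) (j : H ⟶ G), IsMonHom j ∧ IsImmersion j.left ∧ SGA3x.IsMultTypeFT H ∧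
      ∃ φ : Red.bc π H ≅ H', φ.hom ≫ j' = (Over.pullback π).map j := by
  have hπ : FpqcDescLib.IsCovering π := FpqcDescLib.isCovering_of_flat π hcov
  haveI : IsAffineHom H'.hom := (TransLib.multTypeFT_essFree hH').1
  obtain ⟨Z, i, hi, hfac⟩ := SubschemeDescent.exists_descend (pullback.fst G.hom π)
    (hπ.pullback G.hom _ (pullback.snd G.hom π) (IsPullback.of_hasPullback G.hom π)) j'.left
    (key j' hH' hconn hc) (closure_saturated j' hcov)
  haveI := hi
  let H : Over S := Over.mk (i ≫ G.hom)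
  let j : H ⟶ G := Over.homMk i rfl
  haveI : IsImmersion j.left := hi
  haveI : Mono j := Over.mono_of_mono_left _
  haveI : Mono j' := Over.mono_of_mono_left _
  -- membership
  let lift' : ∀ {Y : Over S}, (Y ⟶ G) → (Over.mk (pullback.snd Y.hom π) ⟶ Red.bc π G) := fun {Y} x =>
    Over.homMk (pullback.lift (pullback.fst Y.hom π ≫ x.left) (pullback.snd Y.hom π) (by
      rw [Category.assoc, Over.w x, pullback.condition])) (pullback.lift_snd _ _ _)
  have hin : ∀ {Y : Over S} (x : Y ⟶ G), (∃ h, h ≫ j' = lift' x) → ∃ y, y ≫ j = x := by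
    intro Y x ⟨h, hh⟩
    obtain ⟨l, hl⟩ := (hfac _ _).mp ⟨h.left, congrArg (fun m : _ ⟶ Red.bc π G => m.left) hh⟩
    have hl' : l ≫ i = pullback.fst Y.hom π ≫ x.left := hl.trans (pullback.lift_fst _ _ _)
    obtain ⟨y, hy, -⟩ := ((FpqcDescLib.covers_of_isCovering hπ).pullback Y.hom (pullback.fst Y.hom π)
      (pullback.snd Y.hom π) (IsPullback.of_hasPullback Y.hom π)).desc l fun T a b e => by
        rw [← cancel_mono i, Category.assoc, Category.assoc, hl', reassoc_of% e]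
    haveI := ((FpqcDescLib.covers_of_isCovering hπ).pullback Y.hom (pullback.fst Y.hom π)
      (pullback.snd Y.hom π) (IsPullback.of_hasPullback Y.hom π)).epi
    have hyi : y ≫ i = x.left := by rw [← cancel_epi (pullback.fst Y.hom π), reassoc_of% hy, hl']
    exact ⟨Over.homMk y (by show y ≫ i ≫ G.hom = Y.hom; rw [reassoc_of% hyi, Over.w x]),
      Over.OverMorphism.ext hyi⟩
  have hout : ∀ {Y : Over S} (y : Y ⟶ H), ∃ h, h ≫ j' = lift' (y ≫ j) := by
    intro Y y
    obtain ⟨h, hh⟩ := (hfac _ (lift' (y ≫ j)).left).mpr ⟨pullback.fst Y.hom π ≫ y.left, by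
      show _ = pullback.lift _ _ _ ≫ _
      rw [pullback.lift_fst, Category.assoc]
      rfl⟩
    refine ⟨Over.homMk h ?_, Over.OverMorphism.ext hh⟩
    show h ≫ H'.hom = pullback.snd Y.hom π
    rw [← Over.w j', reassoc_of% hh]
    exact pullback.lift_snd _ _ _
  let k : ∀ Y : Over S, (Over.map π).obj (Over.mk (pullback.snd Y.hom π)) ⟶ Y := fun Y =>
    Over.homMk (pullback.fst Y.hom π) pullback.condition
  have hk : ∀ {Y : Over S} (x : Y ⟶ G), DSPtsLib.theta π (lift' x) = k Y ≫ x := fun x =>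
    Over.OverMorphism.ext (pullback.lift_fst _ _ _)
  have hlm : ∀ {Y : Over S} (x x' : Y ⟶ G), lift' (x * x') = lift' x * lift' x' := fun x x' => by
    refine (DSPtsLib.theta_bijective π).1 ?_
    rw [DSPtsLib.theta_mul, hk, hk, hk, MonObj.comp_mul]
  have hl1 : ∀ {Y : Over S}, lift' (1 : Y ⟶ G) = 1 := fun {Y} => by
    have h := hlm (1 : Y ⟶ G) 1
    rwa [_root_.one_mul, left_eq_mul] at h
  have hli : ∀ {Y : Over S} (x : Y ⟶ G), lift' x⁻¹ = (lift' x)⁻¹ := fun x => by
    refine eq_inv_of_mul_eq_one_left ?_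
    rw [← hlm, inv_mul_cancel, hl1]
  obtain ⟨η', he⟩ := hin η[G] ⟨1, by
    rw [show η[G] = (1 : 𝟙_ _ ⟶ G) by rw [Hom.one_def, toUnit_unique (toUnit _) (𝟙 _), Category.id_comp], hl1,
      MonObj.one_comp]⟩
  obtain ⟨μ', hm⟩ := hin ((fst H H ≫ j) * (snd H H ≫ j)) (by
    obtain ⟨a, ha⟩ := hout (fst H H)
    obtain ⟨b, hb⟩ := hout (snd H H)
    exact ⟨a * b, by rw [MonObj.mul_comp, ha, hb, hlm]⟩)
  obtain ⟨ι', hv⟩ := hin j⁻¹ (by
    obtain ⟨a, ha⟩ := hout (𝟙 H)
    rw [Category.id_comp] at ha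
    refine ⟨a⁻¹, ?_⟩
    rw [hli, ← ha]
    exact eq_inv_of_mul_eq_one_left (by rw [← MonObj.mul_comp, inv_mul_cancel, MonObj.one_comp]))
  obtain ⟨str, hjm⟩ := exists_grpObj_of_mono j η' he μ' hm ι' hv
  letI := str
  haveI := hjm
  -- the comparison
  obtain ⟨f₁, hf₁⟩ : ∃ f, f ≫ j'.left = ((Over.pullback π).map j).left :=
    (hfac _ _).mpr ⟨pullback.fst H.hom π, by
      have h := congrArg (fun m : (Over.map π).obj (Red.bc π H) ⟶ G => m.left)
        (HomUnitLocus.theta_comp_map π _ (𝟙 (Red.bc π H)) j)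
      exact (h.trans (by show (𝟙 _ ≫ pullback.fst H.hom π) ≫ i = pullback.fst H.hom π ≫ i; rw [Category.id_comp])).symm
        |>.trans (by rw [Category.id_comp]; rfl)⟩
  obtain ⟨f₂, hf₂⟩ := (hfac _ j'.left).mp ⟨𝟙 _, Category.id_comp _⟩
  have hf₁w : f₁ ≫ H'.hom = pullback.snd H.hom π := by
    rw [← Over.w j', reassoc_of% hf₁]
    exact Over.w ((Over.pullback π).map j)
  let φh : Red.bc π H ⟶ H' := Over.homMk f₁ hf₁w
  let φi : H' ⟶ Red.bc π H := Over.homMk (pullback.lift f₂ H'.hom (by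
    show f₂ ≫ i ≫ G.hom = H'.hom ≫ π
    rw [reassoc_of% hf₂, pullback.condition, ← Over.w j']
    exact (Category.assoc _ _ _).symm)) (pullback.lift_snd _ _ _)
  have hφh : φh ≫ j' = (Over.pullback π).map j := Over.OverMorphism.ext hf₁
  have hφi : φi ≫ (Over.pullback π).map j = j' := by
    refine (DSPtsLib.theta_bijective π).1 (Over.OverMorphism.ext ?_)
    rw [HomUnitLocus.theta_comp_map]
    show (pullback.lift f₂ H'.hom _ ≫ pullback.fst H.hom π) ≫ i = j'.left ≫ pullback.fst G.hom π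
    rw [pullback.lift_fst, hf₂]
  haveI : Mono ((Over.pullback π).map j) := inferInstance
  let φ : Red.bc π H ≅ H' :=
    ⟨φh, φi, by rw [← cancel_mono ((Over.pullback π).map j), Category.assoc, hφi, hφh, Category.id_comp],
      by rw [← cancel_mono j', Category.assoc, hφh, hφi, Category.id_comp]⟩
  haveI : IsMonHom φ.hom := by
    constructor
    · rw [← cancel_mono j', Category.assoc]
      show η[Red.bc π H] ≫ φh ≫ j' = η[H'] ≫ j'
      rw [hφh, IsMonHom.one_hom j', IsMonHom.one_hom ((Over.pullback π).map j)]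
    · rw [← cancel_mono j', Category.assoc, Category.assoc]
      show μ[Red.bc π H] ≫ φh ≫ j' = (φh ⊗ₘ φh) ≫ μ[H'] ≫ j'
      rw [hφh, IsMonHom.mul_hom j', IsMonHom.mul_hom ((Over.pullback π).map j), ← Category.assoc,
        MonoidalCategory.tensorHom_comp_tensorHom, hφh]
  refine ⟨H, str, j, hjm, inferInstance, ?_, φ, hφh⟩
  obtain ⟨S'', f, hff, hfs, hfq, hfl⟩ := hH'
  haveI := hff; haveI := hfs
  obtain ⟨hfl', hcov'⟩ := SubgroupEqLocus.flat_hcov_of_isCovering
    ((FpqcDescLib.isCovering_of_flat f hfq).comp hπ)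
  refine ⟨S'', f ≫ π, hfl', inferInstance, hcov', fun s => ?_⟩
  obtain ⟨U, hsU, M, iM, hfg, ⟨e⟩⟩ := hfl s
  obtain ⟨e₁⟩ := MultTypeBC.bc_bc (U.ι ≫ f) π H
  obtain ⟨e₂⟩ := MultTypeBC.bc_congr (Category.assoc U.ι f π) H
  obtain ⟨e₃⟩ := MultTypeBC.bc_iso (U.ι ≫ f) (Grp.mkIso' φ)
  exact ⟨U, hsU, M, iM, hfg, ⟨e₂.symm ≪≫ e₁.symm ≪≫ e₃ ≪≫ e⟩⟩

theorem descent_unique [IsImmersion j'.left] (hπ : FpqcDescLib.Covers π) {H₁ H₂ : Over S} {j₁ : H₁ ⟶ G}
    {j₂ : H₂ ⟶ G} [GrpObj H₁] [GrpObj H₂] [IsMonHom j₁] [IsMonHom j₂] [IsImmersion j₁.left] [IsImmersion j₂.left]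
    (φ₁ : Red.bc π H₁ ≅ H') (h₁ : φ₁.hom ≫ j' = (Over.pullback π).map j₁)
    (φ₂ : Red.bc π H₂ ≅ H') (h₂ : φ₂.hom ≫ j' = (Over.pullback π).map j₂) :
    ∃ ψ : H₁ ≅ H₂, ψ.hom ≫ j₂ = j₁ := by
  haveI : Mono j₁ := Over.mono_of_mono_left _
  haveI : Mono j₂ := Over.mono_of_mono_left _
  have main : ∀ {A B : Over S} [GrpObj A] [GrpObj B] (jA : A ⟶ G) (jB : B ⟶ G) [Mono jA] (θ : Red.bc π B ⟶ Red.bc π A),
      θ ≫ (Over.pullback π).map jA = (Over.pullback π).map jB → ∃ ψ : B ⟶ A, ψ ≫ jA = jB := by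
    intro A B _ _ jA jB _ θ hθ
    let k : (Over.map π).obj (Red.bc π B) ⟶ B := DSPtsLib.theta π (𝟙 _)
    have hk : FpqcDescLib.Covers k.left := by
      show FpqcDescLib.Covers (𝟙 (pullback B.hom π) ≫ pullback.fst B.hom π)
      rw [Category.id_comp]
      exact hπ.pullback B.hom _ (pullback.snd B.hom π) (IsPullback.of_hasPullback B.hom π)
    have h : DSPtsLib.theta π θ ≫ jA = k ≫ jB := by
      rw [← HomUnitLocus.theta_comp_map, hθ, ← HomUnitLocus.theta_comp_map, Category.id_comp]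
    obtain ⟨ψ, hψ, -⟩ := hk.over_desc (DSPtsLib.theta π θ) fun T a b e => by
      rw [← cancel_mono jA, Category.assoc, Category.assoc, h, reassoc_of% e]
    haveI := hk.over_epi
    exact ⟨ψ, by rw [← cancel_epi k, reassoc_of% hψ, h]⟩
  obtain ⟨a, ha⟩ := main j₂ j₁ (φ₁.hom ≫ φ₂.inv) (by rw [Category.assoc, ← h₂, φ₂.inv_hom_id_assoc, h₁])
  obtain ⟨b, hb⟩ := main j₁ j₂ (φ₂.hom ≫ φ₁.inv) (by rw [Category.assoc, ← h₁, φ₁.inv_hom_id_assoc, h₂])
  exact ⟨⟨a, b, by rw [← cancel_mono j₁, Category.assoc, hb, ha, Category.id_comp],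
    by rw [← cancel_mono j₂, Category.assoc, ha, hb, Category.id_comp]⟩, ha⟩

end Groth.Agent.GrpSchLib.SubgroupDescent
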