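import Groth.Agent.GrpSchLib.SubgroupDescent

/-! Descent of subgroups of multiplicative type from agreement of the two pullbacks, without connectedness. -/

universe u

open CategoryTheory CategoryTheory.Limits MonoidalCategory CartesianMonoidalCategory MonObj GrpObj AlgebraicGeometry

namespace Groth.Agent.GrpSchLib.SubgroupDescent

variable {S S' : Scheme.{u}} {G : Over S} [GrpObj G] {π : S' ⟶ S} {H' : Over S'} [GrpObj H'] (j' : H' ⟶ Red.bc π G)

/-- Descent of a subgroup of multiplicative type whose two pullbacks agree. -/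
theorem exists_descent_of_key [IsMonHom j'] [IsImmersion j'.left] [IsSeparated G.hom] [LocallyOfFiniteType G.hom] [Flat π]
    [Surjective π]
    (hcov : ∀ V : S.Opens, IsAffineOpen V → ∃ W : S'.Opens, IsCompact (W : Set S') ∧ π.base '' (W : Set S') = (V : Set S))
    (hH' : SGA3x.IsMultTypeFT H')
    (hkey : ∀ (T : Scheme.{u}) (a b : T ⟶ pullback G.hom π), a ≫ pullback.fst G.hom π = b ≫ pullback.fst G.hom π →
      (∃ l, l ≫ j'.left = a) → ∃ l, l ≫ j'.left = b) :
    ∃ (H : Over S) (_ : GrpObj H) (j : H ⟶ G), IsMonHom j ∧ IsImmersion j.left ∧ SGA3x.IsMultTypeFT H ∧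
      ∃ φ : Red.bc π H ≅ H', φ.hom ≫ j' = (Over.pullback π).map j := by
  have hπ : FpqcDescLib.IsCovering π := FpqcDescLib.isCovering_of_flat π hcov
  haveI : IsAffineHom H'.hom := (TransLib.multTypeFT_essFree hH').1
  obtain ⟨Z, i, hi, hfac⟩ := SubschemeDescent.exists_descend (pullback.fst G.hom π)
    (hπ.pullback G.hom _ (pullback.snd G.hom π) (IsPullback.of_hasPullback G.hom π)) j'.left
    hkey (closure_saturated j' hcov)
  haveI := hi
  let H : Over S := Over.mk (i ≫ G.hom)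
  let j : H ⟶ G := Over.homMk i rfl
  haveI : IsImmersion j.left := hi
  haveI : Mono j := Over.mono_of_mono_left _
  haveI : Mono j' := Over.mono_of_mono_left _
  -- membership
  let lift' : ∀ {Y : Over S}, (Y ⟶ G) → (Over.mk (pullback.snd Y.hom π) ⟶ Red.bc π G) := fun {Y} x =>
    Over.homMk (pullback.lift (pullback.fst Y.hom π ≫ x.left) (pullback.snd Y.hom π) (by
      rw [Category.assoc, Over.w x, pullback.condition])) (pullback.lift_snd _ _ _)
  have hin : ∀ {Y : Over S} (x : Y ⟶ G), (∃ h, h ≫ j' = lift' x) → ∃ y, y ≫ j = x := by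
    intro Y x ⟨h, hh⟩
    obtain ⟨l, hl⟩ := (hfac _ _).mp ⟨h.left, congrArg (fun m : _ ⟶ Red.bc π G => m.left) hh⟩
    have hl' : l ≫ i = pullback.fst Y.hom π ≫ x.left := hl.trans (pullback.lift_fst _ _ _)
    obtain ⟨y, hy, -⟩ := ((FpqcDescLib.covers_of_isCovering hπ).pullback Y.hom (pullback.fst Y.hom π)
      (pullback.snd Y.hom π) (IsPullback.of_hasPullback Y.hom π)).desc l fun T a b e => by
        rw [← cancel_mono i, Category.assoc, Category.assoc, hl', reassoc_of% e]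
    haveI := ((FpqcDescLib.covers_of_isCovering hπ).pullback Y.hom (pullback.fst Y.hom π)
      (pullback.snd Y.hom π) (IsPullback.of_hasPullback Y.hom π)).epi
    have hyi : y ≫ i = x.left := by rw [← cancel_epi (pullback.fst Y.hom π), reassoc_of% hy, hl']
    exact ⟨Over.homMk y (by show y ≫ i ≫ G.hom = Y.hom; rw [reassoc_of% hyi, Over.w x]),
      Over.OverMorphism.ext hyi⟩
  have hout : ∀ {Y : Over S} (y : Y ⟶ H), ∃ h, h ≫ j' = lift' (y ≫ j) := by
    intro Y y
    obtain ⟨h, hh⟩ := (hfac _ (lift' (y ≫ j)).left).mpr ⟨pullback.fst Y.hom π ≫ y.left, by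
      show _ = pullback.lift _ _ _ ≫ _
      rw [pullback.lift_fst, Category.assoc]
      rfl⟩
    refine ⟨Over.homMk h ?_, Over.OverMorphism.ext hh⟩
    show h ≫ H'.hom = pullback.snd Y.hom π
    rw [← Over.w j', reassoc_of% hh]
    exact pullback.lift_snd _ _ _
  let k : ∀ Y : Over S, (Over.map π).obj (Over.mk (pullback.snd Y.hom π)) ⟶ Y := fun Y =>
    Over.homMk (pullback.fst Y.hom π) pullback.condition
  have hk : ∀ {Y : Over S} (x : Y ⟶ G), DSPtsLib.theta π (lift' x) = k Y ≫ x := fun x =>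
    Over.OverMorphism.ext (pullback.lift_fst _ _ _)
  have hlm : ∀ {Y : Over S} (x x' : Y ⟶ G), lift' (x * x') = lift' x * lift' x' := fun x x' => by
    refine (DSPtsLib.theta_bijective π).1 ?_
    rw [DSPtsLib.theta_mul, hk, hk, hk, MonObj.comp_mul]
  have hl1 : ∀ {Y : Over S}, lift' (1 : Y ⟶ G) = 1 := fun {Y} => by
    have h := hlm (1 : Y ⟶ G) 1
    rwa [_root_.one_mul, left_eq_mul] at h
  have hli : ∀ {Y : Over S} (x : Y ⟶ G), lift' x⁻¹ = (lift' x)⁻¹ := fun x => by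
    refine eq_inv_of_mul_eq_one_left ?_
    rw [← hlm, inv_mul_cancel, hl1]
  obtain ⟨η', he⟩ := hin η[G] ⟨1, by
    rw [show η[G] = (1 : 𝟙_ _ ⟶ G) by rw [Hom.one_def, toUnit_unique (toUnit _) (𝟙 _), Category.id_comp], hl1,
      MonObj.one_comp]⟩
  obtain ⟨μ', hm⟩ := hin ((fst H H ≫ j) * (snd H H ≫ j)) (by
    obtain ⟨a, ha⟩ := hout (fst H H)
    obtain ⟨b, hb⟩ := hout (snd H H)
    exact ⟨a * b, by rw [MonObj.mul_comp, ha, hb, hlm]⟩)
  obtain ⟨ι', hv⟩ := hin j⁻¹ (by
    obtain ⟨a, ha⟩ := hout (𝟙 H)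
    rw [Category.id_comp] at ha
    refine ⟨a⁻¹, ?_⟩
    rw [hli, ← ha]
    exact eq_inv_of_mul_eq_one_left (by rw [← MonObj.mul_comp, inv_mul_cancel, MonObj.one_comp]))
  obtain ⟨str, hjm⟩ := exists_grpObj_of_mono j η' he μ' hm ι' hv
  letI := str
  haveI := hjm
  -- the comparison
  obtain ⟨f₁, hf₁⟩ : ∃ f, f ≫ j'.left = ((Over.pullback π).map j).left :=
    (hfac _ _).mpr ⟨pullback.fst H.hom π, by
      have h := congrArg (fun m : (Over.map π).obj (Red.bc π H) ⟶ G => m.left)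
        (HomUnitLocus.theta_comp_map π _ (𝟙 (Red.bc π H)) j)
      exact (h.trans (by show (𝟙 _ ≫ pullback.fst H.hom π) ≫ i = pullback.fst H.hom π ≫ i; rw [Category.id_comp])).symm
        |>.trans (by rw [Category.id_comp]; rfl)⟩
  obtain ⟨f₂, hf₂⟩ := (hfac _ j'.left).mp ⟨𝟙 _, Category.id_comp _⟩
  have hf₁w : f₁ ≫ H'.hom = pullback.snd H.hom π := by
    rw [← Over.w j', reassoc_of% hf₁]
    exact Over.w ((Over.pullback π).map j)
  let φh : Red.bc π H ⟶ H' := Over.homMk f₁ hf₁w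
  let φi : H' ⟶ Red.bc π H := Over.homMk (pullback.lift f₂ H'.hom (by
    show f₂ ≫ i ≫ G.hom = H'.hom ≫ π
    rw [reassoc_of% hf₂, pullback.condition, ← Over.w j']
    exact (Category.assoc _ _ _).symm)) (pullback.lift_snd _ _ _)
  have hφh : φh ≫ j' = (Over.pullback π).map j := Over.OverMorphism.ext hf₁
  have hφi : φi ≫ (Over.pullback π).map j = j' := by
    refine (DSPtsLib.theta_bijective π).1 (Over.OverMorphism.ext ?_)
    rw [HomUnitLocus.theta_comp_map]
    show (pullback.lift f₂ H'.hom _ ≫ pullback.fst H.hom π) ≫ i = j'.left ≫ pullback.fst G.hom π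
    rw [pullback.lift_fst, hf₂]
  haveI : Mono ((Over.pullback π).map j) := inferInstance
  let φ : Red.bc π H ≅ H' :=
    ⟨φh, φi, by rw [← cancel_mono ((Over.pullback π).map j), Category.assoc, hφi, hφh, Category.id_comp],
      by rw [← cancel_mono j', Category.assoc, hφh, hφi, Category.id_comp]⟩
  haveI : IsMonHom φ.hom := by
    constructor
    · rw [← cancel_mono j', Category.assoc]
      show η[Red.bc π H] ≫ φh ≫ j' = η[H'] ≫ j'
      rw [hφh, IsMonHom.one_hom j', IsMonHom.one_hom ((Over.pullback π).map j)]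
    · rw [← cancel_mono j', Category.assoc, Category.assoc]
      show μ[Red.bc π H] ≫ φh ≫ j' = (φh ⊗ₘ φh) ≫ μ[H'] ≫ j'
      rw [hφh, IsMonHom.mul_hom j', IsMonHom.mul_hom ((Over.pullback π).map j), ← Category.assoc,
        MonoidalCategory.tensorHom_comp_tensorHom, hφh]
  refine ⟨H, str, j, hjm, inferInstance, ?_, φ, hφh⟩
  obtain ⟨S'', f, hff, hfs, hfq, hfl⟩ := hH'
  haveI := hff; haveI := hfs
  obtain ⟨hfl', hcov'⟩ := SubgroupEqLocus.flat_hcov_of_isCovering
    ((FpqcDescLib.isCovering_of_flat f hfq).comp hπ)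
  refine ⟨S'', f ≫ π, hfl', inferInstance, hcov', fun s => ?_⟩
  obtain ⟨U, hsU, M, iM, hfg, ⟨e⟩⟩ := hfl s
  obtain ⟨e₁⟩ := MultTypeBC.bc_bc (U.ι ≫ f) π H
  obtain ⟨e₂⟩ := MultTypeBC.bc_congr (Category.assoc U.ι f π) H
  obtain ⟨e₃⟩ := MultTypeBC.bc_iso (U.ι ≫ f) (Grp.mkIso' φ)
  exact ⟨U, hsU, M, iM, hfg, ⟨e₂.symm ≪≫ e₁.symm ≪≫ e₃ ≪≫ e⟩⟩

end Groth.Agent.GrpSchLib.SubgroupDescent
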