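import Mathlib.AlgebraicGeometry.AffineScheme
import Mathlib.AlgebraicGeometry.OpenImmersion
import Mathlib.CategoryTheory.Monoidal.Cartesian.Over
import Mathlib.CategoryTheory.Monoidal.Cartesian.Grp
import Mathlib.Algebra.DualNumber
import Mathlib.RingTheory.Derivation.Basic
import Mathlib.AlgebraicGeometry.Pullbacks

/-! Every tangent vector at the unit of a group scheme over a field extends to a derivation of any
affine chart around the unit. -/

open CategoryTheory AlgebraicGeometry MonoidalCategory CartesianMonoidalCategory MonObj TrivSqZeroExt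

namespace Groth.Agent.GrpSchLib

universe u

variable {K : Type u} [Field K] {G : Over (Spec (CommRingCat.of K))} [GrpObj G]

/-- The `K`-scheme of an algebra. -/
noncomputable abbrev specOver (K : Type u) [Field K] (C : Type u) [CommRing C] [Algebra K C] :
    Over (Spec (CommRingCat.of K)) :=
  Over.mk (Spec.map (CommRingCat.ofHom (algebraMap K C)))

/-- The morphism of `K`-schemes of an algebra map. -/
noncomputable abbrev specHom {C C' : Type u} [CommRing C] [Algebra K C] [CommRing C'] [Algebra K C']
    (φ : C →ₐ[K] C') : specOver K C' ⟶ specOver K C :=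
  Over.homMk (Spec.map (CommRingCat.ofHom φ.toRingHom)) (by
    simp [← Spec.map_comp, ← CommRingCat.ofHom_comp, AlgHom.comp_algebraMap])

theorem specHom_comp {C C' C'' : Type u} [CommRing C] [Algebra K C] [CommRing C'] [Algebra K C']
    [CommRing C''] [Algebra K C''] (φ : C →ₐ[K] C') (ψ : C' →ₐ[K] C'') :
    specHom ψ ≫ specHom φ = specHom (ψ.comp φ) := by
  ext1
  show Spec.map _ ≫ Spec.map _ = Spec.map _
  rw [← Spec.map_comp, ← CommRingCat.ofHom_comp]
  rfl

theorem exists_derivation_lift (B : Type u) [CommRing B] [Algebra K B]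
    (j : Spec (CommRingCat.of B) ⟶ G.left) [IsOpenImmersion j]
    (hj : j ≫ G.hom = Spec.map (CommRingCat.ofHom (algebraMap K B)))
    (χ : B →ₐ[K] K) (hχ : Spec.map (CommRingCat.ofHom χ.toRingHom) ≫ j = η[G].left)
    (l : B →ₗ[K] K) (hl1 : l 1 = 0) (hl : ∀ a ∈ RingHom.ker χ ^ 2, l a = 0) :
    ∃ D : Derivation K B B, ∀ b, D b - algebraMap K B (l b) ∈ RingHom.ker χ := by
  -- the tangent vector as a `K[ε]`-point
  have hlmul : ∀ a b, l (a * b) = χ a * l b + χ b * l a := by
    intro a b
    have h := hl ((a - algebraMap K B (χ a)) * (b - algebraMap K B (χ b))) (by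
      rw [pow_two]; exact Ideal.mul_mem_mul (by simp [RingHom.mem_ker]) (by simp [RingHom.mem_ker]))
    have e : (a - algebraMap K B (χ a)) * (b - algebraMap K B (χ b)) =
        a * b - χ a • b - χ b • a + (χ a * χ b) • (1 : B) := by
      simp [Algebra.smul_def]; ring
    rw [e] at h
    simp [hl1] at h
    linear_combination h
  let g : B →ₐ[K] DualNumber K := AlgHom.ofLinearMap
    ((TrivSqZeroExt.inlAlgHom K K K).toLinearMap ∘ₗ χ.toLinearMap + (TrivSqZeroExt.inrHom K K) ∘ₗ l)
    (by simp [hl1])
    (fun a b => by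
      ext
      · simp
      · simp [hlmul]; ring)
  -- the two points and their product
  let ι' : specOver K B ⟶ G := Over.homMk j hj
  let p₁ : specOver K (DualNumber B) ⟶ G := specHom (TrivSqZeroExt.inlAlgHom K B B) ≫ ι'
  let mapε : DualNumber K →ₐ[K] DualNumber B := DualNumber.lift ⟨⟨(TrivSqZeroExt.inlAlgHom K B B).comp (Algebra.ofId K B), DualNumber.eps⟩,
    by simp [DualNumber.eps_mul_eps], fun r => Commute.all _ _⟩
  let p₂ : specOver K (DualNumber B) ⟶ G := specHom mapε ≫ specHom g ≫ ι'
  let Ψ := p₁ * p₂
  let fstB : DualNumber B →ₐ[K] B := (TrivSqZeroExt.fstHom B B B).restrictScalars K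
  have hunit : specHom (K := K) χ ≫ ι' = (toUnit _ ≫ η[G]) := by
    ext1
    have : (toUnit (specOver K K)).left = 𝟙 _ := by
      have h := Over.w (toUnit (specOver K K))
      simpa [CommRingCat.ofHom_id] using h
    show Spec.map _ ≫ j = (toUnit (specOver K K)).left ≫ η[G].left
    rw [this, hχ]
    simp
  have hfst : specHom fstB ≫ Ψ = ι' := by
    rw [MonObj.comp_mul, ← Category.assoc, ← Category.assoc, ← Category.assoc, specHom_comp, specHom_comp,
      specHom_comp]
    have e1 : fstB.comp (TrivSqZeroExt.inlAlgHom K B B) = AlgHom.id K B := by ext b; simp [fstB]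
    have e2 : (fstB.comp mapε).comp g = (Algebra.ofId K B).comp χ := by
      ext b
      simp [fstB, mapε, g, TrivSqZeroExt.algebraMap_eq_inl']
    rw [e1, e2, ← specHom_comp, Category.assoc, hunit]
    have : specHom (AlgHom.id K B) = 𝟙 (specOver K B) := by ext1; simp
    rw [this, Category.id_comp, ← Category.assoc, toUnit_unique (specHom (Algebra.ofId K B) ≫ toUnit _) (toUnit _),
      MonObj.one_eq_one, MonObj.comp_one, _root_.mul_one]
  -- factor through the chart
  have hrange : Set.range Ψ.left ⊆ Set.range j := by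
    have hs : Function.Surjective (Spec.map (CommRingCat.ofHom fstB.toRingHom)) := by
      intro P
      refine ⟨⟨P.asIdeal.map fstB.toRingHom, ?_⟩, ?_⟩
      · have := P.isPrime
        refine Ideal.map_isPrime_of_surjective (fun b => ⟨TrivSqZeroExt.inl b, by simp [fstB]⟩) ?_
        intro x hx
        refine P.isPrime.mem_of_pow_mem 2 ?_
        have : x ^ 2 = 0 := by
          have hx0 : x.fst = 0 := by simpa [fstB, RingHom.mem_ker] using hx
          ext <;> simp [pow_two, hx0]
        simp [this]
      · apply PrimeSpectrum.ext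
        show Ideal.comap fstB.toRingHom (Ideal.map fstB.toRingHom P.asIdeal) = P.asIdeal
        refine (Ideal.comap_map_of_surjective fstB.toRingHom (fun b => ⟨TrivSqZeroExt.inl b, by simp [fstB]⟩) _).trans ?_
        rw [sup_eq_left]
        intro x hx
        refine P.isPrime.mem_of_pow_mem 2 ?_
        have : x ^ 2 = 0 := by
          have hx0 : x.fst = 0 := by simpa [fstB] using hx
          ext <;> simp [pow_two, hx0]
        simp [this]
    rintro _ ⟨P, rfl⟩
    obtain ⟨Q, rfl⟩ := hs P
    exact ⟨Q, by
      have := congrArg (fun f : specOver K B ⟶ G => f.left Q) hfst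
      simpa [ι'] using this.symm⟩
  obtain ⟨f, hf⟩ : ∃ f : Spec (CommRingCat.of (DualNumber B)) ⟶ Spec (CommRingCat.of B), f ≫ j = Ψ.left :=
    ⟨IsOpenImmersion.lift j Ψ.left hrange, IsOpenImmersion.lift_fac _ _ _⟩
  obtain ⟨φ, rfl⟩ := Spec.map_surjective f
  have hφK : ∀ c : K, φ.hom (algebraMap K B c) = algebraMap K (DualNumber B) c := by
    have h : Spec.map φ ≫ Spec.map (CommRingCat.ofHom (algebraMap K B)) =
        Spec.map (CommRingCat.ofHom (algebraMap K (DualNumber B))) := by
      rw [← hj, ← Category.assoc, hf]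
      exact Over.w Ψ
    rw [← Spec.map_comp] at h
    intro c
    exact congrArg (fun q => q.hom c) (Spec.map_injective h)
  let φ' : B →ₐ[K] DualNumber B := { φ.hom with commutes' := hφK }
  have hsecpt : fstB.comp φ' = AlgHom.id K B := by
    have h : Spec.map (CommRingCat.ofHom fstB.toRingHom) ≫ Spec.map φ = Spec.map (𝟙 (CommRingCat.of B)) := by
      rw [Spec.map_id, ← cancel_mono j, Category.assoc, hf, Category.id_comp]
      exact congrArg (fun q : specOver K B ⟶ G => q.left) hfst
    rw [← Spec.map_comp] at h
    ext b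
    exact congrArg (fun q => q.hom b) (Spec.map_injective h)
  have hsec : ∀ b, (φ' b).fst = b := fun b => AlgHom.congr_fun hsecpt b
  let D : Derivation K B B :=
    { toLinearMap := (TrivSqZeroExt.sndHom B B).restrictScalars K ∘ₗ φ'.toLinearMap
      map_one_eq_zero' := by simp
      leibniz' := fun a b => by
        simp [hsec]
        ring }
  refine ⟨D, fun b => ?_⟩
  -- evaluate at the unit
  let evε : DualNumber B →ₐ[K] DualNumber K := DualNumber.lift ⟨⟨(TrivSqZeroExt.inlAlgHom K K K).comp χ, DualNumber.eps⟩,
    by simp [DualNumber.eps_mul_eps], fun r => Commute.all _ _⟩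
  have hev : specHom evε ≫ Ψ = specHom g ≫ ι' := by
    rw [MonObj.comp_mul, ← Category.assoc, ← Category.assoc, ← Category.assoc, specHom_comp, specHom_comp,
      specHom_comp]
    have e1 : evε.comp (TrivSqZeroExt.inlAlgHom K B B) = (TrivSqZeroExt.inlAlgHom K K K).comp χ := by
      ext b <;> simp [evε]
    have e2 : (evε.comp mapε).comp g = g := by
      ext b <;> simp [evε, mapε, g, TrivSqZeroExt.algebraMap_eq_inl']
    rw [e1, e2, ← specHom_comp, Category.assoc, hunit, ← Category.assoc,
      toUnit_unique (specHom (TrivSqZeroExt.inlAlgHom K K K) ≫ toUnit _) (toUnit _),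
      MonObj.one_eq_one, MonObj.comp_one, _root_.one_mul]
  have hg : evε.comp φ' = g := by
    have h : Spec.map (CommRingCat.ofHom evε.toRingHom) ≫ Spec.map φ =
        Spec.map (CommRingCat.ofHom g.toRingHom) := by
      rw [← cancel_mono j, Category.assoc, hf]
      exact congrArg (fun q : specOver K (DualNumber K) ⟶ G => q.left) hev
    rw [← Spec.map_comp] at h
    ext b : 1
    exact congrArg (fun q => q.hom b) (Spec.map_injective h)
  have := congrArg TrivSqZeroExt.snd (AlgHom.congr_fun hg b)
  rw [RingHom.mem_ker, map_sub, AlgHom.commutes, sub_eq_zero]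
  simpa [evε, g, D, DualNumber.lift_apply_apply] using this

end Groth.Agent.GrpSchLib
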