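import Groth.Agent.MultTypeLib.TorsionDense
import Groth.Agent.GrpSchLib.QuasiFinitePow
import Mathlib.RingTheory.HopfAlgebra.Quotient
import Mathlib.RingTheory.Ideal.MinimalPrime.Noetherian

/-!
# The torsion of a group with an open subgroup of multiplicative type is schematically dense

Every coset of the open subgroup contains a point of finite order over an algebraically closed field; translation by
these points reduces the density to that of the subgroup.
-/

universe u

open TensorProduct WithConv Coalgebra Bialgebra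

namespace Groth.Agent.GrpSchLib.TorsionDenseOpen

open MultTypeLib

/-- Points with values in any algebra form a group. -/
noncomputable instance (priority := low) pointsGroup {R A B : Type*} [CommRing R] [CommRing A] [CommRing B]
    [HopfAlgebra R A] [Algebra R B] : Group (WithConv (A →ₐ[R] B)) :=
  { (inferInstance : Monoid (WithConv (A →ₐ[R] B))) with
    inv := fun f => toConv (f.ofConv.comp (HopfAlgebra.antipodeAlgHom R A))
    inv_mul_cancel := fun f => by
      have h : toConv (f.ofConv.comp (toConv (HopfAlgebra.antipodeAlgHom R A) * toConv (AlgHom.id R A)).ofConv) =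
          toConv (f.ofConv.comp (HopfAlgebra.antipodeAlgHom R A)) * toConv (f.ofConv.comp (AlgHom.id R A)) :=
        WithConv.ext (AlgHom.comp_convMul_distrib f.ofConv _ _)
      rw [AlgHom.antipode_id_cancel, AlgHom.comp_id] at h
      refine h.symm.trans (WithConv.ext (AlgHom.ext fun x => ?_))
      simp [AlgHom.convOne_def] }

section Semi

variable {k : Type u} [CommRing k] {L : Type u} [CommRing L] [Algebra k L] {C : Type u} [CommRing C] [HopfAlgebra k C]
  {M : Type u} [CommGroup M] (h : SemiBialgHom k L C (MonoidAlgebra L M))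

/-- The point defined by a character of `M`. -/
noncomputable def charPt (χ : M →* Lˣ) : WithConv (C →ₐ[k] L) :=
  toConv (((MonoidAlgebra.lift L L M ((Units.coeHom L).comp χ)).restrictScalars k).comp h.toAlgHom)

theorem charPt_mul (χ χ' : M →* Lˣ) : charPt h (χ * χ') = charPt h χ * charPt h χ' := by
  let U : (M →* Lˣ) → WithConv (MonoidAlgebra L M →ₗ[L] L) := fun η =>
    toConv (MonoidAlgebra.lift L L M ((Units.coeHom L).comp η)).toLinearMap
  have hU : U (χ * χ') = U χ * U χ' := by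
    refine WithConv.ext (LinearMap.ext fun x => ?_)
    induction x using MonoidAlgebra.induction_linear with
    | zero => simp
    | add x y hx hy => simp only [map_add, hx, hy]
    | single m r =>
      have e : MonoidAlgebra.single m r = r • MonoidAlgebra.single m (1 : L) := by simp
      rw [e, map_smul, map_smul, LinearMap.convMul_apply, comul_single_one]
      simp [U, MonoidAlgebra.lift_single]
  have h1 := congrArg h.pre hU
  rw [map_mul] at h1
  refine WithConv.ext (AlgHom.toLinearMap_injective ?_)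
  have h2 := congrArg WithConv.ofConv h1
  refine (Eq.trans ?_ h2).trans ?_
  · rfl
  · exact (congrArg WithConv.ofConv (AlgHom.toLinearMap_convMul (charPt h χ) (charPt h χ')).symm)

theorem charPt_one : charPt h 1 = 1 := by
  have h1 := charPt_mul h 1 1
  rw [show (1 : M →* Lˣ) * 1 = 1 from MonoidHom.ext fun _ => _root_.one_mul _] at h1
  exact (mul_eq_left.mp h1.symm)

/-- The group of points of the subgroup. -/
noncomputable def charHom : (M →* Lˣ) →* WithConv (C →ₐ[k] L) :=
  ⟨⟨charPt h, charPt_one h⟩, charPt_mul h⟩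

theorem hom_powConv (n : ℕ) (x : C) :
    (toConv h.toAlgHom ^ n).ofConv x = MonoidAlgebra.mapDomain (fun m => m ^ n) (h.toAlgHom x) := by
  have h1 := map_pow h.pre (toConv (LinearMap.id : MonoidAlgebra L M →ₗ[L] MonoidAlgebra L M)) n
  have h2 : ∀ y : MonoidAlgebra L M, ((toConv LinearMap.id) ^ n :
      WithConv (MonoidAlgebra L M →ₗ[L] MonoidAlgebra L M)).ofConv y = MonoidAlgebra.mapDomain (· ^ n) y := by
    intro y
    induction y using MonoidAlgebra.induction_linear with
    | zero => simp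
    | add y z hy hz => simp [map_add, MonoidAlgebra.mapDomain_add, hy, hz]
    | single x r =>
      have e : MonoidAlgebra.single x r = r • MonoidAlgebra.single x (1 : L) := by simp
      rw [MonoidAlgebra.mapDomain_single, e, map_smul, id_pow_single]
      simp
  rw [← h2]
  refine Eq.trans ?_ (congrArg (fun f : WithConv (C →ₗ[k] MonoidAlgebra L M) => f.ofConv x) h1).symm
  exact congrArg (fun f : WithConv (C →ₗ[k] MonoidAlgebra L M) => f.ofConv x)
    (AlgHom.toLinearMap_convPow (toConv h.toAlgHom) n)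

/-- A translate of the map to the subgroup. -/
noncomputable def trans (φ : WithConv (C →ₐ[k] L)) : C →ₐ[k] MonoidAlgebra L M :=
  (toConv h.toAlgHom * toConv ((IsScalarTower.toAlgHom k L (MonoidAlgebra L M)).comp φ.ofConv)).ofConv

theorem trans_torsion [Coalgebra.IsCocomm k C] (φ : WithConv (C →ₐ[k] L)) {d : ℕ} (hd : φ ^ d = 1) (n : ℕ) {x : C}
    (hx : x ∈ SGA3b.torsionIdeal k C (n * d)) :
    MonoidAlgebra.mapDomainRingHom L (prn n) (trans h φ x) = 0 := by
  let f : C →+* MonoidAlgebra L (M ⧸ (powMonoidHom n : M →* M).range) :=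
    (MonoidAlgebra.mapDomainRingHom L (prn n)).comp (trans h φ).toRingHom
  suffices hle : SGA3b.torsionIdeal k C (n * d) ≤ RingHom.ker f from hle hx
  rw [SGA3b.torsionIdeal, Ideal.map_le_iff_le_comap]
  intro b hb
  rw [Ideal.mem_comap, RingHom.mem_ker]
  show MonoidAlgebra.mapDomainRingHom L (prn n) (trans h φ (SGA3b.powConv k C (n * d) b)) = 0
  have h1 := congrArg (fun g : WithConv (C →ₐ[k] MonoidAlgebra L M) => g.ofConv b)
    (QuasiFinitePow.comp_powConv (trans h φ) (n * d))
  have h2 : toConv (trans h φ) ^ (n * d) = toConv h.toAlgHom ^ (n * d) := by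
    show (toConv h.toAlgHom * toConv _) ^ (n * d) = _
    rw [mul_pow, ← QuasiFinitePow.comp_powConv ((IsScalarTower.toAlgHom k L (MonoidAlgebra L M)).comp φ.ofConv)]
    have h3 : toConv ((φ.ofConv).comp (SGA3b.powConv k C (n * d))) = 1 := by
      rw [QuasiFinitePow.comp_powConv φ.ofConv (n * d)]
      show φ ^ (n * d) = 1
      rw [mul_comm, pow_mul, hd, one_pow]
    rw [AlgHom.comp_assoc, show φ.ofConv.comp (SGA3b.powConv k C (n * d)) = (1 : WithConv (C →ₐ[k] L)).ofConv from
      congrArg WithConv.ofConv h3]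
    have h4 : toConv ((IsScalarTower.toAlgHom k L (MonoidAlgebra L M)).comp (1 : WithConv (C →ₐ[k] L)).ofConv) = 1 := by
      refine WithConv.ext (AlgHom.ext fun y => ?_)
      simp [AlgHom.convOne_def, ← IsScalarTower.algebraMap_apply]
    rw [h4, mul_one]
  have h5 : trans h φ (SGA3b.powConv k C (n * d) b) = MonoidAlgebra.mapDomain (fun m => m ^ (n * d)) (h.toAlgHom b) := by
    refine h1.trans ?_
    rw [h2]
    exact hom_powConv h (n * d) b
  rw [h5]
  have key : ∀ y : MonoidAlgebra L M, MonoidAlgebra.mapDomainRingHom L (prn n)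
      (MonoidAlgebra.mapDomain (fun x : M => x ^ (n * d)) y) = algebraMap L _ (counit (R := L) y) := by
    intro y
    induction y using MonoidAlgebra.induction_linear with
    | zero => simp
    | add y z hy hz => simp only [MonoidAlgebra.mapDomain_add, map_add, hy, hz]
    | single m r =>
      rw [MonoidAlgebra.mapDomain_single]
      refine (MonoidAlgebra.mapDomain_single).trans ?_
      rw [show prn n (m ^ (n * d)) = (1 : M ⧸ (powMonoidHom n : M →* M).range) from
        (QuotientGroup.eq_one_iff _).mpr ⟨m ^ d, by rw [powMonoidHom_apply, ← pow_mul, mul_comm]⟩]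
      simp
  rw [key, h.counit_comp, show counit (R := k) b = counitAlgHom k C b from rfl, RingHom.mem_ker.mp hb,
    map_zero, map_zero]

end Semi

/-- Every character is a power up to a character of bounded order. -/
theorem exists_root {L : Type u} [Field L] [IsAlgClosed L] {M : Type u} [CommGroup M] [Group.FG M] {N : ℕ}
    (hN : 0 < N) (χ : M →* Lˣ) : ∃ χ₁ : M →* Lˣ, ∃ E, 0 < E ∧ (χ * (χ₁ ^ N)⁻¹) ^ E = 1 := by
  classical
  obtain ⟨ι, j, _, _, q, hq, e, ⟨f⟩⟩ := CommGroup.equiv_free_prod_prod_multiplicative_zmod M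
  let b : j → M := fun i => f.symm (Pi.mulSingle i (Multiplicative.ofAdd 1), 1)
  have hr : ∀ i, ∃ r : Lˣ, r ^ N = χ (b i) := fun i => by
    obtain ⟨r, hr⟩ := IsAlgClosed.exists_pow_nat_eq (χ (b i) : L) hN
    refine ⟨Units.mk0 r fun h0 => (χ (b i)).ne_zero ?_, Units.ext hr⟩
    rw [← hr, h0, zero_pow hN.ne']
  choose r hr using hr
  let g : (j → Multiplicative ℤ) →* Lˣ :=
    { toFun := fun v => ∏ i, r i ^ (Multiplicative.toAdd (v i))
      map_one' := by simp
      map_mul' := fun v w => by simp [zpow_add, Finset.prod_mul_distrib] }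
  let χ₁ : M →* Lˣ := g.comp ((MonoidHom.fst _ _).comp f.toMonoidHom)
  refine ⟨χ₁, ∏ i, q i ^ e i, Finset.prod_pos fun i _ => pow_pos (hq i).pos _, MonoidHom.ext fun x => ?_⟩
  rw [MonoidHom.pow_apply, ← map_pow]
  have hx : (f (x ^ ∏ i, q i ^ e i)).2 = 1 := by
    funext i
    rw [map_pow]
    show (f x).2 i ^ _ = 1
    apply Multiplicative.toAdd.injective
    rw [toAdd_pow, toAdd_one, nsmul_eq_mul,
      (ZMod.natCast_eq_zero_iff _ _).mpr (Finset.dvd_prod_of_mem (fun i => q i ^ e i) (Finset.mem_univ i)), zero_mul]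
  set v := (f (x ^ ∏ i, q i ^ e i)).1 with hv
  have hxv : x ^ (∏ i, q i ^ e i) = ∏ i, b i ^ (Multiplicative.toAdd (v i)) := by
    apply f.injective
    rw [map_prod]
    simp only [b, map_zpow, MulEquiv.apply_symm_apply]
    refine Prod.ext ?_ ?_
    · rw [← hv, Prod.fst_prod]
      funext i
      rw [Finset.prod_apply, Finset.prod_eq_single i]
      · simp [← ofAdd_zsmul]
      · intro l _ hl; simp [Pi.mulSingle_eq_of_ne' hl]
      · simp
    · rw [hx, Prod.snd_prod]
      simp
  have hb : ∀ i, χ₁ (b i) = r i := fun i => by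
    show g (f (f.symm _)).1 = _
    rw [MulEquiv.apply_symm_apply]
    show ∏ l, r l ^ _ = _
    rw [Finset.prod_eq_single i]
    · simp
    · intro l _ hl; simp [Pi.mulSingle_eq_of_ne hl]
    · simp
  rw [hxv, map_prod, MonoidHom.one_apply]
  refine Finset.prod_eq_one fun i _ => ?_
  rw [map_zpow, MonoidHom.mul_apply, MonoidHom.inv_apply, MonoidHom.pow_apply, hb, hr, mul_inv_cancel, one_zpow]

theorem finite_idempotents {A : Type u} [CommRing A] [IsNoetherianRing A] : Finite {x : A // IsIdempotentElem x} := by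
  haveI : Finite (minimalPrimes A) := (minimalPrimes.finite_of_isNoetherianRing A).to_subtype
  refine Finite.of_injective (fun x => {q : minimalPrimes A | x.1 ∈ q.1}) fun x y h => Subtype.ext ?_
  have hnil : IsNilpotent (x.1 - y.1) := by
    rw [← mem_nilradical, nilradical_eq_sInf, Submodule.mem_sInf]
    intro p hp
    haveI : Ideal.IsPrime p := hp
    obtain ⟨q, hq, hqp⟩ := Ideal.exists_minimalPrimes_le (show (⊥ : Ideal A) ≤ p from bot_le)
    have hiff : x.1 ∈ q ↔ y.1 ∈ q := Set.ext_iff.mp h ⟨q, hq⟩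
    haveI : Ideal.IsPrime q := hq.1.1
    have hz : ∀ z : A, IsIdempotentElem z → z ∉ q → 1 - z ∈ q := fun z hz hzq =>
      (Ideal.IsPrime.mem_or_mem (I := q) ‹_› (show z * (1 - z) ∈ q by
        rw [mul_sub, mul_one, hz.eq, sub_self]; exact q.zero_mem)).resolve_left hzq
    refine hqp ?_
    by_cases hx : x.1 ∈ q
    · exact q.sub_mem hx (hiff.mp hx)
    · simpa using q.sub_mem (hz _ y.2 fun h => hx (hiff.mpr h)) (hz _ x.2 hx)
  obtain ⟨N, hN⟩ := hnil
  have h3 : ∀ m, (x.1 - y.1) ^ (2 * m + 1) = x.1 - y.1 := fun m => by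
    induction m with
    | zero => simp
    | succ m ih =>
      rw [show 2 * (m + 1) + 1 = (2 * m + 1) + 2 by ring, pow_add, ih]
      calc (x.1 - y.1) * (x.1 - y.1) ^ 2 = x.1 * x.1 * x.1 - 3 * (x.1 * x.1) * y.1 + 3 * x.1 * (y.1 * y.1) - y.1 * y.1 * y.1 := by ring
        _ = x.1 - y.1 := by simp only [x.2.eq, y.2.eq]; ring
  exact sub_eq_zero.mp ((h3 N).symm.trans (pow_eq_zero_of_le (by omega) hN))

/-- The torsion is schematically dense. -/
theorem main {k : Type u} [Field k] {C : Type u} [CommRing C] [HopfAlgebra k C] [Coalgebra.IsCocomm k C]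
    [Algebra.FiniteType k C] (e : C) (he : IsIdempotentElem e) [(Ideal.span {e}).IsHopfIdeal k]
    (hG : SGA3b.IsMultType k (C ⧸ Ideal.span {e})) (a : C) :
    ⨅ n : {n : ℕ // 0 < n}, Ideal.map (algebraMap C (Localization.Away a)) (SGA3b.torsionIdeal k C n.1) = ⊥ := by
  classical
  obtain ⟨c⟩ := exists_cover hG
  obtain ⟨i, q, hq, -⟩ := c.surj ⊥ Ideal.isPrime_bot
  let P := c.split i
  haveI : Nontrivial P.S := nontrivial_of_ne 0 1 fun h => hq.ne_top (q.eq_top_iff_one.mpr (h ▸ q.zero_mem))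
  obtain ⟨m, hm⟩ := Ideal.exists_maximal P.S
  letI := Ideal.Quotient.field m
  let L := AlgebraicClosure (P.S ⧸ m)
  haveI : IsScalarTower k P.S L := IsScalarTower.of_algebraMap_eq fun r => by
    rw [IsScalarTower.algebraMap_apply k (P.S ⧸ m) L, IsScalarTower.algebraMap_apply P.S (P.S ⧸ m) L,
      ← IsScalarTower.algebraMap_apply k P.S (P.S ⧸ m)]
  haveI : Group.FG P.M := MonoidAlgebra.finiteType_iff_group_fg.mp
    ((inferInstance : Algebra.FiniteType P.S (P.S ⊗[k] (C ⧸ Ideal.span {e}))).equiv P.equiv)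
  let h : SemiBialgHom k L C (MonoidAlgebra L P.M) :=
    (P.homOver L).comp (SemiBialgHom.ofBialgHom (Bialgebra.Quotient.mkBialgHom (Ideal.span {e})))
  let incl : C →ₐ[k] L ⊗[k] C := Algebra.TensorProduct.includeRight
  let F₀ : L ⊗[k] C →ₐ[L] MonoidAlgebra L P.M :=
    (P.homOver L).extend.comp (Algebra.TensorProduct.map (AlgHom.id L L) (Ideal.Quotient.mkₐ k (Ideal.span {e})))
  have hF₀ : ∀ x, F₀ (1 ⊗ₜ x) = h.toAlgHom x := fun x => by
    show (P.homOver L).extend ((1 : L) ⊗ₜ Ideal.Quotient.mk (Ideal.span {e}) x) = _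
    rw [SemiBialgHom.extend_tmul, one_smul]
    rfl
  have hker : ∀ z, F₀ z = 0 → ∃ w, z = (1 ⊗ₜ e) * w := by
    intro z hz
    have h0 : Algebra.TensorProduct.map (AlgHom.id k L) (Ideal.Quotient.mkₐ k (Ideal.span {e})) z = 0 :=
      (P.extend_homOver_bijective L).1 (hz.trans (map_zero _).symm)
    have h1 : z ∈ RingHom.ker (Algebra.TensorProduct.map (AlgHom.id k L) (Ideal.Quotient.mkₐ k (Ideal.span {e}))) := h0
    rw [Algebra.TensorProduct.lTensor_ker _ (Ideal.Quotient.mkₐ_surjective k _),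
      show RingHom.ker (Ideal.Quotient.mkₐ k (Ideal.span {e})) = Ideal.span {e} from Ideal.Quotient.mkₐ_ker k _,
      Ideal.map_span, Set.image_singleton] at h1
    obtain ⟨w, hw⟩ := Ideal.mem_span_singleton.mp h1
    exact ⟨w, hw⟩
  have hsurj : Function.Surjective F₀ := fun y => by
    obtain ⟨z, hz⟩ := (P.extend_homOver_bijective L).2 y
    obtain ⟨w, hw⟩ := LinearMap.lTensor_surjective L
      (g := (Ideal.Quotient.mkₐ k (Ideal.span {e})).toLinearMap) (Ideal.Quotient.mkₐ_surjective k _) z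
    exact ⟨w, (congrArg _ hw).trans hz⟩
  -- points of the subgroup
  let G : Subgroup (WithConv (C →ₐ[k] L)) := (charHom h).range
  have hG0 : ∀ φ, φ ∈ G ↔ φ.ofConv e = 0 := by
    intro φ
    constructor
    · rintro ⟨χ, rfl⟩
      show (MonoidAlgebra.lift L L P.M _) (h.toAlgHom e) = 0
      have : h.toAlgHom e = 0 := by
        show (P.homOver L).toAlgHom (Ideal.Quotient.mk _ e) = 0
        rw [Ideal.Quotient.eq_zero_iff_mem.mpr (Ideal.mem_span_singleton_self e), map_zero]
      rw [this, map_zero]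
    · intro hφ
      let φ' : L ⊗[k] C →ₐ[L] L := Algebra.TensorProduct.lift (AlgHom.id L L) φ.ofConv fun _ _ => .all _ _
      have hφk : RingHom.ker F₀ ≤ RingHom.ker φ' := fun z hz => by
        obtain ⟨w, rfl⟩ := hker z hz
        rw [RingHom.mem_ker, map_mul, Algebra.TensorProduct.lift_tmul, hφ, mul_zero, zero_mul]
      let g : MonoidAlgebra L P.M →ₐ[L] L :=
        (Ideal.Quotient.liftₐ _ φ' fun z hz => hφk hz).comp
          (Ideal.quotientKerAlgEquivOfSurjective hsurj).symm.toAlgHom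
      have hg : ∀ z, g (F₀ z) = φ' z := fun z => by
        show Ideal.Quotient.liftₐ (RingHom.ker F₀) φ' (fun z hz => hφk hz) ((Ideal.quotientKerAlgEquivOfSurjective hsurj).symm (F₀ z)) = _
        rw [show (Ideal.quotientKerAlgEquivOfSurjective hsurj).symm (F₀ z) = Ideal.Quotient.mk _ z from
          (AlgEquiv.symm_apply_eq _).mpr rfl]
        rfl
      obtain ⟨χ, hχ⟩ : ∃ χ : P.M →* Lˣ, MonoidAlgebra.lift L L P.M ((Units.coeHom L).comp χ) = g := by
        refine ⟨((g : MonoidAlgebra L P.M →* L).comp (MonoidAlgebra.of L P.M)).toHomUnits, ?_⟩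
        refine MonoidAlgebra.algHom_ext (fun x => ?_) (Subsingleton.elim _ _)
        simp [MonoidAlgebra.of_apply]
      refine ⟨χ, WithConv.ext (AlgHom.ext fun x => ?_)⟩
      show (MonoidAlgebra.lift L L P.M _) (h.toAlgHom x) = _
      rw [hχ, ← hF₀, hg, Algebra.TensorProduct.lift_tmul, map_one, one_mul]
  -- translations
  let T : WithConv (C →ₐ[k] L) → (C →ₐ[k] L ⊗[k] C) := fun φ =>
    (toConv incl * toConv ((IsScalarTower.toAlgHom k L (L ⊗[k] C)).comp φ.ofConv)).ofConv
  let T' : WithConv (C →ₐ[k] L) → (L ⊗[k] C →ₐ[L] L ⊗[k] C) := fun φ =>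
    Algebra.TensorProduct.lift (Algebra.ofId L _) (T φ) fun _ _ => .all _ _
  have hTT : ∀ φ ψ : WithConv (C →ₐ[k] L), ((T' φ).restrictScalars k).comp (T ψ) = T (φ * ψ) := by
    intro φ ψ
    show ((T' φ).restrictScalars k).comp (toConv incl * toConv _).ofConv = _
    rw [AlgHom.comp_convMul_distrib]
    have h1 : ((T' φ).restrictScalars k).comp incl = T φ := AlgHom.ext fun x => by simp [T', incl]
    have h2 : ((T' φ).restrictScalars k).comp ((IsScalarTower.toAlgHom k L (L ⊗[k] C)).comp ψ.ofConv) =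
        (IsScalarTower.toAlgHom k L (L ⊗[k] C)).comp ψ.ofConv := AlgHom.ext fun x => (T' φ).commutes _
    rw [h1, h2]
    refine congrArg WithConv.ofConv ?_
    show (toConv incl * toConv _) * toConv _ = _
    rw [mul_assoc]
    refine congrArg _ ?_
    exact WithConv.ext (AlgHom.comp_convMul_distrib (IsScalarTower.toAlgHom k L (L ⊗[k] C)) φ ψ).symm
  have hT1 : T 1 = incl := by
    have h1 : toConv ((IsScalarTower.toAlgHom k L (L ⊗[k] C)).comp (1 : WithConv (C →ₐ[k] L)).ofConv) = 1 := by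
      refine WithConv.ext (AlgHom.ext fun y => ?_)
      simp [AlgHom.convOne_def, ← IsScalarTower.algebraMap_apply]
    show (toConv incl * _).ofConv = _
    rw [h1, mul_one]
  have hTval : ∀ φ ψ : WithConv (C →ₐ[k] L), ∀ x,
      Algebra.TensorProduct.lift (AlgHom.id L L) ψ.ofConv (fun _ _ => .all _ _) (T φ x) = (ψ * φ).ofConv x := by
    intro φ ψ x
    let ev : L ⊗[k] C →ₐ[k] L :=
      (Algebra.TensorProduct.lift (AlgHom.id L L) ψ.ofConv fun _ _ => .all _ _).restrictScalars k
    show ev.comp (toConv incl * toConv _).ofConv x = _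
    rw [AlgHom.comp_convMul_distrib]
    have h1 : ev.comp incl = ψ.ofConv := AlgHom.ext fun x => by simp [ev, incl]
    have h2 : ev.comp ((IsScalarTower.toAlgHom k L (L ⊗[k] C)).comp φ.ofConv) = φ.ofConv :=
      AlgHom.ext fun x => AlgHom.commutes (Algebra.TensorProduct.lift (AlgHom.id L L) ψ.ofConv fun _ _ => .all _ _) _
    rw [h1, h2]
  have hidem : ∀ φ, IsIdempotentElem (T φ e) := fun φ => he.map (T φ)
  haveI : IsNoetherianRing (L ⊗[k] C) := Algebra.FiniteType.isNoetherianRing L _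
  haveI : Finite {x : L ⊗[k] C // IsIdempotentElem x} := finite_idempotents
  haveI hfin : Finite (WithConv (C →ₐ[k] L) ⧸ G) := by
    refine Finite.of_injective (fun x => (⟨T x.out e, hidem _⟩ : {x : L ⊗[k] C // IsIdempotentElem x})) fun x y hxy => ?_
    have h1 := congrArg
      (Algebra.TensorProduct.lift (AlgHom.id L L) (x.out)⁻¹.ofConv (fun _ _ => .all _ _)) (Subtype.ext_iff.mp hxy)
    simp only [hTval] at h1
    rw [inv_mul_cancel, (hG0 1).mp (one_mem G)] at h1
    rw [← QuotientGroup.out_eq' x, ← QuotientGroup.out_eq' y]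
    exact QuotientGroup.eq.mpr ((hG0 _).mpr h1.symm)
  let N := Nat.card (WithConv (C →ₐ[k] L) ⧸ G)
  have hN : 0 < N := Nat.card_pos
  have hrep : ∀ x : WithConv (C →ₐ[k] L) ⧸ G, ∃ φ : WithConv (C →ₐ[k] L), QuotientGroup.mk φ = x ∧
      ∃ d, 0 < d ∧ φ ^ d = 1 := by
    intro x
    obtain ⟨φ, rfl⟩ := QuotientGroup.mk_surjective x
    obtain ⟨χ, hχ⟩ : φ ^ N ∈ G := (QuotientGroup.eq_one_iff _).mp (by
      rw [QuotientGroup.mk_pow]; exact pow_card_eq_one')
    obtain ⟨χ₁, E, hE, hroot⟩ := exists_root hN χ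
    refine ⟨φ * (charHom h χ₁)⁻¹, ?_, N * E, Nat.mul_pos hN hE, ?_⟩
    · rw [QuotientGroup.mk_mul, (QuotientGroup.eq_one_iff _).mpr (inv_mem (show charHom h χ₁ ∈ G from ⟨χ₁, rfl⟩)), mul_one]
    · rw [pow_mul, mul_pow, ← hχ, inv_pow, ← map_pow (charHom h), ← map_inv, ← map_mul, ← map_pow, hroot, map_one]
  choose φ hφ d hd hφd using hrep
  -- the statement
  rw [eq_bot_iff]
  intro z hz
  obtain ⟨y, ⟨_, l, rfl⟩, rfl⟩ := IsLocalization.exists_mk'_eq (Submonoid.powers a) z
  have hy : ∀ n : ℕ, 0 < n → ∃ m, a ^ m * y ∈ SGA3b.torsionIdeal k C n := fun n hn => by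
    have h1 := (Submodule.mem_iInf _).mp hz ⟨n, hn⟩
    rw [IsLocalization.mk'_mem_map_algebraMap_iff (Submonoid.powers a)] at h1
    obtain ⟨_, ⟨m, rfl⟩, hm⟩ := h1
    exact ⟨m, hm⟩
  have hex : ∀ x, ∃ M', trans h (φ x) (a ^ M' * y) = 0 := fun x => by
    obtain ⟨M', hM'⟩ := TorsionDense.main (trans h (φ x) a) (trans h (φ x) y) fun n hn => by
      obtain ⟨m, hm⟩ := hy _ (Nat.mul_pos hn (hd x))
      refine ⟨m, ?_⟩
      rw [← map_pow, ← map_mul]
      exact trans_torsion h (φ x) (hφd x) n hm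
    exact ⟨M', by rw [map_mul, map_pow, hM']⟩
  choose M' hM' using hex
  haveI := Fintype.ofFinite (WithConv (C →ₐ[k] L) ⧸ G)
  rw [Submodule.mem_bot, IsLocalization.mk'_eq_zero_iff]
  refine ⟨⟨a ^ ∑ x, M' x, _, rfl⟩, ?_⟩
  show a ^ (∑ x, M' x) * y = 0
  set x₀ := a ^ (∑ x, M' x) * y
  have hkill : ∀ x, trans h (φ x) x₀ = 0 := fun x => by
    obtain ⟨r, hr⟩ := Nat.exists_eq_add_of_le (Finset.single_le_sum (fun i _ => Nat.zero_le (M' i)) (Finset.mem_univ x))
    rw [show x₀ = a ^ r * (a ^ M' x * y) by simp only [x₀]; rw [hr, pow_add]; ring, map_mul, hM', mul_zero]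
  have hfix : ∀ x, (1 : L) ⊗ₜ[k] x₀ = T (φ x)⁻¹ e * (1 ⊗ₜ x₀) := by
    intro x
    have h1 : F₀ (T (φ x) x₀) = trans h (φ x) x₀ := by
      show ((F₀.restrictScalars k).comp (toConv incl * toConv _).ofConv) x₀ = _
      rw [AlgHom.comp_convMul_distrib]
      have h2 : (F₀.restrictScalars k).comp incl = h.toAlgHom := AlgHom.ext hF₀
      have h3 : (F₀.restrictScalars k).comp ((IsScalarTower.toAlgHom k L (L ⊗[k] C)).comp (φ x).ofConv) =
          (IsScalarTower.toAlgHom k L (MonoidAlgebra L P.M)).comp (φ x).ofConv := AlgHom.ext fun y => F₀.commutes _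
      rw [h2, h3]
      rfl
    obtain ⟨w, hw⟩ := hker _ (h1.trans (hkill x))
    have h4 : T' (φ x)⁻¹ (T (φ x) x₀) = 1 ⊗ₜ x₀ := by
      refine (AlgHom.congr_fun (hTT (φ x)⁻¹ (φ x)) x₀).trans ?_
      rw [inv_mul_cancel, hT1]
      rfl
    have h5 : T' (φ x)⁻¹ ((1 : L) ⊗ₜ[k] e) = T (φ x)⁻¹ e := by
      rw [Algebra.TensorProduct.lift_tmul, map_one, _root_.one_mul]
    rw [hw, map_mul, h5] at h4
    rw [← h4, ← mul_assoc, (hidem _).eq]
  have hprod : ∀ s : Finset (WithConv (C →ₐ[k] L) ⧸ G),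
      (1 : L) ⊗ₜ[k] x₀ = (∏ x ∈ s, T (φ x)⁻¹ e) * (1 ⊗ₜ x₀) := fun s => by
    induction s using Finset.induction with
    | empty => rw [Finset.prod_empty, one_mul]
    | insert b s hb ih => rw [Finset.prod_insert hb, mul_assoc, ← ih, ← hfix]
  set pr := ∏ x, T (φ x)⁻¹ e with hpr
  have hnil : IsNilpotent pr := by
    haveI : IsJacobsonRing (L ⊗[k] C) := isJacobsonRing_of_finiteType (A := L)
    rw [← mem_nilradical, nilradical, Ideal.radical_eq_jacobson, Ideal.jacobson, Submodule.mem_sInf]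
    rintro M₀ ⟨-, hM₀⟩
    haveI : Ideal.IsMaximal M₀ := hM₀
    letI := Ideal.Quotient.field M₀
    haveI : Module.Finite L ((L ⊗[k] C) ⧸ M₀) := finite_of_finite_type_of_isJacobsonRing L _
    let eb : L ≃ₐ[L] (L ⊗[k] C) ⧸ M₀ := AlgEquiv.ofBijective (Algebra.ofId L _)
      (IsAlgClosed.algebraMap_bijective_of_isIntegral (k := L) (K := (L ⊗[k] C) ⧸ M₀))
    let ev : L ⊗[k] C →ₐ[L] L := eb.symm.toAlgHom.comp (Ideal.Quotient.mkₐ L M₀)
    let ψ : WithConv (C →ₐ[k] L) := toConv ((ev.restrictScalars k).comp incl)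
    have hev : Algebra.TensorProduct.lift (AlgHom.id L L) ψ.ofConv (fun _ _ => .all _ _) = ev :=
      Algebra.TensorProduct.ext (Subsingleton.elim _ _) (AlgHom.ext fun y => by simp [ψ, incl])
    have h0 : ev (T (φ (QuotientGroup.mk ψ))⁻¹ e) = 0 := by
      rw [← hev, hTval]
      refine (hG0 _).mp ((QuotientGroup.eq_one_iff _).mp ?_)
      rw [QuotientGroup.mk_mul, QuotientGroup.mk_inv, hφ, mul_inv_cancel]
    have h1 : T (φ (QuotientGroup.mk ψ))⁻¹ e ∈ M₀ := by
      have h2 : eb.symm (Ideal.Quotient.mk M₀ (T (φ (QuotientGroup.mk ψ))⁻¹ e)) = 0 := h0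
      rw [map_eq_zero_iff _ eb.symm.injective] at h2
      exact Ideal.Quotient.eq_zero_iff_mem.mp h2
    rw [hpr, ← Finset.mul_prod_erase _ _ (Finset.mem_univ (QuotientGroup.mk ψ))]
    exact Ideal.mul_mem_right _ _ h1
  obtain ⟨K, hK⟩ := hnil
  have hpow : ∀ n : ℕ, (1 : L) ⊗ₜ[k] x₀ = pr ^ n * (1 ⊗ₜ x₀) := fun n => by
    induction n with
    | zero => rw [pow_zero, one_mul]
    | succ n ih => rw [pow_succ, mul_assoc, ← hprod Finset.univ, ← ih]
  have h0 := hpow K
  rw [hK, zero_mul] at h0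
  exact Algebra.TensorProduct.includeRight_injective (algebraMap k L).injective (h0.trans (map_zero incl).symm)

end Groth.Agent.GrpSchLib.TorsionDenseOpen
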