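import Groth.Agent.GrpSchLib.Action
import Groth.Agent.GrpSchLib.WordSeries
import Groth.Agent.GrpSchLib.TorsorDevissage
import Groth.Agent.SmoothSecLib.Basic
import Groth.Agent.SchTorsor.Basic
import Groth.Agent.DSPtsLib.Basic
import Groth.Agent.TorusQI.TorsionChar
import Mathlib.FieldTheory.Normal.Closure
import Mathlib.FieldTheory.SeparableClosure
import Mathlib.AlgebraicGeometry.Morphisms.LocalFlatDescent

/-! A norm map from a torsor to the group. -/

set_option autoImplicit false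
set_option backward.isDefEq.respectTransparency false
set_option backward.isDefEq.respectTransparency.types false
set_option linter.style.haveILetI false
set_option maxHeartbeats 1000000

universe u

open CategoryTheory CategoryTheory.Limits MonoidalCategory CartesianMonoidalCategory MonObj AlgebraicGeometry
open Groth.Agent.SchTorsor

namespace Groth.Agent.GrpSchLib.TorsorNorm

variable {k : Type u} [Field k]


/-- The spectrum of an extension. -/
noncomputable abbrev spec (k : Type u) [Field k] (L : Type u) [CommRing L] [Algebra k L] : Over (Spec (CommRingCat.of k)) :=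
  Over.mk (Spec.map (CommRingCat.ofHom (algebraMap k L)))

theorem exists_algHom {L M : Type u} [CommRing L] [Algebra k L] [CommRing M] [Algebra k M] (f : spec k M ⟶ spec k L) :
    ∃ φ : L →ₐ[k] M, f.left = Spec.map (CommRingCat.ofHom φ.toRingHom) := by
  obtain ⟨φ, hφ⟩ := Spec.map_surjective f.left
  have h := Over.w f
  rw [← hφ] at h
  change Spec.map φ ≫ Spec.map _ = Spec.map _ at h
  rw [← Spec.map_comp] at h
  exact ⟨{ φ.hom with commutes' := fun c => congrArg (fun g => g.hom c) (Spec.map_injective h) }, hφ.symm⟩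

variable {G V : Over (Spec (CommRingCat.of k))} [GrpObj G] (a : AlgGrp.Action G V) [IsIso (lift a.act (snd G V))]

theorem exists_aut {L Ω : Type u} [Field L] [Algebra k L] [Normal k L] [Field Ω] [Algebra k Ω]
    (f₁ f₂ : L →ₐ[k] Ω) : ∃ τ₀ : L ≃ₐ[k] L, ∀ x, f₁ (τ₀ x) = f₂ x := by
  letI : Algebra L Ω := f₁.toRingHom.toAlgebra
  haveI : IsScalarTower k L Ω := IsScalarTower.of_algebraMap_eq fun c => (f₁.commutes c).symm
  exact ⟨f₂.restrictNormal' L, f₂.restrictNormal_commutes L⟩

/-- The difference of two points of a torsor. -/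
noncomputable def dif : V ⊗ V ⟶ G := inv (lift a.act (snd G V)) ≫ fst G V

theorem dif_act {T : Over (Spec (CommRingCat.of k))} (g : T ⟶ G) (v : T ⟶ V) : lift (lift g v ≫ a.act) v ≫ dif a = g := by
  have e := CartesianMonoidalCategory.comp_lift (lift g v) a.act (snd G V)
  rw [lift_snd g v] at e
  rw [← e, dif, Category.assoc, IsIso.hom_inv_id_assoc, lift_fst]

theorem act_dif {T : Over (Spec (CommRingCat.of k))} (v w : T ⟶ V) : lift (lift v w ≫ dif a) w ≫ a.act = v := by
  generalize hp : lift v w ≫ inv (lift a.act (snd G V)) = p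
  have e := CartesianMonoidalCategory.comp_lift p a.act (snd G V)
  have h : lift (p ≫ a.act) (p ≫ snd G V) = lift v w := by
    rw [← e, ← hp, Category.assoc, IsIso.inv_hom_id, Category.comp_id]
  have h1 : p ≫ a.act = v := by
    rw [← lift_fst (p ≫ a.act) (p ≫ snd G V), h, lift_fst]
  have h2 : p ≫ snd G V = w := by
    rw [← lift_snd (p ≫ a.act) (p ≫ snd G V), h, lift_snd]
  have e' : lift v w ≫ dif a = p ≫ fst G V := by rw [← hp, dif, Category.assoc]
  have e'' := CartesianMonoidalCategory.comp_lift p (fst G V) (snd G V)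
  rw [lift_fst_snd, Category.comp_id] at e''
  rw [e', ← h2, ← e'', h1]

theorem dif_mul {T : Over (Spec (CommRingCat.of k))} (g : T ⟶ G) (v w : T ⟶ V) :
    lift (lift g v ≫ a.act) w ≫ dif a = g * (lift v w ≫ dif a) := by
  conv_lhs => rw [← act_dif a v w, GrpSchLib.act_mul]
  exact dif_act a _ w

theorem exists_norm [IsCommMonObj G] [Smooth G.hom] [LocallyOfFiniteType V.hom] [QuasiCompact V.hom] [Nonempty V.left] :
    ∃ (φ : V ⟶ G) (n : ℕ), 0 < n ∧
      ∀ (T : Over (Spec (CommRingCat.of k))) (g : T ⟶ G) (v : T ⟶ V), lift g v ≫ a.act ≫ φ = (v ≫ φ) * g ^ n := by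
  classical
  haveI : Surjective V.hom :=
    ⟨fun y => ⟨Classical.arbitrary V.left, @Subsingleton.elim (PrimeSpectrum k) _ _ _⟩⟩
  haveI : IsIso (lift a.act (snd G V)).left := ((Over.forget _).mapIso (asIso (lift a.act (snd G V)))).isIso_hom
  haveI : Smooth (pullback.snd V.hom V.hom) := by
    have e : snd V V = inv (lift a.act (snd G V)) ≫ snd G V := by
      rw [IsIso.eq_inv_comp, lift_snd]
    haveI : IsIso (inv (lift a.act (snd G V))).left := ((Over.forget _).mapIso (asIso (lift a.act (snd G V))).symm).isIso_hom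
    haveI : Smooth (snd G V).left := inferInstanceAs (Smooth (pullback.snd G.hom V.hom))
    show Smooth (snd V V).left
    rw [e, Over.comp_left]
    infer_instance
  haveI : Flat V.hom := inferInstance
  haveI : Smooth V.hom := MorphismProperty.of_isPullback_of_descendsAlong (P := @Smooth)
    (Q := @Surjective ⊓ @Flat ⊓ @QuasiCompact) (f := V.hom) (g := V.hom)
    (IsPullback.of_hasPullback V.hom V.hom).flip ⟨⟨inferInstance, inferInstance⟩, inferInstance⟩ ‹_›
  -- a point with values in a Galois extension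
  obtain ⟨k', _, _, _, _, t, ht, -⟩ :=
    SmoothSecLib.exists_separable_point V.hom ⊤ (x := Classical.arbitrary V.left) trivial
  let Ω := AlgebraicClosure k
  let L : IntermediateField k Ω := IntermediateField.normalClosure k k' Ω
  haveI : Algebra.IsSeparable k L := (le_separableClosure_iff k Ω L).mp (by
    refine iSup_le fun f => ?_
    rintro _ ⟨x, rfl⟩
    exact (mem_separableClosure_iff (F := k)).mpr (IsSeparable.map f f.injective (Algebra.IsSeparable.isSeparable k x)))
  haveI : Normal k L := inferInstance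
  haveI : FiniteDimensional k L := inferInstance
  let e₀ : k' →ₐ[k] Ω := IsAlgClosed.lift
  let e : k' →ₐ[k] L := e₀.codRestrict L.toSubalgebra fun x => e₀.fieldRange_le_normalClosure ⟨x, rfl⟩
  let Y := spec k L
  let y : Y ⟶ V := Over.homMk (Spec.map (CommRingCat.ofHom e.toRingHom) ≫ t) (by
    rw [Category.assoc, ht, ← Spec.map_comp]
    exact congrArg Spec.map (CommRingCat.hom_ext e.comp_algebraMap))
  let sY : (L ≃ₐ[k] L) → (Y ⟶ Y) := fun τ => Over.homMk (Spec.map (CommRingCat.ofHom τ.toAlgHom.toRingHom)) (by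
    show Spec.map _ ≫ Spec.map _ = Spec.map _
    rw [← Spec.map_comp]
    exact congrArg Spec.map (CommRingCat.hom_ext τ.toAlgHom.comp_algebraMap))
  let φ₀ : V ⊗ Y ⟶ G := ∏ τ : L ≃ₐ[k] L, lift (fst V Y) (snd V Y ≫ sY τ ≫ y) ≫ dif a
  have hcomp : ∀ {T : Over (Spec (CommRingCat.of k))} (v : T ⟶ V) (s : T ⟶ Y),
      lift v s ≫ φ₀ = ∏ τ : L ≃ₐ[k] L, lift v (s ≫ sY τ ≫ y) ≫ dif a := fun {T} v s => by
    let ψ : (V ⊗ Y ⟶ G) →* (T ⟶ G) := MonoidHom.mk' (lift v s ≫ ·) fun f g => MonObj.comp_mul _ f g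
    show ψ φ₀ = _
    rw [map_prod]
    refine Finset.prod_congr rfl fun τ _ => ?_
    show lift v s ≫ lift (fst V Y) (snd V Y ≫ sY τ ≫ y) ≫ dif a = _
    rw [← Category.assoc (lift v s), comp_lift, lift_fst, lift_snd_assoc]
  let pt := spec k Ω
  -- two points of the extension differ by an automorphism
  have hpts : ∀ s₁ s₂ : pt ⟶ Y, ∃ τ₀ : L ≃ₐ[k] L, ∀ τ, s₂ ≫ sY τ = s₁ ≫ sY (τ₀ * τ) := fun s₁ s₂ => by
    obtain ⟨f₁, h₁⟩ := exists_algHom s₁
    obtain ⟨f₂, h₂⟩ := exists_algHom s₂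
    obtain ⟨τ₀, h₀⟩ := exists_aut f₁ f₂
    refine ⟨τ₀, fun τ => ?_⟩
    refine Over.OverMorphism.ext ?_
    rw [Over.comp_left, Over.comp_left, h₁, h₂]
    show Spec.map _ ≫ Spec.map _ = Spec.map _ ≫ Spec.map _
    rw [← Spec.map_comp, ← Spec.map_comp]
    refine congrArg Spec.map (CommRingCat.hom_ext (RingHom.ext fun x => ?_))
    exact (h₀ (τ x)).symm
  have hinv : ∀ (v : pt ⟶ V) (s₁ s₂ : pt ⟶ Y), lift v s₁ ≫ φ₀ = lift v s₂ ≫ φ₀ := fun v s₁ s₂ => by
    obtain ⟨τ₀, hτ⟩ := hpts s₁ s₂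
    rw [hcomp, hcomp]
    refine (Fintype.prod_equiv (Equiv.mulLeft τ₀) _ _ fun τ => ?_).symm
    rw [← Category.assoc s₂, hτ, Category.assoc]
    rfl
  -- descent
  haveI : Nonempty Y.left := inferInstanceAs (Nonempty (Spec (CommRingCat.of L)))
  haveI : Smooth Y.hom := by
    show Smooth (Spec.map (CommRingCat.ofHom (algebraMap k L)))
    rw [HasRingHomProperty.Spec_iff (P := @Smooth)]
    haveI : Algebra.Etale k L := ⟨Algebra.FormallyEtale.of_isSeparable k L, Algebra.FinitePresentation.of_finiteType.mp inferInstance⟩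
    exact RingHom.smooth_algebraMap.mpr (inferInstanceAs (Algebra.Smooth k L))
  have hY := TorsorDevissage.isLocallyTrivial_of_nonempty Y
  have hls : ∀ Z : Over (Spec (CommRingCat.of k)), TopDescent.HasLocSec Scheme.fpqcTopology (fst Z Y) := fun Z =>
    hasLocSec_of_points _ hY fun T z s => ⟨lift z s, lift_fst _ _⟩
  haveI : Smooth (V ⊗ Y).hom := inferInstanceAs (Smooth (pullback.fst V.hom Y.hom ≫ V.hom))
  haveI : Smooth ((V ⊗ Y) ⊗ Y).hom := inferInstanceAs (Smooth (pullback.fst (V ⊗ Y).hom Y.hom ≫ (V ⊗ Y).hom))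
  have hagree : (fst (V ⊗ Y) Y ≫ φ₀) = lift (fst (V ⊗ Y) Y ≫ fst V Y) (snd (V ⊗ Y) Y) ≫ φ₀ := by
    refine mul_inv_eq_one.mp (WordSeries.eq_one_of_points (Ω := Ω) _ fun s => ?_)
    rw [MonObj.comp_mul, GrpObj.comp_inv, ← Category.assoc s (fst (V ⊗ Y) Y),
      ← lift_comp_fst_snd (s ≫ fst (V ⊗ Y) Y), ← Category.assoc s (lift _ _), comp_lift]
    simp only [Category.assoc]
    rw [hinv _ (s ≫ fst (V ⊗ Y) Y ≫ snd V Y) (s ≫ snd (V ⊗ Y) Y), mul_inv_cancel]
  obtain ⟨φ, hφ, -⟩ := (hls V).existsUnique_desc φ₀ (fun T p q hpq => by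
    have h := congrArg (lift p (q ≫ snd V Y) ≫ ·) hagree
    simp only [← Category.assoc, lift_fst, comp_lift, lift_snd] at h
    rw [h, hpq]
    congr 1
    exact lift_comp_fst_snd q)
  refine ⟨φ, Fintype.card (L ≃ₐ[k] L), Fintype.card_pos, fun T g v => ?_⟩
  have huniv : a.act ≫ φ = (snd G V ≫ φ) * (fst G V) ^ Fintype.card (L ≃ₐ[k] L) := by
    refine (hls (G ⊗ V)).hom_ext ?_
    refine mul_inv_eq_one.mp ?_
    haveI : Smooth (G ⊗ V).hom := inferInstanceAs (Smooth (pullback.fst G.hom V.hom ≫ G.hom))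
    haveI : Smooth ((G ⊗ V) ⊗ Y).hom := inferInstanceAs (Smooth (pullback.fst (G ⊗ V).hom Y.hom ≫ (G ⊗ V).hom))
    refine WordSeries.eq_one_of_points (Ω := Ω) _ fun s => ?_
    rw [MonObj.comp_mul, GrpObj.comp_inv, mul_inv_eq_one]
    let g := s ≫ fst (G ⊗ V) Y ≫ fst G V
    let v := s ≫ fst (G ⊗ V) Y ≫ snd G V
    let t' := s ≫ snd (G ⊗ V) Y
    have hv : ∀ w : pt ⟶ V, lift w t' ≫ φ₀ = w ≫ φ := fun w => by rw [← hφ, lift_fst_assoc]
    have hl : s ≫ fst (G ⊗ V) Y = lift g v := (lift_comp_fst_snd _).symm.trans (by simp only [g, v, Category.assoc])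
    simp only [MonObj.comp_mul, TorusQI.comp_npow, ← Category.assoc]
    simp only [hl, Category.assoc, lift_fst]
    rw [lift_snd_assoc, ← Category.assoc, ← hv, ← hv, hcomp, hcomp]
    simp only [dif_mul]
    rw [Finset.prod_mul_distrib, Finset.prod_const, Finset.card_univ, _root_.mul_comm]
  have h := congrArg (lift g v ≫ ·) huniv
  simpa [MonObj.comp_mul, TorusQI.comp_npow] using h

end Groth.Agent.GrpSchLib.TorsorNorm
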