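import Groth.Agent.GrpSchLib.SplitTorusPoints
import Groth.Agent.GrpSchLib.DiagSubgroupTrivial
import Groth.Agent.GrpSchLib.DiagActionRigid
import Groth.Agent.GrpSchLib.FixedAffine
import Groth.Agent.GrpSchLib.Action

/-! The stabilisers of a faithful action of a diagonalisable group are trivial near the generic point. -/

set_option autoImplicit false
set_option backward.isDefEq.respectTransparency false
set_option backward.isDefEq.respectTransparency.types false
set_option linter.style.haveILetI false
set_option maxHeartbeats 1000000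

universe u

open CategoryTheory Limits AlgebraicGeometry MonoidalCategory CartesianMonoidalCategory MonObj GrpObj

namespace Groth.Agent.GrpSchLib.TorusStabGeneric

open Kunneth AffineHopf SplitTorusPoints DiagSubgroupTrivial

variable {k : Type u} [Field k] {M : Type} [AddCommGroup M]

/-- The point of `D(M)` given by characters. -/
noncomputable def chiPt {C : Type u} [CommRing C] [Algebra k C] (f : Multiplicative M →* C) : sp k C ⟶ D k M :=
  spMap (MonoidAlgebra.lift k C (Multiplicative M) f)

theorem ev_chiPt {C : Type u} [CommRing C] [Algebra k C] (f : Multiplicative M →* C) (m : M) :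
    ev (chiPt (k := k) f) (mon k m) = fnSp k C (f (Multiplicative.ofAdd m)) := by
  rw [chiPt, mon, ev_spMap, MonoidAlgebra.lift_single, one_smul]

theorem chiPt_one {C : Type u} [CommRing C] [Algebra k C] :
    chiPt (k := k) (1 : Multiplicative M →* C) = 1 := by
  refine ext_mon fun m => ?_
  rw [ev_chiPt, ev_one_mon, MonoidHom.one_apply, map_one]

theorem chiPt_mul {C : Type u} [CommRing C] [Algebra k C] (f g h : Multiplicative M →* C)
    (e : ∀ m, h m = f m * g m) : chiPt (k := k) h = chiPt f * chiPt g := by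
  refine ext_mon fun m => ?_
  rw [ev_chiPt, ev_mul_mon, ev_chiPt, ev_chiPt, e, map_mul]

theorem spMap_chiPt {C C' : Type u} [CommRing C] [Algebra k C] [CommRing C'] [Algebra k C'] (φ : C →ₐ[k] C')
    (f : Multiplicative M →* C) : spMap φ ≫ chiPt f = chiPt ((φ : C →* C').comp f) := by
  rw [chiPt, chiPt, spMap_comp]
  congr 1
  refine MonoidAlgebra.algHom_ext (fun n => ?_) (Subsingleton.elim _ _)
  rw [AlgHom.comp_apply, MonoidAlgebra.lift_single, MonoidAlgebra.lift_single, one_smul, one_smul]
  rfl

variable {T X : Over (Spec (CommRingCat.of k))} [GrpObj T] (ι' : D k M ⟶ T) (a : AlgGrp.Action T X)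
  {R : Type u} [CommRing R] [Algebra k R] (w : sp k R ⟶ X)

/-- The characters fix the tautological point. -/
def Fixed (C : Type u) [CommRing C] [Algebra k C] [Algebra R C] [IsScalarTower k R C]
    (f : Multiplicative M →* C) : Prop :=
  lift (chiPt f ≫ ι') (spMap (IsScalarTower.toAlgHom k R C) ≫ w) ≫ a.act =
    spMap (IsScalarTower.toAlgHom k R C) ≫ w

/-- The ideal of the stabiliser of the tautological point. -/
theorem exists_ideal [IsMonHom ι'] [IsSeparated X.hom] :
    ∃ I : Ideal (MonoidAlgebra R (Multiplicative M)), IsSubgroup I ∧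
      ∀ (C : Type u) [CommRing C] [Algebra k C] [Algebra R C] [IsScalarTower k R C] (f : Multiplicative M →* C),
        I ≤ RingHom.ker (MonoidAlgebra.lift R C (Multiplicative M) f) ↔ Fixed ι' a w C f := by
  let A := MonoidAlgebra R (Multiplicative M)
  let fU : Multiplicative M →* A := MonoidAlgebra.of R (Multiplicative M)
  let β : sp k A ⟶ X := spMap (IsScalarTower.toAlgHom k R A) ≫ w
  let α : sp k A ⟶ X := lift (chiPt fU ≫ ι') β ≫ a.act
  haveI : IsClosedImmersion (equalizer.ι α β).left := inferInstance
  obtain ⟨I, e, he⟩ := (IsClosedImmersion.Spec_iff (R := CommRingCat.of A) (f := (equalizer.ι α β).left)).mp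
    inferInstance
  have hiff : ∀ (C : Type u) [CommRing C] [Algebra k C] [Algebra R C] [IsScalarTower k R C]
      (f : Multiplicative M →* C),
      I ≤ RingHom.ker (MonoidAlgebra.lift R C (Multiplicative M) f) ↔ Fixed ι' a w C f := by
    intro C _ _ _ _ f
    let Φ : A →ₐ[k] C := (MonoidAlgebra.lift R C (Multiplicative M) f).restrictScalars k
    have hβ : spMap Φ ≫ β = spMap (IsScalarTower.toAlgHom k R C) ≫ w := by
      rw [← Category.assoc, spMap_comp]
      congr 2
      ext r
      exact (MonoidAlgebra.lift R C (Multiplicative M) f).commutes r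
    have hχ : spMap Φ ≫ chiPt fU = chiPt f := by
      rw [spMap_chiPt]
      congr 1
      ext n
      show MonoidAlgebra.lift R C (Multiplicative M) f (MonoidAlgebra.single n 1) = f n
      rw [MonoidAlgebra.lift_single, one_smul]
    have hα : spMap Φ ≫ α = lift (chiPt f ≫ ι') (spMap (IsScalarTower.toAlgHom k R C) ≫ w) ≫ a.act := by
      rw [← Category.assoc, comp_lift, ← Category.assoc (spMap Φ), hχ, hβ]
    show I ≤ RingHom.ker Φ.toRingHom ↔ _
    rw [Fixed, ← hα, ← hβ]
    constructor
    · intro hI
      let Φ' : A ⧸ I →ₐ[k] C := Ideal.Quotient.liftₐ I Φ fun x hx => hI hx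
      have hΦ : Φ'.comp (Ideal.Quotient.mkₐ k I) = Φ := AlgHom.ext fun x => rfl
      let l : sp k (A ⧸ I) ⟶ equalizer α β := Over.homMk e.inv (by
        rw [← Over.w (equalizer.ι α β), he, Category.assoc, Iso.inv_hom_id_assoc]
        show Spec.map _ ≫ Spec.map _ = Spec.map _
        rw [← Spec.map_comp]
        rfl)
      have hl : l ≫ equalizer.ι α β = spMap (Ideal.Quotient.mkₐ k I) := by
        refine Over.OverMorphism.ext ?_
        show e.inv ≫ (equalizer.ι α β).left = _
        rw [he, Iso.inv_hom_id_assoc]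
        rfl
      rw [← hΦ, ← spMap_comp, ← hl]
      simp only [Category.assoc, equalizer.condition]
    · intro h x hx
      let l := equalizer.lift (spMap Φ) h
      have hl : l.left ≫ (equalizer.ι α β).left = (spMap Φ).left := by
        rw [← Over.comp_left, equalizer.lift_ι]
      obtain ⟨ψ, hψ'⟩ := Spec.map_surjective (R := CommRingCat.of (A ⧸ I)) (S := CommRingCat.of C) (l.left ≫ e.hom)
      have hψ : CommRingCat.ofHom (Ideal.Quotient.mk I) ≫ ψ = CommRingCat.ofHom Φ.toRingHom := by
        apply Spec.map_injective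
        rw [Spec.map_comp, hψ', Category.assoc, ← he]
        exact hl
      show Φ.toRingHom x = 0
      rw [show Φ.toRingHom x = ψ.hom (Ideal.Quotient.mk I x) from congr($hψ.symm x),
        Ideal.Quotient.eq_zero_iff_mem.mpr hx, map_zero]
  refine ⟨I, ⟨?_, ?_⟩, hiff⟩
  · refine (hiff R 1).mpr ?_
    rw [Fixed, chiPt_one, MonObj.one_comp]
    exact GrpSchLib.act_one a _
  · intro C _ _ f g h hh hf hg
    letI : Algebra k C := ((algebraMap R C).comp (algebraMap k R)).toAlgebra
    haveI : IsScalarTower k R C := IsScalarTower.of_algebraMap_eq' rfl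
    have hf' := (hiff C f).mp hf
    have hg' := (hiff C g).mp hg
    refine (hiff C h).mpr ?_
    rw [Fixed, chiPt_mul (k := k) f g h hh, MonObj.mul_comp, DiagActionRigid.act_mul a, hg', hf']

theorem lift_comp_lift {R B : Type*} [CommRing R] [CommRing B] [Algebra R B] {G H : Type*} [CommMonoid G]
    [CommMonoid H] (q : H →* B) (π : G →* H) (g : G →* B) (h : ∀ n, q (π n) = g n) :
    (MonoidAlgebra.lift R B H q).comp (MonoidAlgebra.lift R (MonoidAlgebra R H) G ((MonoidAlgebra.of R H).comp π)) =
      MonoidAlgebra.lift R B G g := by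
  refine MonoidAlgebra.algHom_ext (fun n => ?_) (Subsingleton.elim _ _)
  simp [h]

/-- The ideal of the stabiliser is killed by the characters modulo a generic kernel. -/
theorem quotient_le {R : Type u} [CommRing R] (I : Ideal (MonoidAlgebra R (Multiplicative M)))
    (K : Type u) [Field K] [Algebra R K] (hinj : Function.Injective (algebraMap R K))
    (B : Type u) [CommRing B] [Algebra R B] [Algebra K B] [IsScalarTower R K B] (g : Multiplicative M →* B)
    (hg : I ≤ RingHom.ker (MonoidAlgebra.lift R B (Multiplicative M) g)) (Δ : B →ₐ[K] TensorProduct K B B)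
    (hΔ : ∀ m, Δ (g m) = g m ⊗ₜ[K] g m) (hB : Nontrivial B) :
    I ≤ RingHom.ker (MonoidAlgebra.lift R (MonoidAlgebra R (Multiplicative M ⧸ g.ker)) (Multiplicative M)
      ((MonoidAlgebra.of R _).comp (QuotientGroup.mk' g.ker))) := by
  classical
  intro x hx
  let Q := Multiplicative M ⧸ g.ker
  let gb : Q →* B := QuotientGroup.lift g.ker g le_rfl
  have hgb : Function.Injective gb := fun p q e => by
    obtain ⟨p, rfl⟩ := QuotientGroup.mk_surjective p
    obtain ⟨q, rfl⟩ := QuotientGroup.mk_surjective q
    refine (QuotientGroup.eq).mpr (MonoidHom.mem_ker.mpr ?_)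
    have e' : g p = g q := e
    rw [map_mul, ← e', ← map_mul, inv_mul_cancel, map_one]
  let z := MonoidAlgebra.lift R (MonoidAlgebra R Q) (Multiplicative M)
    ((MonoidAlgebra.of R _).comp (QuotientGroup.mk' g.ker)) x
  have h0 : MonoidAlgebra.lift R B Q gb z = 0 := by
    have e : (MonoidAlgebra.lift R B Q gb).comp (MonoidAlgebra.lift R (MonoidAlgebra R Q) (Multiplicative M)
        ((MonoidAlgebra.of R _).comp (QuotientGroup.mk' g.ker))) =
        MonoidAlgebra.lift R B (Multiplicative M) g :=
      lift_comp_lift gb (QuotientGroup.mk' g.ker) g fun n => QuotientGroup.lift_mk g.ker le_rfl n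
    exact ((AlgHom.comp_apply _ _ x).symm.trans (congrArg (fun φ => φ x) e)).trans (hg hx)
  rw [RingHom.mem_ker]
  show z = 0
  rw [MonoidAlgebra.lift_apply] at h0
  let s := z.coeff.support
  let t : Finset B := s.image gb
  have hli : LinearIndepOn K id (t : Set B) := linearIndepOn_of_comul Δ.toLinearMap t
    (fun b hb => by
      obtain ⟨q, -, rfl⟩ := Finset.mem_image.mp hb
      obtain ⟨n, rfl⟩ := QuotientGroup.mk_surjective q
      exact hΔ n)
    (fun b hb => by
      obtain ⟨q, -, rfl⟩ := Finset.mem_image.mp hb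
      exact (Group.isUnit q).map gb) hB
  have hsum : ∑ b ∈ t, algebraMap R K (z.coeff (Function.invFun gb b)) • id b = 0 := by
    rw [Finset.sum_image (fun p _ q _ h => hgb h)]
    refine Eq.trans (Finset.sum_congr rfl fun q _ => ?_) h0
    rw [Function.leftInverse_invFun hgb q, algebraMap_smul]
    rfl
  ext q
  by_cases hq : q ∈ s
  · have h1 := linearIndepOn_finset_iff.mp hli _ hsum (gb q) (Finset.mem_image_of_mem gb hq)
    rw [Function.leftInverse_invFun hgb q] at h1
    simpa using hinj (h1.trans (map_zero _).symm)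
  · simpa using Finsupp.notMem_support_iff.mp hq

variable [Mono ι'] [IsMonHom ι']

omit [Mono ι'] [IsMonHom ι'] in
/-- Characters killing the stabiliser near the generic point act trivially. -/
theorem trivial_of_quotient [IsSeparated X.hom] [IsIntegral X.left] [IsDomain R] [IsOpenImmersion w.left]
    (hfaith : ∀ (S : Over (Spec (CommRingCat.of k))) (g : S ⟶ T),
      (∀ (S' : Over (Spec (CommRingCat.of k))) (s : S' ⟶ S) (x : S' ⟶ X), lift (s ≫ g) x ≫ a.act = x) → g = 1)
    (I : Ideal (MonoidAlgebra R (Multiplicative M)))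
    (hiff : ∀ (C : Type u) [CommRing C] [Algebra k C] [Algebra R C] [IsScalarTower k R C]
      (f : Multiplicative M →* C),
      I ≤ RingHom.ker (MonoidAlgebra.lift R C (Multiplicative M) f) ↔ Fixed ι' a w C f)
    (N : Subgroup (Multiplicative M))
    (hfR : I ≤ RingHom.ker (MonoidAlgebra.lift R (MonoidAlgebra R (Multiplicative M ⧸ N)) (Multiplicative M)
      ((MonoidAlgebra.of R _).comp (QuotientGroup.mk' N)))) :
    chiPt (k := k) ((MonoidAlgebra.of k (Multiplicative M ⧸ N)).comp (QuotientGroup.mk' N)) ≫ ι' = 1 := by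
  let Q := Multiplicative M ⧸ N
  let π : Multiplicative M →* Q := QuotientGroup.mk' N
  let fR : Multiplicative M →* MonoidAlgebra R Q := (MonoidAlgebra.of R Q).comp π
  let C₀ := MonoidAlgebra k Q
  let χ₀ : Multiplicative M →* C₀ := (MonoidAlgebra.of k Q).comp π
  change chiPt (k := k) χ₀ ≫ ι' = 1
  refine hfaith _ _ fun S' s y => ?_
  let c₁ : sp k C₀ ⊗ X ⟶ X := lift (fst (sp k C₀) X ≫ chiPt χ₀ ≫ ι') (snd (sp k C₀) X) ≫ a.act
  have hc : c₁ = snd (sp k C₀) X := by
    haveI : IsSchemeTheoreticallyDominant (sp k C₀ ◁ w).left := by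
      haveI : Nonempty (sp k R).left := inferInstanceAs (Nonempty (PrimeSpectrum R))
      haveI : IsDominant w.left := ⟨w.left.isOpenEmbedding.isOpen_range.dense (Set.range_nonempty _)⟩
      haveI : IsSchemeTheoreticallyDominant w.left := .of_isDominant _
      haveI : QuasiCompact (w.left ≫ X.hom) := by rw [Over.w w]; infer_instance
      haveI : QuasiCompact w.left := QuasiCompact.of_comp _ X.hom
      haveI : Flat (sp k C₀).hom := inferInstance
      haveI : Flat (snd (sp k C₀) X).left := inferInstanceAs (Flat (pullback.snd (sp k C₀).hom X.hom))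
      exact IsSchemeTheoreticallyDominant.of_isPullback (isPullback_whiskerLeft (W := sp k C₀) w).flip
    refine FixedAffine.eq_of_dominant (sp k C₀ ◁ w) _ _ ?_
    haveI : IsAffine (sp k C₀ ⊗ sp k R).left :=
      inferInstanceAs (IsAffine (pullback (sp k C₀).hom (sp k R).hom))
    obtain ⟨C, _, _, ⟨io⟩⟩ := S19228.exists_sp (sp k C₀ ⊗ sp k R)
    obtain ⟨f1, hf1⟩ := exists_eq_spMap' (io.hom ≫ fst _ _)
    obtain ⟨f2, hf2⟩ := exists_eq_spMap' (io.hom ≫ snd _ _)
    letI : Algebra R C := f2.toRingHom.toAlgebra
    haveI : IsScalarTower k R C := IsScalarTower.of_algebraMap_eq' f2.comp_algebraMap.symm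
    have hf2' : IsScalarTower.toAlgHom k R C = f2 := AlgHom.ext fun r => rfl
    have hfix : Fixed ι' a w C ((f1 : C₀ →* C).comp χ₀) := by
      refine (hiff C _).mp fun x hx => ?_
      have e : MonoidAlgebra.lift R C (Multiplicative M) ((f1 : C₀ →* C).comp χ₀) =
          (MonoidAlgebra.lift R C Q ((f1 : C₀ →* C).comp (MonoidAlgebra.of k Q))).comp
            (MonoidAlgebra.lift R (MonoidAlgebra R Q) (Multiplicative M) fR) := by
        refine MonoidAlgebra.algHom_ext (fun n => ?_) (Subsingleton.elim _ _)
        rw [AlgHom.comp_apply, MonoidAlgebra.lift_single, MonoidAlgebra.lift_single, one_smul, one_smul]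
        show _ = MonoidAlgebra.lift R C Q _ (MonoidAlgebra.single (π n) 1)
        rw [MonoidAlgebra.lift_single, one_smul]
        rfl
      rw [RingHom.mem_ker, e, AlgHom.comp_apply, RingHom.mem_ker.mp (hfR hx), map_zero]
    rw [Fixed, hf2', ← spMap_chiPt, ← hf1, ← hf2] at hfix
    rw [← cancel_epi io.hom]
    simp only [c₁, Category.assoc] at hfix ⊢
    rw [comp_lift_assoc, comp_lift_assoc, whiskerLeft_fst_assoc, whiskerLeft_snd]
    exact hfix
  have h := congrArg (fun q => lift s y ≫ q) hc
  simp only [c₁, lift_snd] at h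
  rw [← Category.assoc, comp_lift, lift_fst_assoc, lift_snd] at h
  exact h

/-- Near the generic point the stabilisers of a faithful action are trivial. -/
theorem exists_trivial [IsSeparated X.hom] [IsIntegral X.left] [IsDomain R] [IsOpenImmersion w.left]
    [AddGroup.FG M]
    (hfaith : ∀ (S : Over (Spec (CommRingCat.of k))) (g : S ⟶ T),
      (∀ (S' : Over (Spec (CommRingCat.of k))) (s : S' ⟶ S) (x : S' ⟶ X), lift (s ≫ g) x ≫ a.act = x) → g = 1) :
    ∃ d : R, d ≠ 0 ∧ ∀ (C : Type u) [CommRing C] [Algebra k C] [Algebra R C] [IsScalarTower k R C]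
      (f : Multiplicative M →* C), IsUnit (algebraMap R C d) → Fixed ι' a w C f → f = 1 := by
  classical
  obtain ⟨I, hI, hiff⟩ := exists_ideal ι' a w
  haveI : (⊥ : Ideal R).IsPrime := Ideal.isPrime_bot
  let K := (⊥ : Ideal R).ResidueField
  have hinj : Function.Injective (algebraMap R K) := by
    rw [injective_iff_map_eq_zero]
    intro x hx
    exact Ideal.algebraMap_residueField_eq_zero.mp hx
  obtain ⟨B, _, _, _, _, g, hg, hgm, ⟨ε, hε⟩, Δ, hΔ⟩ := exists_generic hI K
  have hB : Nontrivial B := ε.toRingHom.domain_nontrivial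
  let N := g.ker
  let Q := Multiplicative M ⧸ N
  let π : Multiplicative M →* Q := QuotientGroup.mk' N
  let fR : Multiplicative M →* MonoidAlgebra R Q := (MonoidAlgebra.of R Q).comp π
  have hfR : I ≤ RingHom.ker (MonoidAlgebra.lift R (MonoidAlgebra R Q) (Multiplicative M) fR) :=
    quotient_le I K hinj B g hg Δ hΔ hB
  -- these characters act trivially
  let C₀ := MonoidAlgebra k Q
  let χ₀ : Multiplicative M →* C₀ := (MonoidAlgebra.of k Q).comp π
  have hχ₀ : chiPt (k := k) χ₀ ≫ ι' = 1 := trivial_of_quotient ι' a w hfaith I hiff g.ker hfR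
  have hN : ∀ n : Multiplicative M, g n = 1 := by
    intro n
    have h1 : chiPt (k := k) χ₀ = 1 := by rw [← cancel_mono ι', hχ₀, MonObj.one_comp]
    have h2 := congrArg (fun q => ev q (mon k (Multiplicative.toAdd n))) h1
    simp only [ev_chiPt, ev_one_mon] at h2
    have h3 : MonoidAlgebra.single (π n) (1 : k) = MonoidAlgebra.single 1 1 :=
      (fnSp k C₀).injective (h2.trans (map_one (fnSp k C₀)).symm)
    have h4 : π n = 1 := Finsupp.single_left_injective (one_ne_zero' k) (by simpa using congrArg MonoidAlgebra.coeff h3)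
    exact MonoidHom.mem_ker.mp ((QuotientGroup.eq_one_iff n).mp h4)
  obtain ⟨d, hd, htriv⟩ := main hI ⊥ fun m => hgm m (hN m)
  refine ⟨d, fun h => hd (h ▸ Ideal.zero_mem _), fun C _ _ _ _ f hu hfix => MonoidHom.ext fun n => ?_⟩
  have h1 := htriv C hu n
  have h2 : (I.map (chg C)) ≤ RingHom.ker (MonoidAlgebra.lift C C (Multiplicative M) f) :=
    Ideal.map_le_iff_le_comap.mpr fun b hb => by
      rw [Ideal.mem_comap, RingHom.mem_ker, lift_chg]
      exact (hiff C f).mpr hfix hb
  have h3 : MonoidAlgebra.lift C C (Multiplicative M) f (MonoidAlgebra.single n 1 - 1) = 0 := h2 h1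
  rw [map_sub, map_one, MonoidAlgebra.lift_single, one_smul, sub_eq_zero] at h3
  exact h3

end Groth.Agent.GrpSchLib.TorusStabGeneric
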