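import Groth.Agent.GrpSchLib.TwConstClosed
import Groth.Agent.H23.LocNoethTop

/-!
# An open and closed subscheme of a quasi-isotrivial twisted constant scheme with a finite fibre
-/

universe u

open CategoryTheory CategoryTheory.Limits AlgebraicGeometry MorphismProperty TopologicalSpace

namespace Groth.Agent.GrpSchLib.TwConstClopen

set_option backward.isDefEq.respectTransparency.types false

/-- Over a connected piece of the base, one compact fibre of a clopen piece of a constant scheme gives compactness. -/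
theorem isCompact_of_compact_fibre {U Z : Scheme.{u}} (I : Type u) {C : Set U} (hC : _root_.IsPreconnected C)
    (c : Z ⟶ ∐ fun _ : I => U) [IsOpenImmersion c] [IsClosedImmersion c] {v : U} (hvC : v ∈ C)
    (hv : IsCompact ((c ≫ Sigma.desc fun _ : I => 𝟙 U) ⁻¹' {v})) (A : Set U) (hA : A ⊆ C) (hAc : IsCompact A) :
    IsCompact ((c ≫ Sigma.desc fun _ : I => 𝟙 U) ⁻¹' A) := by
  let ι' := fun i : I => Sigma.ι (fun _ : I => U) i
  have hcover : ∀ x, ∃ i, ∃ y, ι' i y = x := fun x => by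
    obtain ⟨⟨i, y⟩, hy⟩ := (sigmaMk fun _ : I => U).surjective x
    exact ⟨i, y, by rwa [sigmaMk_mk] at hy⟩
  have hπ : ∀ i y, (Sigma.desc fun _ : I => 𝟙 U) (ι' i y) = y := fun i y => by
    rw [← Scheme.Hom.comp_apply, Sigma.ι_desc]
    rfl
  obtain ⟨F, hF⟩ := hv.elim_finite_subcover (fun i : I => ((c ⁻¹ᵁ (ι' i).opensRange) : Set Z))
    (fun i => (c ⁻¹ᵁ (ι' i).opensRange).2) (fun z _ => by
      obtain ⟨i, hy⟩ := hcover (c z)
      exact Set.mem_iUnion.mpr ⟨i, hy⟩)
  have hcl : IsClopen (Set.range c) := ⟨c.isClosedEmbedding.isClosed_range, c.isOpenEmbedding.isOpen_range⟩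
  have hmem : ∀ z, (c ≫ Sigma.desc fun _ : I => 𝟙 U) z ∈ A → ∃ i ∈ F, ∃ y ∈ A, ι' i y = c z := fun z hz => by
    obtain ⟨i, y, hy⟩ := hcover (c z)
    rw [Scheme.Hom.comp_apply, ← hy, hπ] at hz
    refine ⟨i, ?_, y, hz, hy⟩
    have hsub := hC.subset_isClopen (hcl.preimage (ι' i).continuous) ⟨y, hA hz, z, hy.symm⟩
    obtain ⟨z', hz'⟩ := hsub hvC
    have hzv : (c ≫ Sigma.desc fun _ : I => 𝟙 U) z' = v := by rw [Scheme.Hom.comp_apply, hz', hπ]
    obtain ⟨i', hi', y', hy'⟩ := Set.mem_iUnion₂.mp (hF hzv)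
    have h1 := (sigmaMk fun _ : I => U).injective (a₁ := ⟨i', y'⟩) (a₂ := ⟨i, v⟩)
      (by rw [sigmaMk_mk, sigmaMk_mk]; exact hy'.trans hz')
    exact (Sigma.mk.inj h1).1 ▸ hi'
  have h : (c ≫ Sigma.desc fun _ : I => 𝟙 U) ⁻¹' A = c ⁻¹' ⋃ i ∈ F, ι' i '' A := by
    ext z
    simp only [Set.mem_preimage, Set.mem_iUnion₂, Set.mem_image]
    refine ⟨fun hz => ?_, fun ⟨i, _, y, hy, hyz⟩ => ?_⟩
    · obtain ⟨i, hi, y, hyA, hy⟩ := hmem z hz
      exact ⟨i, hi, y, hyA, hy⟩
    · rw [Scheme.Hom.comp_apply, ← hyz, hπ]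
      exact hy
  rw [h]
  exact c.isClosedEmbedding.isCompact_preimage (F.isCompact_biUnion fun i _ => hAc.image (ι' i).continuous)

/-- Compactness of fibres passes to base changes. -/
theorem isCompact_fibre_bc {S U Z : Scheme.{u}} (g : Z ⟶ S) (q : U ⟶ S) (v : U)
    (h : IsCompact (g ⁻¹' {q v})) : IsCompact (pullback.snd g q ⁻¹' {v}) := by
  haveI : CompactSpace (g.fiber (q v)) :=
    haveI : CompactSpace (g ⁻¹' {q v}) := isCompact_iff_compactSpace.mp h
    (g.fiberHomeo (q v)).symm.compactSpace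
  haveI : QuasiCompact (pullback.snd g (S.fromSpecResidueField (q v))) :=
    (quasiCompact_iff_compactSpace _).mpr ‹_›
  let a := Spec.map (q.residueFieldMap v)
  let b := S.fromSpecResidueField (q v)
  have hab : a ≫ b = U.fromSpecResidueField v ≫ q := Scheme.Hom.SpecMap_residueFieldMap_fromSpecResidueField _ _
  have h1 : IsPullback (pullback.fst (pullback.snd g q) (U.fromSpecResidueField v) ≫ pullback.fst g q)
      (pullback.snd (pullback.snd g q) (U.fromSpecResidueField v)) g (a ≫ b) := by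
    rw [hab]
    exact (IsPullback.of_hasPullback _ _).paste_horiz (IsPullback.of_hasPullback g q)
  have h2 := IsPullback.of_right (h₁₁ := pullback.lift (pullback.fst (pullback.snd g q) (U.fromSpecResidueField v) ≫
      pullback.fst g q) (pullback.snd (pullback.snd g q) (U.fromSpecResidueField v) ≫ a)
      (by rw [h1.w, Category.assoc])) (v₁₃ := g) (h₁₂ := pullback.fst g b) (h₂₂ := b)
      (by rw [pullback.lift_fst]; exact h1) (pullback.lift_snd _ _ _) (IsPullback.of_hasPullback g b)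
  haveI : QuasiCompact (pullback.snd (pullback.snd g q) (U.fromSpecResidueField v)) :=
    MorphismProperty.of_isPullback (P := @QuasiCompact) h2 ‹_›
  haveI : CompactSpace ((pullback.snd g q).fiber v) :=
    (quasiCompact_iff_compactSpace (pullback.snd (pullback.snd g q) (U.fromSpecResidueField v))).mp ‹_›
  exact isCompact_iff_compactSpace.mpr ((pullback.snd g q).fiberHomeo v).compactSpace

theorem quasiCompact_of_finite_fibre {S : Scheme.{u}} [IsLocallyNoetherian S] [ConnectedSpace S] (P : Over S)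
    (hP : TwC.IsTwConst TwC.Topology.etale P) {Z : Scheme.{u}} (z : Z ⟶ P.left) [IsOpenImmersion z]
    [IsClosedImmersion z] (hs : ∃ s : S, Set.Finite ((z ≫ P.hom) ⁻¹' {s})) : QuasiCompact (z ≫ P.hom) := by
  let g := z ≫ P.hom
  have loc : ∀ t : S, ∃ (S' : Scheme.{u}) (f : S' ⟶ S) (C : Set S'), Etale f ∧ IsOpen C ∧ t ∈ f '' C ∧
      ((∃ v ∈ C, IsCompact (g ⁻¹' {f v})) → ∀ A ⊆ C, IsCompact A → IsCompact (g ⁻¹' (f '' A))) := by
    intro t
    obtain ⟨S', f, hf, ⟨s', rfl⟩, I, ⟨e⟩⟩ := hP t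
    haveI := hf
    haveI : IsLocallyNoetherian S' := LocallyOfFiniteType.isLocallyNoetherian f
    haveI hlc : LocallyConnectedSpace S' := H23.LocNoethTop.locallyConnectedSpace fun y => by
      obtain ⟨A, hA, hyA, -⟩ := exists_isAffineOpen_mem_and_subset (show y ∈ (⊤ : S'.Opens) from trivial)
      haveI : IsNoetherianRing Γ(S', A) := IsLocallyNoetherian.component_noetherian ⟨A, hA⟩
      exact ⟨A, A.2.mem_nhds hyA, noetherianSpace_of_isAffineOpen A hA⟩
    refine ⟨S', f, connectedComponent s', hf, isOpen_connectedComponent, ⟨s', mem_connectedComponent, rfl⟩, ?_⟩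
    rintro ⟨v, hvC, hv⟩ A hA hAc
    let r : pullback g f ⟶ pullback P.hom f :=
      pullback.map _ _ _ _ z (𝟙 _) (𝟙 _) (Category.comp_id _) (by rw [Category.comp_id, Category.id_comp])
    have hr : IsPullback (pullback.fst g f) r z (pullback.fst P.hom f) := by
      refine IsPullback.of_bot ?_ (pullback.lift_fst _ _ _).symm (IsPullback.of_hasPullback P.hom f)
      rw [pullback.lift_snd, Category.comp_id]
      exact IsPullback.of_hasPullback g f
    haveI : IsClosedImmersion r := MorphismProperty.of_isPullback (P := @IsClosedImmersion) hr inferInstance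
    haveI : IsOpenImmersion r := MorphismProperty.of_isPullback (P := @IsOpenImmersion) hr inferInstance
    let c : pullback g f ⟶ ∐ fun _ : I => S' := r ≫ e.hom.left
    have hc : c ≫ (Sigma.desc fun _ : I => 𝟙 _) = pullback.snd g f := by
      show (r ≫ e.hom.left) ≫ _ = _
      rw [Category.assoc]
      refine (congrArg (r ≫ ·) (Over.w e.hom)).trans ?_
      exact (pullback.lift_snd _ _ _).trans (Category.comp_id _)
    haveI : IsClosedImmersion c := inferInstanceAs (IsClosedImmersion (r ≫ e.hom.left))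
    haveI : IsOpenImmersion c := inferInstanceAs (IsOpenImmersion (r ≫ e.hom.left))
    have h := isCompact_of_compact_fibre I isPreconnected_connectedComponent c hvC
      (by rw [hc]; exact isCompact_fibre_bc g f v hv) A hA hAc
    rw [hc] at h
    have him : g ⁻¹' (f '' A) = pullback.fst g f '' (pullback.snd g f ⁻¹' A) := by
      ext w
      constructor
      · rintro ⟨a, ha, haw⟩
        obtain ⟨x, hx1, hx2⟩ := Scheme.Pullback.exists_preimage_pullback (f := g) (g := f) w a haw.symm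
        exact ⟨x, by rw [Set.mem_preimage, hx2]; exact ha, hx1⟩
      · rintro ⟨x, hx, rfl⟩
        refine ⟨_, hx, ?_⟩
        rw [← Scheme.Hom.comp_apply, ← pullback.condition, Scheme.Hom.comp_apply]
    rw [him]
    exact h.image (pullback.fst g f).continuous
  choose S' f C hf hC htC hcomp using loc
  have hopen : ∀ t, IsOpen (f t '' C t) := fun t => by
    haveI := hf t
    exact (f t).isOpenMap _ (hC t)
  let G : Set S := {t | IsCompact (g ⁻¹' {t})}
  have hiff : ∀ t, ∀ x ∈ f t '' C t, x ∈ G → f t '' C t ⊆ G := by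
    rintro t _ ⟨v, hv, rfl⟩ hvG _ ⟨w, hw, rfl⟩
    simpa [G] using hcomp t ⟨v, hv, hvG⟩ {w} (Set.singleton_subset_iff.mpr hw) isCompact_singleton
  have hGo : IsClopen G := by
    refine ⟨⟨isOpen_iff_mem_nhds.mpr fun t ht => ?_⟩, isOpen_iff_mem_nhds.mpr fun t ht => ?_⟩
    · refine Filter.mem_of_superset ((hopen t).mem_nhds (htC t)) fun x hx hxG => ?_
      exact ht (hiff t x hx hxG (htC t))
    · exact Filter.mem_of_superset ((hopen t).mem_nhds (htC t)) (hiff t t (htC t) ht)
  obtain ⟨s, hs⟩ := hs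
  have hG : G = Set.univ := hGo.eq_univ ⟨s, hs.isCompact⟩
  refine (quasiCompact_iff_forall_isAffineOpen).mpr fun V hV => ?_
  have hloc : ∀ t ∈ (V : Set S), ∃ A ⊆ C t, IsCompact A ∧ IsOpen (f t '' A) ∧ t ∈ f t '' A ∧ f t '' A ⊆ V := by
    intro t ht
    obtain ⟨v, hv, hvt⟩ := htC t
    haveI := hf t
    obtain ⟨A, hA, hvA, hAsub⟩ := exists_isAffineOpen_mem_and_subset
      (show v ∈ (⟨C t, hC t⟩ ⊓ f t ⁻¹ᵁ V : (S' t).Opens) from ⟨hv, show f t v ∈ V by rw [hvt]; exact ht⟩)
    exact ⟨A, fun x hx => (hAsub hx).1, hA.isCompact, (f t).isOpenMap _ A.2, ⟨v, hvA, hvt⟩,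
      Set.image_subset_iff.mpr fun x hx => (hAsub hx).2⟩
  choose! A hAC hAc hAo htA hAV using hloc
  obtain ⟨F, hFV, hFfin, hF⟩ := hV.isCompact.elim_finite_subcover_image (b := (V : Set S)) (c := fun t => f t '' A t)
    hAo (fun t ht => Set.mem_iUnion₂.mpr ⟨t, ht, htA t ht⟩)
  have heq : ((g ⁻¹ᵁ V : Z.Opens) : Set Z) = ⋃ t ∈ F, g ⁻¹' (f t '' A t) := by
    ext w
    constructor
    · intro hw
      obtain ⟨t, htF, hwt⟩ := Set.mem_iUnion₂.mp (hF hw)
      exact Set.mem_iUnion₂.mpr ⟨t, htF, hwt⟩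
    · intro hw
      obtain ⟨t, htF, hwt⟩ := Set.mem_iUnion₂.mp hw
      exact hAV t (hFV htF) hwt
  rw [heq]
  refine hFfin.isCompact_biUnion fun t ht => hcomp t ?_ _ (hAC t (hFV ht)) (hAc t (hFV ht))
  obtain ⟨v, hv, hvt⟩ := htC t
  exact ⟨v, hv, by rw [hvt]; exact (Set.ext_iff.mp hG t).mpr trivial⟩

/-- An open and closed subscheme of a quasi-isotrivial twisted constant scheme with a finite fibre is finite. -/
theorem main {S : Scheme.{u}} [IsLocallyNoetherian S] [ConnectedSpace S] (P : Over S)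
    (hP : TwC.IsTwConst TwC.Topology.etale P) {Z : Scheme.{u}} (z : Z ⟶ P.left) [IsOpenImmersion z]
    [IsClosedImmersion z] (hs : ∃ s : S, Set.Finite ((z ≫ P.hom) ⁻¹' {s})) : IsFinite (z ≫ P.hom) := by
  haveI := quasiCompact_of_finite_fibre P hP z hs
  choose S' f hf ht hI using hP
  haveI : ∀ t, Etale (f t) := hf
  haveI : Flat (Sigma.desc f) := IsZariskiLocalAtSource.sigmaDesc (P := @Flat) fun _ => inferInstance
  refine TwConstClosed.isFinite_of_snd (z ≫ P.hom) (Sigma.desc f) (fun V hV => ?_) ?_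
  · have hloc : ∀ t ∈ (V : Set S), ∃ A : Set ↥(∐ S'), IsOpen A ∧ IsCompact A ∧ IsOpen (Sigma.desc f '' A) ∧
        t ∈ Sigma.desc f '' A ∧ Sigma.desc f '' A ⊆ V := by
      intro t htV
      obtain ⟨v, hv⟩ := ht t
      obtain ⟨A, hA, hvA, hAsub⟩ := exists_isAffineOpen_mem_and_subset
        (show v ∈ f t ⁻¹ᵁ V from show f t v ∈ V by rw [hv]; exact htV)
      have himg : Sigma.desc f '' (Sigma.ι S' t '' (A : Set _)) = f t '' (A : Set _) := by
        rw [Set.image_image]
        exact Set.image_congr fun x _ => by rw [← Scheme.Hom.comp_apply, Sigma.ι_desc]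
      refine ⟨Sigma.ι S' t '' (A : Set _), (Sigma.ι S' t).isOpenEmbedding.isOpenMap _ A.2,
        hA.isCompact.image (Sigma.ι S' t).continuous, ?_⟩
      rw [himg]
      exact ⟨(f t).isOpenMap _ A.2, ⟨v, hvA, hv⟩, Set.image_subset_iff.mpr fun x hx => hAsub hx⟩
    choose! A hAo hAc hAio htA hAV using hloc
    obtain ⟨F, hFV, hFfin, hF⟩ := hV.isCompact.elim_finite_subcover_image (b := (V : Set S))
      (c := fun t => Sigma.desc f '' A t) hAio (fun t ht => Set.mem_iUnion₂.mpr ⟨t, ht, htA t ht⟩)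
    refine ⟨⟨⋃ t ∈ F, A t, isOpen_biUnion fun t h => hAo t (hFV h)⟩,
      hFfin.isCompact_biUnion fun t h => hAc t (hFV h), ?_⟩
    show Sigma.desc f '' (⋃ t ∈ F, A t) = _
    rw [Set.image_iUnion₂]
    exact subset_antisymm (Set.iUnion₂_subset fun t h => hAV t (hFV h)) hF
  · rw [IsZariskiLocalAtTarget.iff_of_openCover (P := @IsFinite) (sigmaOpenCover S')]
    intro t
    obtain ⟨I, ⟨e⟩⟩ := hI t
    haveI := TwConstClosed.isFinite_snd P z (f t) e
    have hsq : IsPullback (pullback.fst (pullback.snd (z ≫ P.hom) (Sigma.desc f)) (Sigma.ι S' t) ≫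
        pullback.fst (z ≫ P.hom) (Sigma.desc f))
        (pullback.snd (pullback.snd (z ≫ P.hom) (Sigma.desc f)) (Sigma.ι S' t)) (z ≫ P.hom) (f t) := by
      rw [← Sigma.ι_desc f t]
      exact (IsPullback.of_hasPullback _ _).paste_horiz (IsPullback.of_hasPullback _ _)
    show IsFinite (pullback.snd (pullback.snd (z ≫ P.hom) (Sigma.desc f)) (Sigma.ι S' t))
    rw [← hsq.isoPullback_hom_snd]
    infer_instance

end Groth.Agent.GrpSchLib.TwConstClopen
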