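import Groth.Prelude.Def_TwC
import Groth.Agent.EtFound.Descent
import Groth.Agent.SGA1Q.SigmaFinite

/-!
# A quasi-compact closed subscheme of a twisted constant scheme is finite
-/

universe u

open CategoryTheory CategoryTheory.Limits AlgebraicGeometry MorphismProperty

namespace Groth.Agent.GrpSchLib.TwConstClosed

set_option backward.isDefEq.respectTransparency.types false

/-- A quasi-compact closed subscheme of a constant scheme is finite. -/
theorem isFinite_of_const {U Z : Scheme.{u}} (I : Type u) (c : Z ⟶ ∐ fun _ : I => U) [IsClosedImmersion c]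
    [QuasiCompact (c ≫ Sigma.desc fun _ : I => 𝟙 U)] : IsFinite (c ≫ Sigma.desc fun _ : I => 𝟙 U) := by
  let g := c ≫ Sigma.desc fun _ : I => 𝟙 U
  rw [IsZariskiLocalAtTarget.iff_of_iSup_eq_top (P := @IsFinite) (fun V : U.affineOpens => V.1) (iSup_affineOpens_eq_top U)]
  intro A
  have hcomp : IsCompact ((g ⁻¹ᵁ A.1 : Z.Opens) : Set Z) := g.isCompact_preimage A.2.isCompact
  obtain ⟨F, hF⟩ := hcomp.elim_finite_subcover (fun i : I => ((c ⁻¹ᵁ (Sigma.ι (fun _ : I => U) i).opensRange) : Set Z))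
    (fun i => (c ⁻¹ᵁ (Sigma.ι (fun _ : I => U) i).opensRange).2) (fun z _ => by
      obtain ⟨⟨i, y⟩, hy⟩ := (sigmaMk fun _ : I => U).surjective (c z)
      rw [sigmaMk_mk] at hy
      exact Set.mem_iUnion.mpr ⟨i, ⟨y, hy⟩⟩)
  let j : (∐ fun _ : {i // i ∈ F} => U) ⟶ ∐ fun _ : I => U := Sigma.desc fun i => Sigma.ι (fun _ : I => U) i.1
  haveI : IsOpenImmersion j := isOpenImmersion_sigmaDesc _ _ fun a b hab => Set.disjoint_iff_forall_ne.mpr <| by
    rintro _ ⟨x, rfl⟩ _ ⟨y, rfl⟩ e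
    have h := (sigmaMk fun _ : I => U).injective (a₁ := ⟨a.1, x⟩) (a₂ := ⟨b.1, y⟩) (by rw [sigmaMk_mk, sigmaMk_mk]; exact e)
    exact hab (Subtype.ext (Sigma.mk.inj h).1)
  let W : Z.Opens := c ⁻¹ᵁ j.opensRange
  let c' : (W : Scheme.{u}) ⟶ (∐ fun _ : {i // i ∈ F} => U) := IsOpenImmersion.lift j (W.ι ≫ c) (by
    rintro _ ⟨x, rfl⟩
    exact x.2)
  haveI : IsClosedImmersion c' := by
    have h : c' = (c ∣_ j.opensRange) ≫ (Scheme.Hom.isoOpensRange j).inv := by
      rw [← cancel_mono j, IsOpenImmersion.lift_fac, Category.assoc, Scheme.Hom.isoOpensRange_inv_comp]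
      exact (morphismRestrict_ι c _).symm
    rw [h]
    haveI : IsClosedImmersion (c ∣_ j.opensRange) := IsZariskiLocalAtTarget.restrict ‹_› _
    infer_instance
  haveI : IsFinite (Sigma.desc fun _ : {i // i ∈ F} => 𝟙 U) := SGA1Q.isFinite_sigmaDesc _ fun _ => inferInstance
  have hfin : IsFinite (W.ι ≫ g) := by
    have h : W.ι ≫ g = c' ≫ Sigma.desc fun _ : {i // i ∈ F} => 𝟙 U := by
      have hfac : c' ≫ j = W.ι ≫ c := IsOpenImmersion.lift_fac _ _ _
      rw [show g = c ≫ Sigma.desc fun _ : I => 𝟙 U from rfl, ← Category.assoc, ← hfac, Category.assoc]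
      congr 1
      exact Sigma.hom_ext _ _ fun i => by simp [j]
    rw [h]
    infer_instance
  have hsub : g ⁻¹ᵁ A.1 ≤ W := fun z hz => by
    obtain ⟨i, hi, x, hx⟩ := Set.mem_iUnion₂.mp (hF hz)
    refine ⟨Sigma.ι (fun _ : {i // i ∈ F} => U) ⟨i, hi⟩ x, ?_⟩
    rw [← Scheme.Hom.comp_apply]
    simpa [j] using hx
  haveI hrestr : IsFinite ((W.ι ≫ g) ∣_ A.1) := IsZariskiLocalAtTarget.restrict hfin _
  rw [morphismRestrict_comp] at hrestr
  haveI : IsIso (W.ι ∣_ g ⁻¹ᵁ A.1) := by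
    refine isIso_of_isOpenImmersion_of_opensRange_eq_top _ (eq_top_iff.mpr fun z _ => ?_)
    obtain ⟨w, hw⟩ : z.1 ∈ Set.range W.ι := by rw [Scheme.Opens.range_ι]; exact hsub z.2
    refine ⟨⟨w, show W.ι w ∈ g ⁻¹ᵁ A.1 by rw [hw]; exact z.2⟩, ?_⟩
    apply (g ⁻¹ᵁ A.1).ι.isOpenEmbedding.injective
    rw [← Scheme.Hom.comp_apply, morphismRestrict_ι, Scheme.Hom.comp_apply]
    exact hw
  exact (MorphismProperty.cancel_left_of_respectsIso @IsFinite (W.ι ∣_ g ⁻¹ᵁ A.1) (g ∣_ A.1)).mp hrestr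

/-- Finiteness of a quasi-compact closed subscheme over a constant piece. -/
theorem isFinite_snd {S U Z : Scheme.{u}} (R : Over S) (z : Z ⟶ R.left) [IsClosedImmersion z]
    [QuasiCompact (z ≫ R.hom)] (q : U ⟶ S) {I : Type u} (e : Red.bc q R ≅ TwC.const U I) :
    IsFinite (pullback.snd (z ≫ R.hom) q) := by
  let g := z ≫ R.hom
  let r : pullback g q ⟶ pullback R.hom q :=
    pullback.map _ _ _ _ z (𝟙 _) (𝟙 _) (Category.comp_id _) (by rw [Category.comp_id, Category.id_comp])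
  have hr : IsPullback (pullback.fst g q) r z (pullback.fst R.hom q) := by
    refine IsPullback.of_bot ?_ (pullback.lift_fst _ _ _).symm (IsPullback.of_hasPullback R.hom q)
    rw [pullback.lift_snd, Category.comp_id]
    exact IsPullback.of_hasPullback g q
  haveI : IsClosedImmersion r := MorphismProperty.of_isPullback (P := @IsClosedImmersion) hr inferInstance
  let c : pullback g q ⟶ ∐ fun _ : I => U := r ≫ e.hom.left
  have hc : c ≫ (Sigma.desc fun _ : I => 𝟙 _) = pullback.snd g q := by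
    show (r ≫ e.hom.left) ≫ _ = _
    rw [Category.assoc]
    refine (congrArg (r ≫ ·) (Over.w e.hom)).trans ?_
    exact (pullback.lift_snd _ _ _).trans (Category.comp_id _)
  haveI : QuasiCompact (c ≫ Sigma.desc fun _ : I => 𝟙 _) := by rw [hc]; infer_instance
  haveI : IsClosedImmersion c := inferInstanceAs (IsClosedImmersion (r ≫ e.hom.left))
  have h := isFinite_of_const I c
  rw [hc] at h
  exact h

/-- Finiteness descends along an fpqc covering. -/
theorem isFinite_of_snd {S S' Z : Scheme.{u}} (g : Z ⟶ S) (f : S' ⟶ S) [Flat f]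
    (hcov : ∀ V : S.Opens, IsAffineOpen V → ∃ W : S'.Opens, IsCompact (W : Set S') ∧ f.base '' (W : Set S') = (V : Set S))
    (hsnd : IsFinite (pullback.snd g f)) : IsFinite g := by
  rw [IsZariskiLocalAtTarget.iff_of_iSup_eq_top (P := @IsFinite) (fun V : S.affineOpens => V.1) (iSup_affineOpens_eq_top S)]
  intro V
  obtain ⟨W, hW, hWV⟩ := hcov V.1 V.2
  let q : (W : Scheme.{u}) ⟶ V.1 := f.resLE V.1 W fun x hx => by
    show f x ∈ (V.1 : Set S)
    rw [← hWV]
    exact ⟨x, hx, rfl⟩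
  haveI : CompactSpace (W : Scheme.{u}) := isCompact_iff_compactSpace.mp hW
  haveI : IsAffine (V.1 : Scheme.{u}) := V.2
  haveI : Flat q := by
    haveI : Flat (q ≫ V.1.ι) := by rw [Scheme.Hom.resLE_comp_ι]; infer_instance
    exact MorphismProperty.of_postcomp (W := @Flat) (W' := @IsOpenImmersion) q V.1.ι inferInstance ‹_›
  haveI : Surjective q := ⟨fun v => by
    obtain ⟨w, hw, hwv⟩ : v.1 ∈ f '' (W : Set S') := hWV.symm ▸ v.2
    refine ⟨⟨w, hw⟩, V.1.ι.isOpenEmbedding.injective ?_⟩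
    rw [← Scheme.Hom.comp_apply, Scheme.Hom.resLE_comp_ι, Scheme.Hom.comp_apply]
    exact hwv⟩
  haveI : QuasiCompact q := (quasiCompact_iff_compactSpace q).mpr inferInstance
  haveI := EtFound.fpqc_isFinite.{u}
  refine MorphismProperty.of_pullback_fst_of_descendsAlong (P := @IsFinite)
    (Q := @Surjective ⊓ @Flat ⊓ @QuasiCompact) (f := q) (g := g ∣_ V.1) ⟨⟨inferInstance, inferInstance⟩, inferInstance⟩ ?_
  have h1 : IsPullback (pullback.fst q (g ∣_ V.1)) (pullback.snd q (g ∣_ V.1) ≫ (g ⁻¹ᵁ V.1).ι) (W.ι ≫ f) g := by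
    rw [← Scheme.Hom.resLE_comp_ι f (U := V.1) (V := W)]
    exact (IsPullback.of_hasPullback q (g ∣_ V.1)).paste_vert (isPullback_morphismRestrict g V.1)
  have h2 : IsPullback (pullback.snd g f ∣_ W) ((pullback.snd g f ⁻¹ᵁ W).ι ≫ pullback.fst g f) (W.ι ≫ f) g :=
    (isPullback_morphismRestrict (pullback.snd g f) W).paste_vert (IsPullback.of_hasPullback g f).flip
  rw [← h1.isoIsPullback_hom_fst _ _ h2]
  haveI : IsFinite (pullback.snd g f ∣_ W) := IsZariskiLocalAtTarget.restrict hsnd _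
  infer_instance


/-- A quasi-compact closed subscheme of an fpqc twisted constant scheme is finite. -/
theorem isFinite_of_twConst {S : Scheme.{u}} (R : Over S) (hR : TwC.IsTwConst TwC.Topology.fpqc R)
    {Z : Scheme.{u}} (z : Z ⟶ R.left) [IsClosedImmersion z] [QuasiCompact (z ≫ R.hom)] :
    IsFinite (z ≫ R.hom) := by
  obtain ⟨S', f, hf, hfs, hcov, hloc⟩ := hR
  let g := z ≫ R.hom
  refine isFinite_of_snd g f hcov ?_
  choose U hmem hU using hloc
  rw [IsZariskiLocalAtTarget.iff_of_iSup_eq_top (P := @IsFinite) U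
    (eq_top_iff.mpr fun x _ => TopologicalSpace.Opens.mem_iSup.mpr ⟨x, hmem x⟩)]
  intro s
  obtain ⟨I, ⟨e⟩⟩ := hU s
  haveI := isFinite_snd R z ((U s).ι ≫ f) e
  have hsq : IsPullback (pullback.snd g f ∣_ U s) ((pullback.snd g f ⁻¹ᵁ U s).ι ≫ pullback.fst g f) ((U s).ι ≫ f) g :=
    (isPullback_morphismRestrict (pullback.snd g f) (U s)).paste_vert (IsPullback.of_hasPullback g f).flip
  rw [← hsq.flip.isoPullback_hom_snd]
  infer_instance

end Groth.Agent.GrpSchLib.TwConstClosed
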