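import Mathlib.CategoryTheory.Monoidal.Cartesian.Over
import Mathlib.CategoryTheory.Monoidal.Cartesian.Mon
import Mathlib.AlgebraicGeometry.Morphisms.FiniteType
import Mathlib.AlgebraicGeometry.Morphisms.ClosedImmersion
import Mathlib.AlgebraicGeometry.Morphisms.Affine
import Mathlib.AlgebraicGeometry.Pullbacks

/-! The units of a monoid object. -/

open CategoryTheory AlgebraicGeometry MonoidalCategory CartesianMonoidalCategory MonObj Limits

namespace Groth.Agent.GrpSchLib

universe u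

variable {S : Scheme.{u}} (M : Over S) [MonObj M]

/-- `(x, y) ↦ (x y, y x)`. -/
noncomputable def unitsPair : M ⊗ M ⟶ M ⊗ M :=
  lift (fst M M * snd M M) (snd M M * fst M M)

/-- The pairs of mutually inverse elements. -/
noncomputable def unitsObj : Over S :=
  Over.mk (pullback.fst (unitsPair M).left (lift η[M] η[M]).left ≫ (M ⊗ M).hom)

/-- The pair map. -/
noncomputable def unitsIncl : unitsObj M ⟶ M ⊗ M :=
  Over.homMk (pullback.fst (unitsPair M).left (lift η[M] η[M]).left) rfl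

/-- The map to `M`. -/
noncomputable def unitsMap : unitsObj M ⟶ M := unitsIncl M ≫ fst M M

theorem unitsIncl_unitsPair : unitsIncl M ≫ unitsPair M = toUnit (unitsObj M) ≫ lift η[M] η[M] := by
  let s : unitsObj M ⟶ 𝟙_ (Over S) :=
    Over.homMk (pullback.snd (unitsPair M).left (lift η[M] η[M]).left) (by
      show pullback.snd _ _ ≫ (𝟙_ (Over S)).hom = pullback.fst _ _ ≫ (M ⊗ M).hom
      rw [← Over.w (lift η[M] η[M]), ← pullback.condition_assoc, Over.w (unitsPair M)])
  rw [toUnit_unique (toUnit _) s]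
  exact Over.OverMorphism.ext pullback.condition

theorem exists_fac_iff {T : Over S} (p : T ⟶ M ⊗ M) :
    (∃ g : T ⟶ unitsObj M, g ≫ unitsIncl M = p) ↔
      (p ≫ fst M M) * (p ≫ snd M M) = 1 ∧ (p ≫ snd M M) * (p ≫ fst M M) = 1 := by
  have hp : p ≫ unitsPair M =
      lift ((p ≫ fst M M) * (p ≫ snd M M)) ((p ≫ snd M M) * (p ≫ fst M M)) := by
    simp [unitsPair, MonObj.comp_mul]
  have hone : toUnit T ≫ lift η[M] η[M] = lift (1 : T ⟶ M) 1 := by
    simp [MonObj.one_eq_one, MonObj.comp_one]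
  constructor
  · rintro ⟨g, rfl⟩
    have h1 : (g ≫ unitsIncl M) ≫ unitsPair M = toUnit T ≫ lift η[M] η[M] := by
      rw [Category.assoc, unitsIncl_unitsPair, ← Category.assoc, comp_toUnit]
    rw [hp, hone] at h1
    exact ⟨by simpa using congrArg (fun f => f ≫ fst M M) h1, by simpa using congrArg (fun f => f ≫ snd M M) h1⟩
  · rintro ⟨h1, h2⟩
    have h : p.left ≫ (unitsPair M).left = (toUnit T).left ≫ (lift η[M] η[M]).left := by
      rw [← Over.comp_left, ← Over.comp_left, hp, h1, h2, hone]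
    exact ⟨Over.homMk (pullback.lift p.left (toUnit T).left h)
      (by show pullback.lift p.left _ h ≫ pullback.fst _ _ ≫ (M ⊗ M).hom = T.hom
          rw [pullback.lift_fst_assoc, Over.w p]),
      Over.OverMorphism.ext (pullback.lift_fst _ _ _)⟩

theorem exists_fac_unitsMap_iff {T : Over S} (m : T ⟶ M) :
    (∃ g : T ⟶ unitsObj M, g ≫ unitsMap M = m) ↔ IsUnit m := by
  constructor
  · rintro ⟨g, rfl⟩
    obtain ⟨h1, h2⟩ := (exists_fac_iff M (g ≫ unitsIncl M)).mp ⟨g, rfl⟩
    refine ⟨⟨_, _, h1, h2⟩, ?_⟩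
    simp [unitsMap]
  · rintro ⟨u, rfl⟩
    obtain ⟨g, hg⟩ := (exists_fac_iff M (lift (↑u : T ⟶ M) (↑u⁻¹ : T ⟶ M))).mpr (by simp)
    exact ⟨g, by rw [unitsMap, ← Category.assoc, hg, lift_fst]⟩

theorem mono_unitsMap : Mono (unitsMap M) := by
  refine ⟨fun {T} g g' h => ?_⟩
  have hincl : Mono (unitsIncl M) := by
    have : Mono (lift η[M] η[M]).left :=
      have : IsSplitMono (lift η[M] η[M]).left :=
        ⟨⟨⟨(M ⊗ M).hom, by exact Over.w (lift η[M] η[M])⟩⟩⟩
      inferInstance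
    exact Over.mono_of_mono_left _ (hk := inferInstanceAs (Mono (pullback.fst _ _)))
  obtain ⟨h1, h2⟩ := (exists_fac_iff M (g ≫ unitsIncl M)).mp ⟨g, rfl⟩
  obtain ⟨h3, h4⟩ := (exists_fac_iff M (g' ≫ unitsIncl M)).mp ⟨g', rfl⟩
  simp only [unitsMap, ← Category.assoc] at h
  rw [h] at h2
  rw [← cancel_mono (unitsIncl M)]
  exact CartesianMonoidalCategory.hom_ext _ _ h (left_inv_eq_right_inv h2 h3)

end Groth.Agent.GrpSchLib
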