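import Groth.Agent.GrpSchLib.TensorDomain
import Groth.Agent.GrpSchLib.PointsClosure
import Mathlib.RingTheory.Valuation.LocalSubring
import Mathlib.RingTheory.LocalRing.ResidueField.Basic
import Mathlib.RingTheory.Localization.FractionRing
import Mathlib.RingTheory.IntegralClosure.IsIntegralClosure.Basic

/-! Units of a tensor product of domains over an algebraically closed field. -/

open TensorProduct

universe u v w

namespace Groth.Agent.GrpSchLib.UnitsTensor

variable {k : Type u} {A : Type v} {B : Type w} [Field k] [CommRing A] [Algebra k A] [CommRing B] [Algebra k B]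

/-- Evaluation of the right factor. -/
noncomputable def evR (C : Type*) [CommRing C] [Algebra k C] (y : B →ₐ[k] k) : C ⊗[k] B →ₐ[k] C :=
  (Algebra.TensorProduct.rid k k C).toAlgHom.comp (Algebra.TensorProduct.map (AlgHom.id k C) y)

theorem evR_tmul (C : Type*) [CommRing C] [Algebra k C] (y : B →ₐ[k] k) (c : C) (b : B) :
    evR C y (c ⊗ₜ[k] b) = y b • c := by simp [evR]

theorem evR_map {C D : Type*} [CommRing C] [Algebra k C] [CommRing D] [Algebra k D] (g : C →ₐ[k] D) (y : B →ₐ[k] k)
    (z : C ⊗[k] B) : evR D y (Algebra.TensorProduct.map g (AlgHom.id k B) z) = g (evR C y z) := by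
  induction z using TensorProduct.induction_on with
  | zero => simp
  | tmul c b => simp [evR_tmul]
  | add s t hs ht => simp only [map_add, hs, ht]

/-- Evaluation of the left factor. -/
noncomputable def evL (x : A →ₐ[k] k) : A ⊗[k] B →ₐ[k] B :=
  (Algebra.TensorProduct.lid k B).toAlgHom.comp (Algebra.TensorProduct.map x (AlgHom.id k B))

theorem evL_tmul (x : A →ₐ[k] k) (a : A) (b : B) : evL x (a ⊗ₜ[k] b) = x a • b := by simp [evL]

theorem evL_evR (x : A →ₐ[k] k) (y : B →ₐ[k] k) (z : A ⊗[k] B) : y (evL x z) = x (evR A y z) := by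
  induction z using TensorProduct.induction_on with
  | zero => simp
  | tmul a b => simp [evR_tmul, evL_tmul, mul_comm]
  | add s t hs ht => simp only [map_add, hs, ht]

variable [IsAlgClosed k] [IsDomain A] [IsDomain B]

theorem mem_range_of_forall_valuationSubring {K : Type*} [Field K] [Algebra k K] (x : K)
    (h : ∀ O : ValuationSubring K, (∀ r, algebraMap k K r ∈ O) → x ∈ O) : x ∈ Set.range (algebraMap k K) := by
  have hmem : x ∈ (integralClosure (Subring.closure (Set.range (algebraMap k K))) K).toSubring := by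
    rw [← iInf_valuationSubring_superset]
    simp only [Subring.mem_iInf, Subtype.forall]
    exact fun O hO => h O fun r => hO ⟨r, rfl⟩
  let S := Subring.closure (Set.range (algebraMap k K))
  letI : Algebra k S := ((algebraMap k K).codRestrict S fun r => Subring.subset_closure (Set.mem_range_self r)).toAlgebra
  haveI : IsScalarTower k S K := IsScalarTower.of_algebraMap_eq fun r => rfl
  haveI : Algebra.IsIntegral k S := ⟨fun s => by
    obtain ⟨r, hr⟩ : (s : K) ∈ (algebraMap k K).range := Subring.closure_le.mpr (RingHom.coe_range (algebraMap k K)).ge s.2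
    rw [show s = algebraMap k S r from Subtype.ext hr.symm]
    exact isIntegral_algebraMap⟩
  have hint : IsIntegral k x := isIntegral_trans (R := k) (A := S) x hmem
  exact minpoly.mem_range_of_degree_eq_one k x (IsAlgClosed.degree_eq_one_of_irreducible k (minpoly.irreducible hint))

omit [IsAlgClosed k] [IsDomain A] [IsDomain B] in
theorem exists_scale {K : Type*} [Field K] [Algebra k K] (O : ValuationSubring K) [Algebra k O] [IsScalarTower k O K]
    {ι : Type*} (b : Module.Basis ι k B) (z : K ⊗[k] B) (hz : z ≠ 0) :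
    ∃ (a : K) (z₀ : O ⊗[k] B), a ≠ 0 ∧
      Algebra.TensorProduct.map (IsScalarTower.toAlgHom k O K) (AlgHom.id k B) z₀ = (a⁻¹ ⊗ₜ[k] (1 : B)) * z ∧
      Algebra.TensorProduct.map (IsScalarTower.toAlgHom k O (IsLocalRing.ResidueField O)) (AlgHom.id k B) z₀ ≠ 0 := by
  classical
  let c := TensorProduct.equivFinsuppOfBasisRight b z
  have hne : c.support.Nonempty := Finsupp.support_nonempty_iff.mpr fun h => hz
    ((TensorProduct.equivFinsuppOfBasisRight b).injective (h.trans (map_zero _).symm))
  obtain ⟨l₀, hl₀, hmax⟩ := Finset.exists_max_image c.support (fun l => O.valuation (c l)) hne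
  have ha : c l₀ ≠ 0 := Finsupp.mem_support_iff.mp hl₀
  have hmem : ∀ l, c l / c l₀ ∈ O := fun l => by
    rw [← ValuationSubring.valuation_le_one_iff, map_div₀]
    by_cases hl : l ∈ c.support
    · exact div_le_one_of_le₀ (hmax l hl) zero_le
    · simp [Finsupp.notMem_support_iff.mp hl]
  refine ⟨c l₀, ∑ l ∈ c.support, (⟨_, hmem l⟩ : O) ⊗ₜ[k] b l, ha, ?_, ?_⟩
  · have hzc : z = ∑ l ∈ c.support, c l ⊗ₜ[k] b l := by
      conv_lhs => rw [← (TensorProduct.equivFinsuppOfBasisRight b).symm_apply_apply z]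
      rw [TensorProduct.equivFinsuppOfBasisRight_symm_apply]
      rfl
    conv_rhs => rw [hzc, Finset.mul_sum]
    rw [map_sum]
    refine Finset.sum_congr rfl fun l _ => ?_
    rw [Algebra.TensorProduct.map_tmul, Algebra.TensorProduct.tmul_mul_tmul, one_mul, ← div_eq_inv_mul]
    rfl
  · intro h
    have h2 := congrArg (fun w => TensorProduct.equivFinsuppOfBasisRight b w l₀) h
    simp only [map_sum, Finsupp.finsetSum_apply, Algebra.TensorProduct.map_tmul, AlgHom.id_apply, map_zero,
      Finsupp.zero_apply, TensorProduct.equivFinsuppOfBasisRight_apply_tmul_apply, Module.Basis.repr_self,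
      Finsupp.single_apply, ite_smul, one_smul, zero_smul, Finset.sum_ite_eq', hl₀, if_true] at h2
    rw [show (⟨c l₀ / c l₀, hmem l₀⟩ : O) = 1 from Subtype.ext (div_self ha), map_one] at h2
    exact one_ne_zero h2

theorem evR_mem_range {φ ψ : A ⊗[k] B} (hφψ : φ * ψ = 1) (y₀ : B →ₐ[k] k) (h₀ : evR A y₀ φ = 1) (y : B →ₐ[k] k) :
    algebraMap A (FractionRing A) (evR A y φ) ∈ Set.range (algebraMap k (FractionRing A)) := by
  classical
  let K := FractionRing A
  refine mem_range_of_forall_valuationSubring _ fun O hO => ?_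
  letI : Algebra k O := ((algebraMap k K).codRestrict O hO).toAlgebra
  haveI : IsScalarTower k O K := IsScalarTower.of_algebraMap_eq fun r => rfl
  let g := IsScalarTower.toAlgHom k A K
  let G := Algebra.TensorProduct.map g (AlgHom.id k B)
  let j := Algebra.TensorProduct.map (IsScalarTower.toAlgHom k O K) (AlgHom.id k B)
  let red := Algebra.TensorProduct.map (IsScalarTower.toAlgHom k O (IsLocalRing.ResidueField O)) (AlgHom.id k B)
  haveI : IsDomain (IsLocalRing.ResidueField O ⊗[k] B) := isDomain_tensor_of_isAlgClosed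
  have hmul : G φ * G ψ = 1 := by rw [← map_mul, hφψ, map_one]
  have : Nontrivial (K ⊗[k] B) :=
    Algebra.TensorProduct.nontrivial_of_algebraMap_injective_of_flat_right k K B (algebraMap k K).injective
  let b := Module.Basis.ofVectorSpace k B
  obtain ⟨a, z, ha, hz, hzr⟩ := exists_scale O b (G φ) (left_ne_zero_of_mul_eq_one hmul)
  obtain ⟨a', z', ha', hz', hzr'⟩ := exists_scale O b (G ψ) (right_ne_zero_of_mul_eq_one hmul)
  have hjinj : Function.Injective j :=
    Module.Flat.rTensor_preserves_injective_linearMap (M := B) (IsScalarTower.toAlgHom k O K).toLinearMap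
      Subtype.val_injective
  let c : K := a⁻¹ * a'⁻¹
  have hprod : j (z * z') = c ⊗ₜ[k] (1 : B) := by
    rw [map_mul]
    show j z * j z' = _
    rw [show j z = _ from hz, show j z' = _ from hz', mul_mul_mul_comm, hmul, mul_one,
      Algebra.TensorProduct.tmul_mul_tmul, one_mul]
  have hred0 : red (z * z') ≠ 0 := by
    rw [map_mul]; exact mul_ne_zero hzr hzr'
  have hvc : O.valuation c = 1 := by
    rcases le_total (O.valuation c) 1 with h | h
    · have hc : c ∈ O := (O.valuation_le_one_iff c).mp h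
      have e : z * z' = (⟨c, hc⟩ : O) ⊗ₜ[k] (1 : B) := hjinj (by rw [hprod]; rfl)
      by_contra hne
      apply hred0
      rw [e, Algebra.TensorProduct.map_tmul, show IsScalarTower.toAlgHom k O (IsLocalRing.ResidueField O) ⟨c, hc⟩ = 0 from
        (IsLocalRing.residue_eq_zero_iff _).mpr fun hu => hne ((O.valuation_eq_one_iff ⟨c, hc⟩).mp hu), zero_tmul]
    · have hc : c⁻¹ ∈ O := (O.valuation_le_one_iff _).mp (by rw [map_inv₀]; exact inv_le_one_of_one_le₀ h)
      have hc0 : c ≠ 0 := mul_ne_zero (inv_ne_zero ha) (inv_ne_zero ha')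
      have e : ((⟨c⁻¹, hc⟩ : O) ⊗ₜ[k] (1 : B)) * (z * z') = 1 := hjinj (by
        rw [map_mul, hprod, map_one, Algebra.TensorProduct.map_tmul, Algebra.TensorProduct.tmul_mul_tmul, AlgHom.id_apply,
          one_mul]
        show (c⁻¹ * c) ⊗ₜ[k] (1 : B) = 1
        rw [inv_mul_cancel₀ hc0]; rfl)
      by_contra hne
      have e2 := congrArg red e
      rw [map_mul, map_one, Algebra.TensorProduct.map_tmul, show IsScalarTower.toAlgHom k O (IsLocalRing.ResidueField O) ⟨c⁻¹, hc⟩ = 0 from
        (IsLocalRing.residue_eq_zero_iff _).mpr fun hu => hne (by simpa [map_inv₀] using (O.valuation_eq_one_iff ⟨c⁻¹, hc⟩).mp hu),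
        zero_tmul, zero_mul] at e2
      exact zero_ne_one e2
  -- specialise
  have hev : ∀ y' : B →ₐ[k] k, O.valuation (g (evR A y' φ)) = O.valuation a := by
    intro y'
    have h1 : ∀ (w : O ⊗[k] B), evR K y' (j w) = ((evR O y' w : O) : K) := fun w => evR_map _ y' w
    have h2 : evR K y' (j z) = a⁻¹ * g (evR A y' φ) := by
      rw [show j z = _ from hz, map_mul, evR_tmul, map_one, one_smul, evR_map]
    have h3 := congrArg (evR K y') hprod
    rw [map_mul, map_mul, evR_tmul, map_one, one_smul, h1, h1] at h3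
    have h4 : O.valuation ((evR O y' z : O) : K) = 1 := by
      refine le_antisymm (O.valuation_le_one _) ?_
      have h5 : O.valuation ((evR O y' z : O) : K) * O.valuation ((evR O y' z' : O) : K) = 1 := by
        rw [← map_mul, h3, hvc]
      calc (1 : _) = _ := h5.symm
        _ ≤ O.valuation ((evR O y' z : O) : K) * 1 := mul_le_mul le_rfl (O.valuation_le_one _) zero_le zero_le
        _ = _ := mul_one _
    rw [← h1, h2, map_mul, map_inv₀] at h4
    exact (inv_mul_eq_one₀ (by simp [ha])).mp h4 |>.symm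
  rw [← O.valuation_le_one_iff]
  show O.valuation (g (evR A y φ)) ≤ 1
  rw [hev, ← hev y₀, h₀, map_one, map_one]

/-- A normalised unit of a tensor product of domains is one. -/
theorem eq_one {P : Type*} (pts : P → B →ₐ[k] k) (hsep : ∀ b : B, (∀ p, pts p b = 0) → b = 0)
    {φ : A ⊗[k] B} (hφ : IsUnit φ) (x₀ : A →ₐ[k] k) (y₀ : B →ₐ[k] k) (hy : evR A y₀ φ = 1) (hx : evL x₀ φ = 1) : φ = 1 := by
  obtain ⟨ψ, hψ⟩ := hφ.exists_right_inv
  have hev : ∀ p, evR A (pts p) φ = 1 := by
    intro p
    obtain ⟨r, hr⟩ := evR_mem_range hψ y₀ hy (pts p)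
    have h1 : evR A (pts p) φ = algebraMap k A r := by
      refine IsFractionRing.injective A (FractionRing A) ?_
      rw [← hr, IsScalarTower.algebraMap_apply k A (FractionRing A)]
    have h2 := evL_evR x₀ (pts p) φ
    rw [hx, map_one, h1, AlgHom.commutes] at h2
    rw [h1, show r = 1 from h2.symm, map_one]
  obtain ⟨s, c, hzc, hc⟩ := exists_sum_tmul_of_forall_lTensor (fun p => (pts p).toLinearMap) (φ - 1) fun p => by
    have h3 : ∀ z : A ⊗[k] B, TensorProduct.rid k A ((pts p).toLinearMap.lTensor A z) = evR A (pts p) z := by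
      intro z
      induction z using TensorProduct.induction_on with
      | zero => simp
      | tmul a b => simp [evR_tmul]
      | add s t hs ht => simp only [map_add, hs, ht]
    apply (TensorProduct.rid k A).injective
    rw [h3, map_sub, hev, map_one, sub_self, map_zero]
  rw [← sub_eq_zero, hzc]
  exact Finset.sum_eq_zero fun l _ => by rw [hsep (c l) (hc l), tmul_zero]

/-- Units of a tensor product of domains are products of units. -/
theorem exists_mul {P : Type*} (pts : P → B →ₐ[k] k) (hsep : ∀ b : B, (∀ p, pts p b = 0) → b = 0)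
    {f : A ⊗[k] B} (hf : IsUnit f) (x₀ : A →ₐ[k] k) (y₀ : B →ₐ[k] k) :
    ∃ (g : A) (h : B), IsUnit g ∧ IsUnit h ∧ f = g ⊗ₜ[k] h := by
  obtain ⟨f', hf'⟩ := hf.exists_right_inv
  let g := evR A y₀ f
  let r := x₀ g
  let h := r⁻¹ • evL x₀ f
  have hr : r ≠ 0 := (hf.map (evR A y₀) |>.map x₀).ne_zero
  have hg : IsUnit g := hf.map (evR A y₀)
  have hh : IsUnit h := by
    show IsUnit (r⁻¹ • evL x₀ f)
    rw [Algebra.smul_def]
    exact ((IsUnit.mk0 r⁻¹ (inv_ne_zero hr)).map (algebraMap k B)).mul (hf.map (evL x₀))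
  obtain ⟨g', hg'⟩ := hg.exists_right_inv
  obtain ⟨h', hh'⟩ := hh.exists_right_inv
  have hy₀ : y₀ h = 1 := by
    show y₀ (r⁻¹ • evL x₀ f) = 1
    rw [map_smul, evL_evR, smul_eq_mul, inv_mul_cancel₀ hr]
  have hy₀' : y₀ h' = 1 := by simpa [hy₀] using congrArg y₀ hh'
  have hx₀' : x₀ g' = r⁻¹ := eq_inv_of_mul_eq_one_right (by simpa [r] using congrArg x₀ hg')
  have h1 := eq_one pts hsep (φ := f * (g' ⊗ₜ[k] h'))
    (hf.mul (IsUnit.of_mul_eq_one (g ⊗ₜ[k] h) (by rw [Algebra.TensorProduct.tmul_mul_tmul, mul_comm g', mul_comm h', hg', hh']; rfl))) x₀ y₀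
    (by rw [map_mul, evR_tmul, hy₀', one_smul]; exact hg')
    (by rw [map_mul, evL_tmul, hx₀', mul_smul_comm, ← smul_mul_assoc]; exact hh')
  refine ⟨g, h, hg, hh, ?_⟩
  calc f = f * ((g * g') ⊗ₜ[k] (h * h')) := by rw [hg', hh', ← Algebra.TensorProduct.one_def, mul_one]
    _ = (g ⊗ₜ[k] h) * (f * (g' ⊗ₜ[k] h')) := by rw [← Algebra.TensorProduct.tmul_mul_tmul]; ring
    _ = g ⊗ₜ[k] h := by rw [h1, mul_one]

end Groth.Agent.GrpSchLib.UnitsTensor
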