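import Mathlib.AlgebraicGeometry.IdealSheaf.Subscheme
import Mathlib.AlgebraicGeometry.Morphisms.ClosedImmersion
import Mathlib.AlgebraicGeometry.Pullbacks
import Mathlib.AlgebraicGeometry.Morphisms.IsIso
import Mathlib.RingTheory.Localization.Away.Basic
import Mathlib.RingTheory.LocalProperties.Basic
import Mathlib.Algebra.Module.Projective
import Mathlib.RingTheory.TensorProduct.Maps
import Mathlib.RingTheory.Flat.FaithfullyFlat.Algebra
import Mathlib.LinearAlgebra.TensorProduct.Tower
import Mathlib.RingTheory.TensorProduct.Basic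

/-!
Weil restriction of a closed subscheme `E ⊆ P` along an essentially free morphism `π : P ⟶ X`:
the closed subscheme `Z ⊆ X` classifying those `g : T ⟶ X` with `P ×_X T` contained in `E`.
-/

open CategoryTheory AlgebraicGeometry Limits TensorProduct

namespace Groth.Agent.GrpSchLib

universe u

set_option backward.isDefEq.respectTransparency false
set_option backward.defeqAttrib.useBackward true

variable {P X E : Scheme.{u}} (π : P ⟶ X) (i : E ⟶ P)

/-- `T ×_X P ⟶ P` factors through `i`. -/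
def Good {T : Scheme.{u}} (g : T ⟶ X) : Prop :=
  ∃ l : pullback g π ⟶ E, l ≫ i = pullback.snd g π

theorem Good.comp {T T' : Scheme.{u}} {g : T ⟶ X} (hg : Good π i g) (h : T' ⟶ T) :
    Good π i (h ≫ g) := by
  obtain ⟨l, hl⟩ := hg
  refine ⟨pullback.map (h ≫ g) π g π h (𝟙 P) (𝟙 X) (by simp) (by simp) ≫ l, ?_⟩
  rw [Category.assoc, hl]
  simp [pullback.map]

theorem good_congr {T : Scheme.{u}} {g g' : T ⟶ X} (h : g = g') : Good π i g ↔ Good π i g' := by
  rw [h]

theorem Good.of_cover [Mono i] {T : Scheme.{u}} (g : T ⟶ X) (𝒰 : T.OpenCover)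
    (h : ∀ j, Good π i (𝒰.f j ≫ g)) : Good π i g := by
  choose l hl using h
  let 𝒱 := Scheme.Pullback.openCoverOfLeft 𝒰 g π
  have hf : ∀ j : 𝒰.I₀, l j ≫ i = 𝒱.f j ≫ pullback.snd g π := by
    intro j
    rw [hl]
    simp [𝒱, pullback.map]
  refine ⟨𝒱.glueMorphisms l fun x y => ?_, 𝒱.hom_ext _ _ fun j => ?_⟩
  · rw [← cancel_mono i, Category.assoc, Category.assoc, hf, hf, pullback.condition_assoc]
  · rw [← Category.assoc, Scheme.Cover.ι_glueMorphisms]
    exact hf j

theorem factors_closed_iff [IsClosedImmersion i] {B : CommRingCat.{u}} (w : Spec B ⟶ P) :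
    ∃ J : Ideal B, ∀ (D : CommRingCat.{u}) (ψ : B ⟶ D),
      (∃ l : Spec D ⟶ E, l ≫ i = Spec.map ψ ≫ w) ↔ J ≤ RingHom.ker ψ.hom := by
  have : IsClosedImmersion (pullback.snd i w) := MorphismProperty.pullback_snd _ _ ‹_›
  obtain ⟨J, e, he⟩ := IsClosedImmersion.Spec_iff.mp this
  refine ⟨J, fun D ψ => ⟨fun ⟨l, hl⟩ => ?_, fun h => ?_⟩⟩
  · obtain ⟨m, hm⟩ := Spec.map_surjective (pullback.lift l (Spec.map ψ) hl ≫ e.hom)
    have : Spec.map ψ = Spec.map (CommRingCat.ofHom (Ideal.Quotient.mk J) ≫ m) := by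
      rw [Spec.map_comp, hm, Category.assoc, ← he, pullback.lift_snd]
    rw [Spec.map_inj.mp this]
    intro b hb
    simp [RingHom.mem_ker, Ideal.Quotient.eq_zero_iff_mem.mpr hb]
  · let m : CommRingCat.of (B ⧸ J) ⟶ D := CommRingCat.ofHom (Ideal.Quotient.lift J ψ.hom h)
    refine ⟨Spec.map m ≫ e.inv ≫ pullback.fst i w, ?_⟩
    have hψ : CommRingCat.ofHom (Ideal.Quotient.mk J) ≫ m = ψ := by ext b; exact Ideal.Quotient.lift_mk J ψ.hom h
    rw [Category.assoc, Category.assoc, pullback.condition, he, Category.assoc, e.inv_hom_id_assoc, ← Category.assoc,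
      ← Spec.map_comp, hψ]

/-- The universal ideal of `A` for the condition `Good`. -/
def HasIdeal {A : Type u} [CommRing A] (a : Spec (CommRingCat.of A) ⟶ X) (I : Ideal A) : Prop :=
  ∀ (C : Type u) [CommRing C] (φ : A →+* C),
    Good π i (Spec.map (CommRingCat.ofHom φ) ≫ a) ↔ I ≤ RingHom.ker φ

variable {π i}

theorem HasIdeal.unique {A : Type u} [CommRing A] {a : Spec (CommRingCat.of A) ⟶ X} {I I' : Ideal A}
    (h : HasIdeal π i a I) (h' : HasIdeal π i a I') : I = I' := by
  apply le_antisymm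
  · exact ((h (A ⧸ I') _).mp ((h' (A ⧸ I') (Ideal.Quotient.mk I')).mpr (by rw [Ideal.mk_ker]))).trans_eq
      Ideal.mk_ker
  · exact ((h' (A ⧸ I) _).mp ((h (A ⧸ I) (Ideal.Quotient.mk I)).mpr (by rw [Ideal.mk_ker]))).trans_eq
      Ideal.mk_ker

theorem HasIdeal.map {A A' : Type u} [CommRing A] [CommRing A'] {a : Spec (CommRingCat.of A) ⟶ X}
    {I : Ideal A} (h : HasIdeal π i a I) (ψ : A →+* A') :
    HasIdeal π i (Spec.map (CommRingCat.ofHom ψ) ≫ a) (I.map ψ) := by
  intro C _ φ
  rw [← Category.assoc, ← Spec.map_comp, ← CommRingCat.ofHom_comp, h C (φ.comp ψ),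
    Ideal.map_le_iff_le_comap, RingHom.comap_ker]

/-- `Good` on the charts of `pullback a π`. -/
theorem good_iff_charts [IsClosedImmersion i] {A : Type u} [CommRing A]
    (a : Spec (CommRingCat.of A) ⟶ X) {ι : Type u} (B : ι → Type u) [∀ j, CommRing (B j)]
    [∀ j, Algebra A (B j)]
    (v : ∀ j, Spec (CommRingCat.of (B j)) ⟶ pullback a π) [∀ j, IsOpenImmersion (v j)]
    (hv : ∀ j, v j ≫ pullback.fst a π = Spec.map (CommRingCat.ofHom (algebraMap A (B j))))
    (hcov : ∀ x, ∃ j y, v j y = x) (J : ∀ j, Ideal (B j))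
    (hJ : ∀ (j) (D : CommRingCat.{u}) (ψ : CommRingCat.of (B j) ⟶ D),
      (∃ l : Spec D ⟶ E, l ≫ i = Spec.map ψ ≫ v j ≫ pullback.snd a π) ↔ J j ≤ RingHom.ker ψ.hom)
    (C : Type u) [CommRing C] [Algebra A C] :
    Good π i (Spec.map (CommRingCat.ofHom (algebraMap A C)) ≫ a) ↔
      ∀ j, ∀ x ∈ J j, (1 : C) ⊗ₜ[A] x = 0 := by
  let g := Spec.map (CommRingCat.ofHom (algebraMap A C)) ≫ a
  let p : pullback g π ⟶ pullback a π :=
    pullback.map g π a π (Spec.map (CommRingCat.ofHom (algebraMap A C))) (𝟙 P) (𝟙 X) (by simp [g]) (by simp)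
  let inl : ∀ j, CommRingCat.of C ⟶ CommRingCat.of (C ⊗[A] B j) :=
    fun j => CommRingCat.ofHom Algebra.TensorProduct.includeLeftRingHom
  let inr : ∀ j, CommRingCat.of (B j) ⟶ CommRingCat.of (C ⊗[A] B j) :=
    fun j => CommRingCat.ofHom (Algebra.TensorProduct.includeRight (R := A) (A := C) (B := B j)).toRingHom
  have hsq : ∀ j, IsPullback (Spec.map (inl j)) (Spec.map (inr j)) (Spec.map (CommRingCat.ofHom (algebraMap A C)))
      (Spec.map (CommRingCat.ofHom (algebraMap A (B j)))) := fun j =>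
    isPullback_SpecMap_of_isPushout _ _ _ _ (CommRingCat.isPushout_tensorProduct A C (B j))
  have hw : ∀ j, Spec.map (inl j) ≫ g = (Spec.map (inr j) ≫ v j ≫ pullback.snd a π) ≫ π := by
    intro j
    simp only [g, Category.assoc]
    rw [← pullback.condition, (hsq j).w_assoc, ← hv j, Category.assoc]
  let q : ∀ j, Spec (CommRingCat.of (C ⊗[A] B j)) ⟶ pullback g π :=
    fun j => pullback.lift (Spec.map (inl j)) (Spec.map (inr j) ≫ v j ≫ pullback.snd a π) (hw j)
  have hq : ∀ j, IsPullback (q j) (Spec.map (inr j)) p (v j) := by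
    intro j
    have hr : IsPullback (pullback.fst g π) p (Spec.map (CommRingCat.ofHom (algebraMap A C))) (pullback.fst a π) := by
      refine IsPullback.of_bot ?_ ?_ (IsPullback.of_hasPullback a π)
      · simpa [p, g, pullback.map] using IsPullback.of_hasPullback g π
      · simp [p, pullback.map]
    refine IsPullback.of_right ?_ ?_ hr
    · rw [hv j, pullback.lift_fst]; exact hsq j
    · apply pullback.hom_ext
      · simp [q, p, pullback.map, hv j, (hsq j).w]
      · simp [q, p, pullback.map]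
  have hqo : ∀ j, IsOpenImmersion (q j) := fun j =>
    MorphismProperty.of_isPullback (P := @IsOpenImmersion) (hq j).flip inferInstance
  have hqc : ∀ z, ∃ j y, q j y = z := by
    intro z
    obtain ⟨j, y, hy⟩ := hcov (p z)
    obtain ⟨t, ht⟩ : z ∈ Set.range (pullback.fst p (v j)) := by
      rw [Scheme.Pullback.range_fst]; exact ⟨y, hy⟩
    refine ⟨j, (hq j).isoPullback.inv t, ?_⟩
    rw [← Scheme.Hom.comp_apply, IsPullback.isoPullback_inv_fst, ht]
  have key : Good π i g ↔ ∀ j, J j ≤ RingHom.ker (inr j).hom := by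
    constructor
    · rintro ⟨l, hl⟩ j
      refine (hJ j _ (inr j)).mp ⟨q j ≫ l, ?_⟩
      rw [Category.assoc, hl, pullback.lift_snd]
    · intro h
      choose l hl using fun j => (hJ j _ (inr j)).mpr (h j)
      let 𝒲 : (pullback g π).OpenCover := Scheme.Cover.mkOfCovers ι _ q hqc hqo
      have hf : ∀ j : ι, l j ≫ i = q j ≫ pullback.snd g π := fun j => by
        rw [hl, pullback.lift_snd]
      refine ⟨𝒲.glueMorphisms l fun x y => ?_, 𝒲.hom_ext _ _ fun j => ?_⟩
      · rw [← cancel_mono i, Category.assoc, Category.assoc, hf, hf]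
        exact pullback.condition_assoc _
      · rw [← Category.assoc, Scheme.Cover.ι_glueMorphisms]
        exact hf j
  refine key.trans (forall_congr' fun j => ?_)
  exact ⟨fun h x hx => h hx, fun h x hx => h x hx⟩

/-- A universal ideal, when each chart algebra has content ideals. -/
theorem hasIdeal_of_charts_content [IsClosedImmersion i] {A : Type u} [CommRing A]
    (a : Spec (CommRingCat.of A) ⟶ X) {ι : Type u} (B : ι → Type u) [∀ j, CommRing (B j)]
    [∀ j, Algebra A (B j)]
    (hB : ∀ j (J : Set (B j)), ∃ I : Ideal A, ∀ (C : Type u) [CommRing C] [Algebra A C],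
      (∀ x ∈ J, (1 : C) ⊗ₜ[A] x = 0) ↔ I ≤ RingHom.ker (algebraMap A C))
    (v : ∀ j, Spec (CommRingCat.of (B j)) ⟶ pullback a π) [∀ j, IsOpenImmersion (v j)]
    (hv : ∀ j, v j ≫ pullback.fst a π = Spec.map (CommRingCat.ofHom (algebraMap A (B j))))
    (hcov : ∀ x, ∃ j y, v j y = x) : ∃ I : Ideal A, HasIdeal π i a I := by
  choose J hJ using fun j => factors_closed_iff i (v j ≫ pullback.snd a π)
  choose K hK using fun j => hB j (J j)
  refine ⟨⨆ j, K j, fun C _ φ => ?_⟩
  let : Algebra A C := φ.toAlgebra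
  rw [iSup_le_iff]
  refine Iff.trans ?_ (forall_congr' fun j => hK j C)
  exact good_iff_charts a B v hv hcov J hJ C

/-- Content ideal of a set in a projective module, for base changes factoring through `A'`. -/
theorem exists_contentIdeal {A A' M : Type u} [CommRing A] [CommRing A'] [Algebra A A']
    [AddCommGroup M] [Module A M] [Module.Projective A' (A' ⊗[A] M)] (J : Set M) :
    ∃ I : Ideal A', ∀ (C : Type u) [CommRing C] [Algebra A C] (g : A' →ₐ[A] C),
      (∀ x ∈ J, (1 : C) ⊗ₜ[A] x = 0) ↔ I ≤ RingHom.ker g := by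
  refine ⟨Ideal.span {c | ∃ x ∈ J, ∃ l : A' ⊗[A] M →ₗ[A'] A', l ((1 : A') ⊗ₜ[A] x) = c},
    fun C _ _ g => ?_⟩
  rw [Ideal.span_le]
  constructor
  · rintro h _ ⟨x, hx, l, rfl⟩
    let f : M →ₗ[A] C := g.toLinearMap ∘ₗ (l.restrictScalars A) ∘ₗ TensorProduct.mk A A' M 1
    have := congrArg (f.liftBaseChange C) (h x hx)
    simpa [f, RingHom.mem_ker] using this
  · intro h x hx
    obtain ⟨s, hs⟩ := Module.projective_def'.mp (inferInstance : Module.Projective A' (A' ⊗[A] M))
    let G : A' ⊗[A] M →ₗ[A] C ⊗[A] M := g.toLinearMap.rTensor M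
    have hG : ∀ (c : A') (y : A' ⊗[A] M), G (c • y) = g c • G y := by
      intro c y
      induction y with
      | zero => simp
      | tmul d m => simp [G, TensorProduct.smul_tmul']
      | add y z hy hz => simp [smul_add, hy, hz]
    have hx' : (s ((1 : A') ⊗ₜ[A] x)).sum (fun b c => c • b) = (1 : A') ⊗ₜ[A] x := by
      simpa [Finsupp.linearCombination_apply] using LinearMap.congr_fun hs ((1 : A') ⊗ₜ[A] x)
    have h1 : G ((1 : A') ⊗ₜ[A] x) = (1 : C) ⊗ₜ[A] x := by simp [G]
    rw [← h1, ← hx', Finsupp.sum, map_sum]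
    refine Finset.sum_eq_zero fun b _ => ?_
    have hc : g (s ((1 : A') ⊗ₜ[A] x) b) = 0 := h ⟨x, hx, (Finsupp.lapply b).comp s, rfl⟩
    rw [hG, hc, zero_smul]

theorem exists_contentIdeal_of_projective {A M : Type u} [CommRing A] [AddCommGroup M] [Module A M]
    [Module.Projective A M] (J : Set M) :
    ∃ I : Ideal A, ∀ (C : Type u) [CommRing C] [Algebra A C],
      (∀ x ∈ J, (1 : C) ⊗ₜ[A] x = 0) ↔ I ≤ RingHom.ker (algebraMap A C) := by
  have : Module.Projective A (A ⊗[A] M) := Module.Projective.of_equiv (TensorProduct.lid A M).symm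
  obtain ⟨I, hI⟩ := exists_contentIdeal (A' := A) (A := A) J
  exact ⟨I, fun C _ _ => hI C (Algebra.ofId A C)⟩

theorem hasIdeal_of_charts [IsClosedImmersion i] {A : Type u} [CommRing A]
    (a : Spec (CommRingCat.of A) ⟶ X) {ι : Type u} (B : ι → Type u) [∀ j, CommRing (B j)]
    [∀ j, Algebra A (B j)] [∀ j, Module.Projective A (B j)]
    (v : ∀ j, Spec (CommRingCat.of (B j)) ⟶ pullback a π) [∀ j, IsOpenImmersion (v j)]
    (hv : ∀ j, v j ≫ pullback.fst a π = Spec.map (CommRingCat.ofHom (algebraMap A (B j))))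
    (hcov : ∀ x, ∃ j y, v j y = x) : ∃ I : Ideal A, HasIdeal π i a I :=
  hasIdeal_of_charts_content a B (fun _ J => exists_contentIdeal_of_projective J) v hv hcov

theorem hasIdeal_of_span [Mono i] {A : Type u} [CommRing A] (a : Spec (CommRingCat.of A) ⟶ X)
    (s : Set A) (hs : Ideal.span s = ⊤)
    (h : ∀ f : s, ∃ I, HasIdeal π i
      (Spec.map (CommRingCat.ofHom (algebraMap A (Localization.Away (f : A)))) ≫ a) I) :
    ∃ I : Ideal A, HasIdeal π i a I := by
  classical
  obtain ⟨t, hts, ht⟩ := (Ideal.span_eq_top_iff_finite s).mp hs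
  choose I hI using fun f : t => h ⟨f, hts f.2⟩
  let I₀ : Ideal A := ⨅ f : t, (I f).comap (algebraMap A (Localization.Away (f : A)))
  have hmap : ∀ f : t, I₀.map (algebraMap A (Localization.Away (f : A))) = I f := by
    intro f
    refine le_antisymm (Ideal.map_le_iff_le_comap.mpr (iInf_le _ f)) fun y hy => ?_
    obtain ⟨n, x, hyx⟩ := IsLocalization.Away.surj (f : A) y
    have hx : algebraMap A _ x ∈ I f := hyx ▸ Ideal.mul_mem_right _ _ hy
    have : ∀ g : t, ∃ m : ℕ, algebraMap A (Localization.Away (g : A)) ((f : A) ^ m * x) ∈ I g := by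
      intro g
      let Q := Localization.Away (g : A) ⧸ I g
      let φ : Localization.Away (g : A) →+* Q := Ideal.Quotient.mk _
      have hgood := (hI g Q φ).mpr (by rw [Ideal.mk_ker])
      let fQ : Q := φ (algebraMap A _ (f : A))
      let θ : Q →+* Localization.Away fQ := algebraMap _ _
      have hu : IsUnit ((θ.comp (φ.comp (algebraMap A _))) (f : A)) :=
        IsLocalization.Away.algebraMap_isUnit fQ
      let χ : Localization.Away (f : A) →+* Localization.Away fQ :=
        IsLocalization.Away.lift (f : A) hu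
      have hχ : χ.comp (algebraMap A _) = θ.comp (φ.comp (algebraMap A _)) :=
        IsLocalization.Away.lift_comp (f : A) hu
      have hgood' : Good π i (Spec.map (CommRingCat.ofHom χ) ≫
          Spec.map (CommRingCat.ofHom (algebraMap A (Localization.Away (f : A)))) ≫ a) := by
        have h2 := hgood.comp (h := Spec.map (CommRingCat.ofHom θ))
        rwa [← Category.assoc, ← Category.assoc, ← Spec.map_comp, ← Spec.map_comp,
          ← CommRingCat.ofHom_comp, ← CommRingCat.ofHom_comp, RingHom.comp_assoc, ← hχ,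
          CommRingCat.ofHom_comp, Spec.map_comp, Category.assoc] at h2
      have h3 : θ (φ (algebraMap A _ x)) = 0 := by
        rw [show θ (φ (algebraMap A _ x)) = χ (algebraMap A _ x) from (RingHom.congr_fun hχ x).symm]
        exact (hI f _ χ).mp hgood' hx
      obtain ⟨⟨_, m, rfl⟩, hm⟩ := (IsLocalization.map_eq_zero_iff (Submonoid.powers fQ) _ _).mp h3
      refine ⟨m, Ideal.Quotient.eq_zero_iff_mem.mp ?_⟩
      rw [map_mul (algebraMap A (Localization.Away (g : A))), map_mul, map_pow, map_pow]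
      exact hm
    choose m hm using this
    let N := Finset.univ.sup m
    have hN : (f : A) ^ N * x ∈ I₀ := by
      rw [Ideal.mem_iInf]
      intro g
      obtain ⟨d, hd⟩ : ∃ d, N = d + m g :=
        ⟨N - m g, (Nat.sub_add_cancel (Finset.le_sup (Finset.mem_univ g))).symm⟩
      rw [Ideal.mem_comap, hd, pow_add, mul_assoc, map_mul]
      exact Ideal.mul_mem_left _ _ (hm g)
    have hunit : IsUnit (algebraMap A (Localization.Away (f : A)) (f : A)) :=
      IsLocalization.Away.algebraMap_isUnit (f : A)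
    have := Ideal.mem_map_of_mem (algebraMap A (Localization.Away (f : A))) hN
    rw [map_mul, map_pow, Ideal.unit_mul_mem_iff_mem _ (hunit.pow N), ← hyx,
      Ideal.mul_unit_mem_iff_mem _ (hunit.pow n)] at this
    exact this
  refine ⟨I₀, fun C _ φ => ⟨fun hgood x hx => ?_, fun hle => ?_⟩⟩
  all_goals
    let Cf : t → Type u := fun f => Localization.Away (φ (f : A))
    let χ : ∀ f : t, Localization.Away (f : A) →+* Cf f := fun f => Localization.awayMap φ (f : A)
    have hχ : ∀ f : t, (χ f).comp (algebraMap A _) = (algebraMap C (Cf f)).comp φ := fun f =>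
      IsLocalization.map_comp _
    have hiff : ∀ f : t, Good π i (Spec.map (CommRingCat.ofHom (algebraMap C (Cf f))) ≫
        Spec.map (CommRingCat.ofHom φ) ≫ a) ↔ I f ≤ RingHom.ker (χ f) := by
      intro f
      rw [← hI f (Cf f) (χ f), ← Category.assoc, ← Category.assoc, ← Spec.map_comp, ← Spec.map_comp,
        ← CommRingCat.ofHom_comp, ← CommRingCat.ofHom_comp, hχ]
    have hspan : Ideal.span (φ '' (t : Set A)) = ⊤ := by
      rw [← Ideal.map_span, ht, Ideal.map_top]
  · rw [RingHom.mem_ker]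
    refine Module.eq_zero_of_isLocalized_span (φ '' (t : Set A)) hspan (fun r => Localization.Away (r : C))
      (fun r => Algebra.linearMap C (Localization.Away (r : C))) _ ?_
    rintro ⟨_, f, hf, rfl⟩
    have h1 := (hiff ⟨f, hf⟩).mp (hgood.comp _ _ _)
      ((hmap ⟨f, hf⟩).le (Ideal.mem_map_of_mem _ hx))
    rw [RingHom.mem_ker, ← RingHom.comp_apply, hχ] at h1
    exact h1
  · refine Good.of_cover π i _ (Scheme.affineOpenCoverOfSpanRangeEqTop (R := CommRingCat.of C)
      (fun f : t => φ (f : A)) (by rwa [show Set.range (fun f : t => φ (f : A)) = φ '' (t : Set A) by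
        ext; simp])).openCover fun f => (hiff f).mpr ?_
    rw [← hmap f, Ideal.map_le_iff_le_comap, RingHom.comap_ker, hχ]
    exact fun x hx => by simp [RingHom.mem_ker, RingHom.mem_ker.mp (hle hx)]

/-- Every affine open of `X` has a universal ideal. -/
def HasIdeals (π : P ⟶ X) (i : E ⟶ P) : Prop :=
  ∀ U : X.affineOpens, ∃ I : Ideal Γ(X, U), HasIdeal π i U.2.fromSpec I

theorem exists_weilRestriction [Mono i] (h : HasIdeals π i) :
    ∃ (Z : Scheme.{u}) (z : Z ⟶ X), IsClosedImmersion z ∧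
      ∀ (T : Scheme.{u}) (g : T ⟶ X), (∃ w : T ⟶ Z, w ≫ z = g) ↔ Good π i g := by
  choose I hI using h
  let 𝓘 : X.IdealSheafData :=
    { ideal := I
      map_ideal_basicOpen := fun U f => by
        refine HasIdeal.unique ?_ (hI (X.affineBasicOpen f))
        have := (hI U).map (X.presheaf.map (homOfLE <| X.basicOpen_le f).op).hom
        rwa [CommRingCat.ofHom_hom, IsAffineOpen.map_fromSpec U.2 (X.affineBasicOpen f).2] at this }
  refine ⟨𝓘.subscheme, 𝓘.subschemeι, inferInstance, fun T g => ⟨?_, fun hg => ?_⟩⟩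
  · rintro ⟨w, rfl⟩
    refine Good.comp π i ?_ w
    refine Good.of_cover π i _ 𝓘.subschemeCover.openCover fun U => ?_
    let U' : X.affineOpens := U
    rw [good_congr π i (g' := Spec.map (CommRingCat.ofHom (Ideal.Quotient.mk (𝓘.ideal U'))) ≫ U'.2.fromSpec)]
    · exact (hI U' _ _).mpr (by rw [Ideal.mk_ker])
    · show 𝓘.subschemeCover.f U' ≫ 𝓘.subschemeι = _
      rw [Scheme.IdealSheafData.subschemeCover_map_subschemeι, Scheme.IdealSheafData.glueDataObjι,
        Category.assoc, IsAffineOpen.isoSpec_inv_ι]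
  · have hle : 𝓘.subschemeι.ker ≤ g.ker := by
      rw [Scheme.IdealSheafData.ker_subschemeι]
      refine Scheme.IdealSheafData.le_ofIdeals_iff.mpr fun U x hx => RingHom.mem_ker.mpr ?_
      refine T.IsSheaf.section_ext fun t ht => ?_
      obtain ⟨W, hW, htW, hWle⟩ := exists_isAffineOpen_mem_and_subset (show t ∈ g ⁻¹ᵁ U.1 from ht)
      refine ⟨W, hWle, htW, ?_⟩
      have h2 := ((hI U) Γ(T, W) (g.appLE U W hWle).hom).mp (by
        rw [CommRingCat.ofHom_hom, IsAffineOpen.SpecMap_appLE_fromSpec g U.2 hW hWle]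
        exact hg.comp π i hW.fromSpec)
      rw [map_zero, ← RingHom.mem_ker.mp (h2 hx)]
      rfl
    exact ⟨IsClosedImmersion.lift 𝓘.subschemeι g hle, IsClosedImmersion.lift_fac _ _ _⟩

end Groth.Agent.GrpSchLib
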