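import Groth.Agent.GrpSchLib.WordClosure
import Groth.Agent.SpecLib.Basic
import Groth.Agent.AlgSpPts.Sep
import Mathlib.AlgebraicGeometry.Morphisms.FinitePresentation
import Mathlib.AlgebraicGeometry.Morphisms.Flat

/-!
# A bound on the length of words

If every point of a quasi-compact group scheme lies under a word in `f : X ⟶ H`, then words of bounded length suffice.
-/

universe u

open CategoryTheory CategoryTheory.Limits MonoidalCategory CartesianMonoidalCategory MonObj AlgebraicGeometry Topology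

namespace Groth.Agent.GrpSchLib.WordBound

open WordClosure

/-- Finitely many constructible sets suffice to cover an affine scheme. -/
theorem exists_finite_subcover {X : Scheme.{u}} [IsAffine X] {κ : Type*} (E : κ → Set X)
    (hE : ∀ i, IsConstructible (E i)) (hcov : ∀ x, ∃ i, x ∈ E i) : ∃ t : Finset κ, ∀ x, ∃ i ∈ t, x ∈ E i := by
  obtain ⟨t, ht⟩ := @IsCompact.elim_finite_subcover X (constructibleTopology X) Set.univ κ
    (@isCompact_univ X (constructibleTopology X) SpecLib.compactSpace_cons) E (fun i => (SpecLib.cons_clopen (hE i)).2)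
    (fun x _ => Set.mem_iUnion.2 (hcov x))
  exact ⟨t, fun x => by simpa using ht (Set.mem_univ x)⟩

variable {S : Scheme.{u}} {X H : Over S} [GrpObj H]

theorem lfp_wordSrc (X : Over S) [LocallyOfFinitePresentation X.hom] :
    ∀ n : ℕ, LocallyOfFinitePresentation (wordSrc X n).hom
  | 0 => inferInstanceAs (LocallyOfFinitePresentation (𝟙 S))
  | n + 1 => by
    haveI := lfp_wordSrc X n
    exact inferInstanceAs (LocallyOfFinitePresentation (pullback.fst X.hom (wordSrc X n).hom ≫ X.hom))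

/-- A point lies under a word of length at most `N`. -/
def Under (f : X ⟶ H) (N : ℕ) (h : H.left) : Prop :=
  ∃ (m : ℕ) (_ : m ≤ N) (T : Over S) (p : T.left) (x : Fin m → (T ⟶ X)) (ε : Fin m → Bool),
    ((List.ofFn fun j : Fin m => if ε j then x j ≫ f else (x j ≫ f)⁻¹).prod : T ⟶ H).left.base p = h

theorem Under.mono {f : X ⟶ H} {N N' : ℕ} {h : H.left} (hN : N ≤ N') : Under f N h → Under f N' h :=
  fun ⟨m, hm, r⟩ => ⟨m, hm.trans hN, r⟩

theorem exists_bound_image (f : X ⟶ H) (n : ℕ) (ε : Fin n → Bool) :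
    ∃ N, ∀ v : (wordSrc X n).left, Under f N ((wordHom f n ε).left v) := by
  have hm := mem_closure_of_tuple f n (𝟙 (wordSrc X n)) ε
  rw [Category.id_comp] at hm
  obtain ⟨m, x, δ, h⟩ := exists_word_of_mem_closure f hm
  exact ⟨m, fun v => ⟨m, le_rfl, wordSrc X n, v, x, δ,
    congrArg (fun φ : wordSrc X n ⟶ H => φ.left v) h⟩⟩

theorem exists_bound_affine [LocallyOfFinitePresentation X.hom] [LocallyOfFinitePresentation H.hom] (f : X ⟶ H)
    (hsurj : ∀ h : H.left, ∃ (n : ℕ) (T : Over S) (p : T.left) (x : Fin n → (T ⟶ X)) (ε : Fin n → Bool),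
      ((List.ofFn fun j : Fin n => if ε j then x j ≫ f else (x j ≫ f)⁻¹).prod : T ⟶ H).left.base p = h)
    {U : H.left.Opens} (hU : IsAffineOpen U) : ∃ N, ∀ h ∈ U, Under f N h := by
  let κ := Σ p : (Σ n, Fin n → Bool), {V : (wordSrc X p.1).left.affineOpens // V.1 ≤ (wordHom f p.1 p.2).left ⁻¹ᵁ U}
  let E : κ → Set (U : Scheme.{u}) := fun i => Subtype.val ⁻¹' ((wordHom f i.1.1 i.1.2).left '' (i.2.1.1 : Set _))
  haveI : IsAffine (U : Scheme.{u}) := hU
  have hE : ∀ i, IsConstructible (E i) := by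
    rintro ⟨⟨n, ε⟩, ⟨V, hV⟩, hVU⟩
    let φ := (wordHom f n ε).left
    haveI : IsAffine (V : Scheme.{u}) := hV
    let g : (V : Scheme.{u}) ⟶ (U : Scheme.{u}) := φ.resLE U V hVU
    haveI := lfp_wordSrc X n
    haveI : LocallyOfFinitePresentation (φ ≫ H.hom) := by rw [Over.w (wordHom f n ε)]; infer_instance
    haveI : LocallyOfFinitePresentation φ := AlgSpPts.locallyOfFinitePresentation_of_comp φ H.hom
    haveI : LocallyOfFinitePresentation g := inferInstance
    haveI : QuasiCompact g := inferInstance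
    have h := g.isConstructible_image (s := Set.univ) IsConstructible.univ
    have key : ∀ v : (V : Scheme.{u}), (g v).1 = φ v.1 := fun v =>
      congrArg (fun m : (V : Scheme.{u}) ⟶ H.left => m v) (Scheme.Hom.resLE_comp_ι φ hVU)
    convert h using 1
    ext u
    constructor
    · rintro ⟨v, hv, hvu⟩
      exact ⟨⟨v, hv⟩, trivial, Subtype.ext ((key ⟨v, hv⟩).trans hvu)⟩
    · rintro ⟨v, -, rfl⟩
      exact ⟨v.1, v.2, (key v).symm⟩
  have hcov : ∀ u : (U : Scheme.{u}), ∃ i, u ∈ E i := by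
    intro u
    obtain ⟨n, T, p, x, ε, hp⟩ := hsurj u.1
    obtain ⟨w, hw⟩ := exists_tuple f n x ε
    have hv : (wordHom f n ε).left (w.left p) = u.1 :=
      (congrArg (fun φ : T ⟶ H => φ.left p) hw).trans hp
    obtain ⟨V, hV, hvV, hVU⟩ := exists_isAffineOpen_mem_and_subset
      (show w.left p ∈ (wordHom f n ε).left ⁻¹ᵁ U by show (wordHom f n ε).left _ ∈ U; rw [hv]; exact u.2)
    exact ⟨⟨⟨n, ε⟩, ⟨⟨V, hV⟩, hVU⟩⟩, w.left p, hvV, hv⟩
  obtain ⟨t, ht⟩ := exists_finite_subcover E hE hcov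
  choose N hN using fun i : κ => exists_bound_image f i.1.1 i.1.2
  refine ⟨t.sup N, fun h hh => ?_⟩
  obtain ⟨i, hi, v, -, hv⟩ := ht ⟨h, hh⟩
  have := hN i v
  rw [hv] at this
  exact Under.mono (Finset.le_sup hi) this

theorem exists_bound [LocallyOfFinitePresentation X.hom] [LocallyOfFinitePresentation H.hom]
    [CompactSpace H.left] (f : X ⟶ H)
    (hsurj : ∀ h : H.left, ∃ (n : ℕ) (T : Over S) (p : T.left) (x : Fin n → (T ⟶ X)) (ε : Fin n → Bool),
      ((List.ofFn fun j : Fin n => if ε j then x j ≫ f else (x j ≫ f)⁻¹).prod : T ⟶ H).left.base p = h) :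
    ∃ N, ∀ h : H.left, Under f N h := by
  choose N hN using fun U : H.left.affineOpens => exists_bound_affine f hsurj U.2
  obtain ⟨t, ht⟩ := isCompact_univ.elim_finite_subcover (fun U : H.left.affineOpens => (U.1 : Set H.left))
    (fun U => U.1.2) fun h _ => by
      obtain ⟨U, hU, hh, -⟩ := exists_isAffineOpen_mem_and_subset (show h ∈ (⊤ : H.left.Opens) from trivial)
      exact Set.mem_iUnion.2 ⟨⟨U, hU⟩, hh⟩
  refine ⟨t.sup N, fun h => ?_⟩
  obtain ⟨U, hUt, hh⟩ := Set.mem_iUnion₂.1 (ht (Set.mem_univ h))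
  exact Under.mono (Finset.le_sup hUt) (hN U h hh)

end Groth.Agent.GrpSchLib.WordBound
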